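import Mathlib
import Cfsg.Agent.S1451

/-!
R3 of the S1402 (BG Lemma 9.5) assembly: in a nontrivial solvable group of odd order whose
Fitting subgroup has rank at most 2, the largest prime divisor of the order has a normal
Sylow subgroup (from S1451, part 3).
-/

set_option autoImplicit false
open Cfsg

namespace Cfsg.Agent.Helper82.BG95R3

/-- R3: the largest prime divisor `q` of `|X|` has a normal (indeed characteristic)
Sylow `q`-subgroup, for `X` solvable of odd order with `r(F(X)) ≤ 2`. -/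
theorem r3_char {X : Type*} [Group X] [Finite X] [Group.IsSolvable X] (hodd : Odd (Nat.card X))
    (hr : Cfsg.RankLE 2 (Cfsg.fittingSubgroup X)) [Nontrivial X] :
    ∃ q : ℕ, q.Prime ∧ q ∣ Nat.card X ∧ (∀ r : ℕ, r.Prime → r ∣ Nat.card X → r ≤ q) ∧
      ∃ Q : Sylow q X, (Q : Subgroup X).Characteristic := by
  classical
  have hcard : 1 < Nat.card X := Finite.one_lt_card
  have hne : ((Nat.card X).primeFactors).Nonempty := by
    rw [Nat.nonempty_primeFactors]; exact hcard
  obtain ⟨q, hqmem, hqmax⟩ : ∃ q ∈ (Nat.card X).primeFactors,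
      ∀ r ∈ (Nat.card X).primeFactors, r ≤ q :=
    ⟨_, Finset.max'_mem _ hne, fun r hr => Finset.le_max' _ r hr⟩
  have hqp : q.Prime := Nat.prime_of_mem_primeFactors hqmem
  have hqd : q ∣ Nat.card X := Nat.dvd_of_mem_primeFactors hqmem
  have hmax : ∀ r : ℕ, r.Prime → r ∣ Nat.card X → r ≤ q := by
    intro r hr hrd
    apply hqmax
    rw [Nat.mem_primeFactors]
    exact ⟨hr, hrd, Nat.card_pos.ne'⟩
  obtain ⟨_, _, h3⟩ := Cfsg.Agent.S1451.result hodd (Or.inr hr)
  obtain ⟨N, hNchar, hNhall⟩ := h3 (q - 1)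
  refine ⟨q, hqp, hqd, hmax, ?_⟩
  have : Fact q.Prime := ⟨hqp⟩
  have hq1 : 1 ≤ q := hqp.one_lt.le
  have hNp : IsPGroup q N := by
    have huniq : ∀ {d : ℕ}, d.Prime → d ∣ Nat.card N → d = q := by
      intro d hd hdN
      have h1 := hNhall.1 d hd hdN
      have h2 : d ≤ q := hmax d hd (hdN.trans (Subgroup.card_subgroup_dvd_card N))
      have h3 : q - 1 < d := h1.2
      omega
    exact IsPGroup.of_card (Nat.eq_prime_pow_of_unique_prime_dvd Nat.card_pos.ne' huniq)
  have hidx : ¬ q ∣ N.index := hNhall.2 q hqp ⟨hqp, by omega⟩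
  refine ⟨hNp.toSylow hidx, ?_⟩
  rw [IsPGroup.toSylow_coe]
  exact hNchar

/-- R3 (normal version, binders as requested in board #2358). -/
theorem r3 {X : Type*} [Group X] [Finite X] [Group.IsSolvable X] (hodd : Odd (Nat.card X))
    (hr : Cfsg.RankLE 2 (Cfsg.fittingSubgroup X)) [Nontrivial X] :
    ∃ q : ℕ, q.Prime ∧ q ∣ Nat.card X ∧ (∀ r : ℕ, r.Prime → r ∣ Nat.card X → r ≤ q) ∧
      ∃ Q : Sylow q X, (Q : Subgroup X).Normal := by
  obtain ⟨q, h1, h2, h3, Q, hQ⟩ := r3_char hodd hr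
  exact ⟨q, h1, h2, h3, Q, inferInstance⟩

end Cfsg.Agent.Helper82.BG95R3
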