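import Mathlib
import Cfsg.Agent.Lib.Helper7.M11UDefs

/-!
# M11UG2 sub-server (helper1) for helper7's M11U (G2), S0420: piece (b1)

`C(t)` is transitive on the Sylow 3-subgroups normalised but not inverted by `t`.
-/

set_option autoImplicit false
set_option linter.unusedSectionVars false

namespace Cfsg.Agent.Helper82.M11U

open Subgroup Cfsg.Agent.Helper7.M11U
open scoped Pointwise

variable {G : Type*} [Group G] [Finite G] {t : G} {R R2 R3 : Sylow 3 G}

/-- a normalised, non-inverted Sylow 3 contains a nontrivial element centralising `t` -/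
theorem g2b1_exists_fixed (L : Loc G) (ht : orderOf t = 2) (E : Sylow 3 G)
    (hN : t ∈ normalizer ((E : Subgroup G) : Set G)) (hI : ¬ Inverts t (E : Subgroup G)) :
    ∃ z ∈ (E : Subgroup G), z ≠ 1 ∧ z * t = t * z := by
  have ht2 : t * t = 1 := by rw [← pow_two, ← ht, pow_orderOf_eq_one]
  have htinv : t⁻¹ = t := inv_eq_of_mul_eq_one_right ht2
  by_contra hcon
  push Not at hcon
  apply hI
  intro x hx
  have hx' : t * x * t⁻¹ ∈ (E : Subgroup G) := (mem_normalizer_iff.mp hN x).mp hx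
  have h1 : t * x = (t * x * t⁻¹) * t := by simp [mul_assoc]
  have h2 : t * (t * x * t⁻¹) = x * t := by
    rw [htinv, ← mul_assoc, ← mul_assoc, ht2, one_mul]
  have hy : x * (t * x * t⁻¹) ∈ (E : Subgroup G) := mul_mem hx hx'
  have hyc : x * (t * x * t⁻¹) * t = t * (x * (t * x * t⁻¹)) := by
    calc x * (t * x * t⁻¹) * t = (t * x * t⁻¹) * x * t := by
          rw [L.comm E x hx (t * x * t⁻¹) hx']
      _ = (t * x * t⁻¹) * (x * t) := mul_assoc _ _ _
      _ = (t * x * t⁻¹) * (t * (t * x * t⁻¹)) := by rw [h2]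
      _ = ((t * x * t⁻¹) * t) * (t * x * t⁻¹) := (mul_assoc _ _ _).symm
      _ = t * x * (t * x * t⁻¹) := by rw [← h1]
      _ = t * (x * (t * x * t⁻¹)) := mul_assoc _ _ _
  have hy1 : x * (t * x * t⁻¹) = 1 := by
    by_contra h
    exact hcon _ hy h hyc
  exact eq_inv_of_mul_eq_one_right hy1

/-- Sylow conjugacy inside a subgroup of order 48 for elements of order 3 -/
theorem g2b1_conj (C : Subgroup G) (hC : Nat.card C = 48) {z z' : G} (hz : z ∈ C) (hz' : z' ∈ C)
    (oz : orderOf z = 3) (oz' : orderOf z' = 3) :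
    ∃ c ∈ C, c * z * c⁻¹ ∈ zpowers z' := by
  have : Fact (Nat.Prime 3) := ⟨by norm_num⟩
  have ozC : orderOf (⟨z, hz⟩ : C) = 3 := by rw [← oz]; exact Subgroup.orderOf_mk z hz
  have ozC' : orderOf (⟨z', hz'⟩ : C) = 3 := by rw [← oz']; exact Subgroup.orderOf_mk z' hz'
  have hP : IsPGroup 3 (zpowers (⟨z, hz⟩ : C)) :=
    IsPGroup.of_card (n := 1) (by rw [Nat.card_zpowers, ozC]; rfl)
  have hP' : IsPGroup 3 (zpowers (⟨z', hz'⟩ : C)) :=
    IsPGroup.of_card (n := 1) (by rw [Nat.card_zpowers, ozC']; rfl)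
  obtain ⟨Q, hQ⟩ := hP.exists_le_sylow
  obtain ⟨Q', hQ'⟩ := hP'.exists_le_sylow
  have hcardQ' : Nat.card (Q' : Subgroup C) = 3 := by
    obtain ⟨k, hk⟩ := IsPGroup.iff_card.mp Q'.isPGroup'
    have hdvd : Nat.card (Q' : Subgroup C) ∣ 48 := hC ▸ Subgroup.card_subgroup_dvd_card _
    have hle : 3 ≤ Nat.card (Q' : Subgroup C) := by
      have := Subgroup.card_le_of_le hQ'
      rwa [Nat.card_zpowers, ozC'] at this
    rw [hk] at hdvd hle ⊢
    have hk1 : k ≤ 1 := by
      by_contra h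
      push Not at h
      have h9 : 3 ^ 2 ∣ 48 := (pow_dvd_pow 3 h).trans hdvd
      norm_num at h9
    interval_cases k
    · norm_num at hle
    · rfl
  have hQ'eq : zpowers (⟨z', hz'⟩ : C) = (Q' : Subgroup C) :=
    Subgroup.eq_of_le_of_card_ge hQ' (by rw [hcardQ', Nat.card_zpowers, ozC'])
  obtain ⟨c, hc⟩ := MulAction.exists_smul_eq C Q Q'
  refine ⟨c, c.2, ?_⟩
  have hmem : c * (⟨z, hz⟩ : C) * c⁻¹ ∈ (Q' : Subgroup C) := by
    rw [← hc, Sylow.coe_subgroup_smul]
    have hzQ : (⟨z, hz⟩ : C) ∈ (Q : Subgroup C) := hQ (mem_zpowers _)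
    have := Subgroup.smul_mem_pointwise_smul _ (MulAut.conj c) _ hzQ
    simpa [MulAut.smul_def] using this
  rw [← hQ'eq, mem_zpowers_iff] at hmem
  obtain ⟨k, hk⟩ := hmem
  rw [mem_zpowers_iff]
  refine ⟨k, ?_⟩
  have := congrArg Subtype.val hk
  simpa using this

/-- (G2b1) `C(t)` is transitive on the Sylow 3-subgroups normalised but not inverted by `t`. -/
theorem g2b1 (B : Base G) (L : Loc G) (ht : orderOf t = 2) :
    ∀ E E' : Sylow 3 G, t ∈ normalizer ((E : Subgroup G) : Set G) → ¬ Inverts t (E : Subgroup G) →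
      t ∈ normalizer ((E' : Subgroup G) : Set G) → ¬ Inverts t (E' : Subgroup G) →
      ∃ c : G, c * t = t * c ∧ c • E = E' := by
  intro E E' hN hI hN' hI'
  have : Fact (Nat.Prime 3) := ⟨by norm_num⟩
  obtain ⟨z, hzE, hz1, hzt⟩ := g2b1_exists_fixed L ht E hN hI
  obtain ⟨z', hzE', hz1', hzt'⟩ := g2b1_exists_fixed L ht E' hN' hI'
  have oz : orderOf z = 3 := orderOf_eq_prime (L.exp3 E z hzE) hz1
  have oz' : orderOf z' = 3 := orderOf_eq_prime (L.exp3 E' z' hzE') hz1'
  have hzC : z ∈ centralizer ({t} : Set G) := by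
    rw [mem_centralizer_iff]
    intro x hx
    rw [Set.mem_singleton_iff.mp hx]
    exact hzt.symm
  have hzC' : z' ∈ centralizer ({t} : Set G) := by
    rw [mem_centralizer_iff]
    intro x hx
    rw [Set.mem_singleton_iff.mp hx]
    exact hzt'.symm
  obtain ⟨c, hcC, hcz⟩ := g2b1_conj (centralizer ({t} : Set G)) (B.h48 t ht) hzC hzC' oz oz'
  refine ⟨c, ?_, ?_⟩
  · exact ((mem_centralizer_iff.mp hcC) t rfl).symm
  · by_contra hne
    have h1 : c * z * c⁻¹ ∈ ((c • E : Sylow 3 G) : Subgroup G) := by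
      rw [Sylow.coe_subgroup_smul]
      have := Subgroup.smul_mem_pointwise_smul _ (MulAut.conj c) _ hzE
      simpa [MulAut.smul_def] using this
    have h2 : c * z * c⁻¹ ∈ (E' : Subgroup G) := (zpowers_le.mpr hzE') hcz
    have h3 := L.ti (c • E) E' hne _ h1 h2
    apply hz1
    have h4 : z = c⁻¹ * (c * z * c⁻¹) * c := by group
    rw [h4, h3]
    group

end Cfsg.Agent.Helper82.M11U
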