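import Mathlib
import Cfsg.Prelude.Def_Characters
import Cfsg.Agent.Lib.Helper81.CharInd

/-!
# Generalized characters as integer combinations of irreducible characters
-/

set_option autoImplicit false
set_option linter.style.haveILetI false
set_option linter.unusedSectionVars false

namespace Cfsg.Agent.Helper82

open Cfsg Cfsg.Agent.Helper81
open scoped ComplexConjugate

universe u

section ints

/-- Integer vectors of squared length one. -/
theorem int_sq_sum_one {ι : Type*} [DecidableEq ι] (z : ι → ℤ) (s : Finset ι)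
    (h : ∑ x ∈ s, z x ^ 2 = 1) :
    ∃ a ∈ s, (z a = 1 ∨ z a = -1) ∧ ∀ x ∈ s, x ≠ a → z x = 0 := by
  have hex : ∃ a ∈ s, z a ≠ 0 := by
    by_contra hno
    push Not at hno
    have : ∑ x ∈ s, z x ^ 2 = 0 := Finset.sum_eq_zero (fun x hx => by rw [hno x hx]; ring)
    omega
  obtain ⟨a, ha, hza⟩ := hex
  have hsplit : ∑ x ∈ s, z x ^ 2 = z a ^ 2 + ∑ x ∈ s.erase a, z x ^ 2 :=
    (Finset.add_sum_erase s (fun x => z x ^ 2) ha).symm
  have hnn : 0 ≤ ∑ x ∈ s.erase a, z x ^ 2 := Finset.sum_nonneg (fun x _ => sq_nonneg _)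
  have hza1 : 1 ≤ z a ^ 2 := by
    have : 0 < z a ^ 2 := by positivity
    omega
  have hza2 : z a ^ 2 = 1 := by omega
  have hrest : ∑ x ∈ s.erase a, z x ^ 2 = 0 := by omega
  refine ⟨a, ha, ?_, ?_⟩
  · have : (z a - 1) * (z a + 1) = 0 := by ring_nf; omega
    rcases mul_eq_zero.1 this with h1 | h1
    · left; omega
    · right; omega
  · intro x hx hxa
    have h0 := (Finset.sum_eq_zero_iff_of_nonneg (fun x _ => sq_nonneg (z x))).1 hrest x
      (Finset.mem_erase.2 ⟨hxa, hx⟩)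
    exact pow_eq_zero_iff (by norm_num) |>.1 h0

/-- Integer vectors of squared length two. -/
theorem int_sq_sum_two {ι : Type*} [DecidableEq ι] (z : ι → ℤ) (s : Finset ι)
    (h : ∑ x ∈ s, z x ^ 2 = 2) :
    ∃ a ∈ s, ∃ b ∈ s, a ≠ b ∧ (z a = 1 ∨ z a = -1) ∧ (z b = 1 ∨ z b = -1) ∧
      ∀ x ∈ s, x ≠ a → x ≠ b → z x = 0 := by
  have hex : ∃ a ∈ s, z a ≠ 0 := by
    by_contra hno
    push Not at hno
    have : ∑ x ∈ s, z x ^ 2 = 0 := Finset.sum_eq_zero (fun x hx => by rw [hno x hx]; ring)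
    omega
  obtain ⟨a, ha, hza⟩ := hex
  have hsplit : ∑ x ∈ s, z x ^ 2 = z a ^ 2 + ∑ x ∈ s.erase a, z x ^ 2 :=
    (Finset.add_sum_erase s (fun x => z x ^ 2) ha).symm
  have hnn : 0 ≤ ∑ x ∈ s.erase a, z x ^ 2 := Finset.sum_nonneg (fun x _ => sq_nonneg _)
  have hza1 : 1 ≤ z a ^ 2 := by
    have : 0 < z a ^ 2 := by positivity
    omega
  have hza2 : z a ^ 2 = 1 := by
    have hle : z a ^ 2 ≤ 2 := by omega
    have habs : |z a| ≤ 1 := by
      by_contra hgt
      push Not at hgt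
      have h2 : 2 ≤ |z a| := hgt
      have : 4 ≤ |z a| ^ 2 := by nlinarith
      rw [sq_abs] at this
      omega
    have : z a ^ 2 ≤ 1 := by
      rw [← sq_abs]
      have h0 : 0 ≤ |z a| := abs_nonneg _
      nlinarith
    omega
  have hrest : ∑ x ∈ s.erase a, z x ^ 2 = 1 := by omega
  obtain ⟨b, hb, hzb, hb0⟩ := int_sq_sum_one z (s.erase a) hrest
  have hba : b ≠ a := (Finset.mem_erase.1 hb).1
  refine ⟨a, ha, b, (Finset.mem_erase.1 hb).2, hba.symm, ?_, hzb, ?_⟩
  · have : (z a - 1) * (z a + 1) = 0 := by ring_nf; omega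
    rcases mul_eq_zero.1 this with h1 | h1
    · left; omega
    · right; omega
  · intro x hx hxa hxb
    exact hb0 x (Finset.mem_erase.2 ⟨hxa, hx⟩) hxb

end ints

variable {G : Type u} [Group G] [Fintype G]

theorem classInner_sub_right (φ ψ₁ ψ₂ : G → ℂ) :
    classInner φ (ψ₁ - ψ₂) = classInner φ ψ₁ - classInner φ ψ₂ := by
  simp only [classInner, Pi.sub_apply, map_sub, mul_sub, Finset.sum_sub_distrib]

theorem classInner_neg_right (φ ψ : G → ℂ) : classInner φ (-ψ) = -classInner φ ψ := by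
  simp only [classInner, Pi.neg_apply, map_neg, mul_neg, Finset.sum_neg_distrib]

theorem classInner_neg_left (φ ψ : G → ℂ) : classInner (-φ) ψ = -classInner φ ψ := by
  simp only [classInner, Pi.neg_apply, neg_mul, mul_neg, Finset.sum_neg_distrib]

theorem classInner_zsmul_left (n : ℤ) (φ ψ : G → ℂ) :
    classInner (n • φ) ψ = (n : ℂ) * classInner φ ψ := by
  have : n • φ = (n : ℂ) • φ := by ext g; simp
  rw [this, classInner_smul_left]

theorem classInner_zsmul_right (n : ℤ) (φ ψ : G → ℂ) :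
    classInner φ (n • ψ) = (n : ℂ) * classInner φ ψ := by
  have : n • ψ = (n : ℂ) • ψ := by ext g; simp
  rw [this, classInner_smul_right]
  simp

/-- A generalized character is an integer combination of irreducible characters. -/
theorem genChar_int_decomp [Fintype (IrrCharacter G)] {θ : G → ℂ}
    (h : IsGeneralizedCharacter G θ) :
    ∃ z : IrrCharacter G → ℤ, θ = ∑ χ, (z χ : ℂ) • (χ : G → ℂ) := by
  obtain ⟨α, β, hα, hβ, rfl⟩ := h
  obtain ⟨m₁, h₁⟩ := exists_nat_decomp hα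
  obtain ⟨m₂, h₂⟩ := exists_nat_decomp hβ
  refine ⟨fun χ => (m₁ χ : ℤ) - (m₂ χ : ℤ), ?_⟩
  rw [h₁, h₂, ← Finset.sum_sub_distrib]
  apply Finset.sum_congr rfl
  intro χ _
  push_cast
  rw [sub_smul]

/-- An integer combination of irreducible characters is a generalized character. -/
theorem isGeneralizedCharacter_int_comb [Fintype (IrrCharacter G)] (z : IrrCharacter G → ℤ) :
    IsGeneralizedCharacter G (∑ χ, (z χ : ℂ) • (χ : G → ℂ)) := by
  refine ⟨∑ χ : IrrCharacter G, ((z χ).toNat) • (χ : G → ℂ),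
    ∑ χ : IrrCharacter G, ((-z χ).toNat) • (χ : G → ℂ), ?_, ?_, ?_⟩
  · exact isCharacter_sum _ _ (fun χ _ => isCharacter_nsmul _ (IsIrrCharacter.isCharacter χ.2))
  · exact isCharacter_sum _ _ (fun χ _ => isCharacter_nsmul _ (IsIrrCharacter.isCharacter χ.2))
  · rw [← Finset.sum_sub_distrib]
    apply Finset.sum_congr rfl
    intro χ _
    rw [← Nat.cast_smul_eq_nsmul ℂ, ← Nat.cast_smul_eq_nsmul ℂ, ← sub_smul]
    congr 1
    have h1 : ((z χ).toNat : ℤ) - ((-z χ).toNat : ℤ) = z χ := by omega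
    rw [← Int.cast_natCast (R := ℂ) (z χ).toNat, ← Int.cast_natCast (R := ℂ) (-z χ).toNat,
      ← Int.cast_sub, h1]

/-- Inner product of integer combinations. -/
theorem classInner_int_comb [Fintype (IrrCharacter G)] (z w : IrrCharacter G → ℤ) :
    classInner (∑ χ, (z χ : ℂ) • (χ : G → ℂ)) (∑ χ, (w χ : ℂ) • (χ : G → ℂ)) =
      ((∑ χ, z χ * w χ : ℤ) : ℂ) := by
  rw [classInner_sum_right]
  push_cast
  apply Finset.sum_congr rfl
  intro χ _
  rw [classInner_smul_right, classInner_nat_decomp (fun χ' => (z χ' : ℂ)) χ]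
  simp [mul_comm]

/-- The inner product of two generalized characters is an integer. -/
theorem genChar_inner_int {θ φ : G → ℂ} (hθ : IsGeneralizedCharacter G θ)
    (hφ : IsGeneralizedCharacter G φ) : ∃ k : ℤ, classInner θ φ = (k : ℂ) := by
  haveI : Fintype (IrrCharacter G) := @Fintype.ofFinite _ irr_finite
  obtain ⟨z, rfl⟩ := genChar_int_decomp hθ
  obtain ⟨w, rfl⟩ := genChar_int_decomp hφ
  exact ⟨_, classInner_int_comb z w⟩

/-- Degree of an irreducible character. -/
theorem irr_degree_pos {μ : G → ℂ} (h : IsIrrCharacter G μ) : ∃ n : ℕ, 0 < n ∧ μ 1 = (n : ℂ) := by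
  obtain ⟨n, ρ, hρ, rfl⟩ := h
  refine ⟨n, ?_, ?_⟩
  · haveI := hρ
    have hnt := nontrivial_of_isIrreducible ρ
    rcases Nat.eq_zero_or_pos n with h0 | h0
    · subst h0
      exact absurd hnt (not_nontrivial_iff_subsingleton.mpr inferInstance)
    · exact h0
  · rw [Representation.char_one]; simp

/-- The negative of a generalized character is one. -/
theorem isGeneralizedCharacter_neg {θ : G → ℂ} (h : IsGeneralizedCharacter G θ) :
    IsGeneralizedCharacter G (-θ) := by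
  obtain ⟨α, β, hα, hβ, rfl⟩ := h
  exact ⟨β, α, hβ, hα, by ring⟩

theorem isGeneralizedCharacter_of_isCharacter {θ : G → ℂ} (h : IsCharacter G θ) :
    IsGeneralizedCharacter G θ :=
  ⟨θ, 0, h, isCharacter_zero, by simp⟩

theorem isGeneralizedCharacter_add {θ φ : G → ℂ} (hθ : IsGeneralizedCharacter G θ)
    (hφ : IsGeneralizedCharacter G φ) : IsGeneralizedCharacter G (θ + φ) := by
  obtain ⟨α, β, hα, hβ, rfl⟩ := hθ
  obtain ⟨γ, δ, hγ, hδ, rfl⟩ := hφ
  exact ⟨α + γ, β + δ, isCharacter_add hα hγ, isCharacter_add hβ hδ, by ring⟩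

theorem isGeneralizedCharacter_sub {θ φ : G → ℂ} (hθ : IsGeneralizedCharacter G θ)
    (hφ : IsGeneralizedCharacter G φ) : IsGeneralizedCharacter G (θ - φ) := by
  rw [sub_eq_add_neg]
  exact isGeneralizedCharacter_add hθ (isGeneralizedCharacter_neg hφ)

/-- A generalized character of norm one is, up to sign, irreducible. -/
theorem genChar_norm_one {θ : G → ℂ} (hθ : IsGeneralizedCharacter G θ)
    (h1 : classInner θ θ = 1) : IsIrrCharacter G θ ∨ IsIrrCharacter G (-θ) := by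
  classical
  haveI : Fintype (IrrCharacter G) := @Fintype.ofFinite _ irr_finite
  obtain ⟨z, rfl⟩ := genChar_int_decomp hθ
  rw [classInner_int_comb] at h1
  have h2 : ∑ χ : IrrCharacter G, z χ ^ 2 = 1 := by
    have : ((∑ χ : IrrCharacter G, z χ * z χ : ℤ) : ℂ) = ((1 : ℤ) : ℂ) := by simpa using h1
    have h3 := Int.cast_injective this
    rw [← h3]
    exact Finset.sum_congr rfl (fun χ _ => sq (z χ))
  obtain ⟨a, _, hza, h0⟩ := int_sq_sum_one z Finset.univ h2
  have hsum : ∑ χ, (z χ : ℂ) • (χ : G → ℂ) = (z a : ℂ) • (a : G → ℂ) := by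
    rw [Finset.sum_eq_single a]
    · intro b _ hb
      rw [h0 b (Finset.mem_univ _) hb]; simp
    · intro h; exact absurd (Finset.mem_univ _) h
  rw [hsum]
  rcases hza with h | h
  · left; rw [h]; simpa using a.2
  · right; rw [h]; simpa using a.2

/-- A generalized character of norm two vanishing at `1` is a difference of two distinct
irreducible characters. -/
theorem genChar_norm_two {θ : G → ℂ} (hθ : IsGeneralizedCharacter G θ)
    (h2 : classInner θ θ = 2) (h0 : θ 1 = 0) :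
    ∃ μ₁ μ₂ : G → ℂ, IsIrrCharacter G μ₁ ∧ IsIrrCharacter G μ₂ ∧ μ₁ ≠ μ₂ ∧ θ = μ₁ - μ₂ := by
  classical
  haveI : Fintype (IrrCharacter G) := @Fintype.ofFinite _ irr_finite
  obtain ⟨z, rfl⟩ := genChar_int_decomp hθ
  rw [classInner_int_comb] at h2
  have h3 : ∑ χ : IrrCharacter G, z χ ^ 2 = 2 := by
    have : ((∑ χ : IrrCharacter G, z χ * z χ : ℤ) : ℂ) = ((2 : ℤ) : ℂ) := by simpa using h2
    have h3 := Int.cast_injective this
    rw [← h3]
    exact Finset.sum_congr rfl (fun χ _ => sq (z χ))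
  obtain ⟨a, _, b, _, hab, hza, hzb, hz0⟩ := int_sq_sum_two z Finset.univ h3
  have hsum : ∑ χ, (z χ : ℂ) • (χ : G → ℂ) = (z a : ℂ) • (a : G → ℂ) + (z b : ℂ) • (b : G → ℂ) := by
    rw [← Finset.add_sum_erase _ _ (Finset.mem_univ a)]
    congr 1
    rw [Finset.sum_eq_single b]
    · intro c hc hcb
      rw [hz0 c (Finset.mem_univ _) (Finset.mem_erase.1 hc).1 hcb]; simp
    · intro h; exact absurd (Finset.mem_erase.2 ⟨hab.symm, Finset.mem_univ _⟩) h
  rw [hsum] at h0 ⊢
  obtain ⟨na, hna, ha1⟩ := irr_degree_pos a.2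
  obtain ⟨nb, hnb, hb1⟩ := irr_degree_pos b.2
  simp only [Pi.add_apply, Pi.smul_apply, smul_eq_mul, ha1, hb1] at h0
  have h0' : z a * (na : ℤ) + z b * (nb : ℤ) = 0 := by
    have : ((z a * (na : ℤ) + z b * (nb : ℤ) : ℤ) : ℂ) = ((0 : ℤ) : ℂ) := by
      push_cast; exact h0
    exact Int.cast_injective this
  have hna' : (0 : ℤ) < na := by exact_mod_cast hna
  have hnb' : (0 : ℤ) < nb := by exact_mod_cast hnb
  have hne : (a : G → ℂ) ≠ (b : G → ℂ) := fun h => hab (Subtype.ext h)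
  rcases hza with ha | ha <;> rcases hzb with hb | hb
  · rw [ha, hb] at h0'; omega
  · refine ⟨a, b, a.2, b.2, hne, ?_⟩
    rw [ha, hb]; ext g; simp [sub_eq_add_neg]
  · refine ⟨b, a, b.2, a.2, hne.symm, ?_⟩
    rw [ha, hb]; ext g; simp [sub_eq_add_neg, add_comm]
  · rw [ha, hb] at h0'; omega

end Cfsg.Agent.Helper82
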