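import Mathlib
import Cfsg.Prelude.Def_Characters
import Cfsg.Agent.Lib.Helper82.GenChar
import Cfsg.Agent.Lib.Helper81.CharFrob

/-!
# The Brauer–Suzuki argument for exceptional characters

A family `D i j` of generalized characters vanishing at `1`, additive in the sense
`D i k = D i j + D j k`, with `‖D i j‖² = 2` and `⟨D i j, D i k⟩ = 1`, has the form
`D i j = ε (f i - f j)` for a sign `ε` and an injective family `f` of irreducible characters.
-/

set_option autoImplicit false
set_option linter.style.haveILetI false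
set_option linter.unusedSectionVars false

namespace Cfsg.Agent.Helper82

open Cfsg Cfsg.Agent.Helper81
open scoped ComplexConjugate

universe u

variable {G : Type u} [Group G] [Fintype G]

theorem pair_of_inner_one {a b c d : G → ℂ} (ha : IsIrrCharacter G a) (hb : IsIrrCharacter G b)
    (hc : IsIrrCharacter G c) (hd : IsIrrCharacter G d) (hab : a ≠ b) (hcd : c ≠ d)
    (h : classInner (a - b) (c - d) = 1) : (a = c ∧ b ≠ d) ∨ (a ≠ c ∧ b = d) := by
  rw [classInner_sub_left, classInner_sub_right, classInner_sub_right, irr_orthonormal ha hc,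
    irr_orthonormal ha hd, irr_orthonormal hb hc, irr_orthonormal hb hd] at h
  by_cases h1 : a = c
  · left
    refine ⟨h1, ?_⟩
    intro h2
    have h3 : a ≠ d := fun h3 => hcd (h1.symm.trans h3)
    have h4 : b ≠ c := fun h4 => hab (h1.trans h4.symm)
    rw [if_pos h1, if_neg h3, if_neg h4, if_pos h2] at h
    norm_num at h
  · right
    refine ⟨h1, ?_⟩
    by_contra h2
    rw [if_neg h1, if_neg h2] at h
    by_cases h3 : a = d <;> by_cases h4 : b = c
    · rw [if_pos h3, if_pos h4] at h; norm_num at h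
    · rw [if_pos h3, if_neg h4] at h; norm_num at h
    · rw [if_neg h3, if_pos h4] at h; norm_num at h
    · rw [if_neg h3, if_neg h4] at h; norm_num at h

theorem brauer_suzuki_assemble {ι : Type*} (D : ι → ι → (G → ℂ))
    (hco : ∀ i j k, D i k = D i j + D j k)
    (hn : ∀ i j, i ≠ j → classInner (D i j) (D i j) = 2)
    (i₀ : ι) (ε : ℂ) (c : G → ℂ) (hc : IsIrrCharacter G c) (g : ι → (G → ℂ))
    (hg : ∀ j, j ≠ i₀ → IsIrrCharacter G (g j))
    (hD : ∀ j, j ≠ i₀ → D i₀ j = ε • (c - g j)) :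
    ∃ f : ι → IrrCharacter G, Function.Injective f ∧
      ∀ i j, D i j = ε • ((f i : G → ℂ) - (f j : G → ℂ)) := by
  classical
  have hD0 : ∀ i, D i i = 0 := by
    intro i
    have := hco i i i
    exact left_eq_add.mp this
  have hF : ∀ i j, D i j = D i₀ j - D i₀ i := by
    intro i j
    have := hco i₀ i j
    rw [this]
    abel
  let f : ι → IrrCharacter G := fun j => if h : j = i₀ then ⟨c, hc⟩ else ⟨g j, hg j h⟩
  have hf : ∀ j, D i₀ j = ε • (c - (f j : G → ℂ)) := by
    intro j
    by_cases h : j = i₀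
    · simp only [f, dif_pos h]
      rw [h, hD0]
      simp
    · simp only [f, dif_neg h]
      exact hD j h
  have hDf : ∀ i j, D i j = ε • ((f i : G → ℂ) - (f j : G → ℂ)) := by
    intro i j
    rw [hF, hf j, hf i, ← smul_sub]
    congr 1
    abel
  refine ⟨f, ?_, hDf⟩
  intro i j hij
  by_contra hne
  have h2 := hn i j hne
  rw [hDf i j, hij, sub_self, smul_zero] at h2
  simp [classInner] at h2

theorem brauer_suzuki {ι : Type*} (D : ι → ι → (G → ℂ))
    (hco : ∀ i j k, D i k = D i j + D j k)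
    (hn : ∀ i j, i ≠ j → classInner (D i j) (D i j) = 2)
    (hp : ∀ i j k, i ≠ j → i ≠ k → j ≠ k → classInner (D i j) (D i k) = 1)
    (hgen : ∀ i j, IsGeneralizedCharacter G (D i j)) (h1 : ∀ i j, D i j 1 = 0) :
    ∃ (ε : ℂ) (f : ι → IrrCharacter G), (ε = 1 ∨ ε = -1) ∧ Function.Injective f ∧
      ∀ i j, D i j = ε • ((f i : G → ℂ) - (f j : G → ℂ)) := by
  classical
  have hD0 : ∀ i, D i i = 0 := by
    intro i
    have := hco i i i
    exact left_eq_add.mp this
  by_cases hsub : ∃ i₀ j₀ : ι, j₀ ≠ i₀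
  swap
  · push Not at hsub
    refine ⟨1, fun _ => ⟨_, isIrrCharacter_one⟩, Or.inl rfl, fun i j _ => hsub j i, ?_⟩
    intro i j
    rw [hsub j i, hD0]
    simp
  obtain ⟨i₀, j₀, hj₀⟩ := hsub
  have hdec : ∀ j, j ≠ i₀ → ∃ a b : G → ℂ, IsIrrCharacter G a ∧ IsIrrCharacter G b ∧ a ≠ b ∧
      D i₀ j = a - b :=
    fun j hj => genChar_norm_two (hgen i₀ j) (hn i₀ j hj.symm) (h1 i₀ j)
  choose! a b ha hb hab hD using hdec
  have hpair : ∀ j k, j ≠ i₀ → k ≠ i₀ → j ≠ k →
      (a j = a k ∧ b j ≠ b k) ∨ (a j ≠ a k ∧ b j = b k) := by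
    intro j k hj hk hjk
    apply pair_of_inner_one (ha j hj) (hb j hj) (ha k hk) (hb k hk) (hab j hj) (hab k hk)
    rw [← hD j hj, ← hD k hk]
    exact hp i₀ j k hj.symm hk.symm hjk
  by_cases hA : ∃ j k, j ≠ i₀ ∧ k ≠ i₀ ∧ j ≠ k ∧ a j = a k
  · obtain ⟨j, k, hj, hk, hjk, hajk⟩ := hA
    have hall : ∀ l, l ≠ i₀ → a l = a j := by
      intro l hl
      by_cases hlj : l = j
      · rw [hlj]
      by_cases hlk : l = k
      · rw [hlk, hajk]
      rcases hpair j l hj hl (Ne.symm hlj) with h | h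
      · exact h.1.symm
      · exfalso
        rcases hpair k l hk hl (Ne.symm hlk) with h' | h'
        · exact h.1 (hajk.trans h'.1)
        · rcases hpair j k hj hk hjk with h'' | h''
          · exact h''.2 (h.2.trans h'.2.symm)
          · exact h''.1 hajk
    obtain ⟨f, hfinj, hf⟩ := brauer_suzuki_assemble D hco hn i₀ 1 (a j) (ha j hj) b hb
      (fun l hl => by rw [hD l hl, hall l hl, one_smul])
    exact ⟨1, f, Or.inl rfl, hfinj, hf⟩
  · push Not at hA
    have hall : ∀ l, l ≠ i₀ → b l = b j₀ := by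
      intro l hl
      by_cases hlj : l = j₀
      · rw [hlj]
      rcases hpair l j₀ hl hj₀ hlj with h | h
      · exact absurd h.1 (hA l j₀ hl hj₀ hlj)
      · exact h.2
    obtain ⟨f, hfinj, hf⟩ := brauer_suzuki_assemble D hco hn i₀ (-1) (b j₀) (hb j₀ hj₀) a ha
      (fun l hl => by rw [hD l hl, hall l hl, neg_one_smul, neg_sub])
    exact ⟨-1, f, Or.inr rfl, hfinj, hf⟩

end Cfsg.Agent.Helper82
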