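import Mathlib
import Cfsg.Prelude.Def_OddOrderChar
import Cfsg.Agent.Lib.Helper82.GenChar

/-!
# Tools for coherence arguments: ℤ-linear maps on integer spans of characters
-/

set_option autoImplicit false
set_option linter.style.haveILetI false
set_option linter.unusedSectionVars false

namespace Cfsg.Agent.Helper82

open Cfsg Cfsg.Agent.Helper81
open scoped ComplexConjugate

universe u v

section zspan
variable {N : Type u}

theorem mem_zspan {A : Set (N → ℂ)} {x : N → ℂ} :
    x ∈ Cfsg.zspan A ↔ x ∈ Submodule.span ℤ A := Iff.rfl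

theorem subset_zspan {A : Set (N → ℂ)} {x : N → ℂ} (h : x ∈ A) : x ∈ Cfsg.zspan A :=
  Submodule.subset_span h

theorem zspan_zero_mem (A : Set (N → ℂ)) : (0 : N → ℂ) ∈ Cfsg.zspan A :=
  Submodule.zero_mem _

theorem zspan_add_mem {A : Set (N → ℂ)} {x y : N → ℂ} (hx : x ∈ Cfsg.zspan A)
    (hy : y ∈ Cfsg.zspan A) : x + y ∈ Cfsg.zspan A := Submodule.add_mem _ hx hy

theorem zspan_sub_mem {A : Set (N → ℂ)} {x y : N → ℂ} (hx : x ∈ Cfsg.zspan A)
    (hy : y ∈ Cfsg.zspan A) : x - y ∈ Cfsg.zspan A := Submodule.sub_mem _ hx hy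

theorem zspan_neg_mem {A : Set (N → ℂ)} {x : N → ℂ} (hx : x ∈ Cfsg.zspan A) :
    -x ∈ Cfsg.zspan A := Submodule.neg_mem _ hx

theorem zspan_smul_mem {A : Set (N → ℂ)} {x : N → ℂ} (n : ℤ) (hx : x ∈ Cfsg.zspan A) :
    n • x ∈ Cfsg.zspan A := Submodule.smul_mem _ n hx

theorem zspan_mono {A B : Set (N → ℂ)} (h : A ⊆ B) : Cfsg.zspan A ⊆ Cfsg.zspan B :=
  fun _ hx => Submodule.span_mono h hx

theorem zspanOn_mono {A B : Set (N → ℂ)} (h : A ⊆ B) (T : Set N) :
    Cfsg.zspanOn A T ⊆ Cfsg.zspanOn B T :=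
  fun _ hx => ⟨zspan_mono h hx.1, hx.2⟩

theorem mem_zspanOn_compl_one [One N] {A : Set (N → ℂ)} {x : N → ℂ} :
    x ∈ Cfsg.zspanOn A {1}ᶜ ↔ x ∈ Cfsg.zspan A ∧ x 1 = 0 := by
  constructor
  · rintro ⟨h1, h2⟩
    exact ⟨h1, h2 1 (fun h => h rfl)⟩
  · rintro ⟨h1, h2⟩
    refine ⟨h1, fun y hy => ?_⟩
    have : y = 1 := by
      by_contra h
      exact hy h
    rw [this, h2]

theorem zspanOn_add_mem {A : Set (N → ℂ)} {T : Set N} {x y : N → ℂ}
    (hx : x ∈ Cfsg.zspanOn A T) (hy : y ∈ Cfsg.zspanOn A T) : x + y ∈ Cfsg.zspanOn A T :=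
  ⟨zspan_add_mem hx.1 hy.1, fun g hg => by rw [Pi.add_apply, hx.2 g hg, hy.2 g hg, add_zero]⟩

theorem zspanOn_smul_mem {A : Set (N → ℂ)} {T : Set N} {x : N → ℂ} (n : ℤ)
    (hx : x ∈ Cfsg.zspanOn A T) : n • x ∈ Cfsg.zspanOn A T :=
  ⟨zspan_smul_mem n hx.1, fun g hg => by rw [Pi.smul_apply, hx.2 g hg, smul_zero]⟩

theorem zspanOn_sub_mem {A : Set (N → ℂ)} {T : Set N} {x y : N → ℂ}
    (hx : x ∈ Cfsg.zspanOn A T) (hy : y ∈ Cfsg.zspanOn A T) : x - y ∈ Cfsg.zspanOn A T :=
  ⟨zspan_sub_mem hx.1 hy.1, fun g hg => by rw [Pi.sub_apply, hx.2 g hg, hy.2 g hg, sub_zero]⟩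

theorem zspan_union_decomp {A B : Set (N → ℂ)} {θ : N → ℂ} (h : θ ∈ Cfsg.zspan (A ∪ B)) :
    ∃ x ∈ Cfsg.zspan A, ∃ y ∈ Cfsg.zspan B, θ = x + y := by
  rw [mem_zspan, Submodule.span_union, Submodule.mem_sup] at h
  obtain ⟨x, hx, y, hy, rfl⟩ := h
  exact ⟨x, hx, y, hy, rfl⟩

/-- Values at a point of integer combinations. -/
theorem zspan_value_int {A : Set (N → ℂ)} (g : N) (hA : ∀ a ∈ A, ∃ k : ℤ, a g = (k : ℂ))
    {x : N → ℂ} (hx : x ∈ Cfsg.zspan A) : ∃ k : ℤ, x g = (k : ℂ) := by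
  rw [mem_zspan] at hx
  induction hx using Submodule.span_induction with
  | mem a ha => exact hA a ha
  | zero => exact ⟨0, by simp⟩
  | add a b _ _ iha ihb =>
    obtain ⟨k, hk⟩ := iha
    obtain ⟨l, hl⟩ := ihb
    exact ⟨k + l, by rw [Pi.add_apply, hk, hl]; push_cast; ring⟩
  | smul n a _ iha =>
    obtain ⟨k, hk⟩ := iha
    exact ⟨n * k, by rw [Pi.smul_apply, hk, zsmul_eq_mul]; push_cast; ring⟩

end zspan

section zlin
variable {N : Type u} {M : Type v}

/-- `F` is additive and ℤ-homogeneous on the integer span of `A`. -/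
structure ZLinOn (A : Set (N → ℂ)) (F : (N → ℂ) → (M → ℂ)) : Prop where
  add : ∀ α ∈ Cfsg.zspan A, ∀ β ∈ Cfsg.zspan A, F (α + β) = F α + F β
  smul : ∀ α ∈ Cfsg.zspan A, ∀ n : ℤ, F (n • α) = n • F α

theorem ZLinOn.id (A : Set (N → ℂ)) : ZLinOn A (fun x : N → ℂ => x) :=
  ⟨fun _ _ _ _ => rfl, fun _ _ _ => rfl⟩

theorem ZLinOn.map_zero {A : Set (N → ℂ)} {F : (N → ℂ) → (M → ℂ)} (h : ZLinOn A F) :
    F 0 = 0 := by
  have := h.smul 0 (zspan_zero_mem A) 0
  simpa using this

theorem ZLinOn.map_neg {A : Set (N → ℂ)} {F : (N → ℂ) → (M → ℂ)} (h : ZLinOn A F)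
    {x : N → ℂ} (hx : x ∈ Cfsg.zspan A) : F (-x) = -F x := by
  have := h.smul x hx (-1)
  simpa using this

theorem ZLinOn.map_sub {A : Set (N → ℂ)} {F : (N → ℂ) → (M → ℂ)} (h : ZLinOn A F)
    {x y : N → ℂ} (hx : x ∈ Cfsg.zspan A) (hy : y ∈ Cfsg.zspan A) : F (x - y) = F x - F y := by
  rw [sub_eq_add_neg, h.add x hx _ (zspan_neg_mem hy), h.map_neg hy, sub_eq_add_neg]

theorem ZLinOn.mono {A B : Set (N → ℂ)} {F : (N → ℂ) → (M → ℂ)} (h : ZLinOn B F)
    (hAB : A ⊆ B) : ZLinOn A F :=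
  ⟨fun α hα β hβ => h.add α (zspan_mono hAB hα) β (zspan_mono hAB hβ),
   fun α hα n => h.smul α (zspan_mono hAB hα) n⟩

/-- Two ℤ-linear maps agreeing on generators agree on the span. -/
theorem ZLinOn.eq_of_span {A : Set (N → ℂ)} {F T : (N → ℂ) → (M → ℂ)} (hF : ZLinOn A F)
    (hT : ZLinOn A T) (h : ∀ a ∈ A, F a = T a) {x : N → ℂ} (hx : x ∈ Cfsg.zspan A) :
    F x = T x := by
  rw [mem_zspan] at hx
  induction hx using Submodule.span_induction with
  | mem a ha => exact h a ha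
  | zero => rw [hF.map_zero, hT.map_zero]
  | add a b ha hb iha ihb => rw [hF.add a ha b hb, hT.add a ha b hb, iha, ihb]
  | smul n a ha iha => rw [hF.smul a ha n, hT.smul a ha n, iha]

/-- A property closed under the ℤ-module operations holds on the image of the span. -/
theorem ZLinOn.induction {A : Set (N → ℂ)} {F : (N → ℂ) → (M → ℂ)} (hF : ZLinOn A F)
    (P : (M → ℂ) → Prop) (hmem : ∀ a ∈ A, P (F a)) (h0 : P 0)
    (hadd : ∀ x y, P x → P y → P (x + y)) (hsmul : ∀ (n : ℤ) x, P x → P (n • x))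
    {x : N → ℂ} (hx : x ∈ Cfsg.zspan A) : P (F x) := by
  rw [mem_zspan] at hx
  induction hx using Submodule.span_induction with
  | mem a ha => exact hmem a ha
  | zero => rw [hF.map_zero]; exact h0
  | add a b ha hb iha ihb => rw [hF.add a ha b hb]; exact hadd _ _ iha ihb
  | smul n a ha iha => rw [hF.smul a ha n]; exact hsmul n _ iha

end zlin

section inner
variable {N : Type u} {N' : Type u} {M : Type v} [Group M] [Fintype M]

/-- Bilinear induction: orthogonality on generators gives orthogonality on spans. -/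
theorem inner_eq_zero_of_span {A : Set (N → ℂ)} {B : Set (N' → ℂ)}
    {F : (N → ℂ) → (M → ℂ)} {F' : (N' → ℂ) → (M → ℂ)}
    (hF : ZLinOn A F) (hF' : ZLinOn B F')
    (h : ∀ a ∈ A, ∀ b ∈ B, classInner (F a) (F' b) = 0)
    {x : N → ℂ} (hx : x ∈ Cfsg.zspan A) {y : N' → ℂ} (hy : y ∈ Cfsg.zspan B) :
    classInner (F x) (F' y) = 0 := by
  rw [mem_zspan] at hx
  induction hx using Submodule.span_induction with
  | mem a ha =>
    rw [mem_zspan] at hy
    induction hy using Submodule.span_induction with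
    | mem b hb => exact h a ha b hb
    | zero => rw [hF'.map_zero, classInner_zero_right]
    | add b c hb hc ihb ihc => rw [hF'.add b hb c hc, classInner_add_right, ihb, ihc, add_zero]
    | smul n b hb ihb => rw [hF'.smul b hb n, classInner_zsmul_right, ihb, mul_zero]
  | zero => rw [hF.map_zero, classInner_zero_left]
  | add a b ha hb iha ihb => rw [hF.add a ha b hb, classInner_add_left, iha, ihb, add_zero]
  | smul n a ha iha => rw [hF.smul a ha n, classInner_zsmul_left, iha, mul_zero]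

/-- Bilinear induction: isometry on generators gives isometry on the span. -/
theorem inner_eq_of_span {L : Type u} [Group L] [Fintype L] {A : Set (L → ℂ)}
    {F : (L → ℂ) → (M → ℂ)} (hF : ZLinOn A F)
    (h : ∀ a ∈ A, ∀ b ∈ A, classInner (F a) (F b) = classInner a b)
    {x : L → ℂ} (hx : x ∈ Cfsg.zspan A) {y : L → ℂ} (hy : y ∈ Cfsg.zspan A) :
    classInner (F x) (F y) = classInner x y := by
  rw [mem_zspan] at hx
  induction hx using Submodule.span_induction with
  | mem a ha =>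
    rw [mem_zspan] at hy
    induction hy using Submodule.span_induction with
    | mem b hb => exact h a ha b hb
    | zero => rw [hF.map_zero, classInner_zero_right, classInner_zero_right]
    | add b c hb hc ihb ihc =>
      rw [hF.add b hb c hc, classInner_add_right, ihb, ihc, classInner_add_right]
    | smul n b hb ihb => rw [hF.smul b hb n, classInner_zsmul_right, ihb, classInner_zsmul_right]
  | zero => rw [hF.map_zero, classInner_zero_left, classInner_zero_left]
  | add a b ha hb iha ihb =>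
    rw [hF.add a ha b hb, classInner_add_left, iha, ihb, classInner_add_left]
  | smul n a ha iha => rw [hF.smul a ha n, classInner_zsmul_left, iha, classInner_zsmul_left]

end inner

section genchar
variable {M : Type v} [Group M] [Fintype M]

theorem isGeneralizedCharacter_zero : IsGeneralizedCharacter M (0 : M → ℂ) :=
  isGeneralizedCharacter_of_isCharacter isCharacter_zero

theorem isGeneralizedCharacter_zsmul (n : ℤ) {θ : M → ℂ} (h : IsGeneralizedCharacter M θ) :
    IsGeneralizedCharacter M (n • θ) := by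
  obtain ⟨α, β, hα, hβ, rfl⟩ := h
  rcases le_total 0 n with hn | hn
  · refine ⟨n.toNat • α, n.toNat • β, isCharacter_nsmul _ hα, isCharacter_nsmul _ hβ, ?_⟩
    have h1 : (n.toNat : ℤ) = n := Int.toNat_of_nonneg hn
    rw [← smul_sub, ← natCast_zsmul, h1]
  · refine ⟨(-n).toNat • β, (-n).toNat • α, isCharacter_nsmul _ hβ, isCharacter_nsmul _ hα, ?_⟩
    have h1 : ((-n).toNat : ℤ) = -n := Int.toNat_of_nonneg (by omega)
    rw [← smul_sub, ← natCast_zsmul, h1, neg_smul, ← smul_neg, neg_sub]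

theorem isGeneralizedCharacter_sum {ι : Type*} (s : Finset ι) (f : ι → M → ℂ)
    (h : ∀ i ∈ s, IsGeneralizedCharacter M (f i)) :
    IsGeneralizedCharacter M (∑ i ∈ s, f i) := by
  classical
  induction s using Finset.induction_on with
  | empty => simpa using isGeneralizedCharacter_zero
  | insert a s ha ih =>
    rw [Finset.sum_insert ha]
    exact isGeneralizedCharacter_add (h a (Finset.mem_insert_self a s))
      (ih (fun i hi => h i (Finset.mem_insert_of_mem hi)))

theorem classInner_self_re_nonneg (θ : M → ℂ) : 0 ≤ (classInner θ θ).re := by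
  unfold classInner
  have h1 : ∑ g : M, θ g * conj (θ g) = ((∑ g : M, Complex.normSq (θ g) : ℝ) : ℂ) := by
    push_cast
    exact Finset.sum_congr rfl (fun g _ => Complex.mul_conj (θ g))
  rw [h1]
  have h2 : ((Nat.card M : ℂ))⁻¹ = (((Nat.card M : ℝ)⁻¹ : ℝ) : ℂ) := by push_cast; rfl
  rw [h2, ← Complex.ofReal_mul, Complex.ofReal_re]
  apply mul_nonneg
  · positivity
  · exact Finset.sum_nonneg (fun g _ => Complex.normSq_nonneg _)

end genchar

section ext
variable {N : Type u} [Group N] [Fintype N] {M : Type v}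

/-- The ℂ-linear extension of a map defined on the irreducible characters. -/
noncomputable def extIrr [Fintype (IrrCharacter N)] (f : IrrCharacter N → (M → ℂ))
    (θ : N → ℂ) : M → ℂ :=
  ∑ ξ : IrrCharacter N, classInner θ (ξ : N → ℂ) • f ξ

theorem extIrr_add [Fintype (IrrCharacter N)] (f : IrrCharacter N → (M → ℂ)) (θ θ' : N → ℂ) :
    extIrr f (θ + θ') = extIrr f θ + extIrr f θ' := by
  simp only [extIrr, classInner_add_left, add_smul, Finset.sum_add_distrib]

theorem extIrr_zsmul [Fintype (IrrCharacter N)] (f : IrrCharacter N → (M → ℂ)) (n : ℤ)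
    (θ : N → ℂ) : extIrr f (n • θ) = n • extIrr f θ := by
  simp only [extIrr, classInner_zsmul_left, Finset.smul_sum]
  apply Finset.sum_congr rfl
  intro ξ _
  ext g
  simp [mul_assoc]

theorem extIrr_irr [Fintype (IrrCharacter N)] (f : IrrCharacter N → (M → ℂ))
    (ξ₀ : IrrCharacter N) : extIrr f (ξ₀ : N → ℂ) = f ξ₀ := by
  classical
  unfold extIrr
  rw [Finset.sum_eq_single ξ₀]
  · rw [irr_orthonormal ξ₀.2 ξ₀.2, if_pos rfl, one_smul]
  · intro b _ hb
    rw [irr_orthonormal ξ₀.2 b.2, if_neg (fun h => hb (Subtype.ext h.symm)), zero_smul]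
  · intro h; exact absurd (Finset.mem_univ _) h

theorem extIrr_zlinOn [Fintype (IrrCharacter N)] (f : IrrCharacter N → (M → ℂ))
    (A : Set (N → ℂ)) : ZLinOn A (extIrr f) :=
  ⟨fun α _ β _ => extIrr_add f α β, fun α _ n => extIrr_zsmul f n α⟩

end ext

theorem zlinOn_of_isLinearIsometryOn {L : Type u} [Group L] [Fintype L] {G : Type v} [Group G]
    [Fintype G] {A : Set (L → ℂ)} {F : (L → ℂ) → (G → ℂ)}
    (h : Cfsg.IsLinearIsometryOn (Cfsg.zspan A) F) : ZLinOn A F :=
  ⟨h.1, h.2.1⟩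

/-- Positive definiteness of the inner product. -/
theorem eq_zero_of_classInner_self {L : Type u} [Group L] [Fintype L] {θ : L → ℂ}
    (h : classInner θ θ = 0) : θ = 0 := by
  unfold classInner at h
  have hL : (Nat.card L : ℂ) ≠ 0 := by
    have : 0 < Nat.card L := Nat.card_pos
    exact_mod_cast this.ne'
  have h1 : ∑ g : L, θ g * conj (θ g) = 0 := by
    rcases mul_eq_zero.1 h with h | h
    · exact absurd (inv_eq_zero.1 h) hL
    · exact h
  have h2 : ∑ g : L, Complex.normSq (θ g) = 0 := by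
    have : ((∑ g : L, Complex.normSq (θ g) : ℝ) : ℂ) = 0 := by
      push_cast
      rw [← h1]
      exact Finset.sum_congr rfl (fun g _ => (Complex.mul_conj (θ g)).symm)
    exact_mod_cast this
  ext g
  have := (Finset.sum_eq_zero_iff_of_nonneg (fun g _ => Complex.normSq_nonneg (θ g))).1 h2 g
    (Finset.mem_univ g)
  exact Complex.normSq_eq_zero.1 this

end Cfsg.Agent.Helper82
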