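import Mathlib
import Cfsg.Prelude.Def_Characters
import Cfsg.Agent.Lib.Helper3.FrobGroup
import Cfsg.Agent.Lib.Helper82.GenChar

/-!
# Characters of a group with a Frobenius-kernel-like normal subgroup
-/

set_option autoImplicit false
set_option linter.style.haveILetI false
set_option linter.unusedSectionVars false

namespace Cfsg.Agent.Helper82

open Cfsg Cfsg.Agent.Helper81
open scoped ComplexConjugate

universe u

variable {X : Type u} [Group X] [Fintype X]

/-- If `K` is normal and contains the centralizers of its non-identity elements, non-principal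
irreducible characters of `K` induce irreducibly (after helper3's `frob_indFun_irr`). -/
theorem indFun_irr_of_centralizer (K : Subgroup X) [hKn : K.Normal]
    (hC : ∀ n ∈ K, n ≠ 1 → Subgroup.centralizer ({n} : Set X) ≤ K) (τ : K → ℂ)
    (hτ : Cfsg.IsIrrCharacter K τ) (hτ1 : τ ≠ fun _ => 1) :
    Cfsg.IsIrrCharacter X (Cfsg.indFun K τ) := by
  classical
  have := Fintype.ofFinite K
  apply Cfsg.Agent.Helper3.isIrrCharacter_of_classInner_self_eq_one
    (Cfsg.Agent.Helper3.isCharacter_indFun K τ (Cfsg.Agent.Helper3.isCharacter_of_isIrrCharacter hτ))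
  rw [Cfsg.Agent.Helper3.frobenius_reciprocity K τ _ (Cfsg.Agent.Helper3.isClassFunction_indFun K τ)]
  rw [Cfsg.Agent.Helper81.indFun_restrict_normal K hKn τ]
  rw [Cfsg.Agent.Helper3.classInner_smul_right, Cfsg.Agent.Helper3.classInner_sum_right]
  have hterm : ∀ x : X, Cfsg.classInner τ (Cfsg.Agent.Helper81.conjFun K hKn τ x)
      = if x ∈ K then 1 else 0 := by
    intro x
    rw [Cfsg.Agent.Helper81.irr_orthonormal hτ
      (Cfsg.Agent.Helper81.conjFun_isIrrCharacter K hKn hτ x)]
    by_cases hx : x ∈ K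
    · rw [if_pos hx, if_pos]
      funext n
      rw [Cfsg.Agent.Helper81.conjFun_apply]
      have := Cfsg.Agent.Helper3.isClassFunction_of_isIrrCharacter hτ n ⟨x, hx⟩
      rw [← this]
      rfl
    · rw [if_neg hx, if_neg]
      intro h
      exact Cfsg.Agent.Helper81.conjFun_ne_of_centralizer K hKn hC hx hτ hτ1 h.symm
  simp_rw [hterm]
  rw [Finset.sum_boole]
  have hcard : ((Finset.univ.filter (fun x : X => x ∈ K)).card : ℂ) = (Nat.card K : ℂ) := by
    congr 1
    rw [Nat.card_eq_fintype_card, Fintype.card_subtype]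
  rw [hcard, map_inv₀, Complex.conj_natCast]
  have hK : (Nat.card K : ℂ) ≠ 0 := by exact_mod_cast Nat.card_pos.ne'
  field_simp

/-- The function induced from a normal subgroup vanishes off it. -/
theorem indFun_eq_zero_of_not_mem (K : Subgroup X) [hKn : K.Normal] (θ : K → ℂ) {x : X}
    (hx : x ∉ K) : Cfsg.indFun K θ x = 0 := by
  rw [indFun_apply]
  have : ∀ y : X, Cfsg.extendByZero K θ (y⁻¹ * x * y) = 0 := by
    intro y
    apply extendByZero_apply_not_mem
    intro h
    apply hx
    have := hKn.conj_mem _ h y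
    simpa [mul_assoc] using this
  simp [this]

/-- An irreducible character not constant on `K` is induced from a non-principal irreducible
character of `K`. -/
theorem exists_indFun_eq_of_relevant (K : Subgroup X) [hKn : K.Normal]
    (hC : ∀ n ∈ K, n ≠ 1 → Subgroup.centralizer ({n} : Set X) ≤ K) {χ : X → ℂ}
    (hχ : Cfsg.IsIrrCharacter X χ) (hrel : ∃ k ∈ K, χ k ≠ χ 1) :
    ∃ θ : K → ℂ, Cfsg.IsIrrCharacter K θ ∧ θ ≠ (fun _ => 1) ∧ χ = Cfsg.indFun K θ := by
  classical
  haveI : Fintype K := Fintype.ofFinite K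
  haveI : Fintype (IrrCharacter K) := @Fintype.ofFinite _ irr_finite
  have hres : IsCharacter K (fun k : K => χ k) :=
    isCharacter_restrict K (IsIrrCharacter.isCharacter hχ)
  obtain ⟨m, hm⟩ := exists_nat_decomp hres
  -- some non-principal constituent
  have hex : ∃ θ : IrrCharacter K, (θ : K → ℂ) ≠ (fun _ => 1) ∧ m θ ≠ 0 := by
    by_contra hno
    push Not at hno
    obtain ⟨k, hk, hne⟩ := hrel
    apply hne
    have hval : ∀ y : K, χ y = (m ⟨fun _ => 1, isIrrCharacter_one⟩ : ℂ) := by
      intro y
      have := congrFun hm y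
      change χ y = _ at this
      rw [this, Finset.sum_apply, Finset.sum_eq_single ⟨fun _ => 1, isIrrCharacter_one⟩]
      · simp
      · intro b _ hb
        have hb1 : (b : K → ℂ) ≠ fun _ => 1 := fun h => hb (Subtype.ext h)
        rw [hno b hb1]; simp
      · intro h; exact absurd (Finset.mem_univ _) h
    have h1 := hval ⟨k, hk⟩
    have h2 := hval 1
    simp only [Subgroup.coe_one] at h2
    rw [h1, h2]
  obtain ⟨θ, hθ1, hmθ⟩ := hex
  refine ⟨θ, θ.2, hθ1, ?_⟩
  have hirr := indFun_irr_of_centralizer K hC θ θ.2 hθ1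
  have h1 : classInner (Cfsg.indFun K (θ : K → ℂ)) χ = (m θ : ℂ) := by
    rw [frobenius_reciprocity K _ (isClassFunction_of_isCharacter (IsIrrCharacter.isCharacter hχ)),
      classInner_conj_symm (fun k : K => χ k) _, hm,
      classInner_nat_decomp (fun χ' => (m χ' : ℂ)) θ, Complex.conj_natCast]
  rw [irr_orthonormal hirr hχ] at h1
  by_contra hne
  rw [if_neg (fun h => hne h.symm)] at h1
  apply hmθ
  exact_mod_cast h1.symm

end Cfsg.Agent.Helper82
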