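import Mathlib
import Cfsg.Prelude.Def_Characters
import Cfsg.Prelude.Def_OddOrderChar
import Cfsg.Agent.Lib.Helper82.TIFrob
import Cfsg.Agent.Lib.Helper82.Coherence
import Cfsg.Agent.Lib.Helper79.Inflation

/-!
# Characters not containing a normal subgroup `K` in their kernel: constancy on `K ∖ {1}`
-/

set_option autoImplicit false
set_option linter.style.haveILetI false
set_option linter.unusedSectionVars false

namespace Cfsg.Agent.Helper82

open Cfsg Cfsg.Agent.Helper81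
open scoped ComplexConjugate

universe u

section abstract

variable {X : Type u} [Group X] [Fintype X]

/-- An irreducible character not constant on the normal subgroup `K` (containing the centralizers
of its non-identity elements) vanishes off `K`. -/
theorem rel_vanish (K : Subgroup X) [K.Normal]
    (hC : ∀ n ∈ K, n ≠ 1 → Subgroup.centralizer ({n} : Set X) ≤ K) {χ : X → ℂ}
    (hχ : IsIrrCharacter X χ) (hrel : ∃ k ∈ K, χ k ≠ χ 1) {x : X} (hx : x ∉ K) : χ x = 0 := by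
  obtain ⟨θ, _, _, rfl⟩ := exists_indFun_eq_of_relevant K hC hχ hrel
  exact indFun_eq_zero_of_not_mem K θ hx

theorem not_le_irrKer_iff (K : Subgroup X) (ζ : IrrCharacter X) :
    ¬ K ≤ Cfsg.Agent.Helper79.irrKer ζ ↔ ∃ k ∈ K, (ζ : X → ℂ) k ≠ (ζ : X → ℂ) 1 := by
  constructor
  · intro h
    by_contra hno
    push Not at hno
    exact h (fun k hk => (Cfsg.Agent.Helper79.mem_irrKer ζ k).2 (hno k hk))
  · rintro ⟨k, hk, hne⟩ h
    exact hne ((Cfsg.Agent.Helper79.mem_irrKer ζ k).1 (h hk))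

open Classical in
/-- The sum of `ζ(1)²` over the irreducible characters with `K` in the kernel, in `ℂ`. -/
theorem sum_sq_le_ker_complex (K : Subgroup X) [K.Normal] :
    ∑ ζ ∈ Finset.univ.filter (fun ζ : IrrCharacter X => K ≤ Cfsg.Agent.Helper79.irrKer ζ),
      (ζ : X → ℂ) 1 * (ζ : X → ℂ) 1 = (K.index : ℂ) := by
  rw [← Cfsg.Agent.Helper79.sum_sq_degree_of_le_ker K]
  push_cast
  apply Finset.sum_congr rfl
  intro ζ _
  rw [(Cfsg.Agent.Helper79.irr_one_eq ζ).1]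
  ring

open Classical in
/-- A class function `Φ` whose inner products with the characters not containing `K` in the
kernel are proportional to the degrees is constant on `K ∖ {1}`, with an explicit value. -/
theorem rel_const_formula (K : Subgroup X) [K.Normal] {Φ : X → ℂ} (hΦ : IsClassFunction X Φ)
    (hrel : ∀ χ ξ : IrrCharacter X, ¬ K ≤ Cfsg.Agent.Helper79.irrKer χ →
      ¬ K ≤ Cfsg.Agent.Helper79.irrKer ξ →
      (ξ : X → ℂ) 1 * classInner Φ (χ : X → ℂ) = (χ : X → ℂ) 1 * classInner Φ (ξ : X → ℂ))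
    (χ₀ : IrrCharacter X) (hχ₀ : ¬ K ≤ Cfsg.Agent.Helper79.irrKer χ₀) {k : X} (hk : k ∈ K)
    (hk1 : k ≠ 1) :
    Φ k = ∑ ζ ∈ Finset.univ.filter (fun ζ : IrrCharacter X => K ≤ Cfsg.Agent.Helper79.irrKer ζ),
        classInner Φ (ζ : X → ℂ) * (ζ : X → ℂ) 1
      - classInner Φ (χ₀ : X → ℂ) / (χ₀ : X → ℂ) 1 * (K.index : ℂ) := by
  have hexp := congrFun (class_function_expansion hΦ) k
  rw [Finset.sum_apply] at hexp
  simp only [Pi.smul_apply, smul_eq_mul] at hexp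
  rw [← Finset.sum_filter_add_sum_filter_not Finset.univ
    (fun ζ : IrrCharacter X => K ≤ Cfsg.Agent.Helper79.irrKer ζ)] at hexp
  have hd0 : (χ₀ : X → ℂ) 1 ≠ 0 := by
    rw [(Cfsg.Agent.Helper79.irr_one_eq χ₀).1]
    exact_mod_cast (Cfsg.Agent.Helper79.irr_one_eq χ₀).2.ne'
  -- first part
  have h1 : ∑ ζ ∈ Finset.univ.filter (fun ζ : IrrCharacter X => K ≤ Cfsg.Agent.Helper79.irrKer ζ),
      classInner Φ (ζ : X → ℂ) * (ζ : X → ℂ) k
      = ∑ ζ ∈ Finset.univ.filter (fun ζ : IrrCharacter X => K ≤ Cfsg.Agent.Helper79.irrKer ζ),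
        classInner Φ (ζ : X → ℂ) * (ζ : X → ℂ) 1 := by
    apply Finset.sum_congr rfl
    intro ζ hζ
    rw [Finset.mem_filter] at hζ
    rw [(Cfsg.Agent.Helper79.mem_irrKer ζ k).1 (hζ.2 hk)]
  -- second part
  have h2 : ∑ ζ ∈ Finset.univ.filter (fun ζ : IrrCharacter X => ¬ K ≤ Cfsg.Agent.Helper79.irrKer ζ),
      classInner Φ (ζ : X → ℂ) * (ζ : X → ℂ) k
      = classInner Φ (χ₀ : X → ℂ) / (χ₀ : X → ℂ) 1 *
        ∑ ζ ∈ Finset.univ.filter (fun ζ : IrrCharacter X => ¬ K ≤ Cfsg.Agent.Helper79.irrKer ζ),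
          (ζ : X → ℂ) 1 * (ζ : X → ℂ) k := by
    rw [Finset.mul_sum]
    apply Finset.sum_congr rfl
    intro ζ hζ
    rw [Finset.mem_filter] at hζ
    have := hrel ζ χ₀ hζ.2 hχ₀
    have h3 : classInner Φ (ζ : X → ℂ) = classInner Φ (χ₀ : X → ℂ) / (χ₀ : X → ℂ) 1 * (ζ : X → ℂ) 1 := by
      field_simp
      linear_combination this
    rw [h3]
    ring
  have h4 := Cfsg.Agent.Helper79.sum_degree_mul k hk1
  rw [← Finset.sum_filter_add_sum_filter_not Finset.univ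
    (fun ζ : IrrCharacter X => K ≤ Cfsg.Agent.Helper79.irrKer ζ)] at h4
  have h5 : ∑ ζ ∈ Finset.univ.filter (fun ζ : IrrCharacter X => K ≤ Cfsg.Agent.Helper79.irrKer ζ),
      (ζ : X → ℂ) 1 * (ζ : X → ℂ) k = (K.index : ℂ) := by
    rw [← sum_sq_le_ker_complex K]
    apply Finset.sum_congr rfl
    intro ζ hζ
    rw [Finset.mem_filter] at hζ
    rw [(Cfsg.Agent.Helper79.mem_irrKer ζ k).1 (hζ.2 hk)]
  rw [h5] at h4
  rw [hexp, h1, h2]
  have h6 : ∑ ζ ∈ Finset.univ.filter (fun ζ : IrrCharacter X => ¬ K ≤ Cfsg.Agent.Helper79.irrKer ζ),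
          (ζ : X → ℂ) 1 * (ζ : X → ℂ) k = -(K.index : ℂ) := by
    linear_combination h4
  rw [h6]
  ring

/-- A rational algebraic integer is an integer. -/
theorem int_of_isIntegral_ratCast (q : ℚ) (h : IsIntegral ℤ (q : ℂ)) : ∃ z : ℤ, (q : ℂ) = (z : ℂ) := by
  have h1 : (q : ℂ) = algebraMap ℚ ℂ q := rfl
  rw [h1, isIntegral_algebraMap_iff (algebraMap ℚ ℂ).injective] at h
  obtain ⟨m, hm⟩ := IsIntegrallyClosed.isIntegral_iff.mp h
  refine ⟨m, ?_⟩
  rw [← hm]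
  simp

theorem isClassFunction_of_isGeneralizedCharacter {θ : X → ℂ}
    (h : IsGeneralizedCharacter X θ) : IsClassFunction X θ := by
  obtain ⟨α, β, hα, hβ, rfl⟩ := h
  intro g x
  rw [Pi.sub_apply, Pi.sub_apply, isClassFunction_of_isCharacter hα g x,
    isClassFunction_of_isCharacter hβ g x]

theorem isGeneralizedCharacter_restrict (H : Subgroup X) {θ : X → ℂ}
    (h : IsGeneralizedCharacter X θ) : IsGeneralizedCharacter H (fun x : H => θ x) := by
  obtain ⟨α, β, hα, hβ, rfl⟩ := h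
  exact ⟨fun x : H => α x, fun x : H => β x, isCharacter_restrict H hα, isCharacter_restrict H hβ,
    rfl⟩

/-- Two distinct relevant characters: neither is constant on `K ∖ {1}`. -/
theorem rel_nonconst (K : Subgroup X) [K.Normal]
    (hC : ∀ n ∈ K, n ≠ 1 → Subgroup.centralizer ({n} : Set X) ≤ K) {χ ξ : X → ℂ}
    (hχ : IsIrrCharacter X χ) (hχrel : ∃ k ∈ K, χ k ≠ χ 1)
    (hξ : IsIrrCharacter X ξ) (hξrel : ∃ k ∈ K, ξ k ≠ ξ 1) (hne : χ ≠ ξ) :
    ∃ a ∈ K, ∃ b ∈ K, a ≠ 1 ∧ b ≠ 1 ∧ χ a ≠ χ b := by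
  classical
  by_contra hno
  push Not at hno
  obtain ⟨k₀, hk₀, hk₀ne⟩ := hχrel
  have hk₀1 : k₀ ≠ 1 := fun h => hk₀ne (by rw [h])
  have hv : ∀ k ∈ K, k ≠ 1 → χ k = χ k₀ := fun k hk hk1 => hno k hk k₀ hk₀ hk1 hk₀1
  have hX : (Nat.card X : ℂ) ≠ 0 := by exact_mod_cast (Nat.card_pos (α := X)).ne'
  have hpt : ∀ x : X, χ x * conj (ξ x)
      = χ k₀ * ((1 : ℂ) * conj (ξ x)) + (χ 1 - χ k₀) * (if x = 1 then conj (ξ 1) else 0) := by
    intro x
    by_cases hx1 : x = 1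
    · rw [if_pos hx1, hx1]; ring
    · rw [if_neg hx1]
      by_cases hxK : x ∈ K
      · rw [hv x hxK hx1]; ring
      · rw [rel_vanish K hC hξ hξrel hxK]; simp
  have h1 : classInner χ ξ = 0 := by rw [irr_orthonormal hχ hξ, if_neg hne]
  have hξ1 : (fun _ : X => (1 : ℂ)) ≠ ξ := by
    intro h
    obtain ⟨k, _, hk⟩ := hξrel
    apply hk
    rw [← h]
  have h2 : classInner (fun _ : X => (1 : ℂ)) ξ = 0 := by
    rw [irr_orthonormal isIrrCharacter_one hξ, if_neg hξ1]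
  unfold classInner at h1 h2
  have h1' := (mul_eq_zero.1 h1).resolve_left (inv_ne_zero hX)
  have h2' := (mul_eq_zero.1 h2).resolve_left (inv_ne_zero hX)
  simp_rw [hpt] at h1'
  rw [Finset.sum_add_distrib, ← Finset.mul_sum, h2', mul_zero, zero_add, ← Finset.mul_sum,
    Finset.sum_ite_eq' Finset.univ (1 : X), if_pos (Finset.mem_univ _)] at h1'
  obtain ⟨n, hn, hn1⟩ := irr_degree_pos hξ
  have hξ10 : conj (ξ 1) ≠ 0 := by
    rw [hn1, Complex.conj_natCast]
    exact_mod_cast hn.ne'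
  have := (mul_eq_zero.1 h1').resolve_right hξ10
  exact hk₀ne (sub_eq_zero.1 this).symm

end abstract

section concrete

variable {G : Type u} [Group G] [Fintype G] (N : Subgroup G) [Fintype N] (K' : Subgroup N)
  [hKn : K'.Normal]
  (hC' : ∀ n ∈ K', n ≠ 1 → Subgroup.centralizer ({n} : Set N) ≤ K')
  (hind : ∀ ϑ : N → ℂ, IsClassFunction N ϑ → (∀ x : N, x ∉ K' → ϑ x = 0) → ϑ 1 = 0 →
    ∀ x : N, Cfsg.indFun N ϑ x = ϑ x)
  (S : Set (N → ℂ))
  (hS : S = {χ : N → ℂ | IsIrrCharacter N χ ∧ ∃ k ∈ K', χ k ≠ χ 1})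
  (star : (N → ℂ) → (G → ℂ)) (hstar : IsLinearIsometryOn (zspan S) star)
  (hext : ∀ α ∈ zspanOn S ({1}ᶜ : Set N), star α = indFun N α)

include hC' hS in
theorem tifn_S_vanish {χ : N → ℂ} (hχ : χ ∈ S) {x : N} (hx : x ∉ K') : χ x = 0 := by
  rw [hS] at hχ
  exact rel_vanish K' hC' hχ.1 hχ.2 hx

include hS in
theorem tifn_S_irr {χ : N → ℂ} (hχ : χ ∈ S) : IsIrrCharacter N χ := by
  rw [hS] at hχ
  exact hχ.1

include hS in
theorem tifn_S_one {χ : N → ℂ} (hχ : χ ∈ S) :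
    χ 1 = (charDegree χ : ℂ) ∧ 0 < charDegree χ :=
  Cfsg.Agent.Helper79.irr_one_eq ⟨χ, tifn_S_irr N K' S hS hχ⟩

include hC' hS in
theorem tifn_span_vanish {α : N → ℂ} (hα : α ∈ zspan S) {x : N} (hx : x ∉ K') : α x = 0 := by
  rw [mem_zspan] at hα
  induction hα using Submodule.span_induction with
  | mem a ha => exact tifn_S_vanish N K' hC' S hS ha hx
  | zero => rfl
  | add a b _ _ iha ihb => rw [Pi.add_apply, iha, ihb, add_zero]
  | smul n a _ iha => rw [Pi.smul_apply, iha, smul_zero]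

include hS in
theorem tifn_span_classfn {α : N → ℂ} (hα : α ∈ zspan S) : IsClassFunction N α := by
  rw [mem_zspan] at hα
  induction hα using Submodule.span_induction with
  | mem a ha =>
    exact isClassFunction_of_isCharacter (IsIrrCharacter.isCharacter (tifn_S_irr N K' S hS ha))
  | zero => intro g h; rfl
  | add a b _ _ iha ihb => intro g h; rw [Pi.add_apply, Pi.add_apply, iha g h, ihb g h]
  | smul n a _ iha => intro g h; rw [Pi.smul_apply, Pi.smul_apply, iha g h]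

include hC' hind hS hext in
theorem tifn_star_eq {α : N → ℂ} (hα : α ∈ zspanOn S ({1}ᶜ : Set N)) (x : N) :
    star α x = α x := by
  rw [hext α hα]
  exact hind α (tifn_span_classfn N K' S hS hα.1)
    (fun y hy => tifn_span_vanish N K' hC' S hS hα.1 hy) ((mem_zspanOn_compl_one.1 hα).2) x

include hS in
theorem tifn_diff_mem {χ ξ : N → ℂ} (hχ : χ ∈ S) (hξ : ξ ∈ S) :
    (charDegree ξ : ℤ) • χ - (charDegree χ : ℤ) • ξ ∈ zspanOn S ({1}ᶜ : Set N) := by
  rw [mem_zspanOn_compl_one]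
  refine ⟨zspan_sub_mem (zspan_smul_mem _ (subset_zspan hχ)) (zspan_smul_mem _ (subset_zspan hξ)),
    ?_⟩
  rw [Pi.sub_apply, Pi.smul_apply, Pi.smul_apply, (tifn_S_one N K' S hS hχ).1,
    (tifn_S_one N K' S hS hξ).1, zsmul_eq_mul, zsmul_eq_mul]
  push_cast
  ring

include hC' hind hS hstar hext in
theorem tifn_star_diff {χ ξ : N → ℂ} (hχ : χ ∈ S) (hξ : ξ ∈ S) (x : N) :
    ξ 1 * (star χ x - χ x) = χ 1 * (star ξ x - ξ x) := by
  have hlin := zlinOn_of_isLinearIsometryOn hstar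
  have hmem := tifn_diff_mem N K' S hS hχ hξ
  have h := tifn_star_eq N K' hC' hind S hS star hext hmem x
  rw [hlin.map_sub (zspan_smul_mem _ (subset_zspan hχ)) (zspan_smul_mem _ (subset_zspan hξ)),
    hlin.smul χ (subset_zspan hχ), hlin.smul ξ (subset_zspan hξ)] at h
  rw [Pi.sub_apply, Pi.smul_apply, Pi.smul_apply, Pi.sub_apply, Pi.smul_apply, Pi.smul_apply,
    zsmul_eq_mul, zsmul_eq_mul, zsmul_eq_mul, zsmul_eq_mul] at h
  rw [(tifn_S_one N K' S hS hχ).1, (tifn_S_one N K' S hS hξ).1]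
  push_cast at h
  linear_combination h

include hext in
theorem tifn_restrict_inner {ψ : G → ℂ} (hψ : IsClassFunction G ψ) {α : N → ℂ}
    (hα : α ∈ zspanOn S ({1}ᶜ : Set N)) :
    classInner (fun x : N => ψ x) α = classInner ψ (star α) := by
  have h2 := frobenius_reciprocity N α hψ
  rw [classInner_conj_symm α (fun x : N => ψ x), ← h2, ← hext α hα, ← classInner_conj_symm]

include hstar hext in
theorem tifn_Phi_orth {χ₀ : N → ℂ} (hχ₀ : χ₀ ∈ S) {α : N → ℂ}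
    (hα : α ∈ zspanOn S ({1}ᶜ : Set N)) :
    classInner (fun x : N => star χ₀ x - χ₀ x) α = 0 := by
  have h1 : (fun x : N => star χ₀ x - χ₀ x) = (fun x : N => star χ₀ x) - χ₀ := rfl
  have hcl : IsClassFunction G (star χ₀) :=
    isClassFunction_of_isGeneralizedCharacter (hstar.2.2.2 χ₀ (subset_zspan hχ₀))
  rw [h1, classInner_sub_left, tifn_restrict_inner N S star hext hcl hα,
    hstar.2.2.1 χ₀ (subset_zspan hχ₀) α hα.1, sub_self]

include hS in
open Classical in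
theorem tifn_const {Φ : N → ℂ} (hΦ : IsClassFunction N Φ)
    (horth : ∀ χ ∈ S, ∀ ξ ∈ S,
      classInner Φ ((charDegree ξ : ℤ) • χ - (charDegree χ : ℤ) • ξ) = 0)
    {χ₀ : N → ℂ} (hχ₀ : χ₀ ∈ S) {k : N} (hk : k ∈ K') (hk1 : k ≠ 1) :
    Φ k = ∑ ζ ∈ Finset.univ.filter (fun ζ : IrrCharacter N => K' ≤ Cfsg.Agent.Helper79.irrKer ζ),
        classInner Φ (ζ : N → ℂ) * (ζ : N → ℂ) 1
      - classInner Φ χ₀ / χ₀ 1 * (K'.index : ℂ) := by
  have hmemS : ∀ ζ : IrrCharacter N, ¬ K' ≤ Cfsg.Agent.Helper79.irrKer ζ → (ζ : N → ℂ) ∈ S := by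
    intro ζ hζ
    rw [hS]
    exact ⟨ζ.2, (not_le_irrKer_iff K' ζ).1 hζ⟩
  have hχ₀' : ¬ K' ≤ Cfsg.Agent.Helper79.irrKer ⟨χ₀, tifn_S_irr N K' S hS hχ₀⟩ := by
    rw [not_le_irrKer_iff]
    rw [hS] at hχ₀
    exact hχ₀.2
  refine rel_const_formula K' hΦ ?_ ⟨χ₀, tifn_S_irr N K' S hS hχ₀⟩ hχ₀' hk hk1
  intro χ ξ hχ hξ
  have h := horth χ (hmemS χ hχ) ξ (hmemS ξ hξ)
  rw [classInner_sub_right, classInner_zsmul_right, classInner_zsmul_right] at h
  rw [(Cfsg.Agent.Helper79.irr_one_eq χ).1, (Cfsg.Agent.Helper79.irr_one_eq ξ).1]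
  push_cast at h
  linear_combination h

include hS hstar in
theorem tifn_star_integral {χ : N → ℂ} (hχ : χ ∈ S) (g : G) : IsIntegral ℤ (star χ g) := by
  have hirr := tifn_S_irr N K' S hS hχ
  have h1 : classInner (star χ) (star χ) = 1 := by
    rw [hstar.2.2.1 χ (subset_zspan hχ) χ (subset_zspan hχ), irr_orthonormal hirr hirr, if_pos rfl]
  rcases genChar_norm_one (hstar.2.2.2 χ (subset_zspan hχ)) h1 with h | h
  · exact Cfsg.Agent.Helper79.irr_isIntegral ⟨star χ, h⟩ g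
  · have := Cfsg.Agent.Helper79.irr_isIntegral ⟨-star χ, h⟩ g
    have h2 := this.neg
    simpa using h2

include hC' hind hS hstar hext in
open Classical in
theorem tifn_Phi_int {χ : N → ℂ} (hχ : χ ∈ S) :
    ∃ z : ℤ, ∀ k ∈ K', k ≠ 1 → star χ k - χ k = (z : ℂ) := by
  have hirr := tifn_S_irr N K' S hS hχ
  have hgen : IsGeneralizedCharacter N (fun x : N => star χ x - χ x) := by
    have h1 : (fun x : N => star χ x - χ x) = (fun x : N => star χ x) - χ := rfl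
    rw [h1]
    exact isGeneralizedCharacter_sub
      (isGeneralizedCharacter_restrict N (hstar.2.2.2 χ (subset_zspan hχ)))
      (isGeneralizedCharacter_of_isCharacter (IsIrrCharacter.isCharacter hirr))
  have hcl := isClassFunction_of_isGeneralizedCharacter hgen
  have horth : ∀ χ' ∈ S, ∀ ξ ∈ S, classInner (fun x : N => star χ x - χ x)
      ((charDegree ξ : ℤ) • χ' - (charDegree χ' : ℤ) • ξ) = 0 :=
    fun χ' hχ' ξ hξ => tifn_Phi_orth N S star hstar hext hχ (tifn_diff_mem N K' S hS hχ' hξ)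
  have hint : ∀ ζ : IrrCharacter N, ∃ z : ℤ,
      classInner (fun x : N => star χ x - χ x) (ζ : N → ℂ) = (z : ℂ) :=
    fun ζ => genChar_inner_int hgen
      (isGeneralizedCharacter_of_isCharacter (IsIrrCharacter.isCharacter ζ.2))
  choose z hz using hint
  by_cases hex : ∃ k₀ ∈ K', k₀ ≠ 1
  · obtain ⟨k₀, hk₀, hk₀1⟩ := hex
    have hform := fun k hk hk1 => tifn_const N K' S hS hcl horth hχ (k := k) hk hk1
    -- the value is rational
    have hrat : ∃ q : ℚ, ∀ k ∈ K', k ≠ 1 → star χ k - χ k = (q : ℂ) := by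
      refine ⟨∑ ζ ∈ Finset.univ.filter
          (fun ζ : IrrCharacter N => K' ≤ Cfsg.Agent.Helper79.irrKer ζ),
          (z ζ : ℚ) * (charDegree (ζ : N → ℂ) : ℚ)
        - (z ⟨χ, hirr⟩ : ℚ) / (charDegree χ : ℚ) * (K'.index : ℚ), ?_⟩
      intro k hk hk1
      have := hform k hk hk1
      rw [this]
      push_cast
      congr 1
      · apply Finset.sum_congr rfl
        intro ζ _
        rw [hz ζ, (Cfsg.Agent.Helper79.irr_one_eq ζ).1]
      · have := hz ⟨χ, hirr⟩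
        simp only at this
        rw [this, (tifn_S_one N K' S hS hχ).1]
    obtain ⟨q, hq⟩ := hrat
    have hintg : IsIntegral ℤ (q : ℂ) := by
      rw [← hq k₀ hk₀ hk₀1]
      exact (tifn_star_integral N K' S hS star hstar hχ _).sub
        (Cfsg.Agent.Helper79.irr_isIntegral ⟨χ, hirr⟩ k₀)
    obtain ⟨m, hm⟩ := int_of_isIntegral_ratCast q hintg
    exact ⟨m, fun k hk hk1 => by rw [hq k hk hk1, hm]⟩
  · push Not at hex
    exact ⟨0, fun k hk hk1 => absurd (hex k hk) hk1⟩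

include hC' hind hS hstar hext in
open Classical in
theorem tifn_main (hne : ∃ χ, χ ∈ S) :
    ∃ m : ℤ, ∀ χ ∈ S, ∀ k ∈ K', k ≠ 1 →
      star χ k - χ k = (m : ℂ) * χ 1 / (K'.index : ℂ) := by
  have hall : ∀ χ ∈ S, ∃ z : ℤ, ∀ k ∈ K', k ≠ 1 → star χ k - χ k = (z : ℂ) :=
    fun χ hχ => tifn_Phi_int N K' hC' hind S hS star hstar hext hχ
  choose! z hz using hall
  obtain ⟨χ₀, hχ₀⟩ := hne
  have hχ₀' := hχ₀
  rw [hS] at hχ₀'
  obtain ⟨hirr₀, k₀, hk₀, hne₀⟩ := hχ₀'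
  have hk₀1 : k₀ ≠ 1 := fun h => hne₀ (by rw [h])
  -- proportionality
  have hprop : ∀ χ ∈ S, ∀ ξ ∈ S, (charDegree ξ : ℤ) * z χ = (charDegree χ : ℤ) * z ξ := by
    intro χ hχ ξ hξ
    have h := tifn_star_diff N K' hC' hind S hS star hstar hext hχ hξ k₀
    rw [hz χ hχ k₀ hk₀ hk₀1, hz ξ hξ k₀ hk₀ hk₀1, (tifn_S_one N K' S hS hχ).1,
      (tifn_S_one N K' S hS hξ).1] at h
    exact_mod_cast h
  have hd₀pos : 0 < charDegree χ₀ := (tifn_S_one N K' S hS hχ₀).2
  obtain ⟨q₀, hq₀⟩ := Cfsg.Agent.Helper79.irr_degree_dvd_card ⟨χ₀, hirr₀⟩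
  have hT := Cfsg.Agent.Helper79.sum_sq_degree_of_not_le_ker K'
  have hle : K'.index ≤ Nat.card N := Nat.le_of_dvd Nat.card_pos (Subgroup.index_dvd_card K')
  have he0 : K'.index ≠ 0 := Subgroup.index_ne_zero_of_finite
  have hmemS : ∀ ζ : IrrCharacter N, ¬ K' ≤ Cfsg.Agent.Helper79.irrKer ζ → (ζ : N → ℂ) ∈ S := by
    intro ζ hζ
    rw [hS]
    exact ⟨ζ.2, (not_le_irrKer_iff K' ζ).1 hζ⟩
  have hTz : ((∑ ζ ∈ Finset.univ.filter
      (fun ζ : IrrCharacter N => ¬ K' ≤ Cfsg.Agent.Helper79.irrKer ζ),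
      (charDegree (ζ : N → ℂ)) ^ 2 : ℕ) : ℤ) = (Nat.card N : ℤ) - (K'.index : ℤ) := by
    rw [hT]
    push_cast [hle]
    ring
  set m : ℤ := z χ₀ * q₀ - ∑ ζ ∈ Finset.univ.filter
      (fun ζ : IrrCharacter N => ¬ K' ≤ Cfsg.Agent.Helper79.irrKer ζ),
      z (ζ : N → ℂ) * (charDegree (ζ : N → ℂ) : ℤ) with hm
  have hkey : m * (charDegree χ₀ : ℤ) = z χ₀ * (K'.index : ℤ) := by
    have h1 : (∑ ζ ∈ Finset.univ.filter
        (fun ζ : IrrCharacter N => ¬ K' ≤ Cfsg.Agent.Helper79.irrKer ζ),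
        z (ζ : N → ℂ) * (charDegree (ζ : N → ℂ) : ℤ)) * (charDegree χ₀ : ℤ)
        = z χ₀ * ((Nat.card N : ℤ) - (K'.index : ℤ)) := by
      rw [← hTz, Finset.sum_mul]
      push_cast
      rw [Finset.mul_sum]
      apply Finset.sum_congr rfl
      intro ζ hζ
      rw [Finset.mem_filter] at hζ
      have := hprop (ζ : N → ℂ) (hmemS ζ hζ.2) χ₀ hχ₀
      linear_combination (charDegree (ζ : N → ℂ) : ℤ) * this
    have h2 : (Nat.card N : ℤ) = (charDegree χ₀ : ℤ) * (q₀ : ℤ) := by exact_mod_cast hq₀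
    rw [hm, sub_mul, h1, h2]
    ring
  refine ⟨m, ?_⟩
  intro χ hχ k hk hk1
  rw [hz χ hχ k hk hk1, (tifn_S_one N K' S hS hχ).1]
  have h3 : m * (charDegree χ : ℤ) = (K'.index : ℤ) * z χ := by
    have h4 := hprop χ hχ χ₀ hχ₀
    have hd0 : (charDegree χ₀ : ℤ) ≠ 0 := by exact_mod_cast hd₀pos.ne'
    apply mul_right_cancel₀ hd0
    linear_combination (charDegree χ : ℤ) * hkey - (K'.index : ℤ) * h4
  have he0' : (K'.index : ℂ) ≠ 0 := by exact_mod_cast he0
  rw [eq_div_iff he0']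
  have h5 : ((m * (charDegree χ : ℤ) : ℤ) : ℂ) = (((K'.index : ℤ) * z χ : ℤ) : ℂ) := by rw [h3]
  push_cast at h5
  linear_combination -h5

include hC' hind hS hstar hext in
open Classical in
theorem tifn_exceptional_iff (htwo : ∃ χ ∈ S, ∃ ξ ∈ S, χ ≠ ξ) {ψ : G → ℂ}
    (hψ : IsIrrCharacter G ψ) :
    (∃ χ ∈ S, ψ = star χ ∨ ψ = -star χ) ↔
      ∃ a ∈ K', ∃ b ∈ K', a ≠ 1 ∧ b ≠ 1 ∧ ψ a ≠ ψ b := by
  constructor
  · rintro ⟨χ, hχ, hor⟩
    -- another member of `S`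
    have hex : ∃ ξ ∈ S, χ ≠ ξ := by
      obtain ⟨χ₁, h₁, χ₂, h₂, h12⟩ := htwo
      by_cases h : χ = χ₁
      · exact ⟨χ₂, h₂, fun h' => h12 (h.symm.trans h')⟩
      · exact ⟨χ₁, h₁, h⟩
    obtain ⟨ξ, hξ, hne⟩ := hex
    have hχ' := hχ
    have hξ' := hξ
    rw [hS] at hχ' hξ'
    obtain ⟨a, ha, b, hb, ha1, hb1, hab⟩ :=
      rel_nonconst K' hC' hχ'.1 hχ'.2 hξ'.1 hξ'.2 hne
    obtain ⟨z, hz⟩ := tifn_Phi_int N K' hC' hind S hS star hstar hext hχ
    have h1 := hz a ha ha1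
    have h2 := hz b hb hb1
    have h3 : star χ a ≠ star χ b := by
      intro h
      apply hab
      rw [h] at h1
      have := h1.trans h2.symm
      exact sub_right_injective this |>.symm ▸ rfl
    refine ⟨a, ha, b, hb, ha1, hb1, ?_⟩
    rcases hor with h | h
    · rw [h]; exact h3
    · rw [h, Pi.neg_apply, Pi.neg_apply]
      exact fun h' => h3 (neg_injective h')
  · rintro ⟨a, ha, b, hb, ha1, hb1, hab⟩
    by_contra hno
    push Not at hno
    apply hab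
    -- `ψ` is orthogonal to every `star χ`
    have horth0 : ∀ χ ∈ S, classInner ψ (star χ) = 0 := by
      intro χ hχ
      have hirr := tifn_S_irr N K' S hS hχ
      have h1 : classInner (star χ) (star χ) = 1 := by
        rw [hstar.2.2.1 χ (subset_zspan hχ) χ (subset_zspan hχ), irr_orthonormal hirr hirr,
          if_pos rfl]
      rcases genChar_norm_one (hstar.2.2.2 χ (subset_zspan hχ)) h1 with h | h
      · rw [irr_orthonormal hψ h, if_neg (hno χ hχ).1]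
      · have := irr_orthonormal hψ h
        rw [if_neg (hno χ hχ).2, classInner_neg_right] at this
        exact neg_eq_zero.1 this
    have hlin := zlinOn_of_isLinearIsometryOn hstar
    have hclG : IsClassFunction G ψ := isClassFunction_of_isCharacter (IsIrrCharacter.isCharacter hψ)
    have hcl : IsClassFunction N (fun x : N => ψ x) :=
      isClassFunction_of_isCharacter (isCharacter_restrict N (IsIrrCharacter.isCharacter hψ))
    have horth : ∀ χ ∈ S, ∀ ξ ∈ S, classInner (fun x : N => ψ x)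
        ((charDegree ξ : ℤ) • χ - (charDegree χ : ℤ) • ξ) = 0 := by
      intro χ hχ ξ hξ
      rw [tifn_restrict_inner N S star hext hclG (tifn_diff_mem N K' S hS hχ hξ),
        hlin.map_sub (zspan_smul_mem _ (subset_zspan hχ)) (zspan_smul_mem _ (subset_zspan hξ)),
        hlin.smul χ (subset_zspan hχ), hlin.smul ξ (subset_zspan hξ), classInner_sub_right,
        classInner_zsmul_right, classInner_zsmul_right, horth0 χ hχ, horth0 ξ hξ]
      ring
    obtain ⟨χ₀, hχ₀, _⟩ := htwo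
    have e1 := tifn_const N K' S hS hcl horth hχ₀ ha ha1
    have e2 := tifn_const N K' S hS hcl horth hχ₀ hb hb1
    exact e1.trans e2.symm

end concrete

end Cfsg.Agent.Helper82
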