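import Mathlib
import Cfsg.Agent.Lib.Helper82.TIFrobCoh
import Cfsg.Agent.S0850

/-!
# A T.I. subgroup with Frobenius normalizer: the hypotheses of `TIFrobCoh`
-/

set_option autoImplicit false
set_option linter.unusedSectionVars false

namespace Cfsg.Agent.Helper82

open Cfsg

universe u

variable {G : Type u} [Group G]

/-- The centralizer hypothesis transfers to any subgroup. -/
theorem tifn_hC' (K N : Subgroup G)
    (hC : ∀ k ∈ K, k ≠ 1 → Subgroup.centralizer ({k} : Set G) ≤ K) :
    ∀ n ∈ K.subgroupOf N, n ≠ 1 → Subgroup.centralizer ({n} : Set N) ≤ K.subgroupOf N := by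
  intro n hn hn1 x hx
  rw [Subgroup.mem_subgroupOf]
  apply hC (n : G) hn (fun h => hn1 (Subtype.ext h))
  rw [Subgroup.mem_centralizer_iff] at hx ⊢
  intro z hz
  rw [Set.mem_singleton_iff] at hz
  subst hz
  have := hx n rfl
  exact congrArg Subtype.val this

/-- Induction from the normalizer of a T.I. subgroup with Frobenius normalizer is the identity on
class functions supported on `K ∖ {1}` (restatement of `S0850`). -/
theorem tifn_hind [Fintype G] (K : Subgroup G)
    (hTI : ∀ g : G, g ∉ Subgroup.normalizer (K : Set G) → ∀ k ∈ K, g * k * g⁻¹ ∈ K → k = 1)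
    (hlt : K < Subgroup.normalizer (K : Set G))
    (hC : ∀ k ∈ K, k ≠ 1 → Subgroup.centralizer ({k} : Set G) ≤ K) :
    ∀ ϑ : Subgroup.normalizer (K : Set G) → ℂ,
      IsClassFunction (Subgroup.normalizer (K : Set G)) ϑ →
      (∀ x : Subgroup.normalizer (K : Set G),
        x ∉ K.subgroupOf (Subgroup.normalizer (K : Set G)) → ϑ x = 0) → ϑ 1 = 0 →
      ∀ x : Subgroup.normalizer (K : Set G),
        Cfsg.indFun (Subgroup.normalizer (K : Set G)) ϑ x = ϑ x :=
  fun ϑ hcl hvan h1 x => (Cfsg.Agent.S0850.result K hTI hlt hC).2 ϑ hcl hvan h1 x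

/-- The set of relevant characters in the two forms. -/
theorem tifn_hS (K N : Subgroup G) (S : Set (N → ℂ))
    (hS : S = {χ : N → ℂ | Cfsg.IsIrrCharacter N χ ∧ ∃ k : N, (k : G) ∈ K ∧ χ k ≠ χ 1}) :
    S = {χ : N → ℂ | IsIrrCharacter N χ ∧ ∃ k ∈ K.subgroupOf N, χ k ≠ χ 1} := by
  rw [hS]
  rfl

end Cfsg.Agent.Helper82
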