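import Mathlib
import Cfsg.Agent.Lib.Helper82.TIFrobNorm
import Cfsg.Agent.Lib.Helper82.BrauerSuzuki
import Cfsg.Agent.Lib.Helper3.CharArtin
import Cfsg.Agent.Lib.Helper81.CharAbel

/-!
# Exceptional characters for an abelian T.I. subgroup with Frobenius normalizer
-/

set_option autoImplicit false
set_option linter.style.haveILetI false
set_option linter.unusedSectionVars false

namespace Cfsg.Agent.Helper82

open Cfsg Cfsg.Agent.Helper81
open scoped ComplexConjugate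

universe u

section abstract

variable {X : Type u} [Group X] [Fintype X]

/-- With `K` abelian, every relevant character has degree `|X| / |K|`. -/
theorem relevant_degree (K : Subgroup X) [K.Normal]
    (hC : ∀ n ∈ K, n ≠ 1 → Subgroup.centralizer ({n} : Set X) ≤ K)
    (hab : ∀ a ∈ K, ∀ b ∈ K, a * b = b * a) {χ : X → ℂ}
    (hχ : IsIrrCharacter X χ) (hrel : ∃ k ∈ K, χ k ≠ χ 1) :
    χ 1 = (Nat.card K : ℂ)⁻¹ * (Nat.card X : ℂ) := by
  obtain ⟨θ, hθ, _, rfl⟩ := exists_indFun_eq_of_relevant K hC hχ hrel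
  have hcomm : ∀ a b : K, a * b = b * a := fun a b => Subtype.ext (hab a a.2 b b.2)
  obtain ⟨lam, hlam⟩ := Cfsg.Agent.Helper3.irr_abelian_hom hcomm θ hθ
  rw [indFun_apply]
  have h1 : ∀ x : X, extendByZero K θ (x⁻¹ * 1 * x) = 1 := by
    intro x
    have h2 : x⁻¹ * 1 * x = 1 := by simp
    rw [h2, extendByZero_apply_mem K θ K.one_mem, hlam]
    have : (⟨1, K.one_mem⟩ : K) = 1 := rfl
    show ((lam ⟨1, K.one_mem⟩ : ℂˣ) : ℂ) = 1
    rw [this, map_one]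
    rfl
  rw [Finset.sum_congr rfl (fun x _ => h1 x)]
  simp only [Finset.sum_const, Finset.card_univ, nsmul_eq_mul, mul_one]
  rw [Nat.card_eq_fintype_card (α := X)]

end abstract

section concrete

variable {G : Type u} [Group G] [Fintype G] (N : Subgroup G) [Fintype N] (K' : Subgroup N)
  [hKn : K'.Normal]
  (hC' : ∀ n ∈ K', n ≠ 1 → Subgroup.centralizer ({n} : Set N) ≤ K')
  (hind : ∀ ϑ : N → ℂ, IsClassFunction N ϑ → (∀ x : N, x ∉ K' → ϑ x = 0) → ϑ 1 = 0 →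
    ∀ x : N, Cfsg.indFun N ϑ x = ϑ x)

include hind in
/-- Induction is an isometry on class functions supported on `K' ∖ {1}`. -/
theorem tifn_ind_inner (α : N → ℂ) {β : N → ℂ} (hβ : IsClassFunction N β)
    (hvan : ∀ x : N, x ∉ K' → β x = 0) (hβ1 : β 1 = 0) :
    classInner (indFun N α) (indFun N β) = classInner α β := by
  rw [frobenius_reciprocity N α (indFun_isClassFunction N β)]
  congr 1
  funext x
  exact hind β hβ hvan hβ1 x

include hC' hind in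
/-- The exceptional characters attached to an abelian `K'`. -/
theorem tifn_exceptional_abelian (hab : ∀ a ∈ K', ∀ b ∈ K', a * b = b * a) :
    ∃ (ε : ℂ) (f : {χ : IrrCharacter N // ∃ k ∈ K', (χ : N → ℂ) k ≠ (χ : N → ℂ) 1} →
        IrrCharacter G), (ε = 1 ∨ ε = -1) ∧ Function.Injective f ∧
      ∀ χ ξ, indFun N ((χ.1 : N → ℂ) - (ξ.1 : N → ℂ)) =
        ε • ((f χ : G → ℂ) - (f ξ : G → ℂ)) := by
  classical
  -- facts about differences
  have hdeg : ∀ χ : {χ : IrrCharacter N // ∃ k ∈ K', (χ : N → ℂ) k ≠ (χ : N → ℂ) 1},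
      (χ.1 : N → ℂ) 1 = (Nat.card K' : ℂ)⁻¹ * (Nat.card N : ℂ) :=
    fun χ => relevant_degree K' hC' hab χ.1.2 χ.2
  have hcl : ∀ χ ξ : {χ : IrrCharacter N // ∃ k ∈ K', (χ : N → ℂ) k ≠ (χ : N → ℂ) 1},
      IsClassFunction N ((χ.1 : N → ℂ) - (ξ.1 : N → ℂ)) := by
    intro χ ξ g h
    rw [Pi.sub_apply, Pi.sub_apply,
      isClassFunction_of_isCharacter (IsIrrCharacter.isCharacter χ.1.2) g h,
      isClassFunction_of_isCharacter (IsIrrCharacter.isCharacter ξ.1.2) g h]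
  have hvan : ∀ χ ξ : {χ : IrrCharacter N // ∃ k ∈ K', (χ : N → ℂ) k ≠ (χ : N → ℂ) 1},
      ∀ x : N, x ∉ K' → ((χ.1 : N → ℂ) - (ξ.1 : N → ℂ)) x = 0 := by
    intro χ ξ x hx
    rw [Pi.sub_apply, rel_vanish K' hC' χ.1.2 χ.2 hx, rel_vanish K' hC' ξ.1.2 ξ.2 hx, sub_zero]
  have hone : ∀ χ ξ : {χ : IrrCharacter N // ∃ k ∈ K', (χ : N → ℂ) k ≠ (χ : N → ℂ) 1},
      ((χ.1 : N → ℂ) - (ξ.1 : N → ℂ)) 1 = 0 := by
    intro χ ξ
    rw [Pi.sub_apply, hdeg χ, hdeg ξ, sub_self]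
  have hinner : ∀ χ ξ χ' ξ' : {χ : IrrCharacter N // ∃ k ∈ K', (χ : N → ℂ) k ≠ (χ : N → ℂ) 1},
      classInner (indFun N ((χ.1 : N → ℂ) - (ξ.1 : N → ℂ)))
        (indFun N ((χ'.1 : N → ℂ) - (ξ'.1 : N → ℂ))) =
      classInner ((χ.1 : N → ℂ) - (ξ.1 : N → ℂ)) ((χ'.1 : N → ℂ) - (ξ'.1 : N → ℂ)) :=
    fun χ ξ χ' ξ' => tifn_ind_inner N K' hind _ (hcl χ' ξ') (hvan χ' ξ') (hone χ' ξ')
  have hne : ∀ χ ξ : {χ : IrrCharacter N // ∃ k ∈ K', (χ : N → ℂ) k ≠ (χ : N → ℂ) 1},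
      χ ≠ ξ → (χ.1 : N → ℂ) ≠ (ξ.1 : N → ℂ) :=
    fun χ ξ h h' => h (Subtype.ext (Subtype.ext h'))
  apply brauer_suzuki
    (fun χ ξ : {χ : IrrCharacter N // ∃ k ∈ K', (χ : N → ℂ) k ≠ (χ : N → ℂ) 1} =>
      indFun N ((χ.1 : N → ℂ) - (ξ.1 : N → ℂ)))
  · intro χ ξ ζ
    rw [← indFun_add]
    congr 1
    abel
  · intro χ ξ h
    rw [hinner, classInner_sub_left, classInner_sub_right, classInner_sub_right,
      irr_orthonormal χ.1.2 χ.1.2, irr_orthonormal χ.1.2 ξ.1.2, irr_orthonormal ξ.1.2 χ.1.2,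
      irr_orthonormal ξ.1.2 ξ.1.2, if_pos rfl, if_pos rfl, if_neg (hne χ ξ h),
      if_neg (hne ξ χ h.symm)]
    norm_num
  · intro χ ξ ζ h1 h2 h3
    rw [hinner, classInner_sub_left, classInner_sub_right, classInner_sub_right,
      irr_orthonormal χ.1.2 χ.1.2, irr_orthonormal χ.1.2 ζ.1.2, irr_orthonormal ξ.1.2 χ.1.2,
      irr_orthonormal ξ.1.2 ζ.1.2, if_pos rfl, if_neg (hne χ ζ h2), if_neg (hne ξ χ h1.symm),
      if_neg (hne ξ ζ h3)]
    norm_num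
  · intro χ ξ
    have h : (χ.1 : N → ℂ) - (ξ.1 : N → ℂ) = (χ.1 : N → ℂ) + (-1 : ℂ) • (ξ.1 : N → ℂ) := by
      rw [neg_one_smul, sub_eq_add_neg]
    rw [h, indFun_add, indFun_smul, neg_one_smul, ← sub_eq_add_neg]
    exact ⟨_, _, isCharacter_indFun N (IsIrrCharacter.isCharacter χ.1.2),
      isCharacter_indFun N (IsIrrCharacter.isCharacter ξ.1.2), rfl⟩
  · intro χ ξ
    have := hind _ (hcl χ ξ) (hvan χ ξ) (hone χ ξ) 1
    rw [hone χ ξ] at this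
    exact this

end concrete

end Cfsg.Agent.Helper82
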