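import Mathlib
import Cfsg.Agent.Lib.Helper82.TIFrobAbel

/-!
# The exceptional characters of one abelian T.I. subgroup, packaged for the CA-group argument
-/

set_option autoImplicit false
set_option linter.style.haveILetI false
set_option linter.unusedSectionVars false

namespace Cfsg.Agent.Helper82

open Cfsg Cfsg.Agent.Helper81
open scoped ComplexConjugate

universe u

section abstract

variable {X : Type u} [Group X] [Fintype X]

theorem index_cast_eq (K : Subgroup X) :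
    (K.index : ℂ) = (Nat.card K : ℂ)⁻¹ * (Nat.card X : ℂ) := by
  have h := Subgroup.card_mul_index K
  have hK : (Nat.card K : ℂ) ≠ 0 := by exact_mod_cast Nat.card_pos.ne'
  rw [← h]
  push_cast
  field_simp

open Classical in
/-- A class function with integral multiplicities, whose multiplicities on the relevant characters
agree, is constant and integral on `K ∖ {1}` (for abelian `K`). -/
theorem rel_const_int (K : Subgroup X) [K.Normal]
    (hC : ∀ n ∈ K, n ≠ 1 → Subgroup.centralizer ({n} : Set X) ≤ K)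
    (hab : ∀ a ∈ K, ∀ b ∈ K, a * b = b * a) {Φ : X → ℂ} (hΦ : IsClassFunction X Φ)
    (hint : ∀ ζ : IrrCharacter X, ∃ z : ℤ, classInner Φ (ζ : X → ℂ) = (z : ℂ))
    (heq : ∀ χ ξ : IrrCharacter X, (∃ k ∈ K, (χ : X → ℂ) k ≠ (χ : X → ℂ) 1) →
      (∃ k ∈ K, (ξ : X → ℂ) k ≠ (ξ : X → ℂ) 1) →
      classInner Φ (χ : X → ℂ) = classInner Φ (ξ : X → ℂ))
    (χ₀ : IrrCharacter X) (hχ₀ : ∃ k ∈ K, (χ₀ : X → ℂ) k ≠ (χ₀ : X → ℂ) 1) :
    ∃ z : ℤ, ∀ k ∈ K, k ≠ 1 → Φ k = (z : ℂ) := by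
  choose zf hzf using hint
  refine ⟨∑ ζ ∈ Finset.univ.filter (fun ζ : IrrCharacter X => K ≤ Cfsg.Agent.Helper79.irrKer ζ),
      zf ζ * (charDegree (ζ : X → ℂ) : ℤ) - zf χ₀, ?_⟩
  intro k hk hk1
  have hdeg : ∀ χ : IrrCharacter X, (∃ k ∈ K, (χ : X → ℂ) k ≠ (χ : X → ℂ) 1) →
      (χ : X → ℂ) 1 = (K.index : ℂ) := by
    intro χ hχ
    rw [relevant_degree K hC hab χ.2 hχ, index_cast_eq]
  have hχ₀' : ¬ K ≤ Cfsg.Agent.Helper79.irrKer χ₀ := (not_le_irrKer_iff K χ₀).2 hχ₀
  have hform := rel_const_formula K hΦ (fun χ ξ hχ hξ => by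
      rw [hdeg χ ((not_le_irrKer_iff K χ).1 hχ), hdeg ξ ((not_le_irrKer_iff K ξ).1 hξ),
        heq χ ξ ((not_le_irrKer_iff K χ).1 hχ) ((not_le_irrKer_iff K ξ).1 hξ)]) χ₀ hχ₀' hk hk1
  rw [hform, hdeg χ₀ hχ₀]
  have hi0 : (K.index : ℂ) ≠ 0 := by exact_mod_cast Subgroup.index_ne_zero_of_finite (H := K)
  rw [div_mul_cancel₀ _ hi0]
  push_cast
  congr 1
  · apply Finset.sum_congr rfl
    intro ζ _
    rw [hzf ζ, (Cfsg.Agent.Helper79.irr_one_eq ζ).1]
  · exact hzf χ₀

open Classical in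
/-- The number `t` of relevant characters: `t * |X : K| + 1 = |K|`. -/
theorem rel_card (K : Subgroup X) [K.Normal]
    (hC : ∀ n ∈ K, n ≠ 1 → Subgroup.centralizer ({n} : Set X) ≤ K)
    (hab : ∀ a ∈ K, ∀ b ∈ K, a * b = b * a) :
    Nat.card {χ : IrrCharacter X // ∃ k ∈ K, (χ : X → ℂ) k ≠ (χ : X → ℂ) 1} * K.index + 1 =
      Nat.card K := by
  have h1 : Nat.card {χ : IrrCharacter X // ∃ k ∈ K, (χ : X → ℂ) k ≠ (χ : X → ℂ) 1} =
      (Finset.univ.filter
        (fun χ : IrrCharacter X => ¬ K ≤ Cfsg.Agent.Helper79.irrKer χ)).card := by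
    rw [Nat.card_eq_fintype_card, Fintype.card_subtype]
    congr 1
    ext χ
    simp only [Finset.mem_filter, Finset.mem_univ, true_and]
    exact (not_le_irrKer_iff K χ).symm
  have hT := Cfsg.Agent.Helper79.sum_sq_degree_of_not_le_ker K
  have hdeg : ∀ χ ∈ Finset.univ.filter
      (fun χ : IrrCharacter X => ¬ K ≤ Cfsg.Agent.Helper79.irrKer χ),
      (charDegree (χ : X → ℂ)) ^ 2 = K.index ^ 2 := by
    intro χ hχ
    rw [Finset.mem_filter] at hχ
    have h2 := relevant_degree K hC hab χ.2 ((not_le_irrKer_iff K χ).1 hχ.2)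
    rw [← index_cast_eq, (Cfsg.Agent.Helper79.irr_one_eq χ).1] at h2
    have : charDegree (χ : X → ℂ) = K.index := by exact_mod_cast h2
    rw [this]
  rw [Finset.sum_congr rfl hdeg, Finset.sum_const, smul_eq_mul] at hT
  rw [h1]
  have hidx : 0 < K.index := Nat.pos_of_ne_zero Subgroup.index_ne_zero_of_finite
  have hcm := Subgroup.card_mul_index K
  have hle : K.index ≤ Nat.card X := Nat.le_of_dvd Nat.card_pos (Subgroup.index_dvd_card K)
  have h3 : (Finset.univ.filter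
      (fun χ : IrrCharacter X => ¬ K ≤ Cfsg.Agent.Helper79.irrKer χ)).card * K.index ^ 2 +
      K.index = Nat.card X := by
    rw [hT]
    exact Nat.sub_add_cancel hle
  apply Nat.eq_of_mul_eq_mul_right hidx
  rw [hcm, ← h3]
  ring

end abstract

section concrete

variable {G : Type u} [Group G] [Fintype G] (N : Subgroup G)

/-- An induced function vanishes at elements none of whose conjugates lie in the support. -/
theorem indFun_eq_zero_of_forall (ϑ : N → ℂ) (y : G)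
    (h : ∀ x : G, ∀ hx : x⁻¹ * y * x ∈ N, ϑ ⟨x⁻¹ * y * x, hx⟩ = 0) : indFun N ϑ y = 0 := by
  rw [indFun_apply]
  have h0 : ∀ x : G, extendByZero N ϑ (x⁻¹ * y * x) = 0 := by
    intro x
    by_cases hx : x⁻¹ * y * x ∈ N
    · rw [extendByZero_apply_mem N ϑ hx]
      exact h x hx
    · exact extendByZero_apply_not_mem N ϑ hx
  rw [Finset.sum_congr rfl (fun x _ => h0 x), Finset.sum_const_zero, mul_zero]

variable [Fintype N]

theorem restrict_inner_ind {ψ : G → ℂ} (hψ : IsClassFunction G ψ) (α : N → ℂ) :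
    classInner (fun x : N => ψ x) α = classInner ψ (indFun N α) := by
  rw [classInner_conj_symm α (fun x : N => ψ x), ← frobenius_reciprocity N α hψ,
    ← classInner_conj_symm]

variable (K' : Subgroup N) [hKn : K'.Normal]
  (hC' : ∀ n ∈ K', n ≠ 1 → Subgroup.centralizer ({n} : Set N) ≤ K')
  (hab : ∀ a ∈ K', ∀ b ∈ K', a * b = b * a)
  (ε : ℂ) (hε : ε = 1 ∨ ε = -1)
  (f : {χ : IrrCharacter N // ∃ k ∈ K', (χ : N → ℂ) k ≠ (χ : N → ℂ) 1} → IrrCharacter G)
  (hinj : Function.Injective f)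
  (hf : ∀ χ ξ, indFun N ((χ.1 : N → ℂ) - (ξ.1 : N → ℂ)) = ε • ((f χ : G → ℂ) - (f ξ : G → ℂ)))

include hε hf in
theorem caf_inner {ψ : G → ℂ} (hψ : IsClassFunction G ψ)
    (χ ξ : {χ : IrrCharacter N // ∃ k ∈ K', (χ : N → ℂ) k ≠ (χ : N → ℂ) 1}) :
    classInner (fun x : N => ψ x) ((χ.1 : N → ℂ) - (ξ.1 : N → ℂ)) =
      ε * (classInner ψ (f χ : G → ℂ) - classInner ψ (f ξ : G → ℂ)) := by
  rw [restrict_inner_ind N hψ, hf, classInner_smul_right, classInner_sub_right]
  have : conj ε = ε := by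
    rcases hε with h | h
    · rw [h, map_one]
    · rw [h, map_neg, map_one]
  rw [this]

include hε in
theorem caf_eps_ne : ε ≠ 0 := by
  rcases hε with h | h <;> rw [h] <;> norm_num

include hC' hab hε hf in
theorem caf_const {Φ : G → ℂ} (hΦ : IsGeneralizedCharacter G Φ)
    (heq : ∀ χ ξ, classInner Φ (f χ : G → ℂ) = classInner Φ (f ξ : G → ℂ))
    (χ₀ : {χ : IrrCharacter N // ∃ k ∈ K', (χ : N → ℂ) k ≠ (χ : N → ℂ) 1}) :
    ∃ z : ℤ, ∀ k : N, k ∈ K' → k ≠ 1 → Φ k = (z : ℂ) := by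
  have hgen := isGeneralizedCharacter_restrict N hΦ
  have hcl := isClassFunction_of_isGeneralizedCharacter hgen
  have hclG := isClassFunction_of_isGeneralizedCharacter hΦ
  refine rel_const_int K' hC' hab hcl (fun ζ => genChar_inner_int hgen
    (isGeneralizedCharacter_of_isCharacter (IsIrrCharacter.isCharacter ζ.2))) ?_ χ₀.1 χ₀.2
  intro χ ξ hχ hξ
  have h := caf_inner N K' ε hε f hf hclG ⟨χ, hχ⟩ ⟨ξ, hξ⟩
  rw [heq ⟨χ, hχ⟩ ⟨ξ, hξ⟩, sub_self, mul_zero, classInner_sub_right] at h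
  exact sub_eq_zero.1 h

include hC' hab hε hf in
theorem caf_supp (χ ξ : {χ : IrrCharacter N // ∃ k ∈ K', (χ : N → ℂ) k ≠ (χ : N → ℂ) 1}) (y : G)
    (hy : y = 1 ∨ ∀ x : G, ∀ hx : x⁻¹ * y * x ∈ N, (⟨x⁻¹ * y * x, hx⟩ : N) ∉ K') :
    (f χ : G → ℂ) y = (f ξ : G → ℂ) y := by
  have h0 : indFun N ((χ.1 : N → ℂ) - (ξ.1 : N → ℂ)) y = 0 := by
    apply indFun_eq_zero_of_forall
    intro x hx
    rw [Pi.sub_apply]
    rcases hy with hy | hy
    · have h1 : (⟨x⁻¹ * y * x, hx⟩ : N) = 1 := Subtype.ext (by simp [hy])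
      rw [h1, relevant_degree K' hC' hab χ.1.2 χ.2, relevant_degree K' hC' hab ξ.1.2 ξ.2,
        sub_self]
    · rw [rel_vanish K' hC' χ.1.2 χ.2 (hy x hx), rel_vanish K' hC' ξ.1.2 ξ.2 (hy x hx), sub_self]
  rw [hf, Pi.smul_apply, Pi.sub_apply, smul_eq_mul] at h0
  exact sub_eq_zero.1 ((mul_eq_zero.1 h0).resolve_left (caf_eps_ne ε hε))

include hε hinj hf in
theorem caf_ne_one (χ ξ : {χ : IrrCharacter N // ∃ k ∈ K', (χ : N → ℂ) k ≠ (χ : N → ℂ) 1})
    (hne : ξ ≠ χ) : (f χ : G → ℂ) ≠ fun _ => 1 := by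
  intro h1
  have hcl : IsClassFunction G (fun _ : G => (1 : ℂ)) := fun _ _ => rfl
  have h := caf_inner N K' ε hε f hf hcl χ ξ
  have hχ1 : (fun _ : N => (1 : ℂ)) ≠ (χ.1 : N → ℂ) := by
    intro h'
    obtain ⟨k, _, hk⟩ := χ.2
    apply hk
    rw [← h']
  have hξ1 : (fun _ : N => (1 : ℂ)) ≠ (ξ.1 : N → ℂ) := by
    intro h'
    obtain ⟨k, _, hk⟩ := ξ.2
    apply hk
    rw [← h']
  have hfξ : (fun _ : G => (1 : ℂ)) ≠ (f ξ : G → ℂ) := by
    intro h'
    apply hne
    apply hinj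
    apply Subtype.ext
    rw [← h', h1]
  rw [classInner_sub_right, irr_orthonormal isIrrCharacter_one χ.1.2, if_neg hχ1,
    irr_orthonormal isIrrCharacter_one ξ.1.2, if_neg hξ1, sub_self,
    irr_orthonormal isIrrCharacter_one (f χ).2, if_pos h1.symm,
    irr_orthonormal isIrrCharacter_one (f ξ).2, if_neg hfξ, sub_zero, mul_one] at h
  exact caf_eps_ne ε hε h.symm

end concrete

section family

variable {G : Type u} [Group G] [Fintype G]

/-- The exceptional characters of an abelian T.I. subgroup `K` with Frobenius normalizer in a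
group of odd order, with everything expressed inside `G`. -/
theorem ca_family (hodd : Odd (Nat.card G)) (K : Subgroup G)
    (hTI : ∀ g : G, g ∉ Subgroup.normalizer (K : Set G) → ∀ k ∈ K, g * k * g⁻¹ ∈ K → k = 1)
    (hlt : K < Subgroup.normalizer (K : Set G))
    (hC : ∀ k ∈ K, k ≠ 1 → Subgroup.centralizer ({k} : Set G) ≤ K)
    (hab : ∀ a ∈ K, ∀ b ∈ K, a * b = b * a) (hne : ∃ k ∈ K, k ≠ 1) :
    ∃ (R : Type u) (_ : Fintype R) (f : R → IrrCharacter G), Function.Injective f ∧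
      Fintype.card R * K.relIndex (Subgroup.normalizer (K : Set G)) + 1 = Nat.card K ∧
      2 ≤ Fintype.card R ∧
      (∀ χ ξ : R, ∀ y : G, (y = 1 ∨ ∀ x : G, x * y * x⁻¹ ∉ K) →
        (f χ : G → ℂ) y = (f ξ : G → ℂ) y) ∧
      (∀ ψ : IrrCharacter G, (∀ χ, f χ ≠ ψ) →
        ∃ z : ℤ, ∀ k ∈ K, k ≠ 1 → (ψ : G → ℂ) k = (z : ℂ)) ∧
      (∃ z : ℤ, ∀ k ∈ K, k ≠ 1 → ∑ χ, (f χ : G → ℂ) k = (z : ℂ)) ∧
      (∀ χ, (f χ : G → ℂ) ≠ fun _ => 1) := by
  classical
  have hle : K ≤ Subgroup.normalizer (K : Set G) := hlt.le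
  have hC' := tifn_hC' K (Subgroup.normalizer (K : Set G)) hC
  have hind := tifn_hind K hTI hlt hC
  have hab' : ∀ a ∈ K.subgroupOf (Subgroup.normalizer (K : Set G)),
      ∀ b ∈ K.subgroupOf (Subgroup.normalizer (K : Set G)), a * b = b * a :=
    fun a ha b hb => Subtype.ext (hab a ha b hb)
  obtain ⟨ε, f, hε, hinj, hf⟩ := tifn_exceptional_abelian (Subgroup.normalizer (K : Set G))
    (K.subgroupOf (Subgroup.normalizer (K : Set G))) hC' hind hab'
  have hcard := rel_card (K.subgroupOf (Subgroup.normalizer (K : Set G))) hC' hab'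
  have hcK : Nat.card (K.subgroupOf (Subgroup.normalizer (K : Set G))) = Nat.card K :=
    Nat.card_congr (Subgroup.subgroupOfEquivOfLe hle).toEquiv
  rw [hcK, Nat.card_eq_fintype_card] at hcard
  -- parity
  have h2 : 2 ≤ Fintype.card {χ : IrrCharacter (Subgroup.normalizer (K : Set G)) //
      ∃ k ∈ K.subgroupOf (Subgroup.normalizer (K : Set G)),
        (χ : Subgroup.normalizer (K : Set G) → ℂ) k ≠
          (χ : Subgroup.normalizer (K : Set G) → ℂ) 1} := by
    have hKodd : Odd (Nat.card K) :=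
      Odd.of_dvd_nat hodd (Subgroup.card_subgroup_dvd_card K)
    have hiodd : Odd (K.subgroupOf (Subgroup.normalizer (K : Set G))).index :=
      Odd.of_dvd_nat hodd ((Subgroup.index_dvd_card _).trans
        (Subgroup.card_subgroup_dvd_card (Subgroup.normalizer (K : Set G))))
    have hK1 : 1 < Nat.card K := by
      rw [Subgroup.one_lt_card_iff_ne_bot]
      rintro rfl
      obtain ⟨k, hk, hk1⟩ := hne
      exact hk1 (Subgroup.mem_bot.1 hk)
    rw [← hcard] at hKodd hK1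
    have hte : Even (Fintype.card {χ : IrrCharacter (Subgroup.normalizer (K : Set G)) //
      ∃ k ∈ K.subgroupOf (Subgroup.normalizer (K : Set G)),
        (χ : Subgroup.normalizer (K : Set G) → ℂ) k ≠
          (χ : Subgroup.normalizer (K : Set G) → ℂ) 1} *
        (K.subgroupOf (Subgroup.normalizer (K : Set G))).index) := by
      rcases Nat.even_or_odd (Fintype.card {χ : IrrCharacter (Subgroup.normalizer (K : Set G)) //
      ∃ k ∈ K.subgroupOf (Subgroup.normalizer (K : Set G)),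
        (χ : Subgroup.normalizer (K : Set G) → ℂ) k ≠
          (χ : Subgroup.normalizer (K : Set G) → ℂ) 1} *
        (K.subgroupOf (Subgroup.normalizer (K : Set G))).index) with h | h
      · exact h
      · exact absurd hKodd (Nat.not_odd_iff_even.2 (Odd.add_odd h odd_one))
    rcases Nat.even_mul.1 hte with h | h
    · obtain ⟨j, hj⟩ := h
      rcases Nat.eq_zero_or_pos j with rfl | hj0
      · rw [hj] at hK1
        simp at hK1
      · omega
    · exact absurd hiodd (Nat.not_odd_iff_even.2 h)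
  have hex : ∀ χ : {χ : IrrCharacter (Subgroup.normalizer (K : Set G)) //
      ∃ k ∈ K.subgroupOf (Subgroup.normalizer (K : Set G)),
        (χ : Subgroup.normalizer (K : Set G) → ℂ) k ≠
          (χ : Subgroup.normalizer (K : Set G) → ℂ) 1}, ∃ ξ, ξ ≠ χ :=
    fun χ => Fintype.exists_ne_of_one_lt_card (by omega) χ
  have hχ₀ : Nonempty {χ : IrrCharacter (Subgroup.normalizer (K : Set G)) //
      ∃ k ∈ K.subgroupOf (Subgroup.normalizer (K : Set G)),
        (χ : Subgroup.normalizer (K : Set G) → ℂ) k ≠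
          (χ : Subgroup.normalizer (K : Set G) → ℂ) 1} := by
    rw [← Fintype.card_pos_iff]
    omega
  obtain ⟨χ₀⟩ := hχ₀
  -- transfer from `N` to `G`
  have htrans : ∀ {Φ : G → ℂ}, (∃ z : ℤ, ∀ k : Subgroup.normalizer (K : Set G),
      k ∈ K.subgroupOf (Subgroup.normalizer (K : Set G)) → k ≠ 1 → Φ k = (z : ℂ)) →
      ∃ z : ℤ, ∀ k ∈ K, k ≠ 1 → Φ k = (z : ℂ) := by
    rintro Φ ⟨z, hz⟩
    refine ⟨z, fun k hk hk1 => ?_⟩
    exact hz ⟨k, hle hk⟩ (Subgroup.mem_subgroupOf.2 hk) (fun h => hk1 (congrArg Subtype.val h))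
  refine ⟨_, inferInstance, f, hinj, hcard, h2, ?_, ?_, ?_, ?_⟩
  · intro χ ξ y hy
    apply caf_supp (Subgroup.normalizer (K : Set G))
      (K.subgroupOf (Subgroup.normalizer (K : Set G))) hC' hab' ε hε f hf χ ξ y
    rcases hy with hy | hy
    · exact Or.inl hy
    · right
      intro x hx hmem
      rw [Subgroup.mem_subgroupOf] at hmem
      have := hy x⁻¹
      rw [inv_inv] at this
      exact this hmem
  · intro ψ hψ
    apply htrans
    apply caf_const (Subgroup.normalizer (K : Set G))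
      (K.subgroupOf (Subgroup.normalizer (K : Set G))) hC' hab' ε hε f hf
      (isGeneralizedCharacter_of_isCharacter (IsIrrCharacter.isCharacter ψ.2)) _ χ₀
    intro χ ξ
    have h1 : (ψ : G → ℂ) ≠ (f χ : G → ℂ) := fun h => hψ χ (Subtype.ext h.symm)
    have h2 : (ψ : G → ℂ) ≠ (f ξ : G → ℂ) := fun h => hψ ξ (Subtype.ext h.symm)
    rw [irr_orthonormal ψ.2 (f χ).2, if_neg h1, irr_orthonormal ψ.2 (f ξ).2, if_neg h2]
  · have hsum : ∀ χ', classInner (∑ χ, (f χ : G → ℂ)) (f χ' : G → ℂ) = 1 := by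
      intro χ'
      rw [classInner_sum_left]
      rw [Finset.sum_eq_single χ']
      · rw [irr_orthonormal (f χ').2 (f χ').2, if_pos rfl]
      · intro b _ hb
        rw [irr_orthonormal (f b).2 (f χ').2, if_neg]
        intro h
        exact hb (hinj (Subtype.ext h))
      · intro h
        exact absurd (Finset.mem_univ _) h
    have hgen : IsGeneralizedCharacter G (∑ χ, (f χ : G → ℂ)) :=
      isGeneralizedCharacter_sum _ _ (fun χ _ =>
        isGeneralizedCharacter_of_isCharacter (IsIrrCharacter.isCharacter (f χ).2))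
    have := htrans (caf_const (Subgroup.normalizer (K : Set G))
      (K.subgroupOf (Subgroup.normalizer (K : Set G))) hC' hab' ε hε f hf hgen
      (fun χ ξ => by rw [hsum χ, hsum ξ]) χ₀)
    obtain ⟨z, hz⟩ := this
    refine ⟨z, fun k hk hk1 => ?_⟩
    rw [← hz k hk hk1, Finset.sum_apply]
  · intro χ
    obtain ⟨ξ, hξ⟩ := hex χ
    exact caf_ne_one (Subgroup.normalizer (K : Set G))
      (K.subgroupOf (Subgroup.normalizer (K : Set G))) ε hε f hinj hf χ ξ hξ

end family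

end Cfsg.Agent.Helper82
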