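import Mathlib
import Cfsg.Prelude.Def_OddOrder
import Cfsg.Prelude.Def_OddOrderLocal
import Cfsg.Agent.Lib.Helper34.BG10i
import Cfsg.Agent.Lib.Helper52.CoprimeHall
import Cfsg.Agent.Lib.Helper55.BGHall

/-!
# Bender–Glauberman Corollary 12.15 (first part): generic tools

`exists_conj_le_of_dec`: a Hall-type conjugation lemma inside a solvable subgroup;
`le_sigmaCore_of_pi`: `σ(M)`-subgroups of `M` lie in `M_σ`.
-/

set_option autoImplicit false
open Pointwise

namespace Cfsg.Agent.Helper82.BG1215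

open Subgroup Cfsg
open Cfsg.Agent.Helper33 (map_conj_eq_smul mem_conj_smul conj_mem_conj_smul conj_smul_le_iff
  mem_normalizer_iff_smul_eq smul_eq_of_mem_normalizer card_conj_smul conj_smul_le_conj_smul
  IsSylIn isSylIn_of_sylow exists_isSylIn_ge exists_isSylIn)
open Cfsg.Agent.Helper34.BG

variable {G : Type*} [Group G]

theorem card_eq_relIndex_mul {N K : Subgroup G} (h : N ≤ K) :
    Nat.card K = N.relIndex K * Nat.card N := by
  have h1 := Subgroup.card_mul_index (N.subgroupOf K)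
  rw [card_subgroupOf_of_le h] at h1
  rw [← h1, mul_comm]
  rfl

theorem solvable_of_le {C K : Subgroup G} (hK : Group.IsSolvable K) (hCK : C ≤ K) :
    Group.IsSolvable C :=
  Group.isSolvable_of_isSolvable_injective (Subgroup.inclusion_injective hCK)

/-- Hall-type conjugation: `K` solvable, `N` a normal Hall subgroup of `K`, `K = N C`;
then every subgroup `Y` of `K` of order prime to `|N|` is `K`-conjugate into `C`. -/
theorem exists_conj_le_of_dec [Finite G] {K N C Y : Subgroup G} (hK : Group.IsSolvable K)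
    (hNK : N ≤ K) (hn : K ≤ normalizer (N : Set G)) (hCK : C ≤ K)
    (hdec : ∀ k ∈ K, ∃ b ∈ N, ∃ c ∈ C, k = b * c)
    (hcop : (Nat.card N).Coprime (N.relIndex K)) (hYK : Y ≤ K)
    (hY : (Nat.card Y).Coprime (Nat.card N)) :
    ∃ k ∈ K, MulAut.conj k • Y ≤ C := by
  set m := N.relIndex K with hm
  set n := Nat.card N with hn'
  have hmn : Nat.card K = m * n := card_eq_relIndex_mul hNK
  have hcopmn : m.Coprime n := hcop.symm
  -- a Hall subgroup of order m containing Y
  obtain ⟨Q, hQK, hQc, hYQ, -⟩ := Cfsg.Agent.Helper52.exists_invariant_hall_ge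
    (⊥ : Subgroup G) K Y bot_le (by simp) hK m n hmn hcopmn hYK bot_le hY
  -- the index of N ⊓ C in C is m
  have : (N.subgroupOf K).Normal := normal_subgroupOf_of_le_normalizer hn
  have hsup : N.subgroupOf K ⊔ C.subgroupOf K = ⊤ := by
    rw [eq_top_iff]
    intro x _
    obtain ⟨b, hb, c, hc, hx⟩ := hdec x x.2
    have hx' : x = ⟨b, hNK hb⟩ * ⟨c, hCK hc⟩ := Subtype.ext hx
    rw [hx']
    exact mul_mem (mem_sup_left (mem_subgroupOf.mpr hb)) (mem_sup_right (mem_subgroupOf.mpr hc))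
  have h1 := Subgroup.relIndex_sup_left (K := N.subgroupOf K) (H := C.subgroupOf K)
  rw [hsup, relIndex_top_right] at h1
  have h2 : (N.subgroupOf K).relIndex (C.subgroupOf K) = N.relIndex C := relIndex_subgroupOf hCK
  have hNC : N.relIndex C = m := by rw [← h2, ← h1]; rfl
  have hC : Nat.card C = m * Nat.card (N ⊓ C : Subgroup G) := by
    have h3 := card_eq_relIndex_mul (inf_le_right : N ⊓ C ≤ C)
    rw [inf_relIndex_right, hNC] at h3
    exact h3
  have hcop' : m.Coprime (Nat.card (N ⊓ C : Subgroup G)) :=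
    Nat.Coprime.coprime_dvd_right (Subgroup.card_dvd_of_le inf_le_left) hcopmn
  obtain ⟨Q0, hQ0C, hQ0c⟩ := Cfsg.Agent.Helper52.hall_exists_internal C (solvable_of_le hK hCK)
    m _ hC hcop'
  obtain ⟨k, hk, hkQ⟩ := Cfsg.Agent.Helper52.hall_conj_internal K hK m n hmn hcopmn Q Q0 hQK
    (hQ0C.trans hCK) hQc hQ0c
  refine ⟨k, hk, ?_⟩
  rw [map_conj_eq_smul] at hkQ
  calc MulAut.conj k • Y ≤ MulAut.conj k • Q := conj_smul_le_conj_smul hYQ
    _ = Q0 := hkQ.symm
    _ ≤ C := hQ0C

/-- A `σ(M)`-subgroup of `M` lies in `M_σ` (when `M_σ` is a Hall `σ(M)`-subgroup of `M`). -/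
theorem le_sigmaCore_of_pi [Finite G] {M Y : Subgroup G}
    (hHall : Cfsg.IsPiHallOf (Cfsg.sigma M) (Cfsg.sigmaCore M) M) (hYM : Y ≤ M)
    (hY : ∀ p : ℕ, p.Prime → p ∣ Nat.card Y → p ∈ Cfsg.sigma M) : Y ≤ Cfsg.sigmaCore M := by
  set N : Subgroup M := Cfsg.piCore (Cfsg.sigma M) M with hN
  have hidx : N.index = (Cfsg.sigmaCore M).relIndex M := by
    unfold Cfsg.sigmaCore Subgroup.relIndex
    congr 1
    exact (Subgroup.comap_map_eq_self_of_injective M.subtype_injective _).symm
  intro x hx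
  have hxM : x ∈ M := hYM hx
  set y : M := ⟨x, hxM⟩ with hy
  have ho1 : orderOf ((QuotientGroup.mk' N) y) ∣ Nat.card Y := by
    have h1 : orderOf ((QuotientGroup.mk' N) y) ∣ orderOf y := orderOf_map_dvd _ y
    have h2 : orderOf y = orderOf x := by
      rw [hy, ← Subgroup.orderOf_coe]
    have h3 : orderOf x = orderOf (⟨x, hx⟩ : Y) := by rw [← Subgroup.orderOf_coe]
    rw [h2, h3] at h1
    exact h1.trans (orderOf_dvd_natCard _)
  have ho2 : orderOf ((QuotientGroup.mk' N) y) ∣ N.index := by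
    rw [Subgroup.index_eq_card]; exact orderOf_dvd_natCard _
  have ho : orderOf ((QuotientGroup.mk' N) y) = 1 := by
    by_contra hne
    obtain ⟨r, hr, hrd⟩ := Nat.exists_prime_and_dvd hne
    have h1 : r ∈ Cfsg.sigma M := hY r hr (hrd.trans ho1)
    have h2 : r ∣ (Cfsg.sigmaCore M).relIndex M := by rw [← hidx]; exact hrd.trans ho2
    exact hHall.2.2 r hr h1 h2
  have hyN : y ∈ N := by
    have := orderOf_eq_one_iff.mp ho
    exact (QuotientGroup.eq_one_iff y).mp this
  unfold Cfsg.sigmaCore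
  exact ⟨y, hyN, rfl⟩

end Cfsg.Agent.Helper82.BG1215
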