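import Mathlib
import Cfsg.Agent.Lib.Helper82.BG1215a

/-!
# Bender–Glauberman Corollary 12.15 (first part): Sylow tools and the hypotheses
-/

set_option autoImplicit false
open Pointwise

namespace Cfsg.Agent.Helper82.BG1215

open Subgroup Cfsg
open Cfsg.Agent.Helper33 (map_conj_eq_smul mem_conj_smul conj_mem_conj_smul conj_smul_le_iff
  mem_normalizer_iff_smul_eq smul_eq_of_mem_normalizer card_conj_smul conj_smul_le_conj_smul
  IsSylIn isSylIn_of_sylow exists_isSylIn_ge exists_isSylIn conj_inv_smul_smul conj_mul_smul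
  normalizer_conj_smul relIndex_conj_smul conj_smul_eq_self_of_mem)
open Cfsg.Agent.Helper34.BG
open Cfsg.Agent.Helper55.BGB (le_sigmaCore_of_isPGroup le_normalizer_sigmaCore sigmaCore_le
  isPi_sigmaCore le_normalizer_map_subtype)

variable {G : Type*} [Group G]

/-! ### The earlier rows, as hypotheses -/

/-- S1350 (parts 1, 2). -/
def H1350 (G : Type*) [Group G] : Prop :=
  ∀ M : Subgroup G, IsCoatom M →
    IsPiHallOf (sigma M) (sigmaCore M) M ∧ IsPiHall (sigma M) (sigmaCore M)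

/-- S1414 (parts 1, 4). -/
def H1414 (G : Type*) [Group G] : Prop :=
  ∀ M : Subgroup G, IsCoatom M →
    IsPiHallOf (beta M) (piCoreOf (beta M) M) M ∧
      ∃ H : Subgroup G, IsPiHallOf {q | q.Prime ∧ q ∉ beta M} H (sigmaCore M) ∧ Group.IsNilpotent H

/-- S1417 (parts a, b, c, e). -/
def H1417 (G : Type*) [Group G] : Prop :=
  ∀ M : Subgroup G, IsCoatom M → ∀ (p : ℕ) [Fact p.Prime], p ∈ tau2 M → ∀ A : Subgroup G,
    (A ≤ M ∧ IsElementaryAbelian p A ∧ Nat.card A = p ^ 2) →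
    Group.IsNilpotent (sigmaCore M) ∧
    (∀ P : Sylow p M, A ≤ (P : Subgroup M).map M.subtype →
        ∀ x ∈ (P : Subgroup M).map M.subtype, x ^ p = 1 ↔ x ∈ A) ∧
    M ≤ normalizer ((sigmaCore M ⊔ A : Subgroup G) : Set G) ∧
    (∀ Mstar : Subgroup G, IsCoatom Mstar → Mstar ≠ M → A ≤ Mstar → sigmaCore M ⊓ Mstar = ⊥)

/-- S1420 (part c). -/
def H1420 (G : Type*) [Group G] : Prop :=
  ∀ M : Subgroup G, IsCoatom M → ∀ (p : ℕ) (P : Subgroup G), p ∈ sigma M → IsPGroup p P → P ≤ M →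
    ¬ IsCyclic P → normalizer (P : Set G) ≤ M

/-- S1424. -/
def H1424 (G : Type*) [Group G] : Prop :=
  ∀ M : Subgroup G, IsCoatom M → ∀ (q : ℕ) [Fact q.Prime], q ∈ sigma M → ∀ X : Subgroup G,
    IsPGroup q X → X ≠ ⊥ → X ≤ M →
    ∀ Mstar : Subgroup G, IsCoatom Mstar → Mstar ≠ M → normalizer (X : Set G) ≤ Mstar →
    ∀ S : Sylow q ↥(M ⊓ Mstar), X ≤ (S : Subgroup ↥(M ⊓ Mstar)).map (M ⊓ Mstar).subtype →
    (∀ g : G, Mstar ≠ M.map (MulAut.conj g).toMonoidHom) ∧
      normalizer (((S : Subgroup ↥(M ⊓ Mstar)).map (M ⊓ Mstar).subtype : Subgroup G) : Set G) ≤ M ∧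
      ¬ q ∣ ((S : Subgroup ↥(M ⊓ Mstar)).map (M ⊓ Mstar).subtype).relIndex Mstar

/-! ### Sylow tools -/

/-- A Sylow `r`-subgroup of `M`, `r ∈ σ(M)`, is a Sylow `r`-subgroup of `G`. -/
theorem isSylIn_top_of_sigma [Finite G] {M T : Subgroup G} {r : ℕ} [hr' : Fact r.Prime]
    (hHall : IsPiHallOf (sigma M) (sigmaCore M) M) (hHallG : IsPiHall (sigma M) (sigmaCore M))
    (hr : r ∈ sigma M) (hT : IsSylIn r T M) : IsSylIn r T ⊤ := by
  have hTσ : T ≤ sigmaCore M := le_sigmaCore_of_isPGroup hr'.out hHall hr hT.1 hT.2.1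
  have hT' : IsSylIn r T (sigmaCore M) := hT.of_le hTσ (sigmaCore_le M)
  refine ⟨le_top, hT.2.1, ?_⟩
  rw [relIndex_top_right, ← relIndex_mul_index hTσ]
  intro hdvd
  rcases (Nat.Prime.dvd_mul hr'.out).mp hdvd with h | h
  · exact hT'.2.2 h
  · exact hHallG.2 r hr'.out hr h

/-- In a nilpotent subgroup a Sylow subgroup is normal. -/
theorem le_normalizer_of_isSylIn_nilpotent [Finite G] {N T : Subgroup G} {r : ℕ} [Fact r.Prime]
    (hnil : Group.IsNilpotent N) (hT : IsSylIn r T N) : N ≤ normalizer (T : Set G) := by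
  have h0 : ∀ (p : ℕ) (_hp : Fact p.Prime) (P : Sylow p N), (↑P : Subgroup N).Normal :=
    ((Group.isNilpotent_of_finite_tfae (G := N)).out 0 3).mp hnil
  have h := h0 r inferInstance hT.toSylow
  rw [hT.coe_toSylow] at h
  exact (normal_subgroupOf_iff_le_normalizer hT.1).mp h

/-- A subgroup normalizing the nilpotent subgroup `N` normalizes its Sylow subgroups. -/
theorem le_normalizer_sylow_of_nilpotent [Finite G] {L N T : Subgroup G} {r : ℕ} [Fact r.Prime]
    (hnil : Group.IsNilpotent N) (hLN : L ≤ normalizer (N : Set G)) (hT : IsSylIn r T N) :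
    L ≤ normalizer (T : Set G) := by
  intro m hm
  rw [mem_normalizer_iff_smul_eq]
  have hT' : IsSylIn r (MulAut.conj m • T) N := by
    have := hT.conj m
    rwa [smul_eq_of_mem_normalizer (hLN hm)] at this
  obtain ⟨x, hx, hxe⟩ := hT.exists_conj_eq hT'
  have hxT : MulAut.conj x⁻¹ • T = T :=
    smul_eq_of_mem_normalizer (le_normalizer_of_isSylIn_nilpotent hnil hT (N.inv_mem hx))
  calc MulAut.conj m • T = MulAut.conj x⁻¹ • MulAut.conj x • MulAut.conj m • T :=
        (conj_inv_smul_smul x _).symm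
    _ = MulAut.conj x⁻¹ • T := by rw [hxe]
    _ = T := hxT

/-- An elementary abelian group of order `q ^ 2` is not cyclic. -/
theorem not_isCyclic_of_elemAb [Finite G] {q : ℕ} [hq : Fact q.Prime] {A : Subgroup G}
    (hA : IsElementaryAbelian q A) (hc : Nat.card A = q ^ 2) : ¬ IsCyclic A := by
  intro hcyc
  obtain ⟨g, hg⟩ := hcyc.exists_generator
  have h1 : orderOf g = q ^ 2 := by rw [orderOf_eq_card_of_forall_mem_zpowers hg, hc]
  have h2 : (g : G) ^ q = 1 := hA.2 g g.2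
  have h3 : g ^ q = 1 := Subtype.ext (by simpa using h2)
  have h4 : q ^ 2 ∣ q := by rw [← h1]; exact orderOf_dvd_of_pow_eq_one h3
  have h5 : q ^ 2 ≤ q := Nat.le_of_dvd hq.out.pos h4
  have h6 : 2 ≤ q := hq.out.two_le
  nlinarith

end Cfsg.Agent.Helper82.BG1215
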