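import Mathlib
import Cfsg.Agent.Lib.Helper97.FXDefs

/-!
# FL (LIN) lin_bound: core with helper97's `field_bound` as a hypothesis (helper82, FL server, S3822)
-/

set_option autoImplicit false

namespace Cfsg.Agent.Helper82.FL

open Cfsg.Agent.Helper97.FX

section

variable (U : Type*) [CommGroup U] (r : ℕ) [Module (ZMod r) (Additive U)]

/-- automorphisms of `U` act `ZMod r`-linearly on `Additive U` -/
noncomputable def h82_toEnd : MulAut U →* Module.End (ZMod r) (Additive U) where
  toFun g := (MonoidHom.toAdditive ((g : U ≃* U) : U →* U)).toZModLinearMap r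
  map_one' := by
    apply LinearMap.ext
    intro w
    rfl
  map_mul' a b := by
    apply LinearMap.ext
    intro w
    rfl

theorem h82_toEnd_apply (g : MulAut U) (v : U) :
    h82_toEnd U r g (Additive.ofMul v) = Additive.ofMul (g v) := rfl

theorem h82_toEnd_injective : Function.Injective (h82_toEnd U r) := by
  intro a b hab
  apply MulEquiv.ext
  intro v
  have := congrArg (fun f : Module.End (ZMod r) (Additive U) => f (Additive.ofMul v)) hab
  exact this

end

/-- (LIN) with `field_bound` (S3818 over the field `ZMod r`) as a hypothesis -/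
theorem h82_lin_core {A : Type*} [Group A] [Finite A] [Group.IsSolvable A] {U : Type*} [CommGroup U]
    [Finite U] [Nontrivial U] {r p : ℕ} [Fact r.Prime] [Fact p.Prime]
    [Module (ZMod r) (Additive U)]
    (hFB : ∀ (Γ : Subgroup (MulAut U)) [Group.IsSolvable Γ]
      (ρ : Γ →* Module.End (ZMod r) (Additive U)), Irr ρ → Function.Injective ρ →
      ∀ x : Γ, orderOf x = p → Subgroup.normalClosure ({x} : Set Γ) = ⊤ →
      2 * fixDim (ρ x) < Module.finrank (ZMod r) (Additive U))
    (φ : A →* MulAut U) (x : A) (hx : orderOf x = p)
    (hgen : Subgroup.normalClosure ({x} : Set A) = ⊤) (hx1 : φ x ≠ 1)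
    (hirr : ∀ W : Subgroup U, (∀ g : A, ∀ u ∈ W, φ g u ∈ W) → W = ⊥ ∨ W = ⊤) :
    Nat.card {u : U // φ x u = u} ^ 2 < Nat.card U := by
  classical
  have hpp : p.Prime := Fact.out
  have hrp : r.Prime := Fact.out
  -- the image group
  let Γ : Subgroup (MulAut U) := φ.range
  have hsurj : Function.Surjective φ.rangeRestrict := φ.rangeRestrict_surjective
  have : Group.IsSolvable Γ := Group.isSolvable_of_surjective hsurj
  let ρ : Γ →* Module.End (ZMod r) (Additive U) := (h82_toEnd U r).comp Γ.subtype
  have hρinj : Function.Injective ρ := by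
    intro a b hab
    exact Subtype.ext (h82_toEnd_injective U r hab)
  -- irreducibility
  have hρirr : Irr ρ := by
    intro W hW
    let W' : Subgroup U :=
      { carrier := {u | Additive.ofMul u ∈ W}
        one_mem' := W.zero_mem
        mul_mem' := fun {a b} ha hb => W.add_mem ha hb
        inv_mem' := fun {a} ha => W.neg_mem ha }
    have hW' : ∀ g : A, ∀ u ∈ W', φ g u ∈ W' := by
      intro g u hu
      have := hW (φ.rangeRestrict g) (Additive.ofMul u) hu
      exact this
    rcases hirr W' hW' with h | h
    · left
      rw [Submodule.eq_bot_iff]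
      intro w hw
      have h1 : Additive.toMul w ∈ W' := hw
      rw [h, Subgroup.mem_bot] at h1
      exact h1
    · right
      rw [Submodule.eq_top_iff']
      intro w
      have h1 : Additive.toMul w ∈ W' := h ▸ Subgroup.mem_top _
      exact h1
  -- the image of x
  let xb : Γ := φ.rangeRestrict x
  have hxb1 : xb ≠ 1 := by
    intro h
    apply hx1
    have := congrArg Subtype.val h
    exact this
  have hxbp : xb ^ p = 1 := by
    rw [← map_pow, ← hx, pow_orderOf_eq_one, map_one]
  have hxbo : orderOf xb = p := by
    have h1 : orderOf xb ∣ p := orderOf_dvd_of_pow_eq_one hxbp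
    rcases (Nat.dvd_prime hpp).mp h1 with h2 | h2
    · exfalso
      exact hxb1 (orderOf_eq_one_iff.mp h2)
    · exact h2
  have hgenb : Subgroup.normalClosure ({xb} : Set Γ) = ⊤ := by
    have h1 := Subgroup.map_normalClosure ({x} : Set A) φ.rangeRestrict hsurj
    rw [hgen, Set.image_singleton] at h1
    rw [← h1]
    exact Subgroup.map_top_of_surjective _ hsurj
  have hmain := hFB Γ ρ hρirr hρinj xb hxbo hgenb
  -- cardinalities
  have : Finite (Additive U) := inferInstanceAs (Finite U)
  have : Module.Finite (ZMod r) (Additive U) := Module.Finite.of_finite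
  have hcardU : Nat.card U = r ^ Module.finrank (ZMod r) (Additive U) := by
    have := Module.natCard_eq_pow_finrank (K := ZMod r) (V := Additive U)
    rw [Nat.card_zmod] at this
    exact this
  have hcardF : Nat.card {u : U // φ x u = u} = r ^ fixDim (ρ xb) := by
    have h1 := Module.natCard_eq_pow_finrank (K := ZMod r)
      (V := LinearMap.ker (ρ xb - 1))
    rw [Nat.card_zmod] at h1
    rw [fixDim_def, ← h1]
    apply Nat.card_congr
    refine
      { toFun := fun u => ⟨Additive.ofMul u.1, ?_⟩
        invFun := fun w => ⟨Additive.toMul w.1, ?_⟩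
        left_inv := fun u => rfl
        right_inv := fun w => rfl }
    · rw [LinearMap.mem_ker, LinearMap.sub_apply, Module.End.one_apply, sub_eq_zero]
      show Additive.ofMul (φ x u.1) = Additive.ofMul u.1
      rw [u.2]
    · have h2 := w.2
      rw [LinearMap.mem_ker, LinearMap.sub_apply, Module.End.one_apply, sub_eq_zero] at h2
      exact h2
  rw [hcardU, hcardF, ← pow_mul]
  apply Nat.pow_lt_pow_right hrp.one_lt
  omega

end Cfsg.Agent.Helper82.FL
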