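import Mathlib
import Cfsg.Agent.Lib.Helper97.FXDefs
import Cfsg.Agent.Lib.Helper97.FXDefs2
import Cfsg.Agent.Lib.Helper48.SympRep

/-!
# FX (ISUM) irr_sum_zero (helper82, second seat, FX server wave 2, S3818)
-/

set_option autoImplicit false

namespace Cfsg.Agent.Helper82.FX

open Cfsg.Agent.Helper97.FX Cfsg.Agent.Helper48.SympRep
open scoped TensorProduct

universe u

section DS
variable {K : Type*} [Field K] {G : Type*} [Group G] [Finite G]
variable {V : Type u} [AddCommGroup V] [Module K V] [FiniteDimensional K V]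

omit [Finite G] [FiniteDimensional K V] in
/-- the fixed space of a normal subgroup, as an invariant submodule -/
theorem h82_fixed_invariant (ρ : G →* Module.End K V) (N₀ : Subgroup G) (hN : N₀.Normal) :
    ∃ W : Submodule K V, (∀ v, v ∈ W ↔ ∀ n ∈ N₀, ρ n v = v) ∧
      (∀ g, ∀ w ∈ W, ρ g w ∈ W) := by
  let W : Submodule K V :=
    { carrier := {v | ∀ n ∈ N₀, ρ n v = v}
      add_mem' := by
        intro a b ha hb n hn
        rw [map_add, ha n hn, hb n hn]
      zero_mem' := by
        intro n _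
        rw [map_zero]
      smul_mem' := by
        intro c a ha n hn
        rw [map_smul, ha n hn] }
  refine ⟨W, fun v => Iff.rfl, ?_⟩
  intro g w hw n hn
  have h1 : g⁻¹ * n * g ∈ N₀ := by
    have := hN.conj_mem n hn g⁻¹
    simpa using this
  have h2 : ρ (g⁻¹ * n * g) w = w := hw _ h1
  have h3 : ρ n (ρ g w) = ρ (n * g) w := by
    rw [map_mul]; rfl
  have h4 : ρ (n * g) w = ρ g (ρ (g⁻¹ * n * g) w) := by
    have : n * g = g * (g⁻¹ * n * g) := by group
    rw [this, map_mul]; rfl
  rw [h3, h4, h2]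

theorem irr_sum_zero (ρ : G →* Module.End K V) (hirr : Irr ρ) (hf : Function.Injective ρ)
    (N₀ : Subgroup G) (hN : N₀.Normal) (hne : N₀ ≠ ⊥) (v : V) :
    ∑ᶠ n : N₀, ρ (n : G) v = 0 := by
  classical
  obtain ⟨W, hWmem, hWinv⟩ := h82_fixed_invariant ρ N₀ hN
  have hWbot : W = ⊥ := by
    rcases hirr W hWinv with h | h
    · exact h
    · exfalso
      apply hne
      rw [Subgroup.eq_bot_iff_forall]
      intro n hn
      apply hf
      rw [map_one]
      apply LinearMap.ext
      intro x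
      have hx : x ∈ W := h ▸ Submodule.mem_top
      rw [Module.End.one_apply]
      exact (hWmem x).mp hx n hn
  have hs : (∑ᶠ n : N₀, ρ (n : G) v) ∈ W := by
    rw [hWmem]
    intro m hm
    have hfin : (Function.support fun n : N₀ => ρ (n : G) v).Finite := Set.toFinite _
    have h1 : ρ m (∑ᶠ n : N₀, ρ (n : G) v) = ∑ᶠ n : N₀, ρ m (ρ (n : G) v) :=
      map_finsum (ρ m : V →+ V) hfin
    rw [h1]
    have h2 : ∀ n : N₀, ρ m (ρ (n : G) v) = ρ (((⟨m, hm⟩ : N₀) * n : N₀) : G) v := by
      intro n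
      rw [Subgroup.coe_mul, map_mul]; rfl
    simp_rw [h2]
    exact finsum_comp_equiv (Equiv.mulLeft (⟨m, hm⟩ : N₀)) (f := fun n : N₀ => ρ (n : G) v)
  rw [hWbot, Submodule.mem_bot] at hs
  exact hs

end DS

end Cfsg.Agent.Helper82.FX
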