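import Mathlib
import Cfsg.Agent.Lib.Helper97.FXDefs
import Cfsg.Agent.Lib.Helper48.SympRep

/-!
# FX (COUNT) count_ineq, core with (LOW) and (ORB) as hypotheses (helper82, FX server, S3818)
-/

set_option autoImplicit false

namespace Cfsg.Agent.Helper82.FX

open Cfsg.Agent.Helper97.FX Cfsg.Agent.Helper48.SympRep

universe u

section SY
variable {K : Type*} [Field K] {M : Type u} [AddCommGroup M] [Module K M] [FiniteDimensional K M]
variable {Q : Type*} [Group Q] [Fintype Q]
variable {ρ : Q →* Module.End K M} {a : Q ≃* Q} {g g' : Module.End K M}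

omit [FiniteDimensional K M] [Fintype Q] in
theorem h82_centralizer_toSubmodule (g : Module.End K M) :
    Subalgebra.toSubmodule (Subalgebra.centralizer K ({g} : Set (Module.End K M))) = centr g := by
  ext T
  rw [Subalgebra.mem_toSubmodule, Subalgebra.mem_centralizer_iff, mem_centr]
  constructor
  · intro hT
    exact (hT g (Set.mem_singleton g)).symm
  · intro hT x hx
    rw [Set.mem_singleton_iff] at hx
    subst hx
    exact hT.symm

omit [FiniteDimensional K M] [Fintype Q] in
theorem h82_finrank_centralizer (g : Module.End K M) :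
    Module.finrank K (Subalgebra.centralizer K ({g} : Set (Module.End K M))) =
      Module.finrank K (centr g) := by
  rw [← Subalgebra.finrank_toSubmodule, h82_centralizer_toSubmodule]

/-- (COUNT) with (LOW) for `g` and (ORB) for `sigma h` as hypotheses -/
theorem h82_count_core (hρ : Symp ρ) (hQ : (Fintype.card Q : K) ≠ 0)
    (h : Normalises ρ a g g') {p : ℕ}
    (hLOW : (p - 1) * (fixDim g * fixDim g) +
        (Module.finrank K M - fixDim g) * (Module.finrank K M - fixDim g) ≤
      (p - 1) * Module.finrank K (Subalgebra.centralizer K ({g} : Set (Module.End K M))))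
    (hORB : Nat.card (MulAction.orbitRel.Quotient (Subgroup.zpowers (sigma h))
        (Q ⧸ scalarSubgroup ρ)) * p =
      (p - 1) * Nat.card {t : Q ⧸ scalarSubgroup ρ // sigma h t = t} +
        Nat.card (Q ⧸ scalarSubgroup ρ)) :
    p * Nat.card (Q ⧸ scalarSubgroup ρ) *
        ((p - 1) * (fixDim g * fixDim g) +
          (Module.finrank K M - fixDim g) * (Module.finrank K M - fixDim g)) ≤
      (p - 1) * ((p - 1) * Nat.card {w : Q ⧸ scalarSubgroup ρ // sigma h w = w} +
          Nat.card (Q ⧸ scalarSubgroup ρ)) * (Module.finrank K M * Module.finrank K M) := by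
  have h1 := finrank_centr_le hρ hQ h
  have h2 := card_mul_finrank_le hρ hQ
  rw [h82_finrank_centralizer] at hLOW
  rw [← hORB]
  set B := (p - 1) * (fixDim g * fixDim g) +
    (Module.finrank K M - fixDim g) * (Module.finrank K M - fixDim g) with hB
  set c := Module.finrank K (centr g) with hc
  set N := Nat.card (MulAction.orbitRel.Quotient (Subgroup.zpowers (sigma h))
    (Q ⧸ scalarSubgroup ρ)) with hN
  set e2 := Module.finrank K (commutant ρ) with he2
  set n := Nat.card (Q ⧸ scalarSubgroup ρ) with hn
  set DD := Module.finrank K M * Module.finrank K M with hDD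
  calc p * n * B ≤ p * n * ((p - 1) * c) := Nat.mul_le_mul_left _ hLOW
    _ ≤ p * n * ((p - 1) * (N * e2)) :=
        Nat.mul_le_mul_left _ (Nat.mul_le_mul_left _ h1)
    _ = (p - 1) * (N * p) * (n * e2) := by ring
    _ ≤ (p - 1) * (N * p) * DD := Nat.mul_le_mul_left _ h2

end SY

end Cfsg.Agent.Helper82.FX
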