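import Mathlib
import Cfsg.Agent.Lib.Helper97.FXDefs
import Cfsg.Agent.Lib.Helper48.SympRep
import Cfsg.Agent.Lib.Helper86.ESREC
import Cfsg.Agent.Lib.Helper82.FXCOUNTCore
import Cfsg.Agent.Lib.Helper73.FXLOW
import Cfsg.Agent.Lib.Helper8.FXORB

/-!
# FX (COUNT) count_ineq (helper82, FX server of helper97, S3818)
-/

set_option autoImplicit false

namespace Cfsg.Agent.Helper82.FX

open Cfsg.Agent.Helper97.FX Cfsg.Agent.Helper48.SympRep

universe u

section SY
variable {K : Type*} [Field K] {M : Type u} [AddCommGroup M] [Module K M] [FiniteDimensional K M]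
variable {Q : Type*} [Group Q] [Fintype Q]
variable {ρ : Q →* Module.End K M} {a : Q ≃* Q} {g g' : Module.End K M}

theorem count_ineq [IsAlgClosed K] (hρ : Symp ρ) (hQ : (Fintype.card Q : K) ≠ 0)
    (h : Normalises ρ a g g') {p : ℕ} (hp : p.Prime) (hgp : g ^ p = 1) :
    p * Nat.card (Q ⧸ scalarSubgroup ρ) *
        ((p - 1) * (fixDim g * fixDim g) +
          (Module.finrank K M - fixDim g) * (Module.finrank K M - fixDim g)) ≤
      (p - 1) * ((p - 1) * Nat.card {w : Q ⧸ scalarSubgroup ρ // sigma h w = w} +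
          Nat.card (Q ⧸ scalarSubgroup ρ)) * (Module.finrank K M * Module.finrank K M) :=
  h82_count_core hρ hQ h (Cfsg.Agent.Helper73.FX.lower_bound g hp hgp)
    (Cfsg.Agent.Helper8.FX.orbit_count (sigma h) hp (sigma_pow_eq_one h hgp))

end SY

end Cfsg.Agent.Helper82.FX
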