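import Mathlib
import Cfsg.Agent.Lib.Helper97.FXDefs
import Cfsg.Agent.Lib.Helper48.SympRep
import Cfsg.Agent.Lib.Helper86.ESREC

/-!
# FX (IDX) index_facts (helper82, for helper97's FX server, S3818)
-/

set_option autoImplicit false

namespace Cfsg.Agent.Helper82.FX

open Cfsg.Agent.Helper97.FX Cfsg.Agent.Helper48.SympRep

universe u

/-- abstract version: a group automorphism `φ` of a finite `r`-group `A` with `φ^p = 1`
and a non-fixed point -/
theorem h82_idx_core {A : Type*} [Group A] [Finite A] (φ : A ≃* A) {p r : ℕ} (hp : p.Prime)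
    (hr : r.Prime) (hφp : (φ.toEquiv : Equiv.Perm A) ^ p = 1)
    (hcard : ∃ k, Nat.card A = r ^ k) (hσ : ∃ w : A, φ w ≠ w) :
    ∃ I f j : ℕ, 0 < f ∧ 1 ≤ j ∧ I = r ^ j ∧ Nat.card A = I * f ∧
      Nat.card {w : A // φ w = w} = f ∧ (r ≠ p → I % p = 1) := by
  classical
  -- the subgroup of fixed points
  let Fx : Subgroup A :=
    { carrier := {w | φ w = w}
      one_mem' := map_one φ
      mul_mem' := by
        intro x y hx hy
        show φ (x * y) = x * y
        rw [map_mul, hx, hy]
      inv_mem' := by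
        intro x hx
        show φ x⁻¹ = x⁻¹
        rw [map_inv, hx] }
  obtain ⟨k, hk⟩ := hcard
  have hFcard : Nat.card {w : A // φ w = w} = Nat.card Fx := rfl
  have hdvd : Nat.card Fx ∣ r ^ k := hk ▸ Subgroup.card_subgroup_dvd_card Fx
  obtain ⟨i, hik, hi⟩ := (Nat.dvd_prime_pow hr).mp hdvd
  have hlt : i < k := by
    rcases lt_or_eq_of_le hik with h1 | h1
    · exact h1
    · exfalso
      obtain ⟨w, hw⟩ := hσ
      have htop : Fx = ⊤ := by
        apply Subgroup.eq_top_of_card_eq
        rw [hi, hk, h1]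
      have : w ∈ Fx := htop ▸ Subgroup.mem_top w
      exact hw this
  have hrpos : 0 < r := hr.pos
  refine ⟨r ^ (k - i), r ^ i, k - i, pow_pos hrpos i, by omega, rfl, ?_, ?_, ?_⟩
  · rw [hk, ← pow_add]
    congr 1
    omega
  · rw [hFcard, hi]
  · intro hrp
    have hfact : Fact p.Prime := ⟨hp⟩
    -- the cyclic group generated by the permutation is a p-group
    have hPG : IsPGroup p (Subgroup.zpowers (φ.toEquiv : Equiv.Perm A)) := by
      intro x
      obtain ⟨x, z, rfl⟩ := x
      refine ⟨1, ?_⟩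
      apply Subtype.ext
      simp only [pow_one, SubgroupClass.coe_pow, OneMemClass.coe_one]
      rw [← zpow_natCast, ← zpow_mul, mul_comm, zpow_mul, zpow_natCast, hφp, one_zpow]
    have hmod := hPG.card_modEq_card_fixedPoints A
    have hfix : Nat.card (MulAction.fixedPoints (Subgroup.zpowers (φ.toEquiv : Equiv.Perm A)) A)
        = Nat.card Fx := by
      apply Nat.card_congr
      apply Equiv.subtypeEquivRight
      intro w
      constructor
      · intro hw
        have := hw ⟨(φ.toEquiv : Equiv.Perm A), Subgroup.mem_zpowers _⟩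
        exact this
      · intro hw x
        obtain ⟨x, z, rfl⟩ := x
        show ((φ.toEquiv : Equiv.Perm A) ^ z) w = w
        have h1 : (φ.toEquiv : Equiv.Perm A) w = w := hw
        exact Equiv.Perm.zpow_apply_eq_self_of_apply_eq_self h1 z
    rw [hfix, hi, hk] at hmod
    have hsplit : r ^ k = r ^ i * r ^ (k - i) := by
      rw [← pow_add]; congr 1; omega
    have hcop : Nat.gcd p (r ^ i) = 1 := by
      apply Nat.Coprime.pow_right
      exact (Nat.coprime_primes hp hr).mpr (Ne.symm hrp)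
    have h2 : r ^ i * r ^ (k - i) ≡ r ^ i * 1 [MOD p] := by
      rw [← hsplit, mul_one]; exact hmod
    have h3 := Nat.ModEq.cancel_left_of_coprime hcop h2
    have h4 : r ^ (k - i) % p = 1 % p := h3
    rw [h4]
    exact Nat.mod_eq_of_lt hp.one_lt

section SY
variable {K : Type*} [Field K] {M : Type u} [AddCommGroup M] [Module K M] [FiniteDimensional K M]
variable {Q : Type*} [Group Q] [Fintype Q]
variable {ρ : Q →* Module.End K M} {a : Q ≃* Q} {g g' : Module.End K M}

theorem index_facts (h : Normalises ρ a g g') {p r : ℕ} (hp : p.Prime) (hr : r.Prime)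
    (hgp : g ^ p = 1) (hcard : ∃ k, Nat.card (Q ⧸ scalarSubgroup ρ) = r ^ k)
    (hσ : ∃ u : Q, a u * u⁻¹ ∉ scalarSubgroup ρ) :
    ∃ I f j : ℕ, 0 < f ∧ 1 ≤ j ∧ I = r ^ j ∧ Nat.card (Q ⧸ scalarSubgroup ρ) = I * f ∧
      Nat.card {w : Q ⧸ scalarSubgroup ρ // sigma h w = w} = f ∧ (r ≠ p → I % p = 1) := by
  have hpow := sigma_pow_eq_one h hgp
  refine h82_idx_core (QuotientGroup.congr (scalarSubgroup ρ) (scalarSubgroup ρ) a h.map_eq)
    hp hr hpow hcard ?_
  obtain ⟨u, hu⟩ := hσ
  refine ⟨QuotientGroup.mk u, ?_⟩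
  intro hfix
  apply hu
  have h1 : (QuotientGroup.mk (a u) : Q ⧸ scalarSubgroup ρ) = QuotientGroup.mk u := by
    rw [← sigma_mk h u]
    exact hfix
  have h2 : (QuotientGroup.mk (a u * u⁻¹) : Q ⧸ scalarSubgroup ρ) = 1 := by
    rw [QuotientGroup.mk_mul, h1, ← QuotientGroup.mk_mul, mul_inv_cancel, QuotientGroup.mk_one]
  exact (QuotientGroup.eq_one_iff _).mp h2

end SY

end Cfsg.Agent.Helper82.FX
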