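import Mathlib
import Cfsg.Agent.Lib.Helper52.FLDefs
import Cfsg.Agent.Lib.Helper52.Coprime
import Cfsg.Agent.Lib.Helper9.WielandtBasic
import Cfsg.Agent.Lib.Helper97.FXDefs
import Cfsg.Agent.Lib.Helper97.FXFinal
import Cfsg.Agent.Lib.Helper82.FLLINCore

/-!
# FL (LIN) lin_bound (helper82, FL server of helper52, S3822)
-/

set_option autoImplicit false

namespace Cfsg.Agent.Helper82.FL

open Cfsg.Agent.Helper52.FL Cfsg.Agent.Helper97.FX

section LIN

/-- (LIN) for an arbitrary `ZMod r`-module structure on `Additive U` -/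
theorem h82_lin_of_module {A : Type*} [Group A] [Finite A] [Group.IsSolvable A] {U : Type*}
    [CommGroup U] [Finite U] [Nontrivial U] {r p : ℕ} [Fact r.Prime] [Fact p.Prime] (hp : 5 ≤ p)
    [Module (ZMod r) (Additive U)] (φ : A →* MulAut U) (x : A) (hx : orderOf x = p)
    (hgen : Subgroup.normalClosure ({x} : Set A) = ⊤) (hx1 : φ x ≠ 1)
    (hirr : ∀ W : Subgroup U, (∀ g : A, ∀ u ∈ W, φ g u ∈ W) → W = ⊥ ∨ W = ⊤) :
    Nat.card {u : U // φ x u = u} ^ 2 < Nat.card U := by
  have hfinU : Finite (Additive U) := inferInstanceAs (Finite U)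
  have hfd : Module.Finite (ZMod r) (Additive U) := Module.Finite.of_finite
  have hnt : Nontrivial (Additive U) := inferInstanceAs (Nontrivial U)
  have hpp : p.Prime := Fact.out
  have hfinM : Finite (MulAut U) := by
    apply Finite.of_injective (fun g : MulAut U => (g : U → U))
    intro a b hab
    exact MulEquiv.ext (congrFun hab)
  have hFB : ∀ (Γ : Subgroup (MulAut U)) [Group.IsSolvable Γ]
      (ρ : Γ →* Module.End (ZMod r) (Additive U)), Irr ρ → Function.Injective ρ →
      ∀ y : Γ, orderOf y = p → Subgroup.normalClosure ({y} : Set Γ) = ⊤ →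
      2 * fixDim (ρ y) < Module.finrank (ZMod r) (Additive U) := by
    intro Γ _ ρ hρirr hρinj y hy hgy
    exact field_bound ρ hρirr hρinj hpp hp y hy hgy
  exact h82_lin_core hFB φ x hx hgen hx1 hirr

theorem lin_bound {A : Type*} [Group A] [Finite A] [Group.IsSolvable A] {U : Type*} [CommGroup U]
    [Finite U] [Nontrivial U] {r p : ℕ} [Fact r.Prime] [Fact p.Prime] (hp : 5 ≤ p)
    (hU : ∀ u : U, u ^ r = 1) (φ : A →* MulAut U) (x : A) (hx : orderOf x = p)
    (hgen : Subgroup.normalClosure ({x} : Set A) = ⊤) (hx1 : φ x ≠ 1)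
    (hirr : ∀ W : Subgroup U, (∀ g : A, ∀ u ∈ W, φ g u ∈ W) → W = ⊥ ∨ W = ⊤) :
    Nat.card {u : U // φ x u = u} ^ 2 < Nat.card U := by
  letI : Module (ZMod r) (Additive U) := AddCommGroup.zmodModule (n := r) (fun w => by
    show Additive.ofMul ((Additive.toMul w) ^ r) = 0
    rw [hU]; rfl)
  exact h82_lin_of_module (r := r) hp φ x hx hgen hx1 hirr

end LIN

end Cfsg.Agent.Helper82.FL
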