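import Mathlib
import Cfsg.Agent.Lib.Helper93.RU0

/-!
# RU server (helper93, S2280): the A-block (transvection calculus).
-/

set_option autoImplicit false

namespace Cfsg.Agent.Helper82.RU

open Matrix Cfsg.Agent.Helper93.RU

variable {F : Type*} [Field F] {m : ℕ}

theorem det_tvM (v φ : Fin (m + 3) → F) : (tvM v φ).det = 1 + φ ⬝ᵥ v := by
  unfold tvM
  rw [Matrix.vecMulVec_eq Unit v φ, Matrix.det_one_add_replicateCol_mul_replicateRow]

theorem det_tvM_of (v φ : Fin (m + 3) → F) (h : φ ⬝ᵥ v = 0) : (tvM v φ).det = 1 := by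
  rw [det_tvM, h, add_zero]

/-- (A1) -/
theorem tvS_val (v φ : Fin (m + 3) → F) (h : φ ⬝ᵥ v = 0) : (tvS v φ).1 = tvM v φ := by
  have hd := det_tvM_of v φ h
  simp [tvS, hd]

theorem tvM_mul_tvM (v φ ψ : Fin (m + 3) → F) (hφ : φ ⬝ᵥ v = 0) :
    tvM v φ * tvM v ψ = tvM v (φ + ψ) := by
  unfold tvM
  rw [mul_add, add_mul, add_mul, one_mul, one_mul, mul_one, Matrix.vecMulVec_mul_vecMulVec, hφ,
    zero_smul, Matrix.vecMulVec_zero, add_zero, Matrix.vecMulVec_add, add_assoc]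

/-- (A2) -/
theorem tvS_mul (v φ ψ : Fin (m + 3) → F) (hφ : φ ⬝ᵥ v = 0) (hψ : ψ ⬝ᵥ v = 0) :
    tvS v φ * tvS v ψ = tvS v (φ + ψ) := by
  have hs : (φ + ψ) ⬝ᵥ v = 0 := by rw [add_dotProduct, hφ, hψ, add_zero]
  apply Subtype.ext
  rw [Matrix.SpecialLinearGroup.coe_mul, tvS_val v φ hφ, tvS_val v ψ hψ, tvS_val v _ hs,
    tvM_mul_tvM v φ ψ hφ]

theorem tvS_zero (v : Fin (m + 3) → F) : tvS v (0 : Fin (m + 3) → F) = 1 := by
  apply Subtype.ext
  rw [tvS_val v 0 (zero_dotProduct v)]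
  unfold tvM
  simp

/-- (A3) -/
theorem tvS_inv (v φ : Fin (m + 3) → F) (hφ : φ ⬝ᵥ v = 0) : (tvS v φ)⁻¹ = tvS v (-φ) := by
  have hn : (-φ) ⬝ᵥ v = 0 := by rw [neg_dotProduct, hφ, neg_zero]
  apply inv_eq_of_mul_eq_one_right
  rw [tvS_mul v φ (-φ) hφ hn, add_neg_cancel, tvS_zero]

/-- (A4) conjugation: `g (1 + v φᵀ) g⁻¹ = 1 + (g v)(φ g⁻¹)ᵀ`. -/
theorem tvS_conj (g : SLm m F) (v φ : Fin (m + 3) → F) (hφ : φ ⬝ᵥ v = 0) :
    (φ ᵥ* (g⁻¹).1) ⬝ᵥ (g.1 *ᵥ v) = 0 ∧ g * tvS v φ * g⁻¹ = tvS (g.1 *ᵥ v) (φ ᵥ* (g⁻¹).1) := by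
  have hgg : (g⁻¹).1 * g.1 = 1 := by
    rw [← Matrix.SpecialLinearGroup.coe_mul, inv_mul_cancel, Matrix.SpecialLinearGroup.coe_one]
  have hgg' : g.1 * (g⁻¹).1 = 1 := by
    rw [← Matrix.SpecialLinearGroup.coe_mul, mul_inv_cancel, Matrix.SpecialLinearGroup.coe_one]
  have h0 : (φ ᵥ* (g⁻¹).1) ⬝ᵥ (g.1 *ᵥ v) = 0 := by
    rw [Matrix.dotProduct_mulVec, Matrix.vecMul_vecMul, hgg, Matrix.vecMul_one, hφ]
  refine ⟨h0, ?_⟩
  apply Subtype.ext
  rw [Matrix.SpecialLinearGroup.coe_mul, Matrix.SpecialLinearGroup.coe_mul, tvS_val v φ hφ,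
    tvS_val _ _ h0]
  unfold tvM
  rw [mul_add, add_mul, mul_one, hgg', Matrix.mul_vecMulVec, Matrix.vecMulVec_mul]

/-- (A5) -/
theorem tvS_smul (a : F) (v φ : Fin (m + 3) → F) : tvS (a • v) φ = tvS v (a • φ) := by
  have hM : tvM (a • v) φ = tvM v (a • φ) := by
    unfold tvM
    rw [Matrix.smul_vecMulVec, Matrix.vecMulVec_smul]
  by_cases h : (tvM v (a • φ)).det = 1
  · have h' : (tvM (a • v) φ).det = 1 := by rw [hM]; exact h
    apply Subtype.ext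
    have e1 : (tvS (a • v) φ).1 = tvM (a • v) φ := by simp [tvS, h']
    have e2 : (tvS v (a • φ)).1 = tvM v (a • φ) := by simp [tvS, h]
    rw [e1, e2, hM]
  · have h' : ¬ (tvM (a • v) φ).det = 1 := by rw [hM]; exact h
    have e1 : tvS (a • v) φ = 1 := by simp [tvS, h']
    have e2 : tvS v (a • φ) = 1 := by simp [tvS, h]
    rw [e1, e2]

/-- (A6) Mathlib's elementary transvections are `tvS`. -/
theorem transvection_eq (i j : Fin (m + 3)) (hij : i ≠ j) (c : F) :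
    (Matrix.SpecialLinearGroup.transvection hij c : SLm m F) = tvS (eV i) (c • eV j) := by
  have h0 : (c • eV j : Fin (m + 3) → F) ⬝ᵥ (eV i) = 0 := by
    unfold eV
    rw [smul_dotProduct, single_dotProduct, one_mul, Pi.single_eq_of_ne hij.symm, smul_zero]
  apply Subtype.ext
  rw [tvS_val _ _ h0]
  unfold tvM eV
  rw [Matrix.SpecialLinearGroup.transvection_coe]
  congr 1
  ext a b
  simp only [Matrix.vecMulVec_apply, Matrix.single_apply, Pi.smul_apply, Pi.single_apply,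
    smul_eq_mul]
  by_cases ha : a = i <;> by_cases hb : b = j
  · subst ha; subst hb; simp
  · have hb' : ¬ j = b := fun h => hb h.symm
    subst ha; simp [hb, hb']
  · have ha' : ¬ i = a := fun h => ha h.symm
    subst hb; simp [ha, ha']
  · have ha' : ¬ i = a := fun h => ha h.symm
    simp [ha, ha']

end Cfsg.Agent.Helper82.RU
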