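import Mathlib
import Cfsg.Agent.Lib.Helper82.CAFamily
import Cfsg.Agent.S0941

/-!
# Feit's bound for an abelian T.I. Frobenius kernel whose normalizer is a point stabilizer of a
doubly transitive group (character-theoretic core)
-/

set_option autoImplicit false
set_option linter.style.haveILetI false
set_option linter.unusedSectionVars false
set_option linter.unusedVariables false

namespace Cfsg.Agent.Helper82.ZassFeitAbel

open Cfsg Cfsg.Agent.Helper81 Cfsg.Agent.Helper82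
open scoped ComplexConjugate

universe u

section zfa

variable {G : Type u} [Group G] [Fintype G] (N : Subgroup G) [Fintype N]
  (K' : Subgroup N) [hKn : K'.Normal]
  (hC' : ∀ n ∈ K', n ≠ 1 → Subgroup.centralizer ({n} : Set N) ≤ K')
  (hind : ∀ ϑ : N → ℂ, IsClassFunction N ϑ → (∀ x : N, x ∉ K' → ϑ x = 0) → ϑ 1 = 0 →
    ∀ x : N, Cfsg.indFun N ϑ x = ϑ x)
  (hab : ∀ a ∈ K', ∀ b ∈ K', a * b = b * a)
  (ε : ℂ) (hε : ε = 1 ∨ ε = -1)
  (f : {χ : IrrCharacter N // ∃ k ∈ K', (χ : N → ℂ) k ≠ (χ : N → ℂ) 1} → IrrCharacter G)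
  (hinj : Function.Injective f)
  (hf : ∀ χ ξ, indFun N ((χ.1 : N → ℂ) - (ξ.1 : N → ℂ)) = ε • ((f χ : G → ℂ) - (f ξ : G → ℂ)))

include hε in
theorem eps_sq : ε * ε = 1 := by
  rcases hε with h | h <;> rw [h] <;> norm_num

include hε in
theorem eps_conj : conj ε = ε := by
  rcases hε with h | h
  · rw [h, map_one]
  · rw [h, map_neg, map_one]

include hC' hind hab hε hf in
/-- Differences of exceptional characters on `K' ∖ {1}`. -/
theorem exc_diff (χ ξ : {χ : IrrCharacter N // ∃ k ∈ K', (χ : N → ℂ) k ≠ (χ : N → ℂ) 1})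
    {k : N} (hk : k ∈ K') (hk1 : k ≠ 1) :
    (f χ : G → ℂ) k - ε * (χ.1 : N → ℂ) k = (f ξ : G → ℂ) k - ε * (ξ.1 : N → ℂ) k := by
  have hcl : IsClassFunction N ((χ.1 : N → ℂ) - (ξ.1 : N → ℂ)) := by
    intro g h
    rw [Pi.sub_apply, Pi.sub_apply,
      isClassFunction_of_isCharacter (IsIrrCharacter.isCharacter χ.1.2) g h,
      isClassFunction_of_isCharacter (IsIrrCharacter.isCharacter ξ.1.2) g h]
  have hvan : ∀ x : N, x ∉ K' → ((χ.1 : N → ℂ) - (ξ.1 : N → ℂ)) x = 0 := by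
    intro x hx
    rw [Pi.sub_apply, rel_vanish K' hC' χ.1.2 χ.2 hx, rel_vanish K' hC' ξ.1.2 ξ.2 hx, sub_zero]
  have hone : ((χ.1 : N → ℂ) - (ξ.1 : N → ℂ)) 1 = 0 := by
    rw [Pi.sub_apply, relevant_degree K' hC' hab χ.1.2 χ.2,
      relevant_degree K' hC' hab ξ.1.2 ξ.2, sub_self]
  have h1 := hind _ hcl hvan hone k
  rw [hf, Pi.smul_apply, Pi.sub_apply, smul_eq_mul, Pi.sub_apply] at h1
  have h2 := eps_sq ε hε
  linear_combination ε * h1 - ((f χ : G → ℂ) k - (f ξ : G → ℂ) k) * h2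

include hinj in
theorem inner_f (χ ξ : {χ : IrrCharacter N // ∃ k ∈ K', (χ : N → ℂ) k ≠ (χ : N → ℂ) 1}) :
    classInner (f χ : G → ℂ) (f ξ : G → ℂ) = if χ = ξ then 1 else 0 := by
  classical
  rw [irr_orthonormal (f χ).2 (f ξ).2]
  by_cases h : χ = ξ
  · rw [if_pos h, if_pos (by rw [h])]
  · rw [if_neg h, if_neg]
    intro h'
    exact h (hinj (Subtype.ext h'))

theorem inner_R (χ ξ : {χ : IrrCharacter N // ∃ k ∈ K', (χ : N → ℂ) k ≠ (χ : N → ℂ) 1}) :
    classInner (χ.1 : N → ℂ) (ξ.1 : N → ℂ) = if χ = ξ then 1 else 0 := by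
  classical
  rw [irr_orthonormal χ.1.2 ξ.1.2]
  by_cases h : χ = ξ
  · rw [if_pos h, if_pos (by rw [h])]
  · rw [if_neg h, if_neg]
    intro h'
    exact h (Subtype.ext (Subtype.ext h'))

include hC' hind hab hε hinj hf in
/-- The exceptional characters on `K' ∖ {1}`. -/
theorem exc_const (χ₁ : {χ : IrrCharacter N // ∃ k ∈ K', (χ : N → ℂ) k ≠ (χ : N → ℂ) 1}) :
    ∃ c : ℤ, ∀ χ : {χ : IrrCharacter N // ∃ k ∈ K', (χ : N → ℂ) k ≠ (χ : N → ℂ) 1},
      ∀ k : N, k ∈ K' → k ≠ 1 → (f χ : G → ℂ) k = ε * (χ.1 : N → ℂ) k + (c : ℂ) := by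
  classical
  have hres : IsGeneralizedCharacter N (fun x : N => (f χ₁ : G → ℂ) x) :=
    isGeneralizedCharacter_restrict N
      (isGeneralizedCharacter_of_isCharacter (IsIrrCharacter.isCharacter (f χ₁).2))
  have hχ₁g : IsGeneralizedCharacter N (χ₁.1 : N → ℂ) :=
    isGeneralizedCharacter_of_isCharacter (IsIrrCharacter.isCharacter χ₁.1.2)
  have hgen : IsGeneralizedCharacter N
      ((fun x : N => (f χ₁ : G → ℂ) x) - ε • (χ₁.1 : N → ℂ)) := by
    rcases hε with h | h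
    · rw [h, one_smul]
      exact isGeneralizedCharacter_sub hres hχ₁g
    · rw [h, neg_smul, one_smul, sub_neg_eq_add]
      exact isGeneralizedCharacter_add hres hχ₁g
  have hcl := isClassFunction_of_isGeneralizedCharacter hgen
  have hclG : IsClassFunction G (f χ₁ : G → ℂ) :=
    isClassFunction_of_isCharacter (IsIrrCharacter.isCharacter (f χ₁).2)
  obtain ⟨z, hz⟩ := rel_const_int K' hC' hab hcl (fun ζ => genChar_inner_int hgen
    (isGeneralizedCharacter_of_isCharacter (IsIrrCharacter.isCharacter ζ.2))) (by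
      intro χ ξ hχ hξ
      have h := caf_inner N K' ε hε f hf hclG ⟨χ, hχ⟩ ⟨ξ, hξ⟩
      rw [inner_f N K' f hinj, inner_f N K' f hinj, classInner_sub_right] at h
      rw [classInner_sub_left, classInner_sub_left, classInner_smul_left, classInner_smul_left]
      have h1 := inner_R N K' χ₁ ⟨χ, hχ⟩
      have h2 := inner_R N K' χ₁ ⟨ξ, hξ⟩
      simp only at h1 h2
      rw [h1, h2]
      linear_combination h) χ₁.1 χ₁.2
  refine ⟨z, fun χ k hk hk1 => ?_⟩
  have h1 := hz k hk hk1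
  rw [Pi.sub_apply, Pi.smul_apply, smul_eq_mul] at h1
  have h2 := exc_diff N K' hC' hind hab ε hε f hf χ χ₁ hk hk1
  linear_combination h2 + h1

include hC' hab hε hinj hf in
/-- The non-exceptional characters are constant on `K' ∖ {1}`. -/
theorem nonexc_const (χ₁ : {χ : IrrCharacter N // ∃ k ∈ K', (χ : N → ℂ) k ≠ (χ : N → ℂ) 1})
    (ψ : IrrCharacter G) (hψ : ∀ χ, f χ ≠ ψ) :
    ∃ a : ℤ, ∀ k : N, k ∈ K' → k ≠ 1 → (ψ : G → ℂ) k = (a : ℂ) := by
  apply caf_const N K' hC' hab ε hε f hf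
    (isGeneralizedCharacter_of_isCharacter (IsIrrCharacter.isCharacter ψ.2)) _ χ₁
  intro χ ξ
  have h1 : (ψ : G → ℂ) ≠ (f χ : G → ℂ) := fun h => hψ χ (Subtype.ext h.symm)
  have h2 : (ψ : G → ℂ) ≠ (f ξ : G → ℂ) := fun h => hψ ξ (Subtype.ext h.symm)
  rw [irr_orthonormal ψ.2 (f χ).2, if_neg h1, irr_orthonormal ψ.2 (f ξ).2, if_neg h2]

open Classical in
theorem sum_split (F : IrrCharacter N → ℂ) :
    ∑ ζ, F ζ = ∑ ζ ∈ Finset.univ.filter
        (fun ζ : IrrCharacter N => K' ≤ Cfsg.Agent.Helper79.irrKer ζ), F ζ +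
      ∑ χ : {χ : IrrCharacter N // ∃ k ∈ K', (χ : N → ℂ) k ≠ (χ : N → ℂ) 1}, F χ.1 := by
  rw [← Finset.sum_filter_add_sum_filter_not Finset.univ
    (fun ζ : IrrCharacter N => K' ≤ Cfsg.Agent.Helper79.irrKer ζ) F]
  congr 1
  apply Finset.sum_subtype
  intro ζ
  simp only [Finset.mem_filter, Finset.mem_univ, true_and]
  exact not_le_irrKer_iff K' ζ

include hC' hab in
theorem centralizer_eq {k : N} (hk : k ∈ K') (hk1 : k ≠ 1) :
    Subgroup.centralizer ({k} : Set N) = K' := by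
  apply le_antisymm (hC' k hk hk1)
  intro a ha
  rw [Subgroup.mem_centralizer_iff]
  intro z hz
  rw [Set.mem_singleton_iff] at hz
  subst hz
  exact hab z hk a ha

include hC' hab in
open Classical in
/-- The relevant characters sum to `-1` on `K' ∖ {1}`. -/
theorem sum_rel {k : N} (hk : k ∈ K') (hk1 : k ≠ 1) :
    ∑ χ : {χ : IrrCharacter N // ∃ k ∈ K', (χ : N → ℂ) k ≠ (χ : N → ℂ) 1},
      (χ.1 : N → ℂ) k = -1 := by
  have h := Cfsg.Agent.Helper79.sum_degree_mul k hk1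
  rw [sum_split N K'] at h
  have h1 : ∀ ζ ∈ Finset.univ.filter
      (fun ζ : IrrCharacter N => K' ≤ Cfsg.Agent.Helper79.irrKer ζ),
      (ζ : N → ℂ) 1 * (ζ : N → ℂ) k = (ζ : N → ℂ) 1 * (ζ : N → ℂ) 1 := by
    intro ζ hζ
    rw [Finset.mem_filter] at hζ
    rw [(Cfsg.Agent.Helper79.mem_irrKer ζ k).1 (hζ.2 hk)]
  rw [Finset.sum_congr rfl h1, sum_sq_le_ker_complex K'] at h
  have h2 : ∀ χ : {χ : IrrCharacter N // ∃ k ∈ K', (χ : N → ℂ) k ≠ (χ : N → ℂ) 1},
      (χ.1 : N → ℂ) 1 * (χ.1 : N → ℂ) k = (K'.index : ℂ) * (χ.1 : N → ℂ) k := by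
    intro χ
    rw [relevant_degree K' hC' hab χ.1.2 χ.2, index_cast_eq]
  rw [Finset.sum_congr rfl (fun χ _ => h2 χ), ← Finset.mul_sum] at h
  have hi0 : (K'.index : ℂ) ≠ 0 := by exact_mod_cast Subgroup.index_ne_zero_of_finite (H := K')
  have h3 : (K'.index : ℂ) * (1 + ∑ χ : {χ : IrrCharacter N // ∃ k ∈ K',
      (χ : N → ℂ) k ≠ (χ : N → ℂ) 1}, (χ.1 : N → ℂ) k) = 0 := by
    linear_combination h
  have h4 := (mul_eq_zero.1 h3).resolve_left hi0
  linear_combination h4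

include hC' hab in
open Classical in
/-- The squared absolute values of the relevant characters on `K' ∖ {1}`. -/
theorem sum_rel_sq {k : N} (hk : k ∈ K') (hk1 : k ≠ 1) :
    ∑ χ : {χ : IrrCharacter N // ∃ k ∈ K', (χ : N → ℂ) k ≠ (χ : N → ℂ) 1},
      (χ.1 : N → ℂ) k * conj ((χ.1 : N → ℂ) k) = (Nat.card K' : ℂ) - (K'.index : ℂ) := by
  have h := Cfsg.Agent.Helper79.col_orth_self k
  rw [sum_split N K', centralizer_eq N K' hC' hab hk hk1] at h
  have h1 : ∀ ζ ∈ Finset.univ.filter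
      (fun ζ : IrrCharacter N => K' ≤ Cfsg.Agent.Helper79.irrKer ζ),
      (ζ : N → ℂ) k * conj ((ζ : N → ℂ) k) = (ζ : N → ℂ) 1 * (ζ : N → ℂ) 1 := by
    intro ζ hζ
    rw [Finset.mem_filter] at hζ
    rw [(Cfsg.Agent.Helper79.mem_irrKer ζ k).1 (hζ.2 hk), (Cfsg.Agent.Helper79.irr_one_eq ζ).1,
      Complex.conj_natCast]
  rw [Finset.sum_congr rfl h1, sum_sq_le_ker_complex K'] at h
  linear_combination h

include hinj in
open Classical in
theorem sum_split_G (F : IrrCharacter G → ℂ) :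
    ∑ ψ, F ψ = ∑ χ : {χ : IrrCharacter N // ∃ k ∈ K', (χ : N → ℂ) k ≠ (χ : N → ℂ) 1}, F (f χ) +
      ∑ ψ ∈ Finset.univ.filter (fun ψ : IrrCharacter G => ∀ χ, f χ ≠ ψ), F ψ := by
  rw [← Finset.sum_filter_add_sum_filter_not Finset.univ
    (fun ψ : IrrCharacter G => ∃ χ, f χ = ψ) F]
  congr 1
  · have himg : Finset.univ.filter (fun ψ : IrrCharacter G => ∃ χ, f χ = ψ) =
        Finset.univ.image f := by
      ext ψ
      simp only [Finset.mem_filter, Finset.mem_univ, true_and, Finset.mem_image]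
    rw [himg, Finset.sum_image (fun a _ b _ h => hinj h)]
  · apply Finset.sum_congr _ (fun _ _ => rfl)
    ext ψ
    simp only [Finset.mem_filter, Finset.mem_univ, true_and, not_exists]

include hC' hab hε hinj in
open Classical in
/-- Column orthogonality at `k ∈ K' ∖ {1}`: the contribution of the non-exceptional characters. -/
theorem sum_nonexc_sq {k : N} (hk : k ∈ K') (hk1 : k ≠ 1)
    (hcent : Nat.card (Subgroup.centralizer ({(k : G)} : Set G)) = Nat.card K') (c : ℤ)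
    (hc : ∀ χ : {χ : IrrCharacter N // ∃ k ∈ K', (χ : N → ℂ) k ≠ (χ : N → ℂ) 1},
      (f χ : G → ℂ) k = ε * (χ.1 : N → ℂ) k + (c : ℂ)) :
    ∑ ψ ∈ Finset.univ.filter (fun ψ : IrrCharacter G => ∀ χ, f χ ≠ ψ),
      (ψ : G → ℂ) k * conj ((ψ : G → ℂ) k) = (K'.index : ℂ) + 2 * ε * (c : ℂ) -
        (Fintype.card {χ : IrrCharacter N // ∃ k ∈ K', (χ : N → ℂ) k ≠ (χ : N → ℂ) 1} : ℂ) *
          (c : ℂ) ^ 2 := by
  have h := Cfsg.Agent.Helper79.col_orth_self (k : G)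
  rw [hcent, sum_split_G N K' f hinj] at h
  have h1 : ∀ χ : {χ : IrrCharacter N // ∃ k ∈ K', (χ : N → ℂ) k ≠ (χ : N → ℂ) 1},
      (f χ : G → ℂ) k * conj ((f χ : G → ℂ) k) =
        (χ.1 : N → ℂ) k * conj ((χ.1 : N → ℂ) k) +
          ε * (c : ℂ) * ((χ.1 : N → ℂ) k + conj ((χ.1 : N → ℂ) k)) + (c : ℂ) ^ 2 := by
    intro χ
    rw [hc χ, map_add, map_mul, eps_conj ε hε, map_intCast]
    have h2 := eps_sq ε hε
    linear_combination ((χ.1 : N → ℂ) k * conj ((χ.1 : N → ℂ) k)) * h2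
  rw [Finset.sum_congr rfl (fun χ _ => h1 χ), Finset.sum_add_distrib, Finset.sum_add_distrib,
    ← Finset.mul_sum, Finset.sum_add_distrib, ← map_sum, sum_rel N K' hC' hab hk hk1,
    sum_rel_sq N K' hC' hab hk hk1, Finset.sum_const, Finset.card_univ, nsmul_eq_mul] at h
  rw [map_neg, map_one] at h
  linear_combination h

section restr

variable [Fintype K']
  (hlin : ∀ ζ : IrrCharacter N, K' ≤ Cfsg.Agent.Helper79.irrKer ζ → (ζ : N → ℂ) 1 = 1)

include hlin in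
open Classical in
/-- Summing a character of `N` over `K'` only sees the constituents trivial on `K'`. -/
theorem sumK_decomp (m : IrrCharacter N → ℕ) :
    ∑ k : K', (∑ ζ : IrrCharacter N, (m ζ : ℂ) • (ζ : N → ℂ)) (k : N) =
      (Nat.card K' : ℂ) * ∑ ζ ∈ Finset.univ.filter
        (fun ζ : IrrCharacter N => K' ≤ Cfsg.Agent.Helper79.irrKer ζ), (m ζ : ℂ) := by
  have h1 : ∀ k : K', (∑ ζ : IrrCharacter N, (m ζ : ℂ) • (ζ : N → ℂ)) (k : N) =
      ∑ ζ : IrrCharacter N, (m ζ : ℂ) * (ζ : N → ℂ) (k : N) := by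
    intro k
    rw [Finset.sum_apply]
    apply Finset.sum_congr rfl
    intro ζ _
    rw [Pi.smul_apply, smul_eq_mul]
  rw [Finset.sum_congr rfl (fun k _ => h1 k), Finset.sum_comm]
  have h2 : ∀ ζ : IrrCharacter N, ∑ k : K', (m ζ : ℂ) * (ζ : N → ℂ) (k : N) =
      if K' ≤ Cfsg.Agent.Helper79.irrKer ζ then (Nat.card K' : ℂ) * (m ζ : ℂ) else 0 := by
    intro ζ
    rw [← Finset.mul_sum]
    by_cases hζ : K' ≤ Cfsg.Agent.Helper79.irrKer ζ
    · rw [if_pos hζ]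
      have h3 : ∀ k : K', (ζ : N → ℂ) (k : N) = 1 := by
        intro k
        rw [(Cfsg.Agent.Helper79.mem_irrKer ζ k).1 (hζ k.2), hlin ζ hζ]
      rw [Finset.sum_congr rfl (fun k _ => h3 k), Finset.sum_const, Finset.card_univ,
        nsmul_eq_mul, mul_one, Nat.card_eq_fintype_card]
      ring
    · rw [if_neg hζ]
      have h3 : ¬ ∀ n : K', (ζ : N → ℂ) n = (ζ : N → ℂ) 1 := by
        intro hall
        apply hζ
        intro k hk
        exact (Cfsg.Agent.Helper79.mem_irrKer ζ k).2 (hall ⟨k, hk⟩)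
      rw [Cfsg.Agent.S0941.sum_eq_zero_of_not_le_ker K' ζ h3, mul_zero]
  rw [Finset.sum_congr rfl (fun ζ _ => h2 ζ), ← Finset.sum_filter, Finset.mul_sum]

include hlin in
open Classical in
/-- Restricting a character of `G` to `N` and summing over `K'`. -/
theorem sumK_restrict {Ψ : G → ℂ} (hΨ : IsCharacter G Ψ) :
    ∃ m : IrrCharacter N → ℕ,
      (∀ ζ : IrrCharacter N, classInner (fun x : N => Ψ x) (ζ : N → ℂ) = (m ζ : ℂ)) ∧
      (fun x : N => Ψ x) = ∑ ζ : IrrCharacter N, (m ζ : ℂ) • (ζ : N → ℂ) ∧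
      ∑ k : K', Ψ ((k : N) : G) = (Nat.card K' : ℂ) * ∑ ζ ∈ Finset.univ.filter
        (fun ζ : IrrCharacter N => K' ≤ Cfsg.Agent.Helper79.irrKer ζ), (m ζ : ℂ) := by
  obtain ⟨m, hm⟩ := exists_nat_decomp (isCharacter_restrict N hΨ)
  refine ⟨m, ?_, hm, ?_⟩
  · intro ζ
    rw [hm]
    exact classInner_nat_decomp (fun ζ => (m ζ : ℂ)) ζ
  · rw [← sumK_decomp N K' hlin m]
    apply Finset.sum_congr rfl
    intro k _
    rw [← hm]

end restr

section classify

variable [Fintype K']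
  (hlin : ∀ ζ : IrrCharacter N, K' ≤ Cfsg.Agent.Helper79.irrKer ζ → (ζ : N → ℂ) 1 = 1)
  (hInd : ∀ ζ : IrrCharacter N, K' ≤ Cfsg.Agent.Helper79.irrKer ζ →
    (ζ : N → ℂ) ≠ (fun _ => 1) → IsIrrCharacter G (indFun N (ζ : N → ℂ)) ∧
      ∀ k : N, k ∈ K' → k ≠ 1 → indFun N (ζ : N → ℂ) k = 1)
  (χ₀ : IrrCharacter G)
  (hperm : ∀ g : G, indFun N (fun _ : N => (1 : ℂ)) g = 1 + (χ₀ : G → ℂ) g)
  (hχ₀ : ∀ k : N, k ∈ K' → k ≠ 1 → (χ₀ : G → ℂ) k = 0)

include hlin hInd hperm in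
open Classical in
/-- An irreducible character of `G` whose restriction to `K'` contains the trivial character
is the trivial character, `χ₀`, or induced from a linear character of `N / K'`. -/
theorem classify (ψ : IrrCharacter G) (hψ : ∑ k : K', (ψ : G → ℂ) ((k : N) : G) ≠ 0) :
    (ψ : G → ℂ) = (fun _ => 1) ∨ ψ = χ₀ ∨
      ∃ ζ : IrrCharacter N, K' ≤ Cfsg.Agent.Helper79.irrKer ζ ∧ (ζ : N → ℂ) ≠ (fun _ => 1) ∧
        (ψ : G → ℂ) = indFun N (ζ : N → ℂ) := by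
  obtain ⟨m, hm, -, hsum⟩ := sumK_restrict N K' hlin (IsIrrCharacter.isCharacter ψ.2)
  rw [hsum] at hψ
  have hne : ∑ ζ ∈ Finset.univ.filter
      (fun ζ : IrrCharacter N => K' ≤ Cfsg.Agent.Helper79.irrKer ζ), (m ζ : ℂ) ≠ 0 :=
    fun h => hψ (by rw [h, mul_zero])
  obtain ⟨ζ, hζ, hmζ⟩ := Finset.exists_ne_zero_of_sum_ne_zero hne
  rw [Finset.mem_filter] at hζ
  have hclψ : IsClassFunction G (ψ : G → ℂ) :=
    isClassFunction_of_isCharacter (IsIrrCharacter.isCharacter ψ.2)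
  have hin : classInner (ψ : G → ℂ) (indFun N (ζ : N → ℂ)) ≠ 0 := by
    rw [← restrict_inner_ind N hclψ, hm ζ]
    exact hmζ
  by_cases h1 : (ζ : N → ℂ) = (fun _ => 1)
  · rw [h1] at hin
    have hfun : indFun N (fun _ : N => (1 : ℂ)) = (fun _ : G => (1 : ℂ)) + (χ₀ : G → ℂ) := by
      funext g
      rw [hperm g]
      rfl
    rw [hfun, classInner_add_right, irr_orthonormal ψ.2 isIrrCharacter_one,
      irr_orthonormal ψ.2 χ₀.2] at hin
    by_cases h2 : (ψ : G → ℂ) = (fun _ => 1)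
    · exact Or.inl h2
    · right; left
      rw [if_neg h2, zero_add] at hin
      by_contra h3
      apply hin
      rw [if_neg]
      intro h4
      exact h3 (Subtype.ext h4)
  · right; right
    refine ⟨ζ, hζ.2, h1, ?_⟩
    have hirr := (hInd ζ hζ.2 h1).1
    rw [irr_orthonormal ψ.2 hirr] at hin
    by_contra h2
    exact hin (if_neg h2)

end classify

end zfa

end Cfsg.Agent.Helper82.ZassFeitAbel
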