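import Mathlib

/-!
# Counting the conjugacy classes that meet an abelian T.I. subgroup
-/

set_option autoImplicit false
set_option linter.style.haveILetI false
set_option linter.unusedSectionVars false
set_option linter.unusedVariables false

namespace Cfsg.Agent.Helper82.ZassFeitCount

universe u

variable {G : Type u} [Group G] [Fintype G]

open Classical in
/-- The fibres of `k ↦ ConjClasses.mk k` on `K ∖ {1}` have at most `|N : K|` elements. -/
theorem fiber_le (K N : Subgroup G) (hKN : K ≤ N)
    (hTI : ∀ g : G, g ∉ N → ∀ k ∈ K, g * k * g⁻¹ ∈ K → k = 1)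
    (hab : ∀ a ∈ K, ∀ b ∈ K, a * b = b * a) (k₀ : G) (hk₀ : k₀ ∈ K) :
    ((Finset.univ.filter (fun k : G => k ∈ K ∧ k ≠ 1)).filter
      (fun k => ConjClasses.mk k = ConjClasses.mk k₀)).card ≤ K.relIndex N := by
  have hsub : (Finset.univ.filter (fun k : G => k ∈ K ∧ k ≠ 1)).filter
      (fun k => ConjClasses.mk k = ConjClasses.mk k₀) ⊆
      (Finset.univ : Finset (N ⧸ K.subgroupOf N)).image
        (fun q => ((q.out : N) : G)⁻¹ * k₀ * ((q.out : N) : G)) := by
    intro k hk
    rw [Finset.mem_filter, Finset.mem_filter] at hk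
    obtain ⟨⟨-, hkK, hk1⟩, hmk⟩ := hk
    rw [ConjClasses.mk_eq_mk_iff_isConj, isConj_iff] at hmk
    obtain ⟨c, hc⟩ := hmk
    have hcN : c ∈ N := by
      by_contra hcN
      exact hk1 (hTI c hcN k hkK (by rw [hc]; exact hk₀))
    rw [Finset.mem_image]
    refine ⟨QuotientGroup.mk (⟨c, hcN⟩ : N), Finset.mem_univ _, ?_⟩
    obtain ⟨κ, hκ⟩ := QuotientGroup.mk_out_eq_mul (K.subgroupOf N) (⟨c, hcN⟩ : N)
    rw [hκ]
    have hκK : ((κ : N) : G) ∈ K := Subgroup.mem_subgroupOf.1 κ.2
    have hk : k = c⁻¹ * k₀ * c := by rw [← hc]; group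
    simp only [Subgroup.coe_mul]
    have hcomm := hab _ hκK k hkK
    rw [hk] at hcomm ⊢
    calc (c * ((κ : N) : G))⁻¹ * k₀ * (c * ((κ : N) : G))
        = ((κ : N) : G)⁻¹ * ((c⁻¹ * k₀ * c) * ((κ : N) : G)) := by group
      _ = ((κ : N) : G)⁻¹ * (((κ : N) : G) * (c⁻¹ * k₀ * c)) := by rw [hcomm]
      _ = c⁻¹ * k₀ * c := by group
  calc _ ≤ _ := Finset.card_le_card hsub
    _ ≤ (Finset.univ : Finset (N ⧸ K.subgroupOf N)).card := Finset.card_image_le
    _ = K.relIndex N := by
      rw [Finset.card_univ, ← Nat.card_eq_fintype_card, Subgroup.relIndex, Subgroup.index_eq_card]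

open Classical in
/-- There are at least `1 + t + b` conjugacy classes, where `t * |N : K| + 1 = |K|` and `b` is the
number of classes not meeting `K`. -/
theorem class_count (K N : Subgroup G) (hKN : K ≤ N)
    (hTI : ∀ g : G, g ∉ N → ∀ k ∈ K, g * k * g⁻¹ ∈ K → k = 1)
    (hab : ∀ a ∈ K, ∀ b ∈ K, a * b = b * a) (t : ℕ) (ht : t * K.relIndex N + 1 = Nat.card K) :
    1 + t + Nat.card {C : ConjClasses G // ∀ g : G, ConjClasses.mk g = C → g ∉ K} ≤
      Nat.card (ConjClasses G) := by
  set s : Finset G := Finset.univ.filter (fun k : G => k ∈ K ∧ k ≠ 1) with hs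
  have hcardK : Nat.card K = s.card + 1 := by
    rw [Nat.card_eq_fintype_card, Fintype.card_subtype]
    have h1 : Finset.univ.filter (fun x : G => x ∈ K) = insert 1 s := by
      ext x
      simp only [hs, Finset.mem_filter, Finset.mem_univ, true_and, Finset.mem_insert]
      constructor
      · intro hx
        by_cases hx1 : x = 1
        · exact Or.inl hx1
        · exact Or.inr ⟨hx, hx1⟩
      · rintro (rfl | hx)
        · exact K.one_mem
        · exact hx.1
    rw [h1, Finset.card_insert_of_notMem]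
    simp [hs]
  have hfib : ∀ b ∈ s.image ConjClasses.mk,
      (s.filter (fun k => ConjClasses.mk k = b)).card ≤ K.relIndex N := by
    intro b hb
    rw [Finset.mem_image] at hb
    obtain ⟨k₀, hk₀, rfl⟩ := hb
    rw [hs, Finset.mem_filter] at hk₀
    exact fiber_le K N hKN hTI hab k₀ hk₀.2.1
  have hle := Finset.card_le_mul_card_image s (K.relIndex N) hfib
  have he : 0 < K.relIndex N := by
    rw [Subgroup.relIndex]
    exact Nat.pos_of_ne_zero Subgroup.index_ne_zero_of_finite
  have htA : t ≤ (s.image ConjClasses.mk).card := by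
    have h1 : t * K.relIndex N ≤ K.relIndex N * (s.image ConjClasses.mk).card := by omega
    rw [mul_comm] at h1
    exact Nat.le_of_mul_le_mul_left h1 he
  set B : Finset (ConjClasses G) :=
    Finset.univ.filter (fun C : ConjClasses G => ∀ g : G, ConjClasses.mk g = C → g ∉ K) with hB
  have hBcard : Nat.card {C : ConjClasses G // ∀ g : G, ConjClasses.mk g = C → g ∉ K} = B.card := by
    rw [Nat.card_eq_fintype_card, Fintype.card_subtype]
  have hd1 : Disjoint ({ConjClasses.mk (1 : G)} : Finset (ConjClasses G))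
      (s.image ConjClasses.mk) := by
    rw [Finset.disjoint_singleton_left, Finset.mem_image]
    rintro ⟨k, hk, hmk⟩
    rw [hs, Finset.mem_filter] at hk
    rw [ConjClasses.mk_eq_mk_iff_isConj] at hmk
    have := isConj_one_right.1 hmk.symm
    exact hk.2.2 this
  have hd2 : Disjoint (({ConjClasses.mk (1 : G)} : Finset (ConjClasses G)) ∪
      (s.image ConjClasses.mk)) B := by
    rw [Finset.disjoint_left]
    intro C hC hCB
    rw [hB, Finset.mem_filter] at hCB
    rw [Finset.mem_union, Finset.mem_singleton, Finset.mem_image] at hC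
    rcases hC with rfl | ⟨k, hk, rfl⟩
    · exact hCB.2 1 rfl K.one_mem
    · rw [hs, Finset.mem_filter] at hk
      exact hCB.2 k rfl hk.2.1
  have hcard := Finset.card_le_univ ((({ConjClasses.mk (1 : G)} : Finset (ConjClasses G)) ∪
      (s.image ConjClasses.mk)) ∪ B)
  rw [Finset.card_union_of_disjoint hd2, Finset.card_union_of_disjoint hd1,
    Finset.card_singleton] at hcard
  rw [hBcard, Nat.card_eq_fintype_card]
  omega

end Cfsg.Agent.Helper82.ZassFeitCount
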