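import Mathlib
import Cfsg.Agent.Lib.Helper82.ZassFeitBase
import Cfsg.Agent.Lib.Helper82.ZassFeitCount
import Cfsg.Agent.Lib.Helper3.CharOrtho
import Cfsg.Agent.Lib.Helper3.CharDecomp
import Cfsg.Agent.Lib.Helper81.CharProd

/-!
# Feit's bound, character-theoretic core (second part)
-/

set_option autoImplicit false
set_option linter.style.haveILetI false
set_option linter.unusedSectionVars false
set_option linter.unusedVariables false

namespace Cfsg.Agent.Helper82.ZassFeitAbel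

open Cfsg Cfsg.Agent.Helper81 Cfsg.Agent.Helper82
open scoped ComplexConjugate

universe u

section zfa2

variable {G : Type u} [Group G] [Fintype G] (N : Subgroup G) [Fintype N]
  (K' : Subgroup N) [hKn : K'.Normal]
  (hC' : ∀ n ∈ K', n ≠ 1 → Subgroup.centralizer ({n} : Set N) ≤ K')
  (hind : ∀ ϑ : N → ℂ, IsClassFunction N ϑ → (∀ x : N, x ∉ K' → ϑ x = 0) → ϑ 1 = 0 →
    ∀ x : N, Cfsg.indFun N ϑ x = ϑ x)
  (hab : ∀ a ∈ K', ∀ b ∈ K', a * b = b * a)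
  (ε : ℂ) (hε : ε = 1 ∨ ε = -1)
  (f : {χ : IrrCharacter N // ∃ k ∈ K', (χ : N → ℂ) k ≠ (χ : N → ℂ) 1} → IrrCharacter G)
  (hinj : Function.Injective f)
  (hf : ∀ χ ξ, indFun N ((χ.1 : N → ℂ) - (ξ.1 : N → ℂ)) = ε • ((f χ : G → ℂ) - (f ξ : G → ℂ)))
  [Fintype K']
  (hlin : ∀ ζ : IrrCharacter N, K' ≤ Cfsg.Agent.Helper79.irrKer ζ → (ζ : N → ℂ) 1 = 1)
  (hInd : ∀ ζ : IrrCharacter N, K' ≤ Cfsg.Agent.Helper79.irrKer ζ →
    (ζ : N → ℂ) ≠ (fun _ => 1) → IsIrrCharacter G (indFun N (ζ : N → ℂ)) ∧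
      ∀ k : N, k ∈ K' → k ≠ 1 → indFun N (ζ : N → ℂ) k = 1)
  (χ₀ : IrrCharacter G)
  (hperm : ∀ g : G, indFun N (fun _ : N => (1 : ℂ)) g = 1 + (χ₀ : G → ℂ) g)
  (hχ₀ : ∀ k : N, k ∈ K' → k ≠ 1 → (χ₀ : G → ℂ) k = 0)

include hC' hind hab hε hinj hf hlin hInd hperm hχ₀ in
/-- An exceptional character has no constituent trivial on `K'`. -/
theorem exc_sumK_zero
    (χ₁ χ₂ : {χ : IrrCharacter N // ∃ k ∈ K', (χ : N → ℂ) k ≠ (χ : N → ℂ) 1}) (hne : χ₂ ≠ χ₁) :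
    ∑ k : K', (f χ₁ : G → ℂ) ((k : N) : G) = 0 := by
  by_contra hsum
  have hconst : ∃ v : ℂ, ∀ k : N, k ∈ K' → k ≠ 1 → (f χ₁ : G → ℂ) k = v := by
    rcases classify N K' hlin hInd χ₀ hperm (f χ₁) hsum with h | h | ⟨ζ, hζ, hζ1, h⟩
    · exact ⟨1, fun k _ _ => by rw [h]⟩
    · exact ⟨0, fun k hk hk1 => by rw [h]; exact hχ₀ k hk hk1⟩
    · exact ⟨1, fun k hk hk1 => by rw [h]; exact (hInd ζ hζ hζ1).2 k hk hk1⟩
  obtain ⟨v, hv⟩ := hconst
  obtain ⟨a, ha, b, hb, ha1, hb1, hab'⟩ := rel_nonconst K' hC' χ₁.1.2 χ₁.2 χ₂.1.2 χ₂.2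
    (fun h => hne (Subtype.ext (Subtype.ext h)).symm)
  obtain ⟨c, hc⟩ := exc_const N K' hC' hind hab ε hε f hinj hf χ₁
  have h1 := hc χ₁ a ha ha1
  have h2 := hc χ₁ b hb hb1
  rw [hv a ha ha1] at h1
  rw [hv b hb hb1] at h2
  have h3 : ε * ((χ₁.1 : N → ℂ) a - (χ₁.1 : N → ℂ) b) = 0 := by linear_combination h2 - h1
  rcases mul_eq_zero.1 h3 with h | h
  · exact caf_eps_ne ε hε h
  · exact hab' (sub_eq_zero.1 h)

include hC' hind hab hε hinj hf hlin hInd hperm hχ₀ in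
open Classical in
/-- The restriction of an exceptional character to `N`. -/
theorem exc_restrict
    (χ₁ χ₂ : {χ : IrrCharacter N // ∃ k ∈ K', (χ : N → ℂ) k ≠ (χ : N → ℂ) 1}) (hne : χ₂ ≠ χ₁)
    (k₀ : N) (hk₀ : k₀ ∈ K') (hk₀1 : k₀ ≠ 1) (c : ℤ)
    (hc : ∀ χ : {χ : IrrCharacter N // ∃ k ∈ K', (χ : N → ℂ) k ≠ (χ : N → ℂ) 1},
      ∀ k : N, k ∈ K' → k ≠ 1 → (f χ : G → ℂ) k = ε * (χ.1 : N → ℂ) k + (c : ℂ)) :
    ∃ g m : ℕ, (c : ℂ) = -(g : ℂ) ∧ (g : ℂ) + ε = (m : ℂ) ∧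
      ∀ x : N, (f χ₁ : G → ℂ) x =
        (g : ℂ) * ∑ ξ : {χ : IrrCharacter N // ∃ k ∈ K', (χ : N → ℂ) k ≠ (χ : N → ℂ) 1},
          (ξ.1 : N → ℂ) x + ε * (χ₁.1 : N → ℂ) x := by
  obtain ⟨m, hm, hdec, hsum⟩ := sumK_restrict N K' hlin (IsIrrCharacter.isCharacter (f χ₁).2)
  rw [exc_sumK_zero N K' hC' hind hab ε hε f hinj hf hlin hInd χ₀ hperm hχ₀ χ₁ χ₂ hne] at hsum
  have hK0 : (Nat.card K' : ℂ) ≠ 0 := by exact_mod_cast (Nat.card_pos (α := K')).ne'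
  have hs0 : ∑ ζ ∈ Finset.univ.filter
      (fun ζ : IrrCharacter N => K' ≤ Cfsg.Agent.Helper79.irrKer ζ), (m ζ : ℂ) = 0 :=
    (mul_eq_zero.1 hsum.symm).resolve_left hK0
  have hm0 : ∀ ζ : IrrCharacter N, K' ≤ Cfsg.Agent.Helper79.irrKer ζ → m ζ = 0 := by
    intro ζ hζ
    have h1 : ∑ ζ ∈ Finset.univ.filter
        (fun ζ : IrrCharacter N => K' ≤ Cfsg.Agent.Helper79.irrKer ζ), m ζ = 0 := by
      exact_mod_cast hs0
    exact Finset.sum_eq_zero_iff.1 h1 ζ (Finset.mem_filter.2 ⟨Finset.mem_univ _, hζ⟩)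
  have hclG : IsClassFunction G (f χ₁ : G → ℂ) :=
    isClassFunction_of_isCharacter (IsIrrCharacter.isCharacter (f χ₁).2)
  have hmr : ∀ ξ : {χ : IrrCharacter N // ∃ k ∈ K', (χ : N → ℂ) k ≠ (χ : N → ℂ) 1},
      (m ξ.1 : ℂ) = (m χ₂.1 : ℂ) + ε * (if χ₁ = ξ then 1 else 0) := by
    intro ξ
    have h := caf_inner N K' ε hε f hf hclG ξ χ₂
    rw [classInner_sub_right, hm, hm, inner_f N K' f hinj, inner_f N K' f hinj,
      if_neg (show ¬ χ₁ = χ₂ from fun h => hne h.symm)] at h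
    linear_combination h
  have hx : ∀ x : N, (f χ₁ : G → ℂ) x = (m χ₂.1 : ℂ) *
      ∑ ξ : {χ : IrrCharacter N // ∃ k ∈ K', (χ : N → ℂ) k ≠ (χ : N → ℂ) 1},
        (ξ.1 : N → ℂ) x + ε * (χ₁.1 : N → ℂ) x := by
    intro x
    have h1 := congrFun hdec x
    simp only [Finset.sum_apply, Pi.smul_apply, smul_eq_mul] at h1
    rw [h1, sum_split N K' (fun ζ => (m ζ : ℂ) * (ζ : N → ℂ) x)]
    rw [Finset.sum_eq_zero (fun ζ hζ => by
      rw [hm0 ζ (Finset.mem_filter.1 hζ).2, Nat.cast_zero, zero_mul]), zero_add]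
    rw [Finset.sum_congr rfl (fun ξ _ => by rw [hmr ξ])]
    simp only [add_mul, Finset.sum_add_distrib, ← Finset.mul_sum, mul_assoc, ite_mul, one_mul,
      zero_mul, Finset.sum_ite_eq, Finset.mem_univ, if_true]
  refine ⟨m χ₂.1, m χ₁.1, ?_, ?_, hx⟩
  · have h1 := hc χ₁ k₀ hk₀ hk₀1
    rw [hx k₀, sum_rel N K' hC' hab hk₀ hk₀1] at h1
    linear_combination -h1
  · rw [hmr χ₁, if_pos rfl, mul_one]

include hC' hind hab hε hinj hf hlin hInd hperm hχ₀ in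
open Classical in
/-- The constant `c` of the exceptional characters vanishes, by counting the non-exceptional
characters. -/
theorem c_zero (χ₁ : {χ : IrrCharacter N // ∃ k ∈ K', (χ : N → ℂ) k ≠ (χ : N → ℂ) 1})
    (k₀ : N) (hk₀ : k₀ ∈ K') (hk₀1 : k₀ ≠ 1)
    (hcent : Nat.card (Subgroup.centralizer ({(k₀ : G)} : Set G)) = Nat.card K') (c : ℤ)
    (hc : ∀ χ : {χ : IrrCharacter N // ∃ k ∈ K', (χ : N → ℂ) k ≠ (χ : N → ℂ) 1},
      ∀ k : N, k ∈ K' → k ≠ 1 → (f χ : G → ℂ) k = ε * (χ.1 : N → ℂ) k + (c : ℂ))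
    (hcount : K'.index + 1 +
      Fintype.card {χ : IrrCharacter N // ∃ k ∈ K', (χ : N → ℂ) k ≠ (χ : N → ℂ) 1} ≤
        Fintype.card (IrrCharacter G))
    (ht : 3 ≤ Fintype.card {χ : IrrCharacter N // ∃ k ∈ K', (χ : N → ℂ) k ≠ (χ : N → ℂ) 1}) :
    c = 0 := by
  set nonexc := Finset.univ.filter (fun ψ : IrrCharacter G => ∀ χ, f χ ≠ ψ) with hnon
  have hsq := sum_nonexc_sq N K' hC' hab ε hε f hinj hk₀ hk₀1 hcent c
    (fun χ => hc χ k₀ hk₀ hk₀1)
  have hcard : nonexc.card +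
      Fintype.card {χ : IrrCharacter N // ∃ k ∈ K', (χ : N → ℂ) k ≠ (χ : N → ℂ) 1} =
        Fintype.card (IrrCharacter G) := by
    have h1 := Finset.card_filter_add_card_filter_not
      (s := (Finset.univ : Finset (IrrCharacter G))) (fun ψ : IrrCharacter G => ∀ χ, f χ ≠ ψ)
    have h2 : Finset.univ.filter (fun ψ : IrrCharacter G => ¬ ∀ χ, f χ ≠ ψ) =
        Finset.univ.image f := by
      ext ψ
      simp only [Finset.mem_filter, Finset.mem_univ, true_and, Finset.mem_image, not_forall,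
        not_not]
    rw [h2, Finset.card_image_of_injective _ hinj, Finset.card_univ, Finset.card_univ] at h1
    exact h1
  have hval : ∀ ψ : IrrCharacter G, ∃ z : ℤ, ψ ∈ nonexc →
      ((ψ : G → ℂ) k₀ * conj ((ψ : G → ℂ) k₀) = (z : ℂ) ∧ 0 ≤ z ∧ (ψ ≠ χ₀ → 1 ≤ z)) := by
    intro ψ
    by_cases hψ : ψ ∈ nonexc
    · rw [hnon, Finset.mem_filter] at hψ
      obtain ⟨a, ha⟩ := nonexc_const N K' hC' hab ε hε f hinj hf χ₁ ψ hψ.2
      refine ⟨a ^ 2, fun _ => ⟨?_, sq_nonneg a, ?_⟩⟩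
      · rw [ha k₀ hk₀ hk₀1, map_intCast]
        push_cast
        ring
      · intro hne
        have ha0 : a ≠ 0 := by
          rintro rfl
          apply hne
          have hs : ∑ k : K', (ψ : G → ℂ) ((k : N) : G) = (ψ : G → ℂ) 1 := by
            rw [Finset.sum_eq_single (1 : K')]
            · rfl
            · intro k _ hk1
              rw [ha k k.2 (fun h => hk1 (Subtype.ext h))]
              simp
            · intro h
              exact absurd (Finset.mem_univ _) h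
          have hne0 : ∑ k : K', (ψ : G → ℂ) ((k : N) : G) ≠ 0 := by
            rw [hs, (Cfsg.Agent.Helper79.irr_one_eq ψ).1]
            exact_mod_cast (Cfsg.Agent.Helper79.irr_one_eq ψ).2.ne'
          rcases classify N K' hlin hInd χ₀ hperm ψ hne0 with h | h | ⟨ζ, hζ, hζ1, h⟩
          · exfalso
            have := ha k₀ hk₀ hk₀1
            rw [h] at this
            simp at this
          · exact h
          · exfalso
            have := ha k₀ hk₀ hk₀1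
            rw [h, (hInd ζ hζ hζ1).2 k₀ hk₀ hk₀1] at this
            simp at this
        rcases lt_or_gt_of_ne ha0 with h | h
        · nlinarith
        · nlinarith
    · exact ⟨0, fun h => absurd h hψ⟩
  choose z hz using hval
  have hsumZ : ((∑ ψ ∈ nonexc, z ψ : ℤ) : ℂ) = (K'.index : ℂ) + 2 * ε * (c : ℂ) -
      (Fintype.card {χ : IrrCharacter N // ∃ k ∈ K', (χ : N → ℂ) k ≠ (χ : N → ℂ) 1} : ℂ) *
        (c : ℂ) ^ 2 := by
    rw [← hsq]
    push_cast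
    apply Finset.sum_congr rfl
    intro ψ hψ
    exact ((hz ψ hψ).1).symm
  have hge : ((nonexc.card : ℤ) - 1) ≤ ∑ ψ ∈ nonexc, z ψ := by
    calc ((nonexc.card : ℤ) - 1) ≤ ((nonexc.erase χ₀).card : ℤ) := by
          have := Finset.pred_card_le_card_erase (s := nonexc) (a := χ₀)
          omega
      _ = ∑ ψ ∈ nonexc.erase χ₀, (1 : ℤ) := by simp
      _ ≤ ∑ ψ ∈ nonexc.erase χ₀, z ψ := Finset.sum_le_sum (fun ψ hψ =>
          (hz ψ (Finset.mem_of_mem_erase hψ)).2.2 (Finset.ne_of_mem_erase hψ))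
      _ ≤ ∑ ψ ∈ nonexc, z ψ := Finset.sum_le_sum_of_subset_of_nonneg (Finset.erase_subset _ _)
          (fun ψ hψ _ => (hz ψ hψ).2.1)
  have hn : (K'.index : ℤ) + 1 ≤ (nonexc.card : ℤ) := by
    have : K'.index + 1 ≤ nonexc.card := by omega
    exact_mod_cast this
  have ht' : (3 : ℤ) ≤
      (Fintype.card {χ : IrrCharacter N // ∃ k ∈ K', (χ : N → ℂ) k ≠ (χ : N → ℂ) 1} : ℤ) := by
    exact_mod_cast ht
  have h3c : 3 * c ^ 2 ≤
      (Fintype.card {χ : IrrCharacter N // ∃ k ∈ K', (χ : N → ℂ) k ≠ (χ : N → ℂ) 1} : ℤ) *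
        c ^ 2 := by
    nlinarith [sq_nonneg c]
  by_contra hc0
  rcases hε with rfl | rfl
  · have h : (∑ ψ ∈ nonexc, z ψ : ℤ) = (K'.index : ℤ) + 2 * c -
        (Fintype.card {χ : IrrCharacter N // ∃ k ∈ K', (χ : N → ℂ) k ≠ (χ : N → ℂ) 1} : ℤ) *
          c ^ 2 := by
      have h' : ((∑ ψ ∈ nonexc, z ψ : ℤ) : ℂ) = (((K'.index : ℤ) + 2 * c -
          (Fintype.card {χ : IrrCharacter N // ∃ k ∈ K', (χ : N → ℂ) k ≠ (χ : N → ℂ) 1} : ℤ) *
            c ^ 2 : ℤ) : ℂ) := by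
        rw [hsumZ]
        push_cast
        ring
      exact_mod_cast h'
    rcases lt_or_gt_of_ne hc0 with h0 | h0
    · nlinarith
    · nlinarith
  · have h : (∑ ψ ∈ nonexc, z ψ : ℤ) = (K'.index : ℤ) - 2 * c -
        (Fintype.card {χ : IrrCharacter N // ∃ k ∈ K', (χ : N → ℂ) k ≠ (χ : N → ℂ) 1} : ℤ) *
          c ^ 2 := by
      have h' : ((∑ ψ ∈ nonexc, z ψ : ℤ) : ℂ) = (((K'.index : ℤ) - 2 * c -
          (Fintype.card {χ : IrrCharacter N // ∃ k ∈ K', (χ : N → ℂ) k ≠ (χ : N → ℂ) 1} : ℤ) *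
            c ^ 2 : ℤ) : ℂ) := by
        rw [hsumZ]
        push_cast
        ring
      exact_mod_cast h'
    rcases lt_or_gt_of_ne hc0 with h0 | h0
    · nlinarith
    · nlinarith

include hlin in
open Classical in
/-- There are `|N : K'|` irreducible characters of `N` trivial on `K'`. -/
theorem nonrel_card : (Finset.univ.filter
    (fun ζ : IrrCharacter N => K' ≤ Cfsg.Agent.Helper79.irrKer ζ)).card = K'.index := by
  have h := sum_sq_le_ker_complex K'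
  rw [Finset.sum_congr rfl (fun ζ hζ => by
    rw [hlin ζ (Finset.mem_filter.1 hζ).2, mul_one]), Finset.sum_const, nsmul_eq_mul, mul_one] at h
  exact_mod_cast h

include hlin hInd in
open Classical in
/-- Summing an induced linear character over `K'`. -/
theorem ind_sumK (ζ : IrrCharacter N) (hζ : K' ≤ Cfsg.Agent.Helper79.irrKer ζ)
    (hζ1 : (ζ : N → ℂ) ≠ (fun _ => 1)) :
    ∑ k : K', indFun N (ζ : N → ℂ) ((k : N) : G) =
      (N.index : ℂ) + ((Fintype.card K' - 1 : ℕ) : ℂ) := by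
  rw [← Finset.add_sum_erase Finset.univ _ (Finset.mem_univ (1 : K'))]
  rw [Finset.sum_congr rfl (fun (k : K') hk => (hInd ζ hζ hζ1).2 (k : N) k.2
    (fun h => (Finset.ne_of_mem_erase hk) (Subtype.ext h)))]
  rw [Finset.sum_const, Finset.card_erase_of_mem (Finset.mem_univ _), Finset.card_univ,
    nsmul_eq_mul, mul_one]
  congr 1
  have h1 : (((1 : K') : N) : G) = 1 := rfl
  rw [h1, indFun_one, hlin ζ hζ, mul_one]

include hlin hInd in
open Classical in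
/-- At most two linear characters of `N / K'` induce the same character of `G`. -/
theorem ind_fiber (hidx : N.index = Nat.card K' + 1) (ψ : IrrCharacter G) :
    ((Finset.univ.filter (fun ζ : IrrCharacter N => K' ≤ Cfsg.Agent.Helper79.irrKer ζ)).filter
      (fun ζ : IrrCharacter N =>
        (ζ : N → ℂ) ≠ (fun _ => 1) ∧ indFun N (ζ : N → ℂ) = (ψ : G → ℂ))).card ≤ 2 := by
  by_cases hex : ∃ ζ₀ : IrrCharacter N, K' ≤ Cfsg.Agent.Helper79.irrKer ζ₀ ∧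
      (ζ₀ : N → ℂ) ≠ (fun _ => 1) ∧ indFun N (ζ₀ : N → ℂ) = (ψ : G → ℂ)
  · obtain ⟨ζ₀, hζ₀, hζ₀1, hψ⟩ := hex
    obtain ⟨m, hm, -, hsum⟩ := sumK_restrict N K' hlin (IsIrrCharacter.isCharacter ψ.2)
    rw [← hψ, ind_sumK N K' hlin hInd ζ₀ hζ₀ hζ₀1, hidx, ← Nat.card_eq_fintype_card] at hsum
    have hKpos : 0 < Nat.card K' := Nat.card_pos
    have h0 : ((Nat.card K' + 1 : ℕ) : ℂ) + ((Nat.card K' - 1 : ℕ) : ℂ) =
        ((Nat.card K' * 2 : ℕ) : ℂ) := by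
      obtain ⟨h', hh'⟩ : ∃ h', Nat.card K' = h' + 1 := ⟨Nat.card K' - 1, by omega⟩
      rw [hh', Nat.add_sub_cancel]
      push_cast
      ring
    have h1 : ((Nat.card K' * 2 : ℕ) : ℂ) = ((Nat.card K' * ∑ ζ ∈ Finset.univ.filter
        (fun ζ : IrrCharacter N => K' ≤ Cfsg.Agent.Helper79.irrKer ζ), m ζ : ℕ) : ℂ) := by
      rw [← Nat.cast_sum, ← Nat.cast_mul, h0] at hsum
      exact hsum
    have h2 : Nat.card K' * 2 = Nat.card K' * ∑ ζ ∈ Finset.univ.filter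
        (fun ζ : IrrCharacter N => K' ≤ Cfsg.Agent.Helper79.irrKer ζ), m ζ := by
      exact_mod_cast h1
    have h3 : ∑ ζ ∈ Finset.univ.filter
        (fun ζ : IrrCharacter N => K' ≤ Cfsg.Agent.Helper79.irrKer ζ), m ζ = 2 :=
      (Nat.eq_of_mul_eq_mul_left hKpos h2).symm
    have hclψ : IsClassFunction G (ψ : G → ℂ) :=
      isClassFunction_of_isCharacter (IsIrrCharacter.isCharacter ψ.2)
    have hm1 : ∀ ζ ∈ (Finset.univ.filter
        (fun ζ : IrrCharacter N => K' ≤ Cfsg.Agent.Helper79.irrKer ζ)).filter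
        (fun ζ : IrrCharacter N =>
        (ζ : N → ℂ) ≠ (fun _ => 1) ∧ indFun N (ζ : N → ℂ) = (ψ : G → ℂ)),
        m ζ = 1 := by
      intro ζ hζ
      rw [Finset.mem_filter] at hζ
      have h4 := hm ζ
      rw [restrict_inner_ind N hclψ, hζ.2.2, irr_orthonormal ψ.2 ψ.2, if_pos rfl] at h4
      exact_mod_cast h4.symm
    have hc1 : ((Finset.univ.filter
        (fun ζ : IrrCharacter N => K' ≤ Cfsg.Agent.Helper79.irrKer ζ)).filter
        (fun ζ : IrrCharacter N =>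
          (ζ : N → ℂ) ≠ (fun _ => 1) ∧ indFun N (ζ : N → ℂ) = (ψ : G → ℂ))).card =
        ∑ ζ ∈ (Finset.univ.filter
          (fun ζ : IrrCharacter N => K' ≤ Cfsg.Agent.Helper79.irrKer ζ)).filter
          (fun ζ : IrrCharacter N =>
            (ζ : N → ℂ) ≠ (fun _ => 1) ∧ indFun N (ζ : N → ℂ) = (ψ : G → ℂ)), m ζ := by
      rw [Finset.sum_congr rfl hm1, Finset.sum_const, smul_eq_mul, mul_one]
    rw [hc1, ← h3]
    exact Finset.sum_le_sum_of_subset (Finset.filter_subset _ _)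
  · have hempty : (Finset.univ.filter
        (fun ζ : IrrCharacter N => K' ≤ Cfsg.Agent.Helper79.irrKer ζ)).filter
        (fun ζ : IrrCharacter N =>
        (ζ : N → ℂ) ≠ (fun _ => 1) ∧ indFun N (ζ : N → ℂ) = (ψ : G → ℂ)) = ∅ := by
      rw [Finset.eq_empty_iff_forall_notMem]
      intro ζ hζ
      rw [Finset.mem_filter, Finset.mem_filter] at hζ
      exact hex ⟨ζ, hζ.1.2, hζ.2.1, hζ.2.2⟩
    rw [hempty, Finset.card_empty]
    exact Nat.zero_le 2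

/-- `Λ · conj Λ` is a character. -/
theorem tensor_isCharacter {Λ : G → ℂ} (hΛ : IsIrrCharacter G Λ) :
    IsCharacter G (fun g => Λ g * conj (Λ g)) :=
  isCharacter_mul (IsIrrCharacter.isCharacter hΛ)
    (Cfsg.Agent.Helper3.isCharacter_conj (IsIrrCharacter.isCharacter hΛ))

theorem tensor_inner_one {Λ : G → ℂ} (hΛ : IsIrrCharacter G Λ) :
    classInner (fun g => Λ g * conj (Λ g)) (fun _ => (1 : ℂ)) = 1 := by
  classical
  have h := irr_orthonormal hΛ hΛ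
  rw [if_pos rfl] at h
  unfold classInner at h ⊢
  refine Eq.trans ?_ h
  congr 1
  apply Finset.sum_congr rfl
  intro g _
  rw [map_one, mul_one]

include hC' hlin in
theorem tensor_inner_ind {Λ : G → ℂ} (hΛ : IsIrrCharacter G Λ)
    (χ₁ : {χ : IrrCharacter N // ∃ k ∈ K', (χ : N → ℂ) k ≠ (χ : N → ℂ) 1})
    (hres : ∀ x : N, Λ x = (χ₁.1 : N → ℂ) x)
    (ζ : IrrCharacter N) (hζ : K' ≤ Cfsg.Agent.Helper79.irrKer ζ) :
    classInner (fun g => Λ g * conj (Λ g)) (indFun N (ζ : N → ℂ)) = 1 := by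
  classical
  rw [← restrict_inner_ind N (isClassFunction_of_isCharacter (tensor_isCharacter hΛ))]
  have h := irr_orthonormal χ₁.1.2 χ₁.1.2
  rw [if_pos rfl] at h
  unfold classInner at h ⊢
  refine Eq.trans ?_ h
  congr 1
  apply Finset.sum_congr rfl
  intro x _
  dsimp only
  rw [hres x]
  by_cases hx : x ∈ K'
  · rw [(Cfsg.Agent.Helper79.mem_irrKer ζ x).1 (hζ hx), hlin ζ hζ, map_one, mul_one]
  · rw [rel_vanish K' hC' χ₁.1.2 χ₁.2 hx]
    simp

end zfa2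

end Cfsg.Agent.Helper82.ZassFeitAbel
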