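import Mathlib
import Cfsg.Agent.Lib.Helper82.ZassFeitCore

/-!
# Feit's bound for an abelian T.I. Frobenius kernel whose normalizer is a point stabilizer of a
doubly transitive group: the character-theoretic core
-/

set_option autoImplicit false
set_option linter.style.haveILetI false
set_option linter.unusedSectionVars false
set_option linter.unusedVariables false

namespace Cfsg.Agent.Helper82.ZassFeitAbel

open Cfsg Cfsg.Agent.Helper81 Cfsg.Agent.Helper82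
open scoped ComplexConjugate

universe u

section zfa3

variable {G : Type u} [Group G] [Fintype G] (N : Subgroup G) [Fintype N]
  (K' : Subgroup N) [hKn : K'.Normal]
  (hC' : ∀ n ∈ K', n ≠ 1 → Subgroup.centralizer ({n} : Set N) ≤ K')
  (hab : ∀ a ∈ K', ∀ b ∈ K', a * b = b * a)
  [Fintype K']
  (hlin : ∀ ζ : IrrCharacter N, K' ≤ Cfsg.Agent.Helper79.irrKer ζ → (ζ : N → ℂ) 1 = 1)
  (hInd : ∀ ζ : IrrCharacter N, K' ≤ Cfsg.Agent.Helper79.irrKer ζ →
    (ζ : N → ℂ) ≠ (fun _ => 1) → IsIrrCharacter G (indFun N (ζ : N → ℂ)) ∧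
      ∀ k : N, k ∈ K' → k ≠ 1 → indFun N (ζ : N → ℂ) k = 1)

include hC' hab hlin hInd in
open Classical in
/-- The tensor-square bound: if an irreducible character `Λ` of `G` restricts to a relevant
character of `N`, then `Λ · conj Λ` contains the trivial character and all the induced characters,
which bounds `|N : K'|²` from below. -/
theorem tensor_bound {Λ : G → ℂ} (hΛ : IsIrrCharacter G Λ)
    (χ₁ : {χ : IrrCharacter N // ∃ k ∈ K', (χ : N → ℂ) k ≠ (χ : N → ℂ) 1})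
    (hres : ∀ x : N, Λ x = (χ₁.1 : N → ℂ) x) (hidx : N.index = Nat.card K' + 1) :
    2 + (K'.index - 1) * N.index ≤ 2 * (K'.index * K'.index) := by
  have hΦchar : IsCharacter G (fun g => Λ g * conj (Λ g)) := tensor_isCharacter hΛ
  obtain ⟨m, hm⟩ := exists_nat_decomp hΦchar
  have hmin : ∀ ψ : IrrCharacter G,
      classInner (fun g => Λ g * conj (Λ g)) (ψ : G → ℂ) = (m ψ : ℂ) := by
    intro ψ
    rw [hm]
    exact classInner_nat_decomp (fun ψ => (m ψ : ℂ)) ψ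
  have hΛ1 : Λ 1 = (K'.index : ℂ) := by
    have h1 := hres 1
    rw [relevant_degree K' hC' hab χ₁.1.2 χ₁.2, ← index_cast_eq] at h1
    exact h1
  have hsumdeg : K'.index * K'.index = ∑ ψ : IrrCharacter G, m ψ * charDegree (ψ : G → ℂ) := by
    have h1 := congrFun hm 1
    simp only [Finset.sum_apply, Pi.smul_apply, smul_eq_mul] at h1
    rw [hΛ1, Complex.conj_natCast, Finset.sum_congr rfl (fun ψ _ => by
      rw [(Cfsg.Agent.Helper79.irr_one_eq ψ).1])] at h1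
    exact_mod_cast h1
  set triv : IrrCharacter N := ⟨fun _ => 1, isIrrCharacter_one⟩ with htriv
  have htriv_mem : triv ∈ Finset.univ.filter
      (fun ζ : IrrCharacter N => K' ≤ Cfsg.Agent.Helper79.irrKer ζ) := by
    rw [Finset.mem_filter]
    exact ⟨Finset.mem_univ _, fun k _ => (Cfsg.Agent.Helper79.mem_irrKer triv k).2 rfl⟩
  set Z := (Finset.univ.filter
      (fun ζ : IrrCharacter N => K' ≤ Cfsg.Agent.Helper79.irrKer ζ)).erase triv with hZ
  have hZcard : Z.card = K'.index - 1 := by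
    rw [hZ, Finset.card_erase_of_mem htriv_mem, nonrel_card N K' hlin]
  have hZmem : ∀ ζ ∈ Z, K' ≤ Cfsg.Agent.Helper79.irrKer ζ ∧ (ζ : N → ℂ) ≠ (fun _ => 1) := by
    intro ζ hζ
    rw [hZ, Finset.mem_erase, Finset.mem_filter] at hζ
    exact ⟨hζ.2.2, fun h => hζ.1 (Subtype.ext h)⟩
  let I : IrrCharacter N → IrrCharacter G := fun ζ =>
    if h : K' ≤ Cfsg.Agent.Helper79.irrKer ζ ∧ (ζ : N → ℂ) ≠ (fun _ => 1) then
      ⟨indFun N (ζ : N → ℂ), (hInd ζ h.1 h.2).1⟩ else ⟨fun _ => 1, isIrrCharacter_one⟩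
  have hI : ∀ ζ ∈ Z, (I ζ : G → ℂ) = indFun N (ζ : N → ℂ) := by
    intro ζ hζ
    simp only [I, dif_pos (hZmem ζ hζ)]
  have hZT : Z.card ≤ 2 * (Z.image I).card := by
    apply Finset.card_le_mul_card_image Z 2
    intro ψ hψ
    refine le_trans (Finset.card_le_card ?_) (ind_fiber N K' hlin hInd hidx ψ)
    intro ζ hζ
    rw [Finset.mem_filter] at hζ
    obtain ⟨h1, h2⟩ := hZmem ζ hζ.1
    rw [Finset.mem_filter]
    refine ⟨Finset.mem_filter.2 ⟨Finset.mem_univ _, h1⟩, h2, ?_⟩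
    rw [← hI ζ hζ.1, hζ.2]
  have hTm : ∀ ψ ∈ Z.image I, m ψ = 1 ∧ charDegree (ψ : G → ℂ) = N.index := by
    intro ψ hψ
    rw [Finset.mem_image] at hψ
    obtain ⟨ζ, hζ, rfl⟩ := hψ
    obtain ⟨h1, h2⟩ := hZmem ζ hζ
    constructor
    · have h3 := hmin (I ζ)
      rw [hI ζ hζ, tensor_inner_ind N K' hC' hlin hΛ χ₁ hres ζ h1] at h3
      exact_mod_cast h3.symm
    · have h3 := (Cfsg.Agent.Helper79.irr_one_eq (I ζ)).1
      have h4 : (I ζ : G → ℂ) 1 = (N.index : ℂ) := by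
        rw [hI ζ hζ, indFun_one, hlin ζ h1, mul_one]
      rw [h4] at h3
      exact_mod_cast h3.symm
  set trivG : IrrCharacter G := ⟨fun _ => 1, isIrrCharacter_one⟩ with htrivG
  have htrivG1 : m trivG = 1 ∧ charDegree (trivG : G → ℂ) = 1 := by
    constructor
    · have h3 := hmin trivG
      rw [show (trivG : G → ℂ) = fun _ => 1 from rfl, tensor_inner_one hΛ] at h3
      exact_mod_cast h3.symm
    · have h3 := (Cfsg.Agent.Helper79.irr_one_eq trivG).1
      have h4 : (trivG : G → ℂ) 1 = 1 := rfl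
      rw [h4] at h3
      exact_mod_cast h3.symm
  have hnotin : trivG ∉ Z.image I := by
    intro h
    have h3 := (hTm trivG h).2
    rw [htrivG1.2, hidx] at h3
    have h4 := Nat.card_pos (α := K')
    omega
  have hle : ∑ ψ ∈ insert trivG (Z.image I), m ψ * charDegree (ψ : G → ℂ) ≤
      ∑ ψ : IrrCharacter G, m ψ * charDegree (ψ : G → ℂ) :=
    Finset.sum_le_sum_of_subset (Finset.subset_univ _)
  rw [Finset.sum_insert hnotin, htrivG1.1, htrivG1.2, Finset.sum_congr rfl (fun ψ hψ => by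
    rw [(hTm ψ hψ).1, (hTm ψ hψ).2]), Finset.sum_const, smul_eq_mul, ← hsumdeg] at hle
  rw [hZcard] at hZT
  have h1 := Nat.mul_le_mul_right N.index hZT
  nlinarith [h1, hle]

end zfa3

section main

variable {G : Type u} [Group G] [Fintype G]

/-- The core with the T.I. induction property as a hypothesis. -/
theorem core_aux (K N : Subgroup G) [Fintype N] [hKn : (K.subgroupOf N).Normal]
    (hTI : ∀ g : G, g ∉ N → ∀ k ∈ K, g * k * g⁻¹ ∈ K → k = 1) (hlt : K < N)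
    (hC : ∀ k ∈ K, k ≠ 1 → Subgroup.centralizer ({k} : Set G) ≤ K)
    (hab : ∀ a ∈ K, ∀ b ∈ K, a * b = b * a)
    (hind : ∀ ϑ : N → ℂ, IsClassFunction N ϑ → (∀ x : N, x ∉ K.subgroupOf N → ϑ x = 0) →
      ϑ 1 = 0 → ∀ x : N, Cfsg.indFun N ϑ x = ϑ x)
    (hlin : ∀ ζ : N → ℂ, Cfsg.IsIrrCharacter N ζ → (∀ k : N, (k : G) ∈ K → ζ k = ζ 1) → ζ 1 = 1)
    (hInd : ∀ ζ : N → ℂ, Cfsg.IsCharacter N ζ → ζ 1 = 1 → (∀ k : N, (k : G) ∈ K → ζ k = 1) →
      ζ ≠ (fun _ => 1) → Cfsg.IsIrrCharacter G (Cfsg.indFun N ζ) ∧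
        ∀ k ∈ K, k ≠ 1 → Cfsg.indFun N ζ k = 1)
    (hperm : ∃ χ₀ : G → ℂ, Cfsg.IsIrrCharacter G χ₀ ∧
      (∀ g, Cfsg.indFun N (fun _ : N => (1 : ℂ)) g = 1 + χ₀ g) ∧ ∀ k ∈ K, k ≠ 1 → χ₀ k = 0)
    (hcls : K.relIndex N ≤
      Nat.card {C : ConjClasses G // ∀ g : G, ConjClasses.mk g = C → g ∉ K})
    (hidx : N.index = Nat.card K + 1)
    (hbig : 2 * K.relIndex N + 1 < Nat.card K) : False := by
  classical
  have hle : K ≤ N := hlt.le
  have hC' := tifn_hC' K N hC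
  have hab' : ∀ a ∈ K.subgroupOf N, ∀ b ∈ K.subgroupOf N, a * b = b * a :=
    fun a ha b hb => Subtype.ext (hab a ha b hb)
  obtain ⟨ε, f, hε, hinj, hf⟩ := tifn_exceptional_abelian N (K.subgroupOf N) hC' hind hab'
  have hcard := rel_card (K.subgroupOf N) hC' hab'
  have hcK : Nat.card (K.subgroupOf N) = Nat.card K :=
    Nat.card_congr (Subgroup.subgroupOfEquivOfLe hle).toEquiv
  haveI : Fintype (K.subgroupOf N) := Fintype.ofFinite _
  have hlin' : ∀ ζ : IrrCharacter N, K.subgroupOf N ≤ Cfsg.Agent.Helper79.irrKer ζ →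
      (ζ : N → ℂ) 1 = 1 :=
    fun ζ hζ => hlin ζ ζ.2 (fun k hk =>
      (Cfsg.Agent.Helper79.mem_irrKer ζ k).1 (hζ (Subgroup.mem_subgroupOf.2 hk)))
  have hInd' : ∀ ζ : IrrCharacter N, K.subgroupOf N ≤ Cfsg.Agent.Helper79.irrKer ζ →
      (ζ : N → ℂ) ≠ (fun _ => 1) → IsIrrCharacter G (indFun N (ζ : N → ℂ)) ∧
        ∀ k : N, k ∈ K.subgroupOf N → k ≠ 1 → indFun N (ζ : N → ℂ) k = 1 := by
    intro ζ hζ hζ1
    have hz1 := hlin' ζ hζ
    obtain ⟨h1, h2⟩ := hInd ζ (IsIrrCharacter.isCharacter ζ.2) hz1 (fun k hk => by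
      rw [(Cfsg.Agent.Helper79.mem_irrKer ζ k).1 (hζ (Subgroup.mem_subgroupOf.2 hk)), hz1]) hζ1
    exact ⟨h1, fun k hk hk1 => h2 k (Subgroup.mem_subgroupOf.1 hk)
      (fun h => hk1 (Subtype.ext h))⟩
  obtain ⟨χ₀f, hχ₀irr, hperm', hχ₀van⟩ := hperm
  have hχ₀' : ∀ k : N, k ∈ K.subgroupOf N → k ≠ 1 →
      ((⟨χ₀f, hχ₀irr⟩ : IrrCharacter G) : G → ℂ) k = 0 :=
    fun k hk hk1 => hχ₀van k (Subgroup.mem_subgroupOf.1 hk) (fun h => hk1 (Subtype.ext h))
  rw [Nat.card_eq_fintype_card] at hcard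
  change 2 * (K.subgroupOf N).index + 1 < Nat.card K at hbig
  change (K.subgroupOf N).index ≤ _ at hcls
  have he2 : 2 ≤ (K.subgroupOf N).index := by
    have h0 : (K.subgroupOf N).index ≠ 0 := Subgroup.index_ne_zero_of_finite
    have h1 : (K.subgroupOf N).index ≠ 1 := by
      intro h
      have h2 : K.relIndex N = 1 := h
      rw [Subgroup.relIndex_eq_one] at h2
      exact lt_irrefl _ (lt_of_lt_of_le hlt h2)
    omega
  have ht3 : 3 ≤ Fintype.card {χ : IrrCharacter N //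
      ∃ k ∈ K.subgroupOf N, (χ : N → ℂ) k ≠ (χ : N → ℂ) 1} := by
    by_contra h
    have h1 : Fintype.card {χ : IrrCharacter N //
      ∃ k ∈ K.subgroupOf N, (χ : N → ℂ) k ≠ (χ : N → ℂ) 1} ≤ 2 := by omega
    have h2 := Nat.mul_le_mul_right (K.subgroupOf N).index h1
    omega
  have hK1 : 1 < Nat.card (K.subgroupOf N) := by omega
  obtain ⟨k₀, hk₀, hk₀1⟩ : ∃ k₀ : N, k₀ ∈ K.subgroupOf N ∧ k₀ ≠ 1 := by
    rw [Subgroup.one_lt_card_iff_ne_bot] at hK1
    obtain ⟨⟨k, hk⟩, hk1⟩ := Subgroup.ne_bot_iff_exists_ne_one.1 hK1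
    exact ⟨k, hk, fun h => hk1 (Subtype.ext h)⟩
  obtain ⟨χ₁, χ₂, hne⟩ := Fintype.exists_pair_of_one_lt_card
    (show 1 < Fintype.card {χ : IrrCharacter N //
      ∃ k ∈ K.subgroupOf N, (χ : N → ℂ) k ≠ (χ : N → ℂ) 1} by omega)
  have hcent : Nat.card (Subgroup.centralizer ({(k₀ : G)} : Set G)) =
      Nat.card (K.subgroupOf N) := by
    rw [hcK]
    have h1 : Subgroup.centralizer ({(k₀ : G)} : Set G) = K := by
      apply le_antisymm (hC (k₀ : G) (Subgroup.mem_subgroupOf.1 hk₀)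
        (fun h => hk₀1 (Subtype.ext h)))
      intro a ha
      rw [Subgroup.mem_centralizer_iff]
      intro z hz
      rw [Set.mem_singleton_iff] at hz
      subst hz
      exact hab _ (Subgroup.mem_subgroupOf.1 hk₀) a ha
    rw [h1]
  have hcount : (K.subgroupOf N).index + 1 + Fintype.card {χ : IrrCharacter N //
      ∃ k ∈ K.subgroupOf N, (χ : N → ℂ) k ≠ (χ : N → ℂ) 1} ≤
        Fintype.card (IrrCharacter G) := by
    have h1 := ZassFeitCount.class_count K N hle hTI hab (Fintype.card {χ : IrrCharacter N //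
      ∃ k ∈ K.subgroupOf N, (χ : N → ℂ) k ≠ (χ : N → ℂ) 1}) (by
        rw [← hcK]
        exact hcard)
    rw [← Cfsg.Agent.Helper3.card_irr_eq_card_conjClasses,
      Nat.card_eq_fintype_card (α := IrrCharacter G)] at h1
    omega
  obtain ⟨c, hc⟩ := exc_const N (K.subgroupOf N) hC' hind hab' ε hε f hinj hf χ₁
  have hc0 := c_zero N (K.subgroupOf N) hC' hind hab' ε hε f hinj hf hlin' hInd'
    ⟨χ₀f, hχ₀irr⟩ hperm' hχ₀' χ₁ k₀ hk₀ hk₀1 hcent c hc hcount ht3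
  subst hc0
  obtain ⟨g, m, hg, hgm, hres⟩ := exc_restrict N (K.subgroupOf N) hC' hind hab' ε hε f hinj hf
    hlin' hInd' ⟨χ₀f, hχ₀irr⟩ hperm' hχ₀' χ₁ χ₂ hne.symm k₀ hk₀ hk₀1 0 hc
  have hg0 : g = 0 := by
    have h1 : (g : ℂ) = 0 := by
      rw [Int.cast_zero] at hg
      linear_combination hg
    exact_mod_cast h1
  subst hg0
  have hε1 : ε = 1 := by
    rcases hε with h | h
    · exact h
    · exfalso
      rw [h, Nat.cast_zero, zero_add] at hgm
      have h1 : ((m + 1 : ℕ) : ℂ) = 0 := by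
        push_cast
        rw [← hgm]
        ring
      exact Nat.succ_ne_zero m (by exact_mod_cast h1)
  have hres' : ∀ x : N, (f χ₁ : G → ℂ) x = (χ₁.1 : N → ℂ) x := by
    intro x
    rw [hres x, hε1, Nat.cast_zero, zero_mul, zero_add, one_mul]
  have hb := tensor_bound N (K.subgroupOf N) hC' hab' hlin' hInd' (f χ₁).2 χ₁ hres'
    (by rw [hidx, hcK])
  rw [hidx] at hb
  obtain ⟨d, hd⟩ : ∃ d, (K.subgroupOf N).index = d + 2 :=
    ⟨(K.subgroupOf N).index - 2, by omega⟩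
  rw [hd] at hb hbig
  have h1 : d + 2 - 1 = d + 1 := by omega
  rw [h1] at hb
  have h2 := Nat.mul_le_mul_left (d + 1) (show 2 * d + 7 ≤ Nat.card K + 1 by omega)
  nlinarith [h2, hb]

/-- **Feit's bound, character-theoretic core.**  Let `K` be an abelian T.I. subgroup of `G` whose
normalizer `N` is a Frobenius group with kernel `K` and abelian quotient, of index `|K| + 1` in `G`,
with `G` doubly transitive on the cosets of `N` and the induced linear characters irreducible. If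
`G` has at least `|N : K|` classes missing `K`, then `|K| ≤ 2 |N : K| + 1`. -/
theorem core (K N : Subgroup G) [Fintype N]
    (hN : Subgroup.normalizer (K : Set G) = N)
    (hTI : ∀ g : G, g ∉ N → ∀ k ∈ K, g * k * g⁻¹ ∈ K → k = 1) (hlt : K < N)
    (hC : ∀ k ∈ K, k ≠ 1 → Subgroup.centralizer ({k} : Set G) ≤ K)
    (hab : ∀ a ∈ K, ∀ b ∈ K, a * b = b * a)
    (hlin : ∀ ζ : N → ℂ, Cfsg.IsIrrCharacter N ζ → (∀ k : N, (k : G) ∈ K → ζ k = ζ 1) → ζ 1 = 1)
    (hInd : ∀ ζ : N → ℂ, Cfsg.IsCharacter N ζ → ζ 1 = 1 → (∀ k : N, (k : G) ∈ K → ζ k = 1) →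
      ζ ≠ (fun _ => 1) → Cfsg.IsIrrCharacter G (Cfsg.indFun N ζ) ∧
        ∀ k ∈ K, k ≠ 1 → Cfsg.indFun N ζ k = 1)
    (hperm : ∃ χ₀ : G → ℂ, Cfsg.IsIrrCharacter G χ₀ ∧
      (∀ g, Cfsg.indFun N (fun _ : N => (1 : ℂ)) g = 1 + χ₀ g) ∧ ∀ k ∈ K, k ≠ 1 → χ₀ k = 0)
    (hcls : K.relIndex N ≤
      Nat.card {C : ConjClasses G // ∀ g : G, ConjClasses.mk g = C → g ∉ K})
    (hidx : N.index = Nat.card K + 1)
    (hbig : 2 * K.relIndex N + 1 < Nat.card K) : False := by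
  subst hN
  exact core_aux K (Subgroup.normalizer (K : Set G)) hTI hlt hC hab (tifn_hind K hTI hlt hC)
    hlin hInd hperm hcls hidx hbig

end main

end Cfsg.Agent.Helper82.ZassFeitAbel
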