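import Mathlib
import Cfsg.Prelude.Def_Characters
import Cfsg.Prelude.Def_OddOrderChar
import Cfsg.Agent.Lib.Helper79.Restrict
import Cfsg.Agent.Lib.Helper78.CharSchur
import Cfsg.Agent.Lib.Helper81.CharInd
import Cfsg.Agent.Lib.Helper81.CharCorr
import Cfsg.Agent.Lib.Helper81.CharRam

/-!
# A degree bound for irreducible characters trivial on `B` when `D / B` is central in `C / B`

`θ(1)² ≤ |X : C|² · |C : D|` (Peterfalvi, proof of (6.2)).
-/

set_option autoImplicit false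
set_option linter.unusedSectionVars false

namespace Cfsg.Agent.Helper82

open Cfsg Cfsg.Agent.Helper81
open scoped ComplexConjugate

universe u

section degbound

variable {X : Type u} [Group X] [Fintype X]

/-- A character is bounded in norm by its degree. -/
theorem isCharacter_norm_le {α : X → ℂ} (hα : IsCharacter X α) :
    ∃ n : ℕ, α 1 = (n : ℂ) ∧ ∀ g, ‖α g‖ ≤ (n : ℝ) := by
  obtain ⟨n, ρ, rfl⟩ := hα
  refine ⟨n, ?_, fun g => ?_⟩
  · rw [Representation.char_one]; simp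
  · have h := Cfsg.Agent.Helper79.norm_char_le ρ g
    simpa using h

/-- If `α = φ + α'` with `φ, α'` characters and `α b = α 1`, then `φ b = φ 1`. -/
theorem constituent_ker {α φ α' : X → ℂ} (hφ : IsCharacter X φ) (hα' : IsCharacter X α')
    (hα : α = φ + α') {b : X} (hb : α b = α 1) : φ b = φ 1 := by
  obtain ⟨n, hn1, hn⟩ := isCharacter_norm_le hφ
  obtain ⟨m, hm1, hm⟩ := isCharacter_norm_le hα'
  have h1 : φ b + α' b = (n : ℂ) + (m : ℂ) := by
    have h := hb
    rw [hα] at h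
    simpa [hn1, hm1] using h
  have hre : (φ b).re + (α' b).re = (n : ℝ) + (m : ℝ) := by
    have h := congrArg Complex.re h1
    simpa using h
  have h2 : (φ b).re ≤ (n : ℝ) := (Complex.re_le_norm _).trans (hn b)
  have h3 : (α' b).re ≤ (m : ℝ) := (Complex.re_le_norm _).trans (hm b)
  have h4 : (φ b).re = (n : ℝ) := by linarith
  have h5 : (φ b).im = 0 := by
    have hsq : ‖φ b‖ ^ 2 = (φ b).re ^ 2 + (φ b).im ^ 2 := by
      rw [Complex.sq_norm, Complex.normSq_apply]; ring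
    have h6 : ‖φ b‖ ^ 2 ≤ (n : ℝ) ^ 2 := by
      have := hn b
      have h0 : 0 ≤ ‖φ b‖ := norm_nonneg _
      nlinarith
    rw [hsq, h4] at h6
    have h7 : (φ b).im ^ 2 ≤ 0 := by linarith
    have h8 : 0 ≤ (φ b).im ^ 2 := sq_nonneg _
    have h9 : (φ b).im ^ 2 = 0 := le_antisymm h7 h8
    exact pow_eq_zero_iff (by norm_num) |>.mp h9
  rw [hn1]
  apply Complex.ext
  · simpa using h4
  · simpa using h5

theorem irr_one_ne_zero' {φ : X → ℂ} (hφ : IsIrrCharacter X φ) : φ 1 ≠ 0 := by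
  have h := Cfsg.Agent.Helper79.irr_one_eq ⟨φ, hφ⟩
  rw [show φ 1 = ((⟨φ, hφ⟩ : IrrCharacter X) : X → ℂ) 1 from rfl, h.1]
  exact_mod_cast h.2.ne'

/-- An element whose commutators all lie in the kernel of the irreducible character `φ` has
`|φ z| = φ 1`. -/
theorem irr_mul_conj_of_comm_ker {φ : X → ℂ} (hφ : IsIrrCharacter X φ) (z : X)
    (hz : ∀ a : X, φ (a * z * a⁻¹ * z⁻¹) = φ 1) : φ z * conj (φ z) = φ 1 * φ 1 := by
  have h := Cfsg.Agent.Helper78.sum_irr_conj_mul hφ z z⁻¹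
  rw [Finset.sum_congr rfl (fun a _ => hz a), Finset.sum_const, Finset.card_univ, nsmul_eq_mul,
    Cfsg.Agent.Helper78.IsIrrCharacter.inv hφ] at h
  have h1 : φ 1 ≠ 0 := irr_one_ne_zero' hφ
  have hc : (Nat.card X : ℂ) ≠ 0 := by exact_mod_cast Nat.card_pos.ne'
  rw [← Nat.card_eq_fintype_card] at h
  rw [eq_div_iff h1] at h
  have h2 : (Nat.card X : ℂ) * (φ 1 * φ 1) = (Nat.card X : ℂ) * (φ z * conj (φ z)) := by
    linear_combination h
  exact (mul_left_cancel₀ hc h2).symm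

/-- Counting version: a set of elements central modulo the kernel of `φ`. -/
theorem card_mul_sq_le_of_comm_ker {φ : X → ℂ} (hφ : IsIrrCharacter X φ) (Dz : Finset X)
    (hD : ∀ z ∈ Dz, ∀ a : X, φ (a * z * a⁻¹ * z⁻¹) = φ 1) (m : ℕ) (hm : φ 1 = (m : ℂ)) :
    Dz.card * m ^ 2 ≤ Nat.card X := by
  have h := Cfsg.Agent.Helper79.irr_sum_normSq (⟨φ, hφ⟩ : IrrCharacter X)
  have h1 : ∑ z ∈ Dz, Complex.normSq (φ z) ≤ ∑ g : X, Complex.normSq (φ g) :=
    Finset.sum_le_sum_of_subset_of_nonneg (Finset.subset_univ _)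
      (fun _ _ _ => Complex.normSq_nonneg _)
  have h2 : ∀ z ∈ Dz, Complex.normSq (φ z) = (m : ℝ) ^ 2 := by
    intro z hz
    have h3 := irr_mul_conj_of_comm_ker hφ z (hD z hz)
    rw [Complex.mul_conj, hm] at h3
    have h4 : ((Complex.normSq (φ z) : ℝ) : ℂ) = (((m : ℝ) ^ 2 : ℝ) : ℂ) := by
      rw [h3]; push_cast; ring
    exact_mod_cast h4
  rw [Finset.sum_congr rfl h2, Finset.sum_const, nsmul_eq_mul] at h1
  have h5 : ((Dz.card * m ^ 2 : ℕ) : ℝ) ≤ ((Nat.card X : ℕ) : ℝ) := by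
    push_cast
    calc (Dz.card : ℝ) * (m : ℝ) ^ 2 ≤ ∑ g : X, Complex.normSq (φ g) := h1
      _ = (Nat.card X : ℝ) := h
  exact_mod_cast h5

/-- The degree bound: if `θ` is irreducible with `B` in its kernel and `D` central in `C`
modulo `B`, then `θ(1)² ≤ |X : C|² · |C : D|`. -/
theorem degree_sq_le_of_central_section {θ : X → ℂ} (hθ : IsIrrCharacter X θ)
    (B D C : Subgroup X) (hB : ∀ b ∈ B, θ b = θ 1)
    (hcent : ∀ x ∈ D, ∀ y ∈ C, x * y * x⁻¹ * y⁻¹ ∈ B) :
    ∃ m : ℕ, θ 1 = (m : ℂ) ∧ m ^ 2 ≤ C.index ^ 2 * D.relIndex C := by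
  classical
  have hθc : IsCharacter X θ := IsIrrCharacter.isCharacter hθ
  have hθ1 : θ 1 ≠ 0 := irr_one_ne_zero' hθ
  set α : C → ℂ := fun c => θ c with hαdef
  have hαc : IsCharacter C α := isCharacter_restrict C hθc
  have hα1 : α 1 = θ 1 := by simp [hαdef]
  have hα0 : α ≠ 0 := by
    intro h
    apply hθ1
    rw [← hα1, h]; rfl
  obtain ⟨φ, hφ, hne⟩ := exists_irr_constituent hαc hα0
  obtain ⟨α', hα', hαeq⟩ := exists_add_of_classInner_ne_zero hαc hφ hne
  have hφc : IsCharacter C φ := IsIrrCharacter.isCharacter hφ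
  -- the kernel of `φ` contains `B`
  have hker : ∀ c : C, (c : X) ∈ B → φ c = φ 1 := by
    intro c hc
    apply constituent_ker hφc hα' hαeq
    rw [hα1]
    exact hB _ hc
  -- Frobenius reciprocity
  have hfr : classInner (indFun C φ) θ ≠ 0 := by
    rw [frobenius_reciprocity C φ (isClassFunction_of_isCharacter hθc)]
    rw [classInner_conj_symm α φ]
    intro h
    apply hne
    have := congrArg (starRingEnd ℂ) h
    simpa using this
  obtain ⟨β, hβ, hind⟩ := exists_add_of_classInner_ne_zero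
    (isCharacter_indFun C hφc) hθ hfr
  obtain ⟨m, hm⟩ := (⟨_, (Cfsg.Agent.Helper79.irr_one_eq ⟨θ, hθ⟩).1⟩ : ∃ m : ℕ, θ 1 = (m : ℂ))
  obtain ⟨k, hk⟩ := (⟨_, (Cfsg.Agent.Helper79.irr_one_eq ⟨φ, hφ⟩).1⟩ : ∃ k : ℕ, φ 1 = (k : ℂ))
  obtain ⟨j, hj, -⟩ := isCharacter_norm_le hβ
  have hdeg : C.index * k = m + j := by
    have h1 := congrFun hind 1
    rw [indFun_one, Pi.add_apply, hm, hk, hj] at h1
    exact_mod_cast h1
  refine ⟨m, hm, ?_⟩
  -- the central part
  set Dz : Finset C := Finset.univ.filter (fun c : C => (c : X) ∈ D) with hDz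
  have hDzc : ∀ z ∈ Dz, ∀ a : C, φ (a * z * a⁻¹ * z⁻¹) = φ 1 := by
    intro z hz a
    rw [hDz, Finset.mem_filter] at hz
    apply hker
    have h1 := hcent (z : X) hz.2 (a : X) a.2
    have h2 := B.inv_mem h1
    have e : ((a * z * a⁻¹ * z⁻¹ : C) : X) = ((z : X) * (a : X) * (z : X)⁻¹ * (a : X)⁻¹)⁻¹ := by
      push_cast
      group
    rw [e]
    exact h2
  have hcount := card_mul_sq_le_of_comm_ker hφ Dz hDzc k hk
  have hDzcard : Dz.card = Nat.card (D.subgroupOf C) := by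
    rw [Nat.card_eq_fintype_card, ← Fintype.card_subtype]
    apply Fintype.card_congr
    exact Equiv.subtypeEquivRight (fun c => Subgroup.mem_subgroupOf.symm)
  have hCcard : Nat.card C = Nat.card (D.subgroupOf C) * D.relIndex C := by
    rw [Subgroup.relIndex]
    exact (Subgroup.card_mul_index (D.subgroupOf C)).symm
  have hpos : 0 < Nat.card (D.subgroupOf C) := Nat.card_pos
  have hk2 : k ^ 2 ≤ D.relIndex C := by
    rw [hDzcard, hCcard] at hcount
    exact Nat.le_of_mul_le_mul_left hcount hpos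
  have hmk : m ≤ C.index * k := by omega
  calc m ^ 2 ≤ (C.index * k) ^ 2 := Nat.pow_le_pow_left hmk 2
    _ = C.index ^ 2 * k ^ 2 := by ring
    _ ≤ C.index ^ 2 * D.relIndex C := Nat.mul_le_mul_left _ hk2

end degbound

end Cfsg.Agent.Helper82
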