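import Mathlib
import Cfsg.Prelude.Def_Characters
import Cfsg.Prelude.Def_OddOrderChar
import Cfsg.Agent.Lib.Helper82.Coh62Deg
import Cfsg.Agent.Lib.Helper82.TIFrobCoh
import Cfsg.Agent.Lib.Helper81.CharClifford

/-!
# A lower bound for `∑ d(φ)² / n(φ)` over the characters induced from `Irr(K / A)`

For a normal subgroup `K` of `L`, a normal subgroup `A` of `L`, and a finite orthogonal set `T`
of functions on `L` containing all `Ind_K^L θ` with `θ` a non-principal irreducible character of `K`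
with `A ⊓ K` in its kernel, `∑_{φ ∈ T} φ(1)² / (φ, φ) ≥ |L : K| (|K : A| - 1)`.
-/

set_option autoImplicit false
set_option linter.unusedSectionVars false

namespace Cfsg.Agent.Helper82

open Cfsg Cfsg.Agent.Helper81
open scoped ComplexConjugate

universe u

section lowerbound

variable {L : Type u} [Group L] [Fintype L] (K : Subgroup L) [hK : K.Normal] [Fintype K]

theorem classInner_indFun_indFun (θ θ' : K → ℂ) :
    classInner (indFun K θ) (indFun K θ') =
      (Nat.card K : ℂ)⁻¹ * ∑ x : L, classInner θ (Cfsg.Agent.Helper81.conjFun K hK θ' x) := by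
  rw [frobenius_reciprocity K θ (indFun_isClassFunction K θ'), indFun_restrict_normal K hK θ',
    classInner_smul_right, classInner_sum_right]
  simp

/-- The conjugate of an irreducible character of the normal subgroup `K`. -/
noncomputable def cjIrr (θ : IrrCharacter K) (x : L) : IrrCharacter K :=
  ⟨Cfsg.Agent.Helper81.conjFun K hK (θ : K → ℂ) x, conjFun_isIrrCharacter K hK θ.2 x⟩

theorem cjIrr_one (θ : IrrCharacter K) (x : L) : (cjIrr K θ x : K → ℂ) 1 = (θ : K → ℂ) 1 := by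
  show Cfsg.Agent.Helper81.conjFun K hK (θ : K → ℂ) x 1 = _
  rw [conjFun_apply]
  have e : (⟨x * ((1 : K) : L) * x⁻¹, hK.conj_mem _ (1 : K).2 x⟩ : K) = 1 := by
    apply Subtype.ext
    simp
  rw [e]

theorem cjIrr_apply (θ : IrrCharacter K) (x : L) (k : K) :
    (cjIrr K θ x : K → ℂ) k = (θ : K → ℂ) ⟨x * k * x⁻¹, hK.conj_mem k k.2 x⟩ := by
  show Cfsg.Agent.Helper81.conjFun K hK (θ : K → ℂ) x k = _
  rw [conjFun_apply]

theorem sum_weighted_inner_aux (I : Finset (IrrCharacter K))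
    (hI : ∀ θ ∈ I, ∀ x : L, cjIrr K θ x ∈ I) (θ' : IrrCharacter K) (hθ' : θ' ∈ I) :
    ∑ θ ∈ I, (θ : K → ℂ) 1 * classInner (indFun K (θ : K → ℂ)) (indFun K (θ' : K → ℂ)) =
      (K.index : ℂ) * (θ' : K → ℂ) 1 := by
  classical
  have key : ∀ x : L, ∑ θ ∈ I, (θ : K → ℂ) 1 *
      classInner (θ : K → ℂ) (Cfsg.Agent.Helper81.conjFun K hK (θ' : K → ℂ) x) =
        (θ' : K → ℂ) 1 := by
    intro x
    rw [Finset.sum_eq_single (cjIrr K θ' x)]
    · rw [irr_orthonormal (cjIrr K θ' x).2 (conjFun_isIrrCharacter K hK θ'.2 x)]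
      rw [if_pos (show ((cjIrr K θ' x : IrrCharacter K) : K → ℂ) =
        Cfsg.Agent.Helper81.conjFun K hK (θ' : K → ℂ) x from rfl), mul_one, cjIrr_one]
    · intro θ _ hne
      rw [irr_orthonormal θ.2 (conjFun_isIrrCharacter K hK θ'.2 x), if_neg, mul_zero]
      intro h
      exact hne (Subtype.ext h)
    · intro h
      exact absurd (hI θ' hθ' x) h
  calc ∑ θ ∈ I, (θ : K → ℂ) 1 * classInner (indFun K (θ : K → ℂ)) (indFun K (θ' : K → ℂ))
      = ∑ θ ∈ I, ∑ x : L, (Nat.card K : ℂ)⁻¹ * ((θ : K → ℂ) 1 *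
          classInner (θ : K → ℂ) (Cfsg.Agent.Helper81.conjFun K hK (θ' : K → ℂ) x)) := by
        refine Finset.sum_congr rfl fun θ _ => ?_
        rw [classInner_indFun_indFun, Finset.mul_sum, Finset.mul_sum]
        refine Finset.sum_congr rfl fun x _ => ?_
        ring
    _ = ∑ x : L, ∑ θ ∈ I, (Nat.card K : ℂ)⁻¹ * ((θ : K → ℂ) 1 *
          classInner (θ : K → ℂ) (Cfsg.Agent.Helper81.conjFun K hK (θ' : K → ℂ) x)) :=
        Finset.sum_comm
    _ = ∑ _x : L, (Nat.card K : ℂ)⁻¹ * (θ' : K → ℂ) 1 := by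
        refine Finset.sum_congr rfl fun x _ => ?_
        rw [← Finset.mul_sum, key x]
    _ = (K.index : ℂ) * (θ' : K → ℂ) 1 := by
        rw [Finset.sum_const, Finset.card_univ, nsmul_eq_mul, ← Nat.card_eq_fintype_card,
          ← K.card_mul_index]
        have hc : (Nat.card K : ℂ) ≠ 0 := by exact_mod_cast Nat.card_pos.ne'
        push_cast
        field_simp

open Classical in
/-- The non-principal irreducible characters of `K` whose kernel contains `A ⊓ K`. -/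
noncomputable def irrAbove (A : Subgroup L) :
    Finset (IrrCharacter K) :=
  Finset.univ.filter (fun θ : IrrCharacter K => (θ : K → ℂ) ≠ (fun _ => 1) ∧
    ∀ a : K, (a : L) ∈ A → (θ : K → ℂ) a = (θ : K → ℂ) 1)

theorem mem_irrAbove (A : Subgroup L) (θ : IrrCharacter K) :
    θ ∈ irrAbove K A ↔ (θ : K → ℂ) ≠ (fun _ => 1) ∧
      ∀ a : K, (a : L) ∈ A → (θ : K → ℂ) a = (θ : K → ℂ) 1 := by
  unfold irrAbove
  simp

theorem cjIrr_mem_irrAbove (A : Subgroup L) [hA : A.Normal]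
    (θ : IrrCharacter K) (hθ : θ ∈ irrAbove K A) (x : L) : cjIrr K θ x ∈ irrAbove K A := by
  rw [mem_irrAbove] at hθ ⊢
  refine ⟨?_, ?_⟩
  · intro h
    apply hθ.1
    funext k
    have hk' : x⁻¹ * (k : L) * x ∈ K := by
      have := hK.conj_mem k k.2 x⁻¹
      simpa using this
    have h1 := congrFun h ⟨x⁻¹ * (k : L) * x, hk'⟩
    rw [cjIrr_apply] at h1
    have e : (⟨x * ((⟨x⁻¹ * (k : L) * x, hk'⟩ : K) : L) * x⁻¹,
        hK.conj_mem _ (⟨x⁻¹ * (k : L) * x, hk'⟩ : K).2 x⟩ : K) = k := by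
      apply Subtype.ext
      simp [mul_assoc]
    rw [e] at h1
    exact h1
  · intro a ha
    rw [cjIrr_apply, cjIrr_one]
    exact hθ.2 ⟨x * (a : L) * x⁻¹, hK.conj_mem a a.2 x⟩ (hA.conj_mem _ ha x)

theorem sum_sq_irrAbove (A : Subgroup L) [hA : A.Normal] :
    ∑ θ ∈ irrAbove K A, (θ : K → ℂ) 1 * (θ : K → ℂ) 1 = (A.relIndex K : ℂ) - 1 := by
  classical
  have h := sum_sq_le_ker_complex (A.subgroupOf K)
  set triv : IrrCharacter K := ⟨fun _ => 1, isIrrCharacter_one⟩ with htriv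
  have hmem : triv ∈ Finset.univ.filter
      (fun ζ : IrrCharacter K => A.subgroupOf K ≤ Cfsg.Agent.Helper79.irrKer ζ) := by
    rw [Finset.mem_filter]
    refine ⟨Finset.mem_univ _, ?_⟩
    intro a _
    rw [Cfsg.Agent.Helper79.mem_irrKer]
  have heq : irrAbove K A = (Finset.univ.filter
      (fun ζ : IrrCharacter K => A.subgroupOf K ≤ Cfsg.Agent.Helper79.irrKer ζ)).erase triv := by
    ext θ
    rw [mem_irrAbove, Finset.mem_erase, Finset.mem_filter]
    constructor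
    · rintro ⟨h1, h2⟩
      refine ⟨?_, Finset.mem_univ _, ?_⟩
      · intro h3
        apply h1
        rw [h3]
      · intro a ha
        rw [Cfsg.Agent.Helper79.mem_irrKer]
        exact h2 a (Subgroup.mem_subgroupOf.mp ha)
    · rintro ⟨h1, -, h2⟩
      refine ⟨?_, ?_⟩
      · intro h3
        apply h1
        exact Subtype.ext h3
      · intro a ha
        exact (Cfsg.Agent.Helper79.mem_irrKer θ a).mp (h2 (Subgroup.mem_subgroupOf.mpr ha))
  rw [heq, Finset.sum_erase_eq_sub hmem, h]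
  simp [htriv, Subgroup.relIndex]

/-- The lower bound `|L : K| (|K : A| - 1) ≤ ∑_{φ ∈ T} d(φ)² / n(φ)`. -/
theorem sum_sq_div_ge (A : Subgroup L) [hA : A.Normal]
    (T : Finset (L → ℂ)) (d n : (L → ℂ) → ℕ)
    (hT : ∀ θ ∈ irrAbove K A, indFun K (θ : K → ℂ) ∈ T)
    (hd : ∀ φ ∈ T, φ 1 = (d φ : ℂ)) (hn : ∀ φ ∈ T, classInner φ φ = (n φ : ℂ))
    (hnpos : ∀ φ ∈ T, 0 < n φ)
    (horth : ∀ φ ∈ T, ∀ φ' ∈ T, φ ≠ φ' → classInner φ φ' = 0) :
    (K.index : ℝ) * ((A.relIndex K : ℝ) - 1) ≤ ∑ φ ∈ T, (d φ : ℝ) ^ 2 / (n φ : ℝ) := by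
  classical
  set I := irrAbove K A with hIdef
  set g : IrrCharacter K → (L → ℂ) := fun θ => indFun K (θ : K → ℂ) with hg
  set w : IrrCharacter K → ℕ := fun θ => charDegree (θ : K → ℂ) with hwdef
  have hw : ∀ θ : IrrCharacter K, (θ : K → ℂ) 1 = (w θ : ℂ) :=
    fun θ => (Cfsg.Agent.Helper79.irr_one_eq θ).1
  set c : (L → ℂ) → ℕ := fun φ => ∑ θ ∈ I.filter (fun θ => g θ = φ), w θ with hc
  set N' : ℕ := ∑ θ ∈ I, w θ * w θ with hN'
  have E1 : N' + 1 = A.relIndex K := by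
    have h1 := sum_sq_irrAbove K A
    simp_rw [hw] at h1
    have h2 : ((N' + 1 : ℕ) : ℂ) = ((A.relIndex K : ℕ) : ℂ) := by
      rw [hN']
      push_cast
      rw [hIdef, h1]
      ring
    exact_mod_cast h2
  have hdg : ∀ θ ∈ I, (d (g θ) : ℂ) = (K.index : ℂ) * (w θ : ℂ) := by
    intro θ hθ
    rw [← hd _ (hT θ hθ), ← hw]
    exact indFun_one K _
  have E2 : ∑ φ ∈ T, c φ * d φ = K.index * N' := by
    have h : ∑ φ ∈ T, (c φ : ℂ) * (d φ : ℂ) = (K.index : ℂ) * (N' : ℂ) := by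
      calc ∑ φ ∈ T, (c φ : ℂ) * (d φ : ℂ)
          = ∑ φ ∈ T, ∑ θ ∈ I.filter (fun θ => g θ = φ), (w θ : ℂ) * (d (g θ) : ℂ) := by
            refine Finset.sum_congr rfl fun φ _ => ?_
            simp only [hc]
            push_cast
            rw [Finset.sum_mul]
            refine Finset.sum_congr rfl fun θ hθ => ?_
            rw [(Finset.mem_filter.mp hθ).2]
        _ = ∑ θ ∈ I, (w θ : ℂ) * (d (g θ) : ℂ) :=
            Finset.sum_fiberwise_of_maps_to hT _
        _ = ∑ θ ∈ I, (K.index : ℂ) * ((w θ : ℂ) * (w θ : ℂ)) := by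
            refine Finset.sum_congr rfl fun θ hθ => ?_
            rw [hdg θ hθ]; ring
        _ = (K.index : ℂ) * (N' : ℂ) := by
            rw [← Finset.mul_sum, hN']
            push_cast
            rfl
    exact_mod_cast h
  have hinner : ∀ θ ∈ I, ∀ θ' ∈ I, classInner (g θ) (g θ') =
      if g θ' = g θ then (n (g θ) : ℂ) else 0 := by
    intro θ hθ θ' hθ'
    split_ifs with h
    · rw [h]; exact hn _ (hT θ hθ)
    · exact horth _ (hT θ hθ) _ (hT θ' hθ') (fun h' => h h'.symm)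
  have E3 : ∑ φ ∈ T, c φ * n φ * c φ = K.index * N' := by
    have h1 : ∀ θ ∈ I, (n (g θ) : ℂ) * (c (g θ) : ℂ) =
        ∑ θ' ∈ I, (w θ' : ℂ) * classInner (g θ) (g θ') := by
      intro θ hθ
      rw [Finset.sum_congr rfl (fun θ' hθ' => by rw [hinner θ hθ θ' hθ'])]
      simp only [mul_ite, mul_zero]
      rw [← Finset.sum_filter]
      simp only [hc]
      push_cast
      rw [Finset.mul_sum]
      refine Finset.sum_congr rfl fun θ' _ => ?_
      ring
    have h : ∑ φ ∈ T, (c φ : ℂ) * (n φ : ℂ) * (c φ : ℂ) = (K.index : ℂ) * (N' : ℂ) := by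
      calc ∑ φ ∈ T, (c φ : ℂ) * (n φ : ℂ) * (c φ : ℂ)
          = ∑ φ ∈ T, ∑ θ ∈ I.filter (fun θ => g θ = φ),
              (w θ : ℂ) * ((n (g θ) : ℂ) * (c (g θ) : ℂ)) := by
            refine Finset.sum_congr rfl fun φ _ => ?_
            have e : (c φ : ℂ) * (n φ : ℂ) * (c φ : ℂ) =
                (∑ θ ∈ I.filter (fun θ => g θ = φ), (w θ : ℂ)) * ((n φ : ℂ) * (c φ : ℂ)) := by
              simp only [hc]
              push_cast
              ring
            rw [e, Finset.sum_mul]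
            refine Finset.sum_congr rfl fun θ hθ => ?_
            rw [(Finset.mem_filter.mp hθ).2]
        _ = ∑ θ ∈ I, (w θ : ℂ) * ((n (g θ) : ℂ) * (c (g θ) : ℂ)) :=
            Finset.sum_fiberwise_of_maps_to hT _
        _ = ∑ θ ∈ I, ∑ θ' ∈ I, (w θ : ℂ) * ((w θ' : ℂ) * classInner (g θ) (g θ')) := by
            refine Finset.sum_congr rfl fun θ hθ => ?_
            rw [h1 θ hθ, Finset.mul_sum]
        _ = ∑ θ' ∈ I, ∑ θ ∈ I, (w θ : ℂ) * ((w θ' : ℂ) * classInner (g θ) (g θ')) :=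
            Finset.sum_comm
        _ = ∑ θ' ∈ I, (w θ' : ℂ) * ((K.index : ℂ) * (w θ' : ℂ)) := by
            refine Finset.sum_congr rfl fun θ' hθ' => ?_
            have h2 := sum_weighted_inner_aux K I
              (fun θ hθ x => cjIrr_mem_irrAbove K A θ hθ x) θ' hθ'
            simp_rw [hw] at h2
            rw [← h2, Finset.mul_sum]
            refine Finset.sum_congr rfl fun θ _ => ?_
            ring
        _ = (K.index : ℂ) * (N' : ℂ) := by
            rw [hN']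
            push_cast
            rw [Finset.mul_sum]
            refine Finset.sum_congr rfl fun θ' _ => ?_
            ring
    exact_mod_cast h
  -- the real inequality
  have hpos : 0 ≤ ∑ φ ∈ T, (n φ : ℝ) * ((c φ : ℝ) - (d φ : ℝ) / (n φ : ℝ)) ^ 2 :=
    Finset.sum_nonneg fun φ _ => mul_nonneg (Nat.cast_nonneg _) (sq_nonneg _)
  have hexp : ∀ φ ∈ T, (n φ : ℝ) * ((c φ : ℝ) - (d φ : ℝ) / (n φ : ℝ)) ^ 2 =
      (c φ : ℝ) * (n φ : ℝ) * (c φ : ℝ) - 2 * ((c φ : ℝ) * (d φ : ℝ)) +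
        (d φ : ℝ) ^ 2 / (n φ : ℝ) := by
    intro φ hφ
    have hn0 : (n φ : ℝ) ≠ 0 := by exact_mod_cast (hnpos φ hφ).ne'
    field_simp
    ring
  rw [Finset.sum_congr rfl hexp, Finset.sum_add_distrib, Finset.sum_sub_distrib,
    ← Finset.mul_sum] at hpos
  have E2r : ∑ φ ∈ T, (c φ : ℝ) * (d φ : ℝ) = (K.index : ℝ) * (N' : ℝ) := by exact_mod_cast E2
  have E3r : ∑ φ ∈ T, (c φ : ℝ) * (n φ : ℝ) * (c φ : ℝ) = (K.index : ℝ) * (N' : ℝ) := by
    exact_mod_cast E3
  rw [E2r, E3r] at hpos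
  have hrel : (A.relIndex K : ℝ) - 1 = (N' : ℝ) := by
    rw [← E1]; push_cast; ring
  rw [hrel]
  linarith

end lowerbound

end Cfsg.Agent.Helper82
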