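import Mathlib
import Cfsg.Prelude.Def_OddOrderChar
import Cfsg.Agent.Lib.Helper82.Coherence
import Cfsg.Agent.S1515

/-!
# Coherence systems (Peterfalvi, Section 5): projections, Bessel, basic facts
-/

set_option autoImplicit false
set_option linter.style.haveILetI false
set_option linter.unusedSectionVars false

namespace Cfsg.Agent.Helper82

open Cfsg Cfsg.Agent.Helper81
open scoped ComplexConjugate

universe u v

theorem isLinearIsometryOn_mono {L : Type u} [Group L] [Fintype L] {G : Type v} [Group G]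
    [Fintype G] {E E' : Set (L → ℂ)} {F : (L → ℂ) → (G → ℂ)}
    (h : Cfsg.IsLinearIsometryOn E F) (hE : E' ⊆ E) : Cfsg.IsLinearIsometryOn E' F :=
  ⟨fun α hα β hβ => h.1 α (hE hα) β (hE hβ), fun α hα n => h.2.1 α (hE hα) n,
   fun α hα β hβ => h.2.2.1 α (hE hα) β (hE hβ), fun α hα => h.2.2.2 α (hE hα)⟩

theorem zspan_subset_zspanOn {N : Type u} {A S : Set (N → ℂ)} {T : Set N}
    (h : A ⊆ Cfsg.zspanOn S T) : Cfsg.zspan A ⊆ Cfsg.zspanOn S T := by
  intro x hx
  rw [mem_zspan] at hx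
  induction hx using Submodule.span_induction with
  | mem a ha => exact h ha
  | zero => exact ⟨zspan_zero_mem S, fun g _ => rfl⟩
  | add a b _ _ iha ihb => exact zspanOn_add_mem iha ihb
  | smul n a _ iha => exact zspanOn_smul_mem n iha

section proj
variable {M : Type v} [Group M] [Fintype M]

/-- The component of `Δ` along the finite family `E`. -/
noncomputable def projE (E : Finset (M → ℂ)) (Δ : M → ℂ) : M → ℂ :=
  ∑ e ∈ E, classInner Δ e • e

variable {E : Finset (M → ℂ)} (hE1 : ∀ α ∈ E, classInner α α = 1)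
  (hE0 : ∀ α ∈ E, ∀ β ∈ E, α ≠ β → classInner α β = 0)

include hE1 hE0 in
theorem inner_projE_left (Δ : M → ℂ) {e : M → ℂ} (he : e ∈ E) :
    classInner (projE E Δ) e = classInner Δ e := by
  classical
  unfold projE
  rw [classInner_sum_left, Finset.sum_eq_single e]
  · rw [classInner_smul_left, hE1 e he, mul_one]
  · intro b hb hbe
    rw [classInner_smul_left, hE0 b hb e he hbe, mul_zero]
  · intro h; exact absurd he h

include hE1 hE0 in
theorem inner_sub_projE (Δ : M → ℂ) {e : M → ℂ} (he : e ∈ E) :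
    classInner (Δ - projE E Δ) e = 0 := by
  rw [classInner_sub_left, inner_projE_left hE1 hE0 Δ he, sub_self]

theorem inner_projE_right_of_orth (Δ Θ : M → ℂ) (h : ∀ e ∈ E, classInner Θ e = 0) :
    classInner Θ (projE E Δ) = 0 := by
  unfold projE
  rw [classInner_sum_right]
  apply Finset.sum_eq_zero
  intro e he
  rw [classInner_smul_right, h e he, mul_zero]

theorem inner_projE_left_of_orth (Δ Θ : M → ℂ) (h : ∀ e ∈ E, classInner Θ e = 0) :
    classInner (projE E Δ) Θ = 0 := by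
  rw [classInner_conj_symm Θ (projE E Δ), inner_projE_right_of_orth Δ Θ h, map_zero]

include hE1 hE0 in
theorem inner_projE_right (Δ Θ : M → ℂ) :
    classInner Θ (projE E Δ) = ∑ e ∈ E, conj (classInner Δ e) * classInner Θ e := by
  unfold projE
  rw [classInner_sum_right]
  apply Finset.sum_congr rfl
  intro e _
  rw [classInner_smul_right]

include hE1 hE0 in
theorem inner_projE_self (Δ : M → ℂ) :
    classInner (projE E Δ) (projE E Δ) = ∑ e ∈ E, classInner Δ e * conj (classInner Δ e) := by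
  rw [inner_projE_right hE1 hE0]
  apply Finset.sum_congr rfl
  intro e he
  rw [inner_projE_left hE1 hE0 Δ he, mul_comm]

include hE1 hE0 in
/-- Pythagoras for the projection on an orthonormal family. -/
theorem norm_decomp_projE (Δ : M → ℂ) :
    classInner Δ Δ = ∑ e ∈ E, classInner Δ e * conj (classInner Δ e) +
      classInner (Δ - projE E Δ) (Δ - projE E Δ) := by
  have h1 : classInner (Δ - projE E Δ) (projE E Δ) = 0 :=
    inner_projE_right_of_orth Δ _ (fun e he => inner_sub_projE hE1 hE0 Δ he)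
  have h2 : classInner (Δ - projE E Δ) (Δ - projE E Δ) = classInner (Δ - projE E Δ) Δ := by
    rw [classInner_sub_right (Δ - projE E Δ), h1, sub_zero]
  rw [h2, classInner_sub_left, ← inner_projE_self hE1 hE0 Δ]
  have h3 : classInner (projE E Δ) Δ = classInner (projE E Δ) (projE E Δ) := by
    have : classInner (projE E Δ) (Δ - projE E Δ) = 0 := by
      rw [classInner_conj_symm (Δ - projE E Δ) (projE E Δ), h1, map_zero]
    rw [classInner_sub_right] at this
    exact sub_eq_zero.1 this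
  rw [h3]; ring

theorem isGeneralizedCharacter_projE {Δ : M → ℂ}
    (hint : ∀ e ∈ E, ∃ k : ℤ, classInner Δ e = (k : ℂ))
    (hgen : ∀ e ∈ E, IsGeneralizedCharacter M e) : IsGeneralizedCharacter M (projE E Δ) := by
  unfold projE
  apply isGeneralizedCharacter_sum
  intro e he
  obtain ⟨k, hk⟩ := hint e he
  have : classInner Δ e • e = k • e := by
    rw [hk]; ext g; simp
  rw [this]
  exact isGeneralizedCharacter_zsmul k (hgen e he)

end proj

section bessel
variable {M : Type v} [Group M] [Fintype M]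

/-- Bessel's inequality for an orthogonal family with real coefficients. -/
theorem bessel_orth {ι : Type*} [DecidableEq ι] (s : Finset ι) (w : ι → M → ℂ) (n : ι → ℝ)
    (hn : ∀ i ∈ s, 0 < n i)
    (horth : ∀ i ∈ s, ∀ j ∈ s, classInner (w i) (w j) = if i = j then (n i : ℂ) else 0)
    (W : M → ℂ) (r : ι → ℝ) (hr : ∀ i ∈ s, classInner W (w i) = (r i : ℂ)) :
    ∑ i ∈ s, r i ^ 2 / n i ≤ (classInner W W).re := by
  set c : ι → ℝ := fun i => r i / n i with hc
  set V : M → ℂ := W - ∑ i ∈ s, (c i : ℂ) • w i with hV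
  have h1 : classInner W (∑ i ∈ s, (c i : ℂ) • w i) = ((∑ i ∈ s, c i * r i : ℝ) : ℂ) := by
    rw [classInner_sum_right]
    push_cast
    apply Finset.sum_congr rfl
    intro i hi
    rw [classInner_smul_right, hr i hi, Complex.conj_ofReal]
  have h2 : classInner (∑ i ∈ s, (c i : ℂ) • w i) W = ((∑ i ∈ s, c i * r i : ℝ) : ℂ) := by
    rw [classInner_conj_symm W _, h1, Complex.conj_ofReal]
  have h3 : classInner (∑ i ∈ s, (c i : ℂ) • w i) (∑ i ∈ s, (c i : ℂ) • w i) =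
      ((∑ i ∈ s, c i * r i : ℝ) : ℂ) := by
    rw [classInner_sum_left]
    push_cast
    apply Finset.sum_congr rfl
    intro i hi
    rw [classInner_smul_left, classInner_sum_right, Finset.sum_eq_single i]
    · rw [classInner_smul_right, horth i hi i hi, if_pos rfl, Complex.conj_ofReal]
      have hni : (n i : ℂ) ≠ 0 := by
        have := (hn i hi).ne'
        exact_mod_cast this
      simp only [hc]
      push_cast
      field_simp
    · intro j hj hji
      rw [classInner_smul_right, horth i hi j hj, if_neg (Ne.symm hji), mul_zero]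
    · intro h; exact absurd hi h
  have h4 : classInner V V = classInner W W - ((∑ i ∈ s, c i * r i : ℝ) : ℂ) := by
    rw [hV, classInner_sub_left, classInner_sub_right, classInner_sub_right, h1, h2, h3]
    ring
  have h5 := classInner_self_re_nonneg V
  rw [h4, Complex.sub_re, Complex.ofReal_re] at h5
  have h6 : ∑ i ∈ s, c i * r i = ∑ i ∈ s, r i ^ 2 / n i := by
    apply Finset.sum_congr rfl
    intro i _
    simp only [hc]
    ring
  rw [← h6]
  linarith

end bessel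

section extorth
variable {N : Type u} [Group N] [Fintype N] {M : Type v}

/-- Linear extension along a finite orthogonal family. -/
noncomputable def extOrth (s : Finset (N → ℂ)) (g : (N → ℂ) → (M → ℂ)) (θ : N → ℂ) : M → ℂ :=
  ∑ φ ∈ s, (classInner θ φ / classInner φ φ) • g φ

theorem extOrth_add (s : Finset (N → ℂ)) (g : (N → ℂ) → (M → ℂ)) (θ θ' : N → ℂ) :
    extOrth s g (θ + θ') = extOrth s g θ + extOrth s g θ' := by
  simp only [extOrth, classInner_add_left, add_div, add_smul, Finset.sum_add_distrib]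

theorem extOrth_zsmul (s : Finset (N → ℂ)) (g : (N → ℂ) → (M → ℂ)) (n : ℤ) (θ : N → ℂ) :
    extOrth s g (n • θ) = n • extOrth s g θ := by
  simp only [extOrth, classInner_zsmul_left, Finset.smul_sum]
  apply Finset.sum_congr rfl
  intro φ _
  ext x
  simp only [Pi.smul_apply, smul_eq_mul, zsmul_eq_mul]
  ring

theorem extOrth_mem {s : Finset (N → ℂ)} (g : (N → ℂ) → (M → ℂ))
    (h0 : ∀ φ ∈ s, classInner φ φ ≠ 0)
    (horth : ∀ φ ∈ s, ∀ φ' ∈ s, φ ≠ φ' → classInner φ φ' = 0) {φ₀ : N → ℂ} (hφ₀ : φ₀ ∈ s) :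
    extOrth s g φ₀ = g φ₀ := by
  classical
  unfold extOrth
  rw [Finset.sum_eq_single φ₀]
  · rw [div_self (h0 φ₀ hφ₀), one_smul]
  · intro b hb hbne
    rw [horth φ₀ hφ₀ b hb (Ne.symm hbne), zero_div, zero_smul]
  · intro h; exact absurd hφ₀ h

theorem extOrth_zlinOn (s : Finset (N → ℂ)) (g : (N → ℂ) → (M → ℂ)) (A : Set (N → ℂ)) :
    ZLinOn A (extOrth s g) :=
  ⟨fun α _ β _ => extOrth_add s g α β, fun α _ n => extOrth_zsmul s g n α⟩

end extorth

section cs
variable {L : Type u} [Group L] [Fintype L] {G : Type v} [Group G] [Fintype G]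

theorem classInner_conjFun_conjFun (φ χ : L → ℂ) :
    classInner (Cfsg.conjFun φ) (Cfsg.conjFun χ) = conj (classInner φ χ) := by
  simp only [classInner, Cfsg.conjFun, map_mul, map_sum, map_inv₀, Complex.conj_natCast,
    Complex.conj_conj]

theorem classInner_conjFun_left (φ χ : L → ℂ) :
    classInner (Cfsg.conjFun φ) χ = conj (classInner φ (Cfsg.conjFun χ)) := by
  simp only [classInner, Cfsg.conjFun, map_mul, map_sum, map_inv₀, Complex.conj_natCast,
    Complex.conj_conj]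

theorem conjFun_conjFun (χ : L → ℂ) : Cfsg.conjFun (Cfsg.conjFun χ) = χ := by
  ext x; simp [Cfsg.conjFun]

theorem isCharacter_one_nat {χ : L → ℂ} (h : IsCharacter L χ) : ∃ n : ℕ, χ 1 = (n : ℂ) := by
  obtain ⟨n, ρ, rfl⟩ := h
  exact ⟨n, by rw [Representation.char_one]; simp⟩

variable {S : Set (L → ℂ)} {τ : (L → ℂ) → (G → ℂ)} {R : (L → ℂ) → Finset (G → ℂ)}

theorem cs_inner_conj (hS : Cfsg.IsCoherenceSystem S τ R) {χ : L → ℂ} (hχ : χ ∈ S) :
    classInner χ (Cfsg.conjFun χ) = 0 :=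
  hS.orthogonal χ hχ _ (hS.conj_mem χ hχ) (fun h => hS.conj_ne χ hχ h.symm)

theorem cs_inner_conj' (hS : Cfsg.IsCoherenceSystem S τ R) {χ : L → ℂ} (hχ : χ ∈ S) :
    classInner (Cfsg.conjFun χ) χ = 0 :=
  hS.orthogonal _ (hS.conj_mem χ hχ) χ hχ (hS.conj_ne χ hχ)

theorem cs_norm_nat (hS : Cfsg.IsCoherenceSystem S τ R) {χ : L → ℂ} (hχ : χ ∈ S) :
    ∃ n : ℕ, classInner χ χ = (n : ℂ) :=
  exists_nat_classInner_char (hS.isCharacter χ hχ) (hS.isCharacter χ hχ)

theorem cs_norm_conj {χ : L → ℂ} {n : ℕ} (h : classInner χ χ = (n : ℂ)) :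
    classInner (Cfsg.conjFun χ) (Cfsg.conjFun χ) = (n : ℂ) := by
  rw [classInner_conjFun_conjFun, h, Complex.conj_natCast]

theorem cs_sub_conj_mem (hS : Cfsg.IsCoherenceSystem S τ R) {χ : L → ℂ} (hχ : χ ∈ S) :
    χ - Cfsg.conjFun χ ∈ Cfsg.zspanOn S {1}ᶜ := by
  refine mem_zspanOn_compl_one.2 ⟨zspan_sub_mem (subset_zspan hχ)
    (subset_zspan (hS.conj_mem χ hχ)), ?_⟩
  obtain ⟨n, hn⟩ := isCharacter_one_nat (hS.isCharacter χ hχ)
  simp [Cfsg.conjFun, hn]

theorem cs_R_one (hS : Cfsg.IsCoherenceSystem S τ R) {χ : L → ℂ} (hχ : χ ∈ S) :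
    ∀ α ∈ R χ, classInner α α = 1 := by
  intro α hα
  have := hS.orthonormal χ hχ α hα α hα
  rw [if_pos rfl] at this
  exact this

theorem cs_R_zero (hS : Cfsg.IsCoherenceSystem S τ R) {χ : L → ℂ} (hχ : χ ∈ S) :
    ∀ α ∈ R χ, ∀ β ∈ R χ, α ≠ β → classInner α β = 0 := by
  intro α hα β hβ hne
  have := hS.orthonormal χ hχ α hα β hβ
  rw [if_neg hne] at this
  exact this

/-- `‖τ(χ − χ̄)‖² = 2‖χ‖²`. -/
theorem cs_norm_sum_R (hS : Cfsg.IsCoherenceSystem S τ R) {χ : L → ℂ} (hχ : χ ∈ S) {n : ℕ}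
    (hn : classInner χ χ = (n : ℂ)) :
    classInner (∑ α ∈ R χ, α) (∑ α ∈ R χ, α) = 2 * (n : ℂ) := by
  rw [← hS.sum_eq χ hχ, hS.isometry.2.2.1 _ (cs_sub_conj_mem hS hχ) _ (cs_sub_conj_mem hS hχ),
    classInner_sub_left, classInner_sub_right, classInner_sub_right, hn, cs_inner_conj hS hχ,
    cs_inner_conj' hS hχ, cs_norm_conj hn]
  ring

/-- Inner product of a vector with `∑ R χ`. -/
theorem cs_inner_sum_R (Θ : G → ℂ) (χ : L → ℂ) :
    classInner Θ (∑ α ∈ R χ, α) = ∑ α ∈ R χ, classInner Θ α :=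
  classInner_sum_right _ _ _

theorem sum_mul_conj_eq_norm_sq {ι : Type*} (s : Finset ι) (c : ι → ℂ) :
    ∑ i ∈ s, c i * conj (c i) = ((∑ i ∈ s, ‖c i‖ ^ 2 : ℝ) : ℂ) := by
  push_cast
  apply Finset.sum_congr rfl
  intro i _
  rw [Complex.mul_conj, Complex.normSq_eq_norm_sq]
  push_cast; rfl

/-- Facts on `X = projE (R χ) Δ` when all coefficients are `0` or `1` and their squares sum to
`‖χ‖²`. -/
theorem cs_X_facts (hS : Cfsg.IsCoherenceSystem S τ R) {χ : L → ℂ} (hχ : χ ∈ S) (Δ : G → ℂ)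
    {n : ℕ} (h01 : ∀ α ∈ R χ, classInner Δ α = 0 ∨ classInner Δ α = 1)
    (hsum : ∑ α ∈ R χ, ‖classInner Δ α‖ ^ 2 = (n : ℝ)) :
    classInner (projE (R χ) Δ) (projE (R χ) Δ) = (n : ℂ) ∧
    classInner (projE (R χ) Δ) (∑ α ∈ R χ, α) = (n : ℂ) ∧
    classInner (∑ α ∈ R χ, α) (projE (R χ) Δ) = (n : ℂ) := by
  have hE1 := cs_R_one hS hχ
  have hE0 := cs_R_zero hS hχ
  have h1 : classInner (projE (R χ) Δ) (projE (R χ) Δ) = (n : ℂ) := by
    rw [inner_projE_self hE1 hE0, sum_mul_conj_eq_norm_sq, hsum]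
    push_cast; rfl
  have h2 : classInner (projE (R χ) Δ) (∑ α ∈ R χ, α) = (n : ℂ) := by
    rw [classInner_sum_right, ← h1, inner_projE_self hE1 hE0]
    apply Finset.sum_congr rfl
    intro α hα
    rw [inner_projE_left hE1 hE0 Δ hα]
    rcases h01 α hα with h | h <;> rw [h] <;> simp
  refine ⟨h1, h2, ?_⟩
  rw [classInner_conj_symm (projE (R χ) Δ) _, h2, Complex.conj_natCast]

/-- A coherent extension sends each `φ` into the span of `R φ` (Peterfalvi (5.3) with `ψ = 0`). -/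
theorem cs_coherent_image (hS : Cfsg.IsCoherenceSystem S τ R) {S₁ : Set (L → ℂ)} (hS₁ : S₁ ⊆ S)
    {τ₁ : (L → ℂ) → (G → ℂ)} (hτ₁ : Cfsg.IsLinearIsometryOn (Cfsg.zspan S₁) τ₁)
    (hτ₁τ : ∀ θ ∈ Cfsg.zspanOn S₁ {1}ᶜ, τ₁ θ = τ θ) {φ : L → ℂ} (hφ : φ ∈ S₁)
    (hφc : Cfsg.conjFun φ ∈ S₁) : τ₁ φ = projE (R φ) (τ₁ φ) := by
  have hφS : φ ∈ S := hS₁ hφ
  obtain ⟨n, hn⟩ := cs_norm_nat hS hφS
  have hsub : Cfsg.zspan {φ - 0, φ - Cfsg.conjFun φ} ⊆ Cfsg.zspan S₁ := by
    intro x hx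
    refine Submodule.span_le.2 ?_ hx
    rintro y (rfl | rfl)
    · rw [sub_zero]; exact subset_zspan hφ
    · exact zspan_sub_mem (subset_zspan hφ) (subset_zspan hφc)
  have hagree : ∀ k : ℤ, τ₁ (k • (φ - Cfsg.conjFun φ)) = τ (k • (φ - Cfsg.conjFun φ)) := by
    intro k
    apply hτ₁τ
    have h1 := cs_sub_conj_mem hS hφS
    refine zspanOn_smul_mem k ⟨zspan_sub_mem (subset_zspan hφ) (subset_zspan hφc), h1.2⟩
  have key := Cfsg.Agent.S1515.result S τ R hS φ hφS 0 (zspan_zero_mem S)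
    (classInner_zero_right φ) (classInner_zero_right _) τ₁ (isLinearIsometryOn_mono hτ₁ hsub)
    hagree
  rw [sub_zero] at key
  have hE1 := cs_R_one hS hφS
  have hE0 := cs_R_zero hS hφS
  have hpyth := norm_decomp_projE hE1 hE0 (τ₁ φ)
  rw [hτ₁.2.2.1 φ (subset_zspan hφ) φ (subset_zspan hφ), hn, sum_mul_conj_eq_norm_sq] at hpyth
  have hre := congrArg Complex.re hpyth
  rw [Complex.add_re, Complex.ofReal_re, Complex.natCast_re] at hre
  have hnn := classInner_self_re_nonneg (τ₁ φ - projE (R φ) (τ₁ φ))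
  have h1 := key.1
  rw [hn, Complex.natCast_re] at h1
  have hsum : ∑ α ∈ R φ, ‖classInner (τ₁ φ) α‖ ^ 2 = (n : ℝ) := by linarith
  have hW : classInner (τ₁ φ - projE (R φ) (τ₁ φ)) (τ₁ φ - projE (R φ) (τ₁ φ)) = 0 := by
    rw [hsum] at hpyth
    have : ((n : ℕ) : ℂ) = ((n : ℝ) : ℂ) := by push_cast; rfl
    rw [this] at hpyth
    linear_combination -hpyth
  exact sub_eq_zero.1 (eq_zero_of_classInner_self hW)

theorem cs_ne_zero (hS : Cfsg.IsCoherenceSystem S τ R) {χ : L → ℂ} (hχ : χ ∈ S) : χ ≠ 0 := by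
  intro h0
  apply hS.conj_ne χ hχ
  rw [h0]; ext x; simp [Cfsg.conjFun]

theorem cs_norm_pos (hS : Cfsg.IsCoherenceSystem S τ R) {χ : L → ℂ} (hχ : χ ∈ S) :
    ∃ n : ℕ, 0 < n ∧ classInner χ χ = (n : ℂ) := by
  obtain ⟨n, hn⟩ := cs_norm_nat hS hχ
  refine ⟨n, ?_, hn⟩
  rcases Nat.eq_zero_or_pos n with h | h
  · exfalso
    apply cs_ne_zero hS hχ
    apply eq_zero_of_classInner_self
    rw [hn, h]; simp
  · exact h

theorem cs_degree_pos (hS : Cfsg.IsCoherenceSystem S τ R) {χ : L → ℂ} (hχ : χ ∈ S) :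
    ∃ k : ℕ, 0 < k ∧ χ 1 = (k : ℂ) := by
  have hne := cs_ne_zero hS hχ
  obtain ⟨k, ρ, rfl⟩ := hS.isCharacter χ hχ
  have hk : Module.finrank ℂ (Fin k → ℂ) = k := by simp
  refine ⟨k, ?_, by rw [Representation.char_one, hk]⟩
  rcases Nat.eq_zero_or_pos k with h0 | h0
  · exfalso
    apply hne
    ext g
    exact character_eq_zero_of_finrank_eq_zero ρ (by rw [hk, h0]) g
  · exact h0

/-- `R φ ⟂ R χ` for `φ ∉ {χ, χ̄}`. -/
theorem cs_R_disjoint (hS : Cfsg.IsCoherenceSystem S τ R) {χ φ : L → ℂ} (hχ : χ ∈ S) (hφ : φ ∈ S)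
    (h1 : φ ≠ χ) (h2 : φ ≠ Cfsg.conjFun χ) : ∀ α ∈ R φ, ∀ β ∈ R χ, classInner α β = 0 :=
  hS.disjoint χ hχ φ hφ (hS.orthogonal φ hφ χ hχ h1)
    (hS.orthogonal φ hφ _ (hS.conj_mem χ hχ) h2)

theorem cs_tau_zero (hS : Cfsg.IsCoherenceSystem S τ R) : τ 0 = 0 := by
  have h0 : (0 : L → ℂ) ∈ Cfsg.zspanOn S {1}ᶜ := ⟨zspan_zero_mem S, fun _ _ => rfl⟩
  have := hS.isometry.2.1 0 h0 0
  simpa using this

theorem cs_tau_neg (hS : Cfsg.IsCoherenceSystem S τ R) {θ : L → ℂ}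
    (hθ : θ ∈ Cfsg.zspanOn S {1}ᶜ) : τ (-θ) = -τ θ := by
  have := hS.isometry.2.1 θ hθ (-1)
  simpa using this

/-- The pair lemma: for `φ' ∉ {φ, φ̄}` of the same degree, `τ (φ - φ')` splits along `R φ` and
`R φ'`, with `0/1` coefficients along `R φ`. -/
theorem cs_pair (hS : Cfsg.IsCoherenceSystem S τ R) {φ φ' : L → ℂ} (hφ : φ ∈ S) (hφ' : φ' ∈ S)
    (h1 : φ' ≠ φ) (h2 : φ' ≠ Cfsg.conjFun φ) (hdeg : φ 1 = φ' 1) {n n' : ℕ}
    (hn : classInner φ φ = (n : ℂ)) (hn' : classInner φ' φ' = (n' : ℂ)) :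
    (∑ α ∈ R φ, ‖classInner (τ (φ - φ')) α‖ ^ 2 = (n : ℝ)) ∧
    (∀ α ∈ R φ, classInner (τ (φ - φ')) α = 0 ∨ classInner (τ (φ - φ')) α = 1) ∧
    τ (φ - φ') = projE (R φ) (τ (φ - φ')) + projE (R φ') (τ (φ - φ')) := by
  have hφc := hS.conj_mem φ hφ
  have hφ'c := hS.conj_mem φ' hφ'
  have hmem : φ - φ' ∈ Cfsg.zspanOn S {1}ᶜ :=
    mem_zspanOn_compl_one.2 ⟨zspan_sub_mem (subset_zspan hφ) (subset_zspan hφ'), by
      rw [Pi.sub_apply, hdeg, sub_self]⟩
  have hmem' : φ' - φ ∈ Cfsg.zspanOn S {1}ᶜ :=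
    mem_zspanOn_compl_one.2 ⟨zspan_sub_mem (subset_zspan hφ') (subset_zspan hφ), by
      rw [Pi.sub_apply, hdeg, sub_self]⟩
  have h3 : Cfsg.conjFun φ' ≠ φ := by
    intro h
    apply h2
    rw [← h, conjFun_conjFun]
  have o1 : classInner φ φ' = 0 := hS.orthogonal φ hφ φ' hφ' (Ne.symm h1)
  have o2 : classInner φ' φ = 0 := hS.orthogonal φ' hφ' φ hφ h1
  have o3 : classInner (Cfsg.conjFun φ) φ' = 0 := hS.orthogonal _ hφc φ' hφ' (Ne.symm h2)
  have o4 : classInner (Cfsg.conjFun φ') φ = 0 := hS.orthogonal _ hφ'c φ hφ h3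
  set Δ := τ (φ - φ') with hΔ
  have hΔ' : τ (φ' - φ) = -Δ := by
    have : φ' - φ = -(φ - φ') := by ring
    rw [this, cs_tau_neg hS hmem]
  have hsub1 : Cfsg.zspan {φ - φ', φ - Cfsg.conjFun φ} ⊆ Cfsg.zspanOn S {1}ᶜ := by
    apply zspan_subset_zspanOn
    rintro y (rfl | rfl)
    · exact hmem
    · exact cs_sub_conj_mem hS hφ
  have hsub2 : Cfsg.zspan {φ' - φ, φ' - Cfsg.conjFun φ'} ⊆ Cfsg.zspanOn S {1}ᶜ := by
    apply zspan_subset_zspanOn
    rintro y (rfl | rfl)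
    · exact hmem'
    · exact cs_sub_conj_mem hS hφ'
  have key1 := Cfsg.Agent.S1515.result S τ R hS φ hφ φ' (subset_zspan hφ') o1 o3 τ
    (isLinearIsometryOn_mono hS.isometry hsub1) (fun _ => rfl)
  have key2 := Cfsg.Agent.S1515.result S τ R hS φ' hφ' φ (subset_zspan hφ) o2 o4 τ
    (isLinearIsometryOn_mono hS.isometry hsub2) (fun _ => rfl)
  rw [← hΔ] at key1
  rw [hΔ'] at key2
  have hΔΔ : classInner Δ Δ = (n : ℂ) + (n' : ℂ) := by
    rw [hΔ, hS.isometry.2.2.1 _ hmem _ hmem, classInner_sub_left, classInner_sub_right,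
      classInner_sub_right, hn, hn', o1, o2]
    ring
  -- the two lower bounds
  have hA1 : (n : ℝ) ≤ ∑ α ∈ R φ, ‖classInner Δ α‖ ^ 2 := by
    have := key1.1
    rw [hn, Complex.natCast_re] at this
    exact this
  have hA2 : (n' : ℝ) ≤ ∑ β ∈ R φ', ‖classInner Δ β‖ ^ 2 := by
    have := key2.1
    rw [hn', Complex.natCast_re] at this
    have h4 : ∑ β ∈ R φ', ‖classInner (-Δ) β‖ ^ 2 = ∑ β ∈ R φ', ‖classInner Δ β‖ ^ 2 := by
      apply Finset.sum_congr rfl
      intro β _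
      rw [classInner_neg_left, norm_neg]
    rw [h4] at this
    exact this
  -- Pythagoras twice
  have hE1 := cs_R_one hS hφ
  have hE0 := cs_R_zero hS hφ
  have hE1' := cs_R_one hS hφ'
  have hE0' := cs_R_zero hS hφ'
  have hdis : ∀ α ∈ R φ', ∀ β ∈ R φ, classInner α β = 0 := cs_R_disjoint hS hφ hφ' h1 h2
  set W₁ := Δ - projE (R φ) Δ with hW₁
  have hW₁β : ∀ β ∈ R φ', classInner W₁ β = classInner Δ β := by
    intro β hβ
    rw [hW₁, classInner_sub_left, inner_projE_left_of_orth Δ β (fun e he => hdis β hβ e he),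
      sub_zero]
  have hproj : projE (R φ') W₁ = projE (R φ') Δ := by
    unfold projE
    apply Finset.sum_congr rfl
    intro β hβ
    rw [hW₁β β hβ]
  have p1 := norm_decomp_projE hE1 hE0 Δ
  have p2 := norm_decomp_projE hE1' hE0' W₁
  rw [← hW₁] at p1
  rw [hproj] at p2
  have p2' : classInner W₁ W₁ = ∑ β ∈ R φ', classInner Δ β * conj (classInner Δ β) +
      classInner (W₁ - projE (R φ') Δ) (W₁ - projE (R φ') Δ) := by
    rw [p2]
    congr 1
    apply Finset.sum_congr rfl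
    intro β hβ
    rw [hW₁β β hβ]
  rw [p2', hΔΔ, sum_mul_conj_eq_norm_sq, sum_mul_conj_eq_norm_sq] at p1
  set W₂ := W₁ - projE (R φ') Δ with hW₂
  have hnn := classInner_self_re_nonneg W₂
  have hre := congrArg Complex.re p1
  simp only [Complex.add_re, Complex.ofReal_re, Complex.natCast_re] at hre
  have hA1' : ∑ α ∈ R φ, ‖classInner Δ α‖ ^ 2 = (n : ℝ) := by linarith
  have hA2' : ∑ β ∈ R φ', ‖classInner Δ β‖ ^ 2 = (n' : ℝ) := by linarith
  have hW₂0 : classInner W₂ W₂ = 0 := by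
    rw [hA1', hA2'] at p1
    push_cast at p1
    linear_combination -p1
  have hW₂z := eq_zero_of_classInner_self hW₂0
  refine ⟨hA1', ?_, ?_⟩
  · apply (key1.2 _).2
    rw [hn', Complex.natCast_re, hΔΔ, hA1']
    simp
  · rw [hW₂, hW₁] at hW₂z
    have := sub_eq_zero.1 hW₂z
    linear_combination this

end cs

end Cfsg.Agent.Helper82
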