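import Mathlib
import Cfsg.Prelude.Def_Characters
import Cfsg.Prelude.Def_OddOrderChar
import Cfsg.Agent.Lib.Helper82.Coh62Sum
import Cfsg.Agent.Lib.Helper82.CoherenceSys
import Cfsg.Agent.Lib.Helper80.ConjIrr
import Cfsg.Agent.Lib.Helper79.LinearChars

/-!
# Auxiliary facts on the sets `S(A) = inducedIrrAbove K A` (Peterfalvi, section 6)
-/

set_option autoImplicit false
set_option linter.unusedSectionVars false

namespace Cfsg.Agent.Helper82

open Cfsg Cfsg.Agent.Helper81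
open scoped ComplexConjugate

universe u v

section aux

variable {L : Type u} [Group L] [Fintype L]

theorem conjFun_indFun (H : Subgroup L) (θ : H → ℂ) :
    Cfsg.conjFun (indFun H θ) = indFun H (Cfsg.conjFun θ) := by
  classical
  funext g
  show (starRingEnd ℂ) (indFun H θ g) = indFun H (Cfsg.conjFun θ) g
  rw [indFun_apply, indFun_apply, map_mul, map_sum, map_inv₀, Complex.conj_natCast]
  congr 1
  refine Finset.sum_congr rfl fun x _ => ?_
  by_cases h : x⁻¹ * g * x ∈ H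
  · rw [extendByZero_apply_mem H θ h, extendByZero_apply_mem H _ h]; rfl
  · rw [extendByZero_apply_not_mem H θ h, extendByZero_apply_not_mem H _ h, map_zero]

variable (K : Subgroup L) [hK : K.Normal]

theorem inducedIrrAbove_eq [Fintype K] (A : Subgroup L) :
    Cfsg.inducedIrrAbove K A =
      ↑((irrAbove K A).image (fun θ : IrrCharacter K => indFun K (θ : K → ℂ))) := by
  classical
  ext φ
  rw [Finset.mem_coe, Finset.mem_image]
  constructor
  · rintro ⟨θ, hθ, hne, hker, rfl⟩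
    exact ⟨⟨θ, hθ⟩, (mem_irrAbove K A _).mpr ⟨hne, hker⟩, rfl⟩
  · rintro ⟨θ, hθ, rfl⟩
    rw [mem_irrAbove] at hθ
    exact ⟨θ, θ.2, hθ.1, hθ.2, rfl⟩

theorem inducedIrrAbove_conj_mem (A : Subgroup L) {φ : L → ℂ}
    (hφ : φ ∈ Cfsg.inducedIrrAbove K A) : Cfsg.conjFun φ ∈ Cfsg.inducedIrrAbove K A := by
  obtain ⟨θ, hθ, hne, hker, rfl⟩ := hφ
  refine ⟨Cfsg.conjFun θ, Cfsg.Agent.Helper80.isIrrCharacter_cconj hθ, ?_, ?_, conjFun_indFun K θ⟩
  · intro h
    apply hne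
    funext k
    have h1 := congrFun h k
    have h2 : (starRingEnd ℂ) (θ k) = 1 := h1
    have h3 := congrArg (starRingEnd ℂ) h2
    simpa using h3
  · intro a ha
    show (starRingEnd ℂ) (θ a) = (starRingEnd ℂ) (θ 1)
    rw [hker a ha]

theorem inducedIrrAbove_mono {A B : Subgroup L} (h : A ≤ B) :
    Cfsg.inducedIrrAbove K B ⊆ Cfsg.inducedIrrAbove K A := by
  rintro φ ⟨θ, hθ, hne, hker, rfl⟩
  exact ⟨θ, hθ, hne, fun a ha => hker a (h ha), rfl⟩

theorem inducedIrrAbove_subset_bot (A : Subgroup L) :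
    Cfsg.inducedIrrAbove K A ⊆ Cfsg.inducedIrrAbove K ⊥ :=
  inducedIrrAbove_mono K bot_le

/-- A non-principal linear character of the solvable group `K` trivial on `A < K`. -/
theorem exists_linear_above (A : Subgroup L) [hA : A.Normal] (hsolv : Group.IsSolvable K)
    (hAK : A < K) :
    ∃ lam : IrrCharacter K, (lam : K → ℂ) ≠ (fun _ => 1) ∧
      (∀ a : K, (a : L) ∈ A → (lam : K → ℂ) a = (lam : K → ℂ) 1) ∧ (lam : K → ℂ) 1 = 1 := by
  classical
  obtain ⟨k, hkK, hkA⟩ := SetLike.exists_of_lt hAK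
  haveI : Nontrivial (↥K ⧸ A.subgroupOf K) := by
    refine nontrivial_of_ne (QuotientGroup.mk (⟨k, hkK⟩ : K)) 1 ?_
    intro h
    rw [QuotientGroup.eq_one_iff, Subgroup.mem_subgroupOf] at h
    exact hkA h
  haveI : Group.IsSolvable K := hsolv
  have hcomm : commutator (↥K ⧸ A.subgroupOf K) ≠ ⊤ :=
    (Group.IsSolvable.commutator_lt_top_of_nontrivial (↥K ⧸ A.subgroupOf K)).ne
  obtain ⟨χ, hdeg, hne⟩ := Cfsg.Agent.Helper79.exists_nontrivial_linear hcomm
  refine ⟨Cfsg.Agent.Helper79.inflate (A.subgroupOf K) χ, ?_, ?_, ?_⟩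
  · intro h
    apply hne
    rw [Cfsg.Agent.Helper79.eq_trivChar_iff]
    funext q
    obtain ⟨x, rfl⟩ := QuotientGroup.mk_surjective q
    have h1 := congrFun h x
    rwa [Cfsg.Agent.Helper79.inflate_apply] at h1
  · intro a ha
    have h1 := Cfsg.Agent.Helper79.le_irrKer_inflate (A.subgroupOf K) χ
      (Subgroup.mem_subgroupOf.mpr ha)
    exact (Cfsg.Agent.Helper79.mem_irrKer _ a).mp h1
  · rw [Cfsg.Agent.Helper79.inflate_apply, QuotientGroup.mk_one,
      (Cfsg.Agent.Helper79.irr_one_eq χ).1, hdeg]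
    simp

end aux

section subcoh

variable {L : Type u} [Group L] [Fintype L] {G : Type v} [Group G] [Fintype G]
  {S : Set (L → ℂ)} {τ : (L → ℂ) → (G → ℂ)} {R : (L → ℂ) → Finset (G → ℂ)}

/-- A nonempty conjugation-closed subset of a coherent subset of a coherence system is coherent. -/
theorem isCoherent_subset (hS : Cfsg.IsCoherenceSystem S τ R) {S₁ S₂ : Set (L → ℂ)}
    (h12 : S₂ ⊆ S₁) (h2 : S₂ ⊆ S) (hne : S₂.Nonempty)
    (hconj : ∀ φ ∈ S₂, Cfsg.conjFun φ ∈ S₂) (hcoh : Cfsg.IsCoherent S₁ {1}ᶜ τ) :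
    Cfsg.IsCoherent S₂ {1}ᶜ τ := by
  obtain ⟨-, τ₁, hτ₁, hagree⟩ := hcoh
  refine ⟨?_, τ₁, isLinearIsometryOn_mono hτ₁ (zspan_mono h12),
    fun α hα => hagree α (zspanOn_mono h12 _ hα)⟩
  obtain ⟨χ, hχ⟩ := hne
  refine ⟨χ - Cfsg.conjFun χ, ⟨zspan_sub_mem (subset_zspan hχ) (subset_zspan (hconj χ hχ)), ?_⟩, ?_⟩
  · exact (cs_sub_conj_mem hS (h2 hχ)).2
  · intro h
    apply hS.conj_ne χ (h2 hχ)
    exact (sub_eq_zero.mp h).symm

end subcoh

end Cfsg.Agent.Helper82
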