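import Mathlib
import Cfsg.Prelude.Def_Characters
import Cfsg.Prelude.Def_OddOrderChar
import Cfsg.Agent.Lib.Helper82.GenChar
import Cfsg.Agent.Lib.Helper82.Coherence
import Cfsg.Agent.Lib.Helper82.CoherenceSys

/-!
# Sibley's coherence theorem: the Gram matrix argument

Abstract setting: a finite set `S` of irreducible characters of `X` of degrees `e * a ξ`, an anchor
`ψ₀ ∈ S` with `a ψ₀ = 1`, a ℂ-linear map `τ` which is an isometry on the integer combinations of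
`S` vanishing at `1`, and a virtual character `Ψ` of `G` of norm `1`.  With
`F ξ = τ ξ + a ξ • (Ψ - τ ψ₀)` and `y ξ = (F ξ, Ψ) - [ξ = ψ₀]` the Gram matrix of the `F ξ` is
`δ + a ξ' y ξ + a ξ y ξ'`.
-/

set_option autoImplicit false
set_option linter.unusedSectionVars false
set_option linter.unusedVariables false

namespace Cfsg.Agent.Helper82

open Cfsg Cfsg.Agent.Helper81
open scoped ComplexConjugate

universe u v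

section sibgram

variable {X : Type u} [Group X] [Fintype X] {G : Type v} [Group G] [Fintype G]

/-- The abstract setting for the Gram matrix argument. -/
structure SibSetup (S : Finset (X → ℂ)) (τ : (X → ℂ) → (G → ℂ)) (e : ℕ) (a : (X → ℂ) → ℕ)
    (ψ₀ : X → ℂ) : Prop where
  irr : ∀ ξ ∈ S, IsIrrCharacter X ξ
  deg : ∀ ξ ∈ S, ξ 1 = (e : ℂ) * (a ξ : ℂ)
  apos : ∀ ξ ∈ S, 0 < a ξ
  epos : 0 < e
  hψ₀ : ψ₀ ∈ S
  hψ₀a : a ψ₀ = 1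
  add : ∀ α β, τ (α + β) = τ α + τ β
  smul : ∀ (c : ℂ) α, τ (c • α) = c • τ α
  iso : ∀ α ∈ Cfsg.zspanOn (↑S : Set (X → ℂ)) {1}ᶜ, ∀ β ∈ Cfsg.zspanOn (↑S : Set (X → ℂ)) {1}ᶜ,
    classInner (τ α) (τ β) = classInner α β
  gen : ∀ α ∈ Cfsg.zspanOn (↑S : Set (X → ℂ)) {1}ᶜ, IsGeneralizedCharacter G (τ α)

variable {S : Finset (X → ℂ)} {τ : (X → ℂ) → (G → ℂ)} {e : ℕ} {a : (X → ℂ) → ℕ} {ψ₀ : X → ℂ}

/-- `ξ - a ξ • ψ₀`. -/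
def sibB (a : (X → ℂ) → ℕ) (ψ₀ : X → ℂ) (ξ : X → ℂ) : X → ℂ := ξ - (a ξ : ℂ) • ψ₀

/-- `F ξ = τ ξ + a ξ • (Ψ - τ ψ₀)`. -/
def sibF (τ : (X → ℂ) → (G → ℂ)) (a : (X → ℂ) → ℕ) (ψ₀ : X → ℂ) (Ψ : G → ℂ) (ξ : X → ℂ) :
    G → ℂ := τ ξ + (a ξ : ℂ) • (Ψ - τ ψ₀)

open Classical in
/-- `y ξ = (τ (ξ - a ξ ψ₀), Ψ) + a ξ - [ξ = ψ₀]`. -/
noncomputable def sibY (τ : (X → ℂ) → (G → ℂ)) (a : (X → ℂ) → ℕ) (ψ₀ : X → ℂ) (Ψ : G → ℂ)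
    (ξ : X → ℂ) : ℂ :=
  classInner (τ (sibB a ψ₀ ξ)) Ψ + (a ξ : ℂ) - (if ξ = ψ₀ then 1 else 0)

theorem SibSetup.tau_sub (h : SibSetup S τ e a ψ₀) (α β : X → ℂ) : τ (α - β) = τ α - τ β := by
  have h1 : α - β = α + (-1 : ℂ) • β := by rw [neg_one_smul, sub_eq_add_neg]
  rw [h1, h.add, h.smul, neg_one_smul, sub_eq_add_neg]

theorem SibSetup.tau_zero (h : SibSetup S τ e a ψ₀) : τ 0 = 0 := by
  have := h.smul 0 0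
  simpa using this

theorem SibSetup.sibB_mem (h : SibSetup S τ e a ψ₀) {ξ : X → ℂ} (hξ : ξ ∈ S) :
    sibB a ψ₀ ξ ∈ Cfsg.zspanOn (↑S : Set (X → ℂ)) {1}ᶜ := by
  refine mem_zspanOn_compl_one.2 ⟨?_, ?_⟩
  · have h1 : sibB a ψ₀ ξ = ξ - ((a ξ : ℕ) : ℤ) • ψ₀ := by
      unfold sibB
      ext x
      simp
    rw [h1]
    exact zspan_sub_mem (subset_zspan (Finset.mem_coe.mpr hξ))
      (zspan_smul_mem _ (subset_zspan (Finset.mem_coe.mpr h.hψ₀)))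
  · unfold sibB
    rw [Pi.sub_apply, Pi.smul_apply, smul_eq_mul, h.deg ξ hξ, h.deg ψ₀ h.hψ₀, h.hψ₀a]
    push_cast
    ring

theorem SibSetup.sibF_eq (h : SibSetup S τ e a ψ₀) (Ψ : G → ℂ) (ξ : X → ℂ) :
    sibF τ a ψ₀ Ψ ξ = τ (sibB a ψ₀ ξ) + (a ξ : ℂ) • Ψ := by
  unfold sibF sibB
  rw [h.tau_sub, h.smul, smul_sub]
  abel

theorem SibSetup.sibF_anchor (h : SibSetup S τ e a ψ₀) (Ψ : G → ℂ) : sibF τ a ψ₀ Ψ ψ₀ = Ψ := by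
  unfold sibF
  rw [h.hψ₀a]
  simp

open Classical in
theorem SibSetup.inner_sibB (h : SibSetup S τ e a ψ₀) {ξ ξ' : X → ℂ} (hξ : ξ ∈ S)
    (hξ' : ξ' ∈ S) :
    classInner (sibB a ψ₀ ξ) (sibB a ψ₀ ξ') =
      (if ξ = ξ' then 1 else 0) - (a ξ' : ℂ) * (if ξ = ψ₀ then 1 else 0)
        - (a ξ : ℂ) * (if ξ' = ψ₀ then 1 else 0) + (a ξ : ℂ) * (a ξ' : ℂ) := by
  unfold sibB
  rw [classInner_sub_left, classInner_sub_right, classInner_sub_right, classInner_smul_left,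
    classInner_smul_left, classInner_smul_right, classInner_smul_right,
    irr_orthonormal (h.irr ξ hξ) (h.irr ξ' hξ'), irr_orthonormal (h.irr ξ hξ) (h.irr ψ₀ h.hψ₀),
    irr_orthonormal (h.irr ψ₀ h.hψ₀) (h.irr ξ' hξ'), irr_orthonormal (h.irr ψ₀ h.hψ₀) (h.irr ψ₀ h.hψ₀),
    if_pos rfl, Complex.conj_natCast]
  have e1 : (if ψ₀ = ξ' then (1 : ℂ) else 0) = if ξ' = ψ₀ then 1 else 0 := by
    by_cases hh : ξ' = ψ₀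
    · rw [if_pos hh, if_pos hh.symm]
    · rw [if_neg hh, if_neg (fun h' => hh h'.symm)]
  rw [e1]
  ring

/-- The anchor data: a virtual character of norm one compatible with the degree-`e` characters. -/
structure IsAnchor (S : Finset (X → ℂ)) (τ : (X → ℂ) → (G → ℂ)) (a : (X → ℂ) → ℕ)
    (ψ₀ : X → ℂ) (Ψ : G → ℂ) : Prop where
  gen : IsGeneralizedCharacter G Ψ
  norm : classInner Ψ Ψ = 1
  x1 : ∀ ψ ∈ S, a ψ = 1 → ψ ≠ ψ₀ → classInner (τ (ψ - ψ₀)) Ψ = -1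

variable {Ψ : G → ℂ}

theorem SibSetup.sibY_int (h : SibSetup S τ e a ψ₀) (hΨ : IsGeneralizedCharacter G Ψ)
    {ξ : X → ℂ} (hξ : ξ ∈ S) : ∃ k : ℤ, sibY τ a ψ₀ Ψ ξ = (k : ℂ) := by
  classical
  obtain ⟨k, hk⟩ := genChar_inner_int (h.gen _ (h.sibB_mem hξ)) hΨ
  unfold sibY
  rw [hk]
  by_cases h0 : ξ = ψ₀
  · rw [if_pos h0]
    exact ⟨k + a ξ - 1, by push_cast; ring⟩
  · rw [if_neg h0]
    exact ⟨k + a ξ, by push_cast; ring⟩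

theorem SibSetup.sibY_anchor (h : SibSetup S τ e a ψ₀) : sibY τ a ψ₀ Ψ ψ₀ = 0 := by
  unfold sibY sibB
  rw [h.hψ₀a, if_pos rfl]
  have : ψ₀ - ((1 : ℕ) : ℂ) • ψ₀ = 0 := by simp
  rw [this, h.tau_zero, classInner_zero_left]
  push_cast
  ring

theorem SibSetup.sibY_x1 (h : SibSetup S τ e a ψ₀) (hA : IsAnchor S τ a ψ₀ Ψ) {ψ : X → ℂ}
    (hψ : ψ ∈ S) (ha : a ψ = 1) : sibY τ a ψ₀ Ψ ψ = 0 := by
  classical
  by_cases h0 : ψ = ψ₀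
  · rw [h0]; exact h.sibY_anchor
  · unfold sibY sibB
    rw [ha, if_neg h0]
    have : ψ - ((1 : ℕ) : ℂ) • ψ₀ = ψ - ψ₀ := by simp
    rw [this, hA.x1 ψ hψ ha h0]
    push_cast
    ring

open Classical in
/-- The Gram matrix of the family `F`. -/
theorem SibSetup.gram (h : SibSetup S τ e a ψ₀) (hA : IsAnchor S τ a ψ₀ Ψ) {ξ ξ' : X → ℂ}
    (hξ : ξ ∈ S) (hξ' : ξ' ∈ S) :
    classInner (sibF τ a ψ₀ Ψ ξ) (sibF τ a ψ₀ Ψ ξ') =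
      (if ξ = ξ' then 1 else 0) + (a ξ' : ℂ) * sibY τ a ψ₀ Ψ ξ + (a ξ : ℂ) * sibY τ a ψ₀ Ψ ξ' := by
  obtain ⟨k', hk'⟩ := genChar_inner_int (h.gen _ (h.sibB_mem hξ')) hA.gen
  rw [h.sibF_eq, h.sibF_eq, classInner_add_left, classInner_add_right, classInner_add_right,
    classInner_smul_left, classInner_smul_left, classInner_smul_right, classInner_smul_right,
    h.iso _ (h.sibB_mem hξ) _ (h.sibB_mem hξ'), h.inner_sibB hξ hξ', hA.norm,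
    classInner_conj_symm (τ (sibB a ψ₀ ξ')) Ψ, hk']
  have e1 : (starRingEnd ℂ) ((k' : ℤ) : ℂ) = (k' : ℂ) := map_intCast _ _
  have e2 : ∀ n : ℕ, (starRingEnd ℂ) ((n : ℕ) : ℂ) = (n : ℂ) := Complex.conj_natCast
  rw [e1, e2]
  unfold sibY
  rw [hk']
  ring

theorem SibSetup.inner_F_anchor (h : SibSetup S τ e a ψ₀) (hA : IsAnchor S τ a ψ₀ Ψ) {ξ : X → ℂ}
    (hξ : ξ ∈ S) :
    classInner (sibF τ a ψ₀ Ψ ξ) Ψ = (if ξ = ψ₀ then 1 else 0) + sibY τ a ψ₀ Ψ ξ := by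
  classical
  have h1 := h.gram hA hξ h.hψ₀
  rw [h.sibF_anchor, h.sibY_anchor, h.hψ₀a] at h1
  rw [h1]
  push_cast
  ring

/-- An integer-valued version of `y`. -/
theorem SibSetup.exists_yInt (h : SibSetup S τ e a ψ₀) (hA : IsAnchor S τ a ψ₀ Ψ) :
    ∃ y : (X → ℂ) → ℤ, ∀ ξ ∈ S, sibY τ a ψ₀ Ψ ξ = (y ξ : ℂ) := by
  classical
  have h1 : ∀ ξ : X → ℂ, ∃ k : ℤ, ξ ∈ S → sibY τ a ψ₀ Ψ ξ = (k : ℂ) := by
    intro ξ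
    by_cases hξ : ξ ∈ S
    · obtain ⟨k, hk⟩ := h.sibY_int hA.gen hξ
      exact ⟨k, fun _ => hk⟩
    · exact ⟨0, fun h' => absurd h' hξ⟩
  choose y hy using h1
  exact ⟨y, hy⟩

theorem SibSetup.norm_F (h : SibSetup S τ e a ψ₀) (hA : IsAnchor S τ a ψ₀ Ψ)
    {y : (X → ℂ) → ℤ} (hy : ∀ ξ ∈ S, sibY τ a ψ₀ Ψ ξ = (y ξ : ℂ)) {ξ : X → ℂ} (hξ : ξ ∈ S) :
    (classInner (sibF τ a ψ₀ Ψ ξ) (sibF τ a ψ₀ Ψ ξ)).re = 1 + 2 * (a ξ : ℝ) * (y ξ : ℝ) := by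
  classical
  have h1 := h.gram hA hξ hξ
  rw [if_pos rfl, hy ξ hξ] at h1
  rw [h1]
  simp
  ring

theorem SibSetup.y_nonneg (h : SibSetup S τ e a ψ₀) (hA : IsAnchor S τ a ψ₀ Ψ)
    {y : (X → ℂ) → ℤ} (hy : ∀ ξ ∈ S, sibY τ a ψ₀ Ψ ξ = (y ξ : ℂ)) {ξ : X → ℂ} (hξ : ξ ∈ S) :
    0 ≤ y ξ := by
  have h2 := classInner_self_re_nonneg (sibF τ a ψ₀ Ψ ξ)
  rw [h.norm_F hA hy hξ] at h2
  have hapos := h.apos ξ hξ
  by_contra hneg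
  push Not at hneg
  have h3 : (y ξ : ℝ) ≤ -1 := by exact_mod_cast Int.le_sub_one_of_lt hneg
  have h4 : (1 : ℝ) ≤ (a ξ : ℝ) := by exact_mod_cast hapos
  nlinarith

/-- Bessel's inequality against the part of the family where `y` vanishes. -/
theorem SibSetup.bessel (h : SibSetup S τ e a ψ₀) (hA : IsAnchor S τ a ψ₀ Ψ)
    {y : (X → ℂ) → ℤ} (hy : ∀ ξ ∈ S, sibY τ a ψ₀ Ψ ξ = (y ξ : ℂ)) (T₀ : Finset (X → ℂ))
    (hT₀ : T₀ ⊆ S) (hT₀y : ∀ φ ∈ T₀, y φ = 0) {ξ : X → ℂ} (hξ : ξ ∈ S) (hξT : ξ ∉ T₀) :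
    (y ξ) ^ 2 * ∑ φ ∈ T₀, ((a φ : ℤ)) ^ 2 ≤ 1 + 2 * (a ξ : ℤ) * y ξ := by
  classical
  have hb := bessel_orth T₀ (fun φ => sibF τ a ψ₀ Ψ φ) (fun _ => (1 : ℝ)) (fun _ _ => one_pos)
    (by
      intro φ hφ φ' hφ'
      rw [h.gram hA (hT₀ hφ) (hT₀ hφ'), hy φ (hT₀ hφ), hy φ' (hT₀ hφ'), hT₀y φ hφ, hT₀y φ' hφ']
      by_cases hh : φ = φ'
      · rw [if_pos hh, if_pos hh]; simp
      · rw [if_neg hh, if_neg hh]; simp)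
    (sibF τ a ψ₀ Ψ ξ) (fun φ => (a φ : ℝ) * (y ξ : ℝ))
    (by
      intro φ hφ
      have hne : ξ ≠ φ := fun hh => hξT (by rw [hh]; exact hφ)
      rw [h.gram hA hξ (hT₀ hφ), hy ξ hξ, hy φ (hT₀ hφ), hT₀y φ hφ, if_neg hne]
      push_cast
      ring)
  rw [h.norm_F hA hy hξ] at hb
  have h1 : ∑ φ ∈ T₀, ((a φ : ℝ) * (y ξ : ℝ)) ^ 2 / 1 =
      (y ξ : ℝ) ^ 2 * ∑ φ ∈ T₀, ((a φ : ℝ)) ^ 2 := by
    rw [Finset.mul_sum]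
    refine Finset.sum_congr rfl fun φ _ => ?_
    ring
  rw [h1] at hb
  have h2 : (((y ξ) ^ 2 * ∑ φ ∈ T₀, ((a φ : ℤ)) ^ 2 : ℤ) : ℝ) ≤
      ((1 + 2 * (a ξ : ℤ) * y ξ : ℤ) : ℝ) := by
    push_cast
    exact hb
  exact_mod_cast h2

/-- The inner product of `τ ξ` with the anchor. -/
theorem SibSetup.inner_tau_anchor (h : SibSetup S τ e a ψ₀) {ξ : X → ℂ} (hξ : ξ ∈ S) :
    classInner (τ ξ) Ψ = sibY τ a ψ₀ Ψ ξ + (by classical exact if ξ = ψ₀ then 1 else 0) +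
      (a ξ : ℂ) * (classInner (τ ψ₀) Ψ - 1) := by
  classical
  have h1 : ξ = sibB a ψ₀ ξ + (a ξ : ℂ) • ψ₀ := by unfold sibB; abel
  conv_lhs => rw [h1]
  rw [h.add, h.smul, classInner_add_left, classInner_smul_left]
  unfold sibY
  ring

/-- If `y` vanishes identically, then `S` is coherent. -/
theorem SibSetup.coherent_of_y_zero (h : SibSetup S τ e a ψ₀) (hA : IsAnchor S τ a ψ₀ Ψ)
    (hnz : ∃ α ∈ Cfsg.zspanOn (↑S : Set (X → ℂ)) {1}ᶜ, α ≠ 0)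
    (hy0 : ∀ ξ ∈ S, sibY τ a ψ₀ Ψ ξ = 0) :
    Cfsg.IsCoherent (↑S : Set (X → ℂ)) {1}ᶜ τ := by
  classical
  have he : (e : ℂ) ≠ 0 := by exact_mod_cast h.epos.ne'
  let T : (X → ℂ) → (G → ℂ) := fun θ => τ θ + (θ 1 / (e : ℂ)) • (Ψ - τ ψ₀)
  have hTF : ∀ ξ ∈ S, T ξ = sibF τ a ψ₀ Ψ ξ := by
    intro ξ hξ
    show τ ξ + (ξ 1 / (e : ℂ)) • (Ψ - τ ψ₀) = sibF τ a ψ₀ Ψ ξ
    unfold sibF
    rw [h.deg ξ hξ, mul_div_cancel_left₀ _ he]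
  have hTL : ZLinOn (↑S : Set (X → ℂ)) T := by
    refine ⟨?_, ?_⟩
    · intro θ _ θ' _
      show τ (θ + θ') + ((θ + θ') 1 / (e : ℂ)) • (Ψ - τ ψ₀) =
        (τ θ + (θ 1 / (e : ℂ)) • (Ψ - τ ψ₀)) + (τ θ' + (θ' 1 / (e : ℂ)) • (Ψ - τ ψ₀))
      rw [h.add, Pi.add_apply, add_div, add_smul]
      abel
    · intro θ _ n
      have h1 : (n • θ : X → ℂ) = (n : ℂ) • θ := by ext x; simp
      show τ (n • θ) + ((n • θ) 1 / (e : ℂ)) • (Ψ - τ ψ₀) =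
        n • (τ θ + (θ 1 / (e : ℂ)) • (Ψ - τ ψ₀))
      rw [h1, h.smul, Pi.smul_apply, smul_eq_mul, mul_div_assoc]
      ext g
      simp only [Pi.add_apply, Pi.smul_apply, Pi.sub_apply, smul_eq_mul, zsmul_eq_mul]
      ring
  have hFgen : ∀ ξ ∈ S, IsGeneralizedCharacter G (sibF τ a ψ₀ Ψ ξ) := by
    intro ξ hξ
    rw [h.sibF_eq]
    have h1 : ((a ξ : ℂ)) • Ψ = ((a ξ : ℕ) : ℤ) • Ψ := by ext g; simp
    rw [h1]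
    exact isGeneralizedCharacter_add (h.gen _ (h.sibB_mem hξ))
      (isGeneralizedCharacter_zsmul _ hA.gen)
  refine ⟨hnz, T, ⟨hTL.add, hTL.smul, ?_, ?_⟩, ?_⟩
  · intro θ hθ θ' hθ'
    refine inner_eq_of_span hTL ?_ hθ hθ'
    intro b hb c hc
    rw [hTF b hb, hTF c hc, h.gram hA hb hc, hy0 b hb, hy0 c hc,
      irr_orthonormal (h.irr b hb) (h.irr c hc)]
    simp
  · intro θ hθ
    refine hTL.induction (IsGeneralizedCharacter G) ?_ isGeneralizedCharacter_zero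
      (fun _ _ => isGeneralizedCharacter_add) (fun k _ => isGeneralizedCharacter_zsmul k) hθ
    intro b hb
    rw [hTF b hb]
    exact hFgen b hb
  · intro θ hθ
    obtain ⟨-, hθ0⟩ := mem_zspanOn_compl_one.1 hθ
    show τ θ + (θ 1 / (e : ℂ)) • (Ψ - τ ψ₀) = τ θ
    rw [hθ0, zero_div, zero_smul, add_zero]

/-- Conjugation symmetry of `y`. -/
theorem SibSetup.sibY_conj (h : SibSetup S τ e a ψ₀) (hA : IsAnchor S τ a ψ₀ Ψ)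
    (hconj_mem : ∀ ξ ∈ S, Cfsg.conjFun ξ ∈ S) (haconj : ∀ ξ ∈ S, a (Cfsg.conjFun ξ) = a ξ)
    (hτconj : ∀ α, τ (Cfsg.conjFun α) = Cfsg.conjFun (τ α))
    (hΨconj : Cfsg.conjFun Ψ = Ψ + τ (Cfsg.conjFun ψ₀ - ψ₀))
    (hψ₀ne : Cfsg.conjFun ψ₀ ≠ ψ₀) {ξ : X → ℂ} (hξ : ξ ∈ S) :
    sibY τ a ψ₀ Ψ (Cfsg.conjFun ξ) = sibY τ a ψ₀ Ψ ξ := by
  classical
  have hcadd : ∀ α β : G → ℂ, Cfsg.conjFun (α + β) = Cfsg.conjFun α + Cfsg.conjFun β := by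
    intro α β; ext g; simp [Cfsg.conjFun]
  have hcsub : ∀ α β : G → ℂ, Cfsg.conjFun (α - β) = Cfsg.conjFun α - Cfsg.conjFun β := by
    intro α β; ext g; simp [Cfsg.conjFun]
  have hcsmul : ∀ (n : ℕ) (α : G → ℂ), Cfsg.conjFun ((n : ℂ) • α) = (n : ℂ) • Cfsg.conjFun α := by
    intro n α; ext g; simp [Cfsg.conjFun]
  have hψ₀c : Cfsg.conjFun ψ₀ ∈ S := hconj_mem ψ₀ h.hψ₀
  have haψ₀c : a (Cfsg.conjFun ψ₀) = 1 := by rw [haconj ψ₀ h.hψ₀, h.hψ₀a]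
  -- `conj Ψ = F (conj ψ₀)`
  have h1 : Cfsg.conjFun Ψ = sibF τ a ψ₀ Ψ (Cfsg.conjFun ψ₀) := by
    unfold sibF
    rw [hΨconj, haψ₀c, h.tau_sub]
    simp
    abel
  -- `conj (F ξ) = F (conj ξ)`
  have h2 : Cfsg.conjFun (sibF τ a ψ₀ Ψ ξ) = sibF τ a ψ₀ Ψ (Cfsg.conjFun ξ) := by
    unfold sibF
    rw [hcadd, hcsmul, hcsub, hΨconj, ← hτconj ψ₀, ← hτconj ξ, haconj ξ hξ, h.tau_sub]
    congr 1
    congr 1
    abel
  obtain ⟨k, hk⟩ := h.sibY_int hA.gen hξ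
  have h3 := h.inner_F_anchor hA (hconj_mem ξ hξ)
  rw [← h2, classInner_conjFun_left, h1, h.gram hA hξ hψ₀c, haψ₀c,
    h.sibY_x1 hA hψ₀c haψ₀c, hk] at h3
  have e1 : (if ξ = Cfsg.conjFun ψ₀ then (1 : ℂ) else 0) =
      if Cfsg.conjFun ξ = ψ₀ then 1 else 0 := by
    by_cases hh : ξ = Cfsg.conjFun ψ₀
    · rw [if_pos hh, if_pos (by rw [hh, conjFun_conjFun])]
    · rw [if_neg hh, if_neg (fun h' => hh (by rw [← h', conjFun_conjFun]))]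
  rw [e1] at h3
  have h4 : (starRingEnd ℂ) ((if Cfsg.conjFun ξ = ψ₀ then (1 : ℂ) else 0) + ((1 : ℕ) : ℂ) * (k : ℂ)
      + (a ξ : ℂ) * 0) = (if Cfsg.conjFun ξ = ψ₀ then (1 : ℂ) else 0) + (k : ℂ) := by
    split_ifs <;> simp
  rw [h4] at h3
  rw [hk]
  exact (add_left_cancel h3).symm

end sibgram

end Cfsg.Agent.Helper82
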