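import Mathlib
import Cfsg.Agent.Lib.Helper82.SibGram
import Cfsg.Agent.Lib.Helper3.CharDecomp

/-!
# Sibley's coherence theorem: choosing the anchor
-/

set_option autoImplicit false
set_option linter.unusedSectionVars false
set_option linter.unusedVariables false

namespace Cfsg.Agent.Helper82

open Cfsg Cfsg.Agent.Helper81
open scoped ComplexConjugate

universe u v

section sibanchor

variable {X : Type u} [Group X] [Fintype X] {G : Type v} [Group G] [Fintype G]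
variable {S : Finset (X → ℂ)} {τ : (X → ℂ) → (G → ℂ)} {e : ℕ} {a : (X → ℂ) → ℕ} {ψ₀ : X → ℂ}
variable {Ψ : G → ℂ}

theorem isGeneralizedCharacter_conjFun' {θ : G → ℂ} (h : IsGeneralizedCharacter G θ) :
    IsGeneralizedCharacter G (Cfsg.conjFun θ) := by
  obtain ⟨α, β, hα, hβ, rfl⟩ := h
  refine ⟨Cfsg.conjFun α, Cfsg.conjFun β, Cfsg.Agent.Helper3.isCharacter_conj hα,
    Cfsg.Agent.Helper3.isCharacter_conj hβ, ?_⟩
  funext g
  simp [Cfsg.conjFun]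

theorem SibSetup.tau_neg (h : SibSetup S τ e a ψ₀) (α : X → ℂ) : τ (-α) = -τ α := by
  have := h.tau_sub 0 α
  rw [zero_sub, h.tau_zero, zero_sub] at this
  exact this

theorem SibSetup.yInt_x1 (h : SibSetup S τ e a ψ₀) (hA : IsAnchor S τ a ψ₀ Ψ)
    {y : (X → ℂ) → ℤ} (hy : ∀ ξ ∈ S, sibY τ a ψ₀ Ψ ξ = (y ξ : ℂ)) {ψ : X → ℂ}
    (hψ : ψ ∈ S) (ha : a ψ = 1) : y ψ = 0 := by
  have h1 := h.sibY_x1 hA hψ ha
  rw [hy ψ hψ] at h1
  exact_mod_cast h1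

/-- If `y` vanishes on a set of total weight at least `3`, then `y < a` everywhere. -/
theorem SibSetup.y_lt (h : SibSetup S τ e a ψ₀) (hA : IsAnchor S τ a ψ₀ Ψ)
    {y : (X → ℂ) → ℤ} (hy : ∀ ξ ∈ S, sibY τ a ψ₀ Ψ ξ = (y ξ : ℂ)) (T₀ : Finset (X → ℂ))
    (hT₀ : T₀ ⊆ S) (hT₀y : ∀ φ ∈ T₀, y φ = 0) (h3 : 3 ≤ ∑ φ ∈ T₀, ((a φ : ℤ)) ^ 2)
    {ξ : X → ℂ} (hξ : ξ ∈ S) : y ξ < a ξ := by
  have hapos : (0 : ℤ) < a ξ := by exact_mod_cast h.apos ξ hξ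
  by_cases hξT : ξ ∈ T₀
  · rw [hT₀y ξ hξT]
    exact hapos
  by_cases ha1 : a ξ = 1
  · rw [h.yInt_x1 hA hy hξ ha1]
    exact hapos
  · have hb := h.bessel hA hy T₀ hT₀ hT₀y hξ hξT
    have hy0 := h.y_nonneg hA hy hξ
    by_contra hcon
    push Not at hcon
    have ha2 : (2 : ℤ) ≤ a ξ := by
      have : 2 ≤ a ξ := by
        have := h.apos ξ hξ
        omega
      exact_mod_cast this
    have hy2 : (2 : ℤ) ≤ y ξ := le_trans ha2 hcon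
    have h4 : 3 * (y ξ) ^ 2 ≤ (y ξ) ^ 2 * ∑ φ ∈ T₀, ((a φ : ℤ)) ^ 2 := by
      have := mul_le_mul_of_nonneg_left h3 (sq_nonneg (y ξ))
      linarith
    nlinarith

theorem switch_conj (hΨconj : Cfsg.conjFun Ψ = Ψ + τ (Cfsg.conjFun ψ₀ - ψ₀)) :
    Cfsg.conjFun (-(Cfsg.conjFun Ψ)) = -(Cfsg.conjFun Ψ) + τ (Cfsg.conjFun ψ₀ - ψ₀) := by
  have h1 : Cfsg.conjFun (-(Cfsg.conjFun Ψ)) = -Ψ := by
    funext x
    simp [Cfsg.conjFun]
  rw [h1, hΨconj]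
  abel

theorem classInner_conjFun_right' (α : G → ℂ) (Θ : G → ℂ) :
    classInner α (Cfsg.conjFun Θ) = conj (classInner (Cfsg.conjFun α) Θ) := by
  rw [← classInner_conjFun_conjFun, conjFun_conjFun]

/-- The switched anchor `-conj Ψ`. -/
theorem SibSetup.switch_anchor (h : SibSetup S τ e a ψ₀) (hA : IsAnchor S τ a ψ₀ Ψ)
    (hconj_mem : ∀ ξ ∈ S, Cfsg.conjFun ξ ∈ S) (haconj : ∀ ξ ∈ S, a (Cfsg.conjFun ξ) = a ξ)
    (hτconj : ∀ α, τ (Cfsg.conjFun α) = Cfsg.conjFun (τ α))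
    (hψ₀ne : Cfsg.conjFun ψ₀ ≠ ψ₀)
    (hX1 : ∀ ψ ∈ S, a ψ = 1 → ψ = ψ₀ ∨ ψ = Cfsg.conjFun ψ₀) :
    IsAnchor S τ a ψ₀ (-(Cfsg.conjFun Ψ)) := by
  refine ⟨isGeneralizedCharacter_neg (isGeneralizedCharacter_conjFun' hA.gen), ?_, ?_⟩
  · rw [classInner_neg_left, classInner_neg_right, neg_neg, classInner_conjFun_conjFun, hA.norm,
      map_one]
  · intro ψ hψ ha hne
    have hψ' : ψ = Cfsg.conjFun ψ₀ := (hX1 ψ hψ ha).resolve_left hne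
    rw [hψ'] at hψ ha hne ⊢
    have h1 := hA.x1 (Cfsg.conjFun ψ₀) hψ ha hne
    have h3 : Cfsg.conjFun (Cfsg.conjFun ψ₀ - ψ₀) = -(Cfsg.conjFun ψ₀ - ψ₀) := by
      funext x
      simp [Cfsg.conjFun]
    rw [classInner_neg_right, classInner_conjFun_right', ← hτconj, h3, h.tau_neg,
      classInner_neg_left, h1]
    simp

open Classical in
/-- The `y`-function of the switched anchor. -/
theorem SibSetup.switch_y (h : SibSetup S τ e a ψ₀) (hA : IsAnchor S τ a ψ₀ Ψ)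
    (hconj_mem : ∀ ξ ∈ S, Cfsg.conjFun ξ ∈ S) (haconj : ∀ ξ ∈ S, a (Cfsg.conjFun ξ) = a ξ)
    (hτconj : ∀ α, τ (Cfsg.conjFun α) = Cfsg.conjFun (τ α))
    (hΨconj : Cfsg.conjFun Ψ = Ψ + τ (Cfsg.conjFun ψ₀ - ψ₀))
    (hψ₀ne : Cfsg.conjFun ψ₀ ≠ ψ₀) {ξ : X → ℂ} (hξ : ξ ∈ S) (ha : a ξ ≠ 1) :
    sibY τ a ψ₀ (-(Cfsg.conjFun Ψ)) ξ = (a ξ : ℂ) - sibY τ a ψ₀ Ψ ξ := by
  have hξc : Cfsg.conjFun ξ ∈ S := hconj_mem ξ hξ
  have hψ₀c : Cfsg.conjFun ψ₀ ∈ S := hconj_mem ψ₀ h.hψ₀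
  have haψ₀c : a (Cfsg.conjFun ψ₀) = 1 := by rw [haconj ψ₀ h.hψ₀, h.hψ₀a]
  have hne1 : ξ ≠ ψ₀ := fun hh => ha (by rw [hh, h.hψ₀a])
  have hne2 : Cfsg.conjFun ξ ≠ ψ₀ := fun hh => ha (by rw [← haconj ξ hξ, hh, h.hψ₀a])
  have hx1 := hA.x1 (Cfsg.conjFun ψ₀) hψ₀c haψ₀c hψ₀ne
  obtain ⟨k, hk⟩ := h.sibY_int hA.gen hξ
  have hsym := h.sibY_conj hA hconj_mem haconj hτconj hΨconj hψ₀ne hξ
  have hB : Cfsg.conjFun (sibB a ψ₀ ξ) =
      sibB a ψ₀ (Cfsg.conjFun ξ) - (a ξ : ℂ) • (Cfsg.conjFun ψ₀ - ψ₀) := by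
    unfold sibB
    rw [haconj ξ hξ]
    funext x
    simp [Cfsg.conjFun]
    ring
  have h5 : classInner (τ (sibB a ψ₀ (Cfsg.conjFun ξ))) Ψ = (k : ℂ) - (a ξ : ℂ) := by
    have h6 : sibY τ a ψ₀ Ψ (Cfsg.conjFun ξ) = (k : ℂ) := by rw [hsym, hk]
    unfold sibY at h6
    rw [if_neg hne2, haconj ξ hξ] at h6
    linear_combination h6
  unfold sibY
  rw [if_neg hne1, classInner_neg_right, classInner_conjFun_right', ← hτconj, hB, h.tau_sub, h.smul,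
    classInner_sub_left, classInner_smul_left, hx1, h5]
  have hk' : classInner (τ (sibB a ψ₀ ξ)) Ψ + (a ξ : ℂ) - 0 = (k : ℂ) := by
    have := hk
    unfold sibY at this
    rw [if_neg hne1] at this
    exact this
  rw [hk']
  simp only [map_sub, map_mul, map_neg, map_one, Complex.conj_natCast, map_intCast]
  ring

/-- There is an anchor, compatible with complex conjugation, whose `y`-function satisfies
`y < a` everywhere. -/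
theorem SibSetup.exists_good_anchor (h : SibSetup S τ e a ψ₀) (hA : IsAnchor S τ a ψ₀ Ψ)
    (hconj_mem : ∀ ξ ∈ S, Cfsg.conjFun ξ ∈ S) (haconj : ∀ ξ ∈ S, a (Cfsg.conjFun ξ) = a ξ)
    (hτconj : ∀ α, τ (Cfsg.conjFun α) = Cfsg.conjFun (τ α))
    (hΨconj : Cfsg.conjFun Ψ = Ψ + τ (Cfsg.conjFun ψ₀ - ψ₀))
    (hψ₀ne : Cfsg.conjFun ψ₀ ≠ ψ₀) :
    ∃ Ψ' : G → ℂ, IsAnchor S τ a ψ₀ Ψ' ∧
      Cfsg.conjFun Ψ' = Ψ' + τ (Cfsg.conjFun ψ₀ - ψ₀) ∧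
      ∀ y' : (X → ℂ) → ℤ, (∀ ξ ∈ S, sibY τ a ψ₀ Ψ' ξ = (y' ξ : ℂ)) → ∀ ξ ∈ S, y' ξ < a ξ := by
  classical
  obtain ⟨y, hy⟩ := h.exists_yInt hA
  have hψ₀c : Cfsg.conjFun ψ₀ ∈ S := hconj_mem ψ₀ h.hψ₀
  have haψ₀c : a (Cfsg.conjFun ψ₀) = 1 := by rw [haconj ψ₀ h.hψ₀, h.hψ₀a]
  have hsumX1 : ∑ φ ∈ S.filter (fun ξ => a ξ = 1), ((a φ : ℤ)) ^ 2 =
      ((S.filter (fun ξ => a ξ = 1)).card : ℤ) := by
    rw [Finset.sum_congr rfl (fun φ hφ => by rw [(Finset.mem_filter.mp hφ).2]; norm_num :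
      ∀ φ ∈ S.filter (fun ξ => a ξ = 1), ((a φ : ℤ)) ^ 2 = 1)]
    simp
  have hsub : ({ψ₀, Cfsg.conjFun ψ₀} : Finset (X → ℂ)) ⊆ S.filter (fun ξ => a ξ = 1) := by
    intro ψ hψ
    rw [Finset.mem_insert, Finset.mem_singleton] at hψ
    rcases hψ with rfl | rfl
    · exact Finset.mem_filter.mpr ⟨h.hψ₀, h.hψ₀a⟩
    · exact Finset.mem_filter.mpr ⟨hψ₀c, haψ₀c⟩
  have hcard2 : ({ψ₀, Cfsg.conjFun ψ₀} : Finset (X → ℂ)).card = 2 :=
    Finset.card_pair hψ₀ne.symm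
  have hge2 : 2 ≤ (S.filter (fun ξ => a ξ = 1)).card := by
    rw [← hcard2]
    exact Finset.card_le_card hsub
  by_cases hc : 3 ≤ (S.filter (fun ξ => a ξ = 1)).card
  · refine ⟨Ψ, hA, hΨconj, ?_⟩
    intro y' hy' ξ hξ
    refine h.y_lt hA hy' (S.filter (fun ξ => a ξ = 1)) (Finset.filter_subset _ _) ?_ ?_ hξ
    · intro φ hφ
      exact h.yInt_x1 hA hy' (Finset.mem_filter.mp hφ).1 (Finset.mem_filter.mp hφ).2
    · rw [hsumX1]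
      exact_mod_cast hc
  · push Not at hc
    have heq := Finset.eq_of_subset_of_card_le hsub (by rw [hcard2]; omega)
    have hpair : ∀ ψ ∈ S, a ψ = 1 → ψ = ψ₀ ∨ ψ = Cfsg.conjFun ψ₀ := by
      intro ψ hψ ha
      have h1 : ψ ∈ S.filter (fun ξ => a ξ = 1) := Finset.mem_filter.mpr ⟨hψ, ha⟩
      rw [← heq, Finset.mem_insert, Finset.mem_singleton] at h1
      exact h1
    by_cases hall : ∀ ξ ∈ S, y ξ < a ξ
    · refine ⟨Ψ, hA, hΨconj, ?_⟩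
      intro y' hy' ξ hξ
      have h1 : y' ξ = y ξ := by exact_mod_cast (hy' ξ hξ).symm.trans (hy ξ hξ)
      rw [h1]
      exact hall ξ hξ
    · push Not at hall
      obtain ⟨ξ₁, hξ₁, hge⟩ := hall
      have hA' := h.switch_anchor hA hconj_mem haconj hτconj hψ₀ne hpair
      refine ⟨-(Cfsg.conjFun Ψ), hA', switch_conj hΨconj, ?_⟩
      intro y' hy' ξ hξ
      have ha1 : a ξ₁ ≠ 1 := by
        intro h1
        have h2 := h.yInt_x1 hA hy hξ₁ h1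
        rw [h2, h1] at hge
        norm_num at hge
      have hy'1 : y' ξ₁ = (a ξ₁ : ℤ) - y ξ₁ := by
        have h1 := h.switch_y hA hconj_mem haconj hτconj hΨconj hψ₀ne hξ₁ ha1
        rw [hy' ξ₁ hξ₁, hy ξ₁ hξ₁] at h1
        exact_mod_cast h1
      have hy'nn := h.y_nonneg hA' hy' hξ₁
      have hy'0 : y' ξ₁ = 0 := by omega
      have hξ₁not : ξ₁ ∉ S.filter (fun ξ => a ξ = 1) := fun hh => ha1 (Finset.mem_filter.mp hh).2
      refine h.y_lt hA' hy' (insert ξ₁ (S.filter (fun ξ => a ξ = 1))) ?_ ?_ ?_ hξ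
      · intro φ hφ
        rw [Finset.mem_insert] at hφ
        rcases hφ with rfl | hφ
        · exact hξ₁
        · exact (Finset.mem_filter.mp hφ).1
      · intro φ hφ
        rw [Finset.mem_insert] at hφ
        rcases hφ with rfl | hφ
        · exact hy'0
        · exact h.yInt_x1 hA' hy' (Finset.mem_filter.mp hφ).1 (Finset.mem_filter.mp hφ).2
      · rw [Finset.sum_insert hξ₁not, hsumX1]
        have h1 : (1 : ℤ) ≤ ((a ξ₁ : ℤ)) ^ 2 := by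
          have : (1 : ℤ) ≤ a ξ₁ := by exact_mod_cast h.apos ξ₁ hξ₁
          nlinarith
        have h2 : (2 : ℤ) ≤ ((S.filter (fun ξ => a ξ = 1)).card : ℤ) := by exact_mod_cast hge2
        linarith

end sibanchor

end Cfsg.Agent.Helper82
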