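import Mathlib
import Cfsg.Prelude.Def_Characters
import Cfsg.Prelude.Def_OddOrderChar
import Cfsg.Agent.Lib.Helper78.CharSchur
import Cfsg.Agent.Lib.Helper79.CharBasic
import Cfsg.Agent.Lib.Helper81.CharCore

/-!
# Class multiplication and column orthogonality: the quantities `ζ z (ζ z - conj (ζ z))`
-/

set_option autoImplicit false
set_option linter.unusedSectionVars false

namespace Cfsg.Agent.Helper82

open Cfsg Cfsg.Agent.Helper81
open scoped ComplexConjugate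

universe u

section col

variable {X : Type u} [Group X] [Fintype X]

theorem irr_one_ne_zero'' {φ : X → ℂ} (hφ : IsIrrCharacter X φ) : φ 1 ≠ 0 := by
  have h := Cfsg.Agent.Helper79.irr_one_eq ⟨φ, hφ⟩
  rw [show φ 1 = ((⟨φ, hφ⟩ : IrrCharacter X) : X → ℂ) 1 from rfl, h.1]
  exact_mod_cast h.2.ne'

/-- Class multiplication: the difference of the sums over the classes of `z` and `z⁻¹`. -/
theorem irr_sum_conj_pair {ζ : X → ℂ} (hζ : IsIrrCharacter X ζ) (z : X) :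
    ∑ x : X, (ζ (x * z * x⁻¹ * z) - ζ (x * z⁻¹ * x⁻¹ * z)) =
      (Nat.card X : ℂ) * (ζ z * (ζ z - conj (ζ z))) / ζ 1 := by
  rw [Finset.sum_sub_distrib, Cfsg.Agent.Helper78.sum_irr_conj_mul hζ z z,
    Cfsg.Agent.Helper78.sum_irr_conj_mul hζ z⁻¹ z, Cfsg.Agent.Helper78.IsIrrCharacter.inv hζ]
  ring

/-- Column orthogonality for an element not conjugate to its inverse. -/
theorem sum_irr_sq_eq_zero {z : X} (hz : ¬ IsConj z z⁻¹) :
    ∑ ζ : IrrCharacter X, (ζ : X → ℂ) z * (ζ : X → ℂ) z = 0 := by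
  have h := Cfsg.Agent.Helper78.sum_irr_mul_conj z z⁻¹
  rw [if_neg hz] at h
  rw [← h]
  refine Finset.sum_congr rfl fun ζ _ => ?_
  rw [Cfsg.Agent.Helper78.IsIrrCharacter.inv ζ.2, Complex.conj_conj]

theorem sum_irr_normSq_eq (z : X) :
    ∑ ζ : IrrCharacter X, (ζ : X → ℂ) z * conj ((ζ : X → ℂ) z) =
      (Nat.card (Subgroup.centralizer ({z} : Set X)) : ℂ) := by
  have h := Cfsg.Agent.Helper78.sum_irr_mul_conj z z
  rw [if_pos (IsConj.refl z)] at h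
  exact h

theorem sum_irr_mul_sub_conj {z : X} (hz : ¬ IsConj z z⁻¹) :
    ∑ ζ : IrrCharacter X, (ζ : X → ℂ) z * ((ζ : X → ℂ) z - conj ((ζ : X → ℂ) z)) =
      -(Nat.card (Subgroup.centralizer ({z} : Set X)) : ℂ) := by
  simp_rw [mul_sub]
  rw [Finset.sum_sub_distrib, sum_irr_sq_eq_zero hz, sum_irr_normSq_eq, zero_sub]

/-- The total imaginary mass of the column of `z`. -/
theorem sum_irr_im_sq {z : X} (hz : ¬ IsConj z z⁻¹) :
    ∑ ζ : IrrCharacter X, (((ζ : X → ℂ) z).im) ^ 2 =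
      (Nat.card (Subgroup.centralizer ({z} : Set X)) : ℝ) / 2 := by
  have h1 := sum_irr_sq_eq_zero hz
  have h2 := sum_irr_normSq_eq z
  have h3 : ∀ ζ : IrrCharacter X, ((((ζ : X → ℂ) z).im) ^ 2 : ℝ) =
      (((ζ : X → ℂ) z * conj ((ζ : X → ℂ) z)).re - ((ζ : X → ℂ) z * (ζ : X → ℂ) z).re) / 2 := by
    intro ζ
    simp only [Complex.mul_re, Complex.conj_re, Complex.conj_im]
    ring
  rw [Finset.sum_congr rfl (fun ζ _ => h3 ζ), ← Finset.sum_div, Finset.sum_sub_distrib,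
    ← Complex.re_sum, ← Complex.re_sum, h1, h2]
  simp

end col

end Cfsg.Agent.Helper82

namespace Cfsg.Agent.Helper82

open Cfsg Cfsg.Agent.Helper81
open scoped ComplexConjugate

universe u

section col2

variable {X : Type u} [Group X] [Fintype X]

/-- A sum over all irreducible characters of a function vanishing outside the finite set `S` of
irreducible characters. -/
theorem sum_irr_eq_sum_finset {M : Type*} [AddCommMonoid M] (S : Finset (X → ℂ))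
    (hS : ∀ ξ ∈ S, IsIrrCharacter X ξ)
    (F : (X → ℂ) → M) (hF : ∀ ζ : IrrCharacter X, (ζ : X → ℂ) ∉ S → F (ζ : X → ℂ) = 0) :
    ∑ ζ : IrrCharacter X, F (ζ : X → ℂ) = ∑ ξ ∈ S, F ξ := by
  classical
  have h1 : S = (Finset.univ.filter (fun ζ : IrrCharacter X => (ζ : X → ℂ) ∈ S)).image
      Subtype.val := by
    ext ξ
    rw [Finset.mem_image]
    constructor
    · intro hξ
      exact ⟨⟨ξ, hS ξ hξ⟩, Finset.mem_filter.mpr ⟨Finset.mem_univ _, hξ⟩, rfl⟩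
    · rintro ⟨ζ, hζ, rfl⟩
      exact (Finset.mem_filter.mp hζ).2
  conv_rhs => rw [h1]
  rw [Finset.sum_image (fun a _ b _ h => Subtype.ext h), Finset.sum_filter]
  refine Finset.sum_congr rfl fun ζ _ => ?_
  by_cases h : (ζ : X → ℂ) ∈ S
  · rw [if_pos h]
  · rw [if_neg h, hF ζ h]

/-- Symmetrisation over a conjugation-closed set. -/
theorem sum_symm_conj (S : Finset (X → ℂ)) (hconj : ∀ ξ ∈ S, Cfsg.conjFun ξ ∈ S)
    (w : (X → ℂ) → ℝ) (hw : ∀ ξ ∈ S, w (Cfsg.conjFun ξ) = w ξ) (z : X) :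
    ∑ ξ ∈ S, (w ξ : ℂ) * (ξ z * (ξ z - conj (ξ z))) =
      ((-2 * ∑ ξ ∈ S, w ξ * ((ξ z).im) ^ 2 : ℝ) : ℂ) := by
  have hcc : ∀ χ : X → ℂ, Cfsg.conjFun (Cfsg.conjFun χ) = χ := by
    intro χ; ext x; simp [Cfsg.conjFun]
  have h1 : ∑ ξ ∈ S, (w ξ : ℂ) * (ξ z * (ξ z - conj (ξ z))) =
      ∑ ξ ∈ S, (w ξ : ℂ) * (conj (ξ z) * (conj (ξ z) - ξ z)) := by
    refine Finset.sum_bij' (fun ξ _ => Cfsg.conjFun ξ) (fun ξ _ => Cfsg.conjFun ξ)
      (fun ξ hξ => hconj ξ hξ) (fun ξ hξ => hconj ξ hξ) (fun ξ _ => hcc ξ) (fun ξ _ => hcc ξ) ?_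
    intro ξ hξ
    rw [hw ξ hξ]
    show _ = (w ξ : ℂ) * (conj ((starRingEnd ℂ) (ξ z)) * (conj ((starRingEnd ℂ) (ξ z)) -
      (starRingEnd ℂ) (ξ z)))
    rw [Complex.conj_conj]
  have key : ∀ (r : ℝ) (u : ℂ), (r : ℂ) * (u * (u - conj u)) + (r : ℂ) * (conj u * (conj u - u)) =
      ((-4 * (r * u.im ^ 2) : ℝ) : ℂ) := by
    intro r u
    apply Complex.ext
    · simp only [Complex.add_re, Complex.mul_re, Complex.sub_re, Complex.conj_re, Complex.conj_im,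
        Complex.ofReal_re, Complex.ofReal_im, Complex.sub_im, Complex.mul_im]
      ring
    · simp only [Complex.add_im, Complex.mul_re, Complex.sub_re, Complex.conj_re, Complex.conj_im,
        Complex.ofReal_re, Complex.ofReal_im, Complex.sub_im, Complex.mul_im]
      ring
  have h2 : ∑ ξ ∈ S, (w ξ : ℂ) * (ξ z * (ξ z - conj (ξ z))) +
      ∑ ξ ∈ S, (w ξ : ℂ) * (conj (ξ z) * (conj (ξ z) - ξ z)) =
      ((-4 * ∑ ξ ∈ S, w ξ * ((ξ z).im) ^ 2 : ℝ) : ℂ) := by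
    rw [← Finset.sum_add_distrib, Finset.mul_sum, Complex.ofReal_sum]
    refine Finset.sum_congr rfl fun ξ _ => ?_
    exact key (w ξ) (ξ z)
  rw [← h1] at h2
  have h3 : (2 : ℂ) * ∑ ξ ∈ S, (w ξ : ℂ) * (ξ z * (ξ z - conj (ξ z))) =
      (2 : ℂ) * ((-2 * ∑ ξ ∈ S, w ξ * ((ξ z).im) ^ 2 : ℝ) : ℂ) := by
    rw [two_mul, h2]
    push_cast
    ring
  exact mul_left_cancel₀ two_ne_zero h3

end col2

end Cfsg.Agent.Helper82
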