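import Mathlib
import Cfsg.Agent.Lib.Helper82.SibCol
import Cfsg.Agent.Lib.Helper82.GenChar
import Cfsg.Agent.Lib.Helper82.Coherence
import Cfsg.Agent.Lib.Helper81.CharProd
import Cfsg.Agent.Lib.Helper3.CharDecomp

/-!
# The congruence step of Sibley's coherence theorem (inside the normalizer)
-/

set_option autoImplicit false
set_option linter.unusedSectionVars false
set_option linter.unusedVariables false

namespace Cfsg.Agent.Helper82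

open Cfsg Cfsg.Agent.Helper81
open scoped ComplexConjugate

universe u

section cong

variable {X : Type u} [Group X] [Fintype X]

/-- Expansion of the class multiplication difference along the irreducible characters. -/
theorem sib_T_expand {Φ : X → ℂ} (hΦ : IsClassFunction X Φ) (z : X) :
    ∑ x : X, (Φ (x * z * x⁻¹ * z) - Φ (x * z⁻¹ * x⁻¹ * z)) =
      ∑ ζ : IrrCharacter X, classInner Φ (ζ : X → ℂ) *
        ((Nat.card X : ℂ) * ((ζ : X → ℂ) z * ((ζ : X → ℂ) z - conj ((ζ : X → ℂ) z))) /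
          (ζ : X → ℂ) 1) := by
  have hexp := class_function_expansion hΦ
  have hval : ∀ w : X, Φ w =
      ∑ ζ : IrrCharacter X, classInner Φ (ζ : X → ℂ) * (ζ : X → ℂ) w := by
    intro w
    conv_lhs => rw [hexp]
    rw [Finset.sum_apply]
    rfl
  have h1 : ∀ x : X, Φ (x * z * x⁻¹ * z) - Φ (x * z⁻¹ * x⁻¹ * z) =
      ∑ ζ : IrrCharacter X, classInner Φ (ζ : X → ℂ) *
        ((ζ : X → ℂ) (x * z * x⁻¹ * z) - (ζ : X → ℂ) (x * z⁻¹ * x⁻¹ * z)) := by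
    intro x
    rw [hval (x * z * x⁻¹ * z), hval (x * z⁻¹ * x⁻¹ * z), ← Finset.sum_sub_distrib]
    exact Finset.sum_congr rfl fun ζ _ => by ring
  rw [Finset.sum_congr rfl (fun x _ => h1 x), Finset.sum_comm]
  refine Finset.sum_congr rfl fun ζ _ => ?_
  rw [← Finset.mul_sum, irr_sum_conj_pair ζ.2 z]

/-- The weighted imaginary mass of the column of `z` over `S`. -/
noncomputable def sibD (S : Finset (X → ℂ)) (a : (X → ℂ) → ℕ) (y : (X → ℂ) → ℤ) (z : X) : ℝ :=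
  2 * ∑ ξ ∈ S, ((y ξ : ℝ) / (a ξ : ℝ)) * ((ξ z).im) ^ 2

theorem sibD_eq (S : Finset (X → ℂ)) (hconj : ∀ ξ ∈ S, Cfsg.conjFun ξ ∈ S)
    (a : (X → ℂ) → ℕ) (haconj : ∀ ξ ∈ S, a (Cfsg.conjFun ξ) = a ξ)
    (y : (X → ℂ) → ℤ) (hyconj : ∀ ξ ∈ S, y (Cfsg.conjFun ξ) = y ξ) (z : X) :
    ∑ ξ ∈ S, ((y ξ : ℂ) / (a ξ : ℂ)) * (ξ z * (ξ z - conj (ξ z))) = -(sibD S a y z : ℂ) := by
  have h := sum_symm_conj S hconj (fun ξ => (y ξ : ℝ) / (a ξ : ℝ))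
    (fun ξ hξ => by show ((y (Cfsg.conjFun ξ) : ℤ) : ℝ) / _ = _; rw [hyconj ξ hξ, haconj ξ hξ]) z
  have h2 : ∀ ξ ∈ S, ((y ξ : ℂ) / (a ξ : ℂ)) * (ξ z * (ξ z - conj (ξ z))) =
      (((y ξ : ℝ) / (a ξ : ℝ) : ℝ) : ℂ) * (ξ z * (ξ z - conj (ξ z))) := by
    intro ξ _
    push_cast
    rfl
  rw [Finset.sum_congr rfl h2, h, sibD]
  push_cast
  ring

theorem irr_one_conj {φ : X → ℂ} (hφ : IsIrrCharacter X φ) : conj (φ 1) = φ 1 := by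
  have h := Cfsg.Agent.Helper79.irr_one_eq ⟨φ, hφ⟩
  rw [show φ 1 = ((⟨φ, hφ⟩ : IrrCharacter X) : X → ℂ) 1 from rfl, h.1, Complex.conj_natCast]

theorem irr_val_eq_one_real {ζ : X → ℂ} (hζ : IsIrrCharacter X ζ) {z : X} (h : ζ z = ζ 1) :
    ζ z * (ζ z - conj (ζ z)) = 0 := by
  rw [h, irr_one_conj hζ, sub_self, mul_zero]

/-- The class multiplication difference in terms of `sibD`. -/
theorem sib_T_eq (K : Subgroup X) (S : Finset (X → ℂ)) (hirr : ∀ ξ ∈ S, IsIrrCharacter X ξ)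
    (hclass : ∀ ζ : X → ℂ, IsIrrCharacter X ζ → ζ ∉ S → ∀ k ∈ K, ζ k = ζ 1)
    (hconj : ∀ ξ ∈ S, Cfsg.conjFun ξ ∈ S)
    (e : ℕ) (a : (X → ℂ) → ℕ) (hdeg : ∀ ξ ∈ S, ξ 1 = (e : ℂ) * (a ξ : ℂ))
    (hapos : ∀ ξ ∈ S, 0 < a ξ) (hcard : Nat.card X = e * Nat.card K)
    (haconj : ∀ ξ ∈ S, a (Cfsg.conjFun ξ) = a ξ)
    (y : (X → ℂ) → ℤ) (hyconj : ∀ ξ ∈ S, y (Cfsg.conjFun ξ) = y ξ)
    (ψ₀ : X → ℂ) (hψ₀ : ψ₀ ∈ S)
    (Φ : X → ℂ) (hΦ : IsClassFunction X Φ) (ε : ℂ) (m : ℤ)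
    (hinner : ∀ ζ ∈ S, classInner Φ ζ =
      ε * ((y ζ : ℂ) + (if ζ = ψ₀ then 1 else 0) + (a ζ : ℂ) * (m : ℂ)))
    (z : X) (hzK : z ∈ K) (hψ₀z : ψ₀ z = ψ₀ 1)
    (hcz : Nat.card (Subgroup.centralizer ({z} : Set X)) = Nat.card K)
    (hnc : ¬ IsConj z z⁻¹) :
    ∑ x : X, (Φ (x * z * x⁻¹ * z) - Φ (x * z⁻¹ * x⁻¹ * z)) =
      ε * (Nat.card K : ℂ) * (-(sibD S a y z : ℂ) - (m : ℂ) * (Nat.card K : ℂ)) := by
  classical
  have hX0 : (Nat.card X : ℂ) ≠ 0 := by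
    have : 0 < Nat.card X := Nat.card_pos
    exact_mod_cast this.ne'
  have he0 : (e : ℂ) ≠ 0 := by
    intro h
    have h' : e = 0 := by exact_mod_cast h
    rw [h', zero_mul] at hcard
    exact (Nat.card_pos (α := X)).ne' hcard
  have hXc : (Nat.card X : ℂ) = (e : ℂ) * (Nat.card K : ℂ) := by
    rw [hcard]; push_cast; rfl
  rw [sib_T_expand hΦ z]
  refine (sum_irr_eq_sum_finset S hirr (fun ζ => classInner Φ ζ *
    ((Nat.card X : ℂ) * (ζ z * (ζ z - conj (ζ z))) / ζ 1)) ?_).trans ?_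
  · intro ζ hζ
    show classInner Φ (ζ : X → ℂ) * _ = 0
    rw [irr_val_eq_one_real ζ.2 (hclass _ ζ.2 hζ z hzK), mul_zero, zero_div, mul_zero]
  -- termwise
  have hterm : ∀ ξ ∈ S, classInner Φ ξ * ((Nat.card X : ℂ) * (ξ z * (ξ z - conj (ξ z))) / ξ 1) =
      ε * (Nat.card K : ℂ) * (((y ξ : ℂ) / (a ξ : ℂ)) * (ξ z * (ξ z - conj (ξ z)))) +
      ε * (Nat.card K : ℂ) * (((if ξ = ψ₀ then (1 : ℂ) else 0) / (a ξ : ℂ)) *
        (ξ z * (ξ z - conj (ξ z)))) +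
      ε * (Nat.card K : ℂ) * ((m : ℂ) * (ξ z * (ξ z - conj (ξ z)))) := by
    intro ξ hξ
    have ha0 : (a ξ : ℂ) ≠ 0 := by exact_mod_cast (hapos ξ hξ).ne'
    rw [hinner ξ hξ, hdeg ξ hξ, hXc]
    field_simp
  rw [Finset.sum_congr rfl hterm, Finset.sum_add_distrib, Finset.sum_add_distrib,
    ← Finset.mul_sum, ← Finset.mul_sum, ← Finset.mul_sum, ← Finset.mul_sum,
    sibD_eq S hconj a haconj y hyconj z]
  have hmid : ∑ ξ ∈ S, ((if ξ = ψ₀ then (1 : ℂ) else 0) / (a ξ : ℂ)) *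
      (ξ z * (ξ z - conj (ξ z))) = 0 := by
    refine Finset.sum_eq_zero fun ξ hξ => ?_
    by_cases h : ξ = ψ₀
    · rw [h, irr_val_eq_one_real (hirr ψ₀ hψ₀) hψ₀z, mul_zero]
    · rw [if_neg h, zero_div, zero_mul]
  have hlast : ∑ ξ ∈ S, (ξ z * (ξ z - conj (ξ z))) = -(Nat.card K : ℂ) := by
    rw [← sum_irr_eq_sum_finset S hirr (fun ζ => ζ z * (ζ z - conj (ζ z)))
      (fun ζ hζ => irr_val_eq_one_real ζ.2 (hclass _ ζ.2 hζ z hzK)), sum_irr_mul_sub_conj hnc, hcz]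
  rw [hmid, hlast]
  ring

theorem sibD_nonneg (S : Finset (X → ℂ)) (a : (X → ℂ) → ℕ) (y : (X → ℂ) → ℤ)
    (hy0 : ∀ ξ ∈ S, 0 ≤ y ξ) (z : X) : 0 ≤ sibD S a y z := by
  unfold sibD
  refine mul_nonneg (by norm_num) (Finset.sum_nonneg fun ξ hξ => ?_)
  exact mul_nonneg (div_nonneg (by exact_mod_cast hy0 ξ hξ) (Nat.cast_nonneg _)) (sq_nonneg _)

theorem sibD_one (S : Finset (X → ℂ)) (hirr : ∀ ξ ∈ S, IsIrrCharacter X ξ) (a : (X → ℂ) → ℕ)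
    (y : (X → ℂ) → ℤ) : sibD S a y 1 = 0 := by
  unfold sibD
  rw [Finset.sum_eq_zero, mul_zero]
  intro ξ hξ
  have h : (ξ 1).im = 0 := Complex.conj_eq_iff_im.mp (irr_one_conj (hirr ξ hξ))
  rw [h]
  ring

theorem sibD_lt (K : Subgroup X) (S : Finset (X → ℂ)) (hirr : ∀ ξ ∈ S, IsIrrCharacter X ξ)
    (hclass : ∀ ζ : X → ℂ, IsIrrCharacter X ζ → ζ ∉ S → ∀ k ∈ K, ζ k = ζ 1)
    (a : (X → ℂ) → ℕ) (hapos : ∀ ξ ∈ S, 0 < a ξ)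
    (y : (X → ℂ) → ℤ) (hylt : ∀ ξ ∈ S, y ξ < a ξ)
    (z : X) (hzK : z ∈ K)
    (hcz : Nat.card (Subgroup.centralizer ({z} : Set X)) = Nat.card K)
    (hnc : ¬ IsConj z z⁻¹) : sibD S a y z < (Nat.card K : ℝ) := by
  have h1 : ∑ ξ ∈ S, ((ξ z).im) ^ 2 = (Nat.card K : ℝ) / 2 := by
    rw [← sum_irr_eq_sum_finset S hirr (fun ζ => ((ζ z).im) ^ 2) ?_, sum_irr_im_sq hnc, hcz]
    intro ζ hζ
    have h2 : (ζ : X → ℂ) z = (ζ : X → ℂ) 1 := hclass _ ζ.2 hζ z hzK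
    have h3 : ((ζ : X → ℂ) z).im = 0 := by
      rw [h2]
      exact Complex.conj_eq_iff_im.mp (irr_one_conj ζ.2)
    show (((ζ : X → ℂ) z).im) ^ 2 = 0
    rw [h3]
    ring
  have hK : 0 < (Nat.card K : ℝ) := by exact_mod_cast Nat.card_pos
  have h2 : (Nat.card K : ℝ) - sibD S a y z =
      2 * ∑ ξ ∈ S, (1 - (y ξ : ℝ) / (a ξ : ℝ)) * ((ξ z).im) ^ 2 := by
    have h3 : (Nat.card K : ℝ) = 2 * ∑ ξ ∈ S, ((ξ z).im) ^ 2 := by rw [h1]; ring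
    unfold sibD
    conv_lhs => rw [h3]
    rw [← mul_sub, ← Finset.sum_sub_distrib]
    congr 1
    exact Finset.sum_congr rfl fun ξ _ => by ring
  have h4 : ∀ ξ ∈ S, 0 < 1 - (y ξ : ℝ) / (a ξ : ℝ) := by
    intro ξ hξ
    have ha : (0 : ℝ) < (a ξ : ℝ) := by exact_mod_cast hapos ξ hξ
    have : (y ξ : ℝ) / (a ξ : ℝ) < 1 := (div_lt_one ha).mpr (by exact_mod_cast hylt ξ hξ)
    linarith
  have hnn : ∀ ξ ∈ S, 0 ≤ (1 - (y ξ : ℝ) / (a ξ : ℝ)) * ((ξ z).im) ^ 2 :=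
    fun ξ hξ => mul_nonneg (h4 ξ hξ).le (sq_nonneg _)
  by_contra hcon
  push Not at hcon
  have hle : ∑ ξ ∈ S, (1 - (y ξ : ℝ) / (a ξ : ℝ)) * ((ξ z).im) ^ 2 ≤ 0 := by linarith
  have hzero := (Finset.sum_eq_zero_iff_of_nonneg hnn).mp
    (le_antisymm hle (Finset.sum_nonneg hnn))
  have h5 : ∑ ξ ∈ S, ((ξ z).im) ^ 2 = 0 := Finset.sum_eq_zero fun ξ hξ =>
    (mul_eq_zero.mp (hzero ξ hξ)).resolve_left (h4 ξ hξ).ne'
  rw [h1] at h5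
  linarith

theorem sibD_integral (K : Subgroup X) (S : Finset (X → ℂ)) (hirr : ∀ ξ ∈ S, IsIrrCharacter X ξ)
    (hclass : ∀ ζ : X → ℂ, IsIrrCharacter X ζ → ζ ∉ S → ∀ k ∈ K, ζ k = ζ 1)
    (hconj : ∀ ξ ∈ S, Cfsg.conjFun ξ ∈ S)
    (e : ℕ) (a : (X → ℂ) → ℕ) (hdeg : ∀ ξ ∈ S, ξ 1 = (e : ℂ) * (a ξ : ℂ))
    (hapos : ∀ ξ ∈ S, 0 < a ξ) (hcard : Nat.card X = e * Nat.card K)
    (haconj : ∀ ξ ∈ S, a (Cfsg.conjFun ξ) = a ξ)
    (y : (X → ℂ) → ℤ) (hyconj : ∀ ξ ∈ S, y (Cfsg.conjFun ξ) = y ξ)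
    (ψ₀ : X → ℂ) (hψ₀ : ψ₀ ∈ S)
    (Φ : X → ℂ) (hΦ : IsClassFunction X Φ) (ε : ℂ) (hε : ε = 1 ∨ ε = -1) (m : ℤ)
    (hinner : ∀ ζ ∈ S, classInner Φ ζ =
      ε * ((y ζ : ℂ) + (if ζ = ψ₀ then 1 else 0) + (a ζ : ℂ) * (m : ℂ)))
    (z : X) (hzK : z ∈ K) (hψ₀z : ψ₀ z = ψ₀ 1)
    (hcz : Nat.card (Subgroup.centralizer ({z} : Set X)) = Nat.card K)
    (hnc : ¬ IsConj z z⁻¹)
    (hcong : ∃ α : ℂ, IsIntegral ℤ α ∧
      ∑ x : X, (Φ (x * z * x⁻¹ * z) - Φ (x * z⁻¹ * x⁻¹ * z)) =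
        ε * (Nat.card K : ℂ) ^ 2 * α) :
    IsIntegral ℤ ((sibD S a y z : ℂ) / (Nat.card K : ℂ)) := by
  obtain ⟨α, hα, hT⟩ := hcong
  rw [sib_T_eq K S hirr hclass hconj e a hdeg hapos hcard haconj y hyconj ψ₀ hψ₀ Φ hΦ ε m hinner
    z hzK hψ₀z hcz hnc] at hT
  have hK0 : (Nat.card K : ℂ) ≠ 0 := by
    have : 0 < Nat.card K := Nat.card_pos
    exact_mod_cast this.ne'
  have hε0 : ε ≠ 0 := by
    rcases hε with h | h <;> rw [h] <;> norm_num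
  have h1 : (sibD S a y z : ℂ) / (Nat.card K : ℂ) = -((m : ℂ) + α) := by
    have h2 : -(sibD S a y z : ℂ) - (m : ℂ) * (Nat.card K : ℂ) = (Nat.card K : ℂ) * α := by
      have h3 : ε * (Nat.card K : ℂ) * (-(sibD S a y z : ℂ) - (m : ℂ) * (Nat.card K : ℂ)) =
          ε * (Nat.card K : ℂ) * ((Nat.card K : ℂ) * α) := by rw [hT]; ring
      exact mul_left_cancel₀ (mul_ne_zero hε0 hK0) h3
    field_simp
    linear_combination -h2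
  rw [h1]
  exact ((isIntegral_intCast m).add hα).neg

/-- A multiple of `sibD` restricted to a subgroup is a generalized character. -/
theorem sib_genChar (Z : Subgroup X) (S : Finset (X → ℂ)) (hirr : ∀ ξ ∈ S, IsIrrCharacter X ξ)
    (hconj : ∀ ξ ∈ S, Cfsg.conjFun ξ ∈ S)
    (a : (X → ℂ) → ℕ) (hapos : ∀ ξ ∈ S, 0 < a ξ)
    (haconj : ∀ ξ ∈ S, a (Cfsg.conjFun ξ) = a ξ)
    (y : (X → ℂ) → ℤ) (hyconj : ∀ ξ ∈ S, y (Cfsg.conjFun ξ) = y ξ) (c : ℕ) :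
    IsGeneralizedCharacter ↥Z
      (fun z : Z => ((c * ∏ ξ ∈ S, a ξ : ℕ) : ℂ) * (sibD S a y (z : X) : ℂ)) := by
  classical
  have hfun : (fun z : Z => ((c * ∏ ξ ∈ S, a ξ : ℕ) : ℂ) * (sibD S a y (z : X) : ℂ)) =
      ∑ ξ ∈ S, ((c : ℤ) * y ξ * (((∏ ξ ∈ S, a ξ) / a ξ : ℕ) : ℤ)) •
        ((fun z : Z => ξ z) * (fun z : Z => conj (ξ z)) -
          (fun z : Z => ξ z) * (fun z : Z => ξ z)) := by
    funext z
    rw [Finset.sum_apply]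
    have hD := sibD_eq S hconj a haconj y hyconj (z : X)
    have h1 : (sibD S a y (z : X) : ℂ) =
        ∑ ξ ∈ S, ((y ξ : ℂ) / (a ξ : ℂ)) * (ξ z * conj (ξ z) - ξ z * ξ z) := by
      rw [← neg_neg (sibD S a y (z : X) : ℂ), ← hD, ← Finset.sum_neg_distrib]
      exact Finset.sum_congr rfl fun ξ _ => by ring
    rw [h1, Finset.mul_sum]
    refine Finset.sum_congr rfl fun ξ hξ => ?_
    have hdvd : a ξ ∣ ∏ ξ ∈ S, a ξ := Finset.dvd_prod_of_mem a hξ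
    have ha0 : (a ξ : ℂ) ≠ 0 := by exact_mod_cast (hapos ξ hξ).ne'
    have hq : a ξ * ((∏ ξ ∈ S, a ξ) / a ξ) = ∏ ξ ∈ S, a ξ := Nat.mul_div_cancel' hdvd
    show _ = ((c : ℤ) * y ξ * (((∏ ξ ∈ S, a ξ) / a ξ : ℕ) : ℤ)) •
      (ξ z * conj (ξ z) - ξ z * ξ z)
    generalize (∏ ξ ∈ S, a ξ) / a ξ = q at hq ⊢
    generalize ∏ ξ ∈ S, a ξ = A at hq ⊢
    rw [zsmul_eq_mul, ← hq]
    push_cast
    field_simp
  rw [hfun]
  refine isGeneralizedCharacter_sum _ _ fun ξ hξ => isGeneralizedCharacter_zsmul _ ?_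
  have hr : IsCharacter ↥Z (fun z : Z => ξ z) :=
    Cfsg.Agent.Helper81.isCharacter_restrict Z (IsIrrCharacter.isCharacter (hirr ξ hξ))
  have hc : IsCharacter ↥Z (fun z : Z => conj (ξ z)) := Cfsg.Agent.Helper3.isCharacter_conj hr
  exact isGeneralizedCharacter_sub
    (isGeneralizedCharacter_of_isCharacter (Cfsg.Agent.Helper81.isCharacter_mul hr hc))
    (isGeneralizedCharacter_of_isCharacter (Cfsg.Agent.Helper81.isCharacter_mul hr hr))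

/-- **The congruence step.**  Every member of `S` with `y ≠ 0` is trivial on `Z`. -/
theorem sib_core (K Z : Subgroup X) (hZK : Z ≤ K)
    (hcent : ∀ z ∈ Z, z ≠ 1 → Nat.card (Subgroup.centralizer ({z} : Set X)) = Nat.card K)
    (hncj : ∀ z ∈ Z, z ≠ 1 → ¬ IsConj z z⁻¹)
    (S : Finset (X → ℂ)) (hirr : ∀ ξ ∈ S, IsIrrCharacter X ξ)
    (hclass : ∀ ζ : X → ℂ, IsIrrCharacter X ζ → ζ ∉ S → ∀ k ∈ K, ζ k = ζ 1)
    (hconj : ∀ ξ ∈ S, Cfsg.conjFun ξ ∈ S)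
    (e : ℕ) (a : (X → ℂ) → ℕ) (hdeg : ∀ ξ ∈ S, ξ 1 = (e : ℂ) * (a ξ : ℂ))
    (hapos : ∀ ξ ∈ S, 0 < a ξ) (hcard : Nat.card X = e * Nat.card K)
    (haconj : ∀ ξ ∈ S, a (Cfsg.conjFun ξ) = a ξ)
    (y : (X → ℂ) → ℤ) (hyconj : ∀ ξ ∈ S, y (Cfsg.conjFun ξ) = y ξ)
    (hy0 : ∀ ξ ∈ S, 0 ≤ y ξ) (hylt : ∀ ξ ∈ S, y ξ < a ξ)
    (ψ₀ : X → ℂ) (hψ₀ : ψ₀ ∈ S) (hψ₀Z : ∀ z ∈ Z, ψ₀ z = ψ₀ 1)
    (Φ : X → ℂ) (hΦ : IsClassFunction X Φ) (ε : ℂ) (hε : ε = 1 ∨ ε = -1) (m : ℤ)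
    (hinner : ∀ ζ ∈ S, classInner Φ ζ =
      ε * ((y ζ : ℂ) + (if ζ = ψ₀ then 1 else 0) + (a ζ : ℂ) * (m : ℂ)))
    (hcong : ∀ z ∈ Z, z ≠ 1 → ∃ α : ℂ, IsIntegral ℤ α ∧
      ∑ x : X, (Φ (x * z * x⁻¹ * z) - Φ (x * z⁻¹ * x⁻¹ * z)) =
        ε * (Nat.card K : ℂ) ^ 2 * α)
    (hB1 : ∀ f : ↥Z → ℂ, IsGeneralizedCharacter ↥Z f → ∀ N : ℕ, 0 < N →
      (∀ z, IsIntegral ℤ (f z / (N : ℂ))) → (∀ z, (f z).im = 0) → (∀ z, 0 ≤ (f z).re) →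
      (∀ z, (f z).re < N) → f = 0)
    (hB2 : ∀ ξ : X → ℂ, IsIrrCharacter X ξ → (∀ z ∈ Z, ξ z⁻¹ = ξ z) → ∀ z ∈ Z, ξ z = ξ 1) :
    ∀ ξ ∈ S, y ξ ≠ 0 → ∀ z ∈ Z, ξ z = ξ 1 := by
  classical
  have hKpos : 0 < Nat.card K := Nat.card_pos
  have hApos : 0 < ∏ ξ ∈ S, a ξ := Finset.prod_pos hapos
  have hgen := sib_genChar Z S hirr hconj a hapos haconj y hyconj (Nat.card K)
  have hK0 : (Nat.card K : ℂ) ≠ 0 := by exact_mod_cast hKpos.ne'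
  have hA0 : ((∏ ξ ∈ S, a ξ : ℕ) : ℂ) ≠ 0 := by exact_mod_cast hApos.ne'
  have hfre : ∀ z : Z, (((Nat.card K * ∏ ξ ∈ S, a ξ : ℕ) : ℂ) * (sibD S a y (z : X) : ℂ)).re =
      ((Nat.card K * ∏ ξ ∈ S, a ξ : ℕ) : ℝ) * sibD S a y (z : X) := by
    intro z
    rw [← Complex.ofReal_natCast, ← Complex.ofReal_mul, Complex.ofReal_re]
  have hfim : ∀ z : Z, (((Nat.card K * ∏ ξ ∈ S, a ξ : ℕ) : ℂ) * (sibD S a y (z : X) : ℂ)).im =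
      0 := by
    intro z
    rw [← Complex.ofReal_natCast, ← Complex.ofReal_mul, Complex.ofReal_im]
  have hcpos : (0 : ℝ) < ((Nat.card K * ∏ ξ ∈ S, a ξ : ℕ) : ℝ) := by
    exact_mod_cast Nat.mul_pos hKpos hApos
  have hf0 := hB1 _ hgen (Nat.card K * (∏ ξ ∈ S, a ξ) * Nat.card K)
    (Nat.mul_pos (Nat.mul_pos hKpos hApos) hKpos) ?_ hfim ?_ ?_
  · -- conclusion
    intro ξ hξ hyξ z hz
    refine hB2 ξ (hirr ξ hξ) ?_ z hz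
    intro w hw
    have h1 := congrFun hf0 ⟨w, hw⟩
    have h2 : sibD S a y w = 0 := by
      have h3 : ((Nat.card K * ∏ ξ ∈ S, a ξ : ℕ) : ℂ) * (sibD S a y w : ℂ) = 0 := h1
      rcases mul_eq_zero.mp h3 with h4 | h4
      · exfalso
        have : ((Nat.card K * ∏ ξ ∈ S, a ξ : ℕ) : ℂ) ≠ 0 := by
          exact_mod_cast (Nat.mul_pos hKpos hApos).ne'
        exact this h4
      · exact_mod_cast h4
    unfold sibD at h2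
    have h3 : ∑ ξ ∈ S, ((y ξ : ℝ) / (a ξ : ℝ)) * ((ξ w).im) ^ 2 = 0 := by linarith
    have hnn : ∀ ξ ∈ S, 0 ≤ ((y ξ : ℝ) / (a ξ : ℝ)) * ((ξ w).im) ^ 2 := fun ξ hξ =>
      mul_nonneg (div_nonneg (by exact_mod_cast hy0 ξ hξ) (Nat.cast_nonneg _)) (sq_nonneg _)
    have h4 := (Finset.sum_eq_zero_iff_of_nonneg hnn).mp h3 ξ hξ
    have h5 : ((y ξ : ℝ) / (a ξ : ℝ)) ≠ 0 := by
      have ha : (a ξ : ℝ) ≠ 0 := by exact_mod_cast (hapos ξ hξ).ne'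
      have hy : (y ξ : ℝ) ≠ 0 := by exact_mod_cast hyξ
      exact div_ne_zero hy ha
    have h6 : (ξ w).im = 0 := by
      have := (mul_eq_zero.mp h4).resolve_left h5
      exact pow_eq_zero_iff (two_ne_zero) |>.mp this
    rw [Cfsg.Agent.Helper78.IsIrrCharacter.inv (hirr ξ hξ) w]
    exact Complex.conj_eq_iff_im.mpr h6
  · -- integrality
    intro z
    by_cases hz1 : (z : X) = 1
    · show IsIntegral ℤ (((Nat.card K * ∏ ξ ∈ S, a ξ : ℕ) : ℂ) * (sibD S a y (z : X) : ℂ) / _)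
      rw [hz1, sibD_one S hirr a y]
      simp only [Complex.ofReal_zero, mul_zero, zero_div]
      exact isIntegral_zero
    · have h1 := sibD_integral K S hirr hclass hconj e a hdeg hapos hcard haconj y hyconj ψ₀ hψ₀
        Φ hΦ ε hε m hinner (z : X) (hZK z.2) (hψ₀Z _ z.2) (hcent _ z.2 hz1) (hncj _ z.2 hz1)
        (hcong _ z.2 hz1)
      have h2 : ((Nat.card K * ∏ ξ ∈ S, a ξ : ℕ) : ℂ) * (sibD S a y (z : X) : ℂ) /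
          ((Nat.card K * (∏ ξ ∈ S, a ξ) * Nat.card K : ℕ) : ℂ) =
          (sibD S a y (z : X) : ℂ) / (Nat.card K : ℂ) := by
        push_cast
        have hA0' : (∏ ξ ∈ S, (a ξ : ℂ)) ≠ 0 := by
          have := hA0
          push_cast at this
          exact this
        field_simp
      show IsIntegral ℤ (((Nat.card K * ∏ ξ ∈ S, a ξ : ℕ) : ℂ) * (sibD S a y (z : X) : ℂ) / _)
      rw [h2]
      exact h1
  · intro z
    rw [hfre z]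
    exact mul_nonneg hcpos.le (sibD_nonneg S a y hy0 _)
  · intro z
    rw [hfre z]
    have hlt : sibD S a y (z : X) < (Nat.card K : ℝ) := by
      by_cases hz1 : (z : X) = 1
      · rw [hz1, sibD_one S hirr a y]
        exact_mod_cast hKpos
      · exact sibD_lt K S hirr hclass a hapos y hylt (z : X) (hZK z.2) (hcent _ z.2 hz1)
          (hncj _ z.2 hz1)
    have := mul_lt_mul_of_pos_left hlt hcpos
    push_cast at this ⊢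
    linarith

end cong

end Cfsg.Agent.Helper82
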