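import Mathlib
import Cfsg.Prelude.Def_Characters
import Cfsg.Agent.Lib.Helper79.CharBasic
import Cfsg.Agent.Lib.Helper79.Inflation

/-!
# Sibley's coherence theorem: the final count
-/

set_option autoImplicit false
set_option linter.unusedSectionVars false
set_option linter.unusedVariables false

namespace Cfsg.Agent.Helper82

open Cfsg
open scoped ComplexConjugate

universe u

section sibcount

variable {X : Type u} [Group X] [Fintype X]

/-- If every member of `S` with `y ≠ 0` is trivial on the large normal subgroup `Z`, then the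
Bessel inequality forces `y = 0`. -/
theorem sib_count (Z : Subgroup X) [Z.Normal] (S : Finset (X → ℂ))
    (hirr : ∀ ξ ∈ S, IsIrrCharacter X ξ)
    (hclassZ : ∀ ζ : X → ℂ, IsIrrCharacter X ζ → ζ ∉ S → ∀ z ∈ Z, ζ z = ζ 1)
    (e : ℕ) (a : (X → ℂ) → ℕ) (hdeg : ∀ ξ ∈ S, ξ 1 = (e : ℂ) * (a ξ : ℂ))
    (hapos : ∀ ξ ∈ S, 0 < a ξ) (he3 : 3 ≤ e) (heZ : e < Nat.card Z)
    (y : (X → ℂ) → ℤ) (hy0 : ∀ ξ ∈ S, 0 ≤ y ξ) (hy1 : ∀ ξ ∈ S, a ξ = 1 → y ξ = 0)
    (hyZ : ∀ ξ ∈ S, y ξ ≠ 0 → ∀ z ∈ Z, ξ z = ξ 1)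
    (hbes : ∀ T₀ : Finset (X → ℂ), T₀ ⊆ S → (∀ φ ∈ T₀, y φ = 0) → ∀ ξ ∈ S, ξ ∉ T₀ →
      (y ξ) ^ 2 * ∑ φ ∈ T₀, ((a φ : ℤ)) ^ 2 ≤ 1 + 2 * (a ξ : ℤ) * y ξ) :
    ∀ ξ ∈ S, y ξ = 0 := by
  classical
  intro ξ hξ
  by_contra hne
  have hξT : ξ ∉ S.filter (fun φ => y φ = 0) := fun h => hne (Finset.mem_filter.mp h).2
  have hb := hbes (S.filter (fun φ => y φ = 0)) (Finset.filter_subset _ _)
    (fun φ hφ => (Finset.mem_filter.mp hφ).2) ξ hξ hξT
  have hdg : ∀ ζ : IrrCharacter X, (ζ : X → ℂ) ∈ S →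
      charDegree (ζ : X → ℂ) = e * a (ζ : X → ℂ) := by
    intro ζ hζ
    have h1 := (Cfsg.Agent.Helper79.irr_one_eq ζ).1
    rw [hdeg _ hζ] at h1
    exact_mod_cast h1.symm
  have hmem : ∀ ζ ∈ Finset.univ.filter
      (fun χ : IrrCharacter X => ¬ Z ≤ Cfsg.Agent.Helper79.irrKer χ),
      (ζ : X → ℂ) ∈ S.filter (fun φ => y φ = 0) := by
    intro ζ hζ
    have hnot := (Finset.mem_filter.mp hζ).2
    have hS : (ζ : X → ℂ) ∈ S := by
      by_contra hh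
      exact hnot (fun z hz => (Cfsg.Agent.Helper79.mem_irrKer ζ z).2 (hclassZ _ ζ.2 hh z hz))
    refine Finset.mem_filter.mpr ⟨hS, ?_⟩
    by_contra hh
    exact hnot (fun z hz => (Cfsg.Agent.Helper79.mem_irrKer ζ z).2 (hyZ _ hS hh z hz))
  have hmass : Nat.card X - Z.index ≤ ∑ φ ∈ S.filter (fun φ => y φ = 0), (e * a φ) ^ 2 := by
    rw [← Cfsg.Agent.Helper79.sum_sq_degree_of_not_le_ker Z]
    calc ∑ χ ∈ Finset.univ.filter
          (fun χ : IrrCharacter X => ¬ Z ≤ Cfsg.Agent.Helper79.irrKer χ),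
          (charDegree (χ : X → ℂ)) ^ 2
        = ∑ χ ∈ Finset.univ.filter
          (fun χ : IrrCharacter X => ¬ Z ≤ Cfsg.Agent.Helper79.irrKer χ),
          (e * a (χ : X → ℂ)) ^ 2 :=
          Finset.sum_congr rfl (fun ζ hζ => by
            rw [hdg ζ (Finset.mem_filter.mp (hmem ζ hζ)).1])
      _ = ∑ φ ∈ (Finset.univ.filter
          (fun χ : IrrCharacter X => ¬ Z ≤ Cfsg.Agent.Helper79.irrKer χ)).image Subtype.val,
          (e * a φ) ^ 2 := (Finset.sum_image (f := fun φ : X → ℂ => (e * a φ) ^ 2)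
            (g := Subtype.val) (fun a _ b _ h => Subtype.ext h)).symm
      _ ≤ ∑ φ ∈ S.filter (fun φ => y φ = 0), (e * a φ) ^ 2 :=
          Finset.sum_le_sum_of_subset (by
            intro φ hφ
            obtain ⟨ζ, hζ, rfl⟩ := Finset.mem_image.mp hφ
            exact hmem ζ hζ)
  have hsingle : (e * a ξ) ^ 2 ≤ Z.index := by
    rw [← Cfsg.Agent.Helper79.sum_sq_degree_of_le_ker Z]
    have hmemξ : (⟨ξ, hirr ξ hξ⟩ : IrrCharacter X) ∈ Finset.univ.filter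
        (fun χ : IrrCharacter X => Z ≤ Cfsg.Agent.Helper79.irrKer χ) :=
      Finset.mem_filter.mpr ⟨Finset.mem_univ _, fun z hz =>
        (Cfsg.Agent.Helper79.mem_irrKer _ z).2 (hyZ ξ hξ hne z hz)⟩
    have h1 := Finset.single_le_sum
      (f := fun χ : IrrCharacter X => (charDegree (χ : X → ℂ)) ^ 2)
      (fun _ _ => Nat.zero_le _) hmemξ
    have h2 := hdg ⟨ξ, hirr ξ hξ⟩ hξ
    simp only at h1 h2
    rw [h2] at h1
    exact h1
  have hcard : Nat.card X = Z.index * Nat.card Z := (Subgroup.index_mul_card Z).symm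
  -- arithmetic in `ℤ`
  have hsumcast : ((∑ φ ∈ S.filter (fun φ => y φ = 0), (e * a φ) ^ 2 : ℕ) : ℤ) =
      (e : ℤ) ^ 2 * ∑ φ ∈ S.filter (fun φ => y φ = 0), ((a φ : ℤ)) ^ 2 := by
    push_cast
    rw [Finset.mul_sum]
    exact Finset.sum_congr rfl fun φ _ => by ring
  have h1 : (Nat.card X : ℤ) ≤
      (e : ℤ) ^ 2 * ∑ φ ∈ S.filter (fun φ => y φ = 0), ((a φ : ℤ)) ^ 2 + (Z.index : ℤ) := by
    rw [← hsumcast]
    have := Nat.sub_le_iff_le_add.mp hmass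
    exact_mod_cast this
  have h2 : (Nat.card X : ℤ) = (Z.index : ℤ) * (Nat.card Z : ℤ) := by exact_mod_cast hcard
  have hnZ : (e : ℤ) + 1 ≤ (Nat.card Z : ℤ) := by exact_mod_cast heZ
  have hI0 : (0 : ℤ) ≤ (Z.index : ℤ) := Nat.cast_nonneg _
  have he3' : (3 : ℤ) ≤ (e : ℤ) := by exact_mod_cast he3
  have hyξ : (1 : ℤ) ≤ y ξ := by
    have := hy0 ξ hξ
    omega
  have ha2 : (2 : ℤ) ≤ (a ξ : ℤ) := by
    have h3 : a ξ ≠ 1 := fun h => hne (hy1 ξ hξ h)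
    have h4 := hapos ξ hξ
    have : 2 ≤ a ξ := by omega
    exact_mod_cast this
  have hSg0 : (0 : ℤ) ≤ ∑ φ ∈ S.filter (fun φ => y φ = 0), ((a φ : ℤ)) ^ 2 :=
    Finset.sum_nonneg fun φ _ => sq_nonneg _
  generalize (∑ φ ∈ S.filter (fun φ => y φ = 0), ((a φ : ℤ)) ^ 2) = Sg at hb h1 hSg0
  have h5 : (e * a ξ : ℤ) ^ 2 ≤ (Z.index : ℤ) := by exact_mod_cast hsingle
  generalize (Z.index : ℤ) = I at h1 h2 hI0 h5
  generalize (Nat.card Z : ℤ) = nZ at h2 hnZ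
  generalize (Nat.card X : ℤ) = d at h1 h2
  generalize (a ξ : ℤ) = A at hb ha2 h5
  generalize (e : ℤ) = E at h1 hnZ he3' h5
  generalize y ξ = Y at hb hyξ
  -- `Sg ≤ 2A + 1`
  have h4 : Sg ≤ 2 * A + 1 := by
    by_contra hcon
    push Not at hcon
    have h6 : Y ^ 2 * (2 * A + 2) ≤ Y ^ 2 * Sg :=
      mul_le_mul_of_nonneg_left (by linarith) (sq_nonneg Y)
    have h7 : (0 : ℤ) ≤ Y * (Y - 1) := mul_nonneg (by linarith) (by linarith)
    have h8 : (0 : ℤ) ≤ A * (Y * (Y - 1)) := mul_nonneg (by linarith) h7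
    nlinarith
  -- `I * E ≤ E^2 Sg`
  have h6 : I * E ≤ E ^ 2 * Sg := by
    have h7 : I * (E + 1) ≤ I * nZ := mul_le_mul_of_nonneg_left hnZ hI0
    nlinarith
  have h7 : I ≤ E * Sg := by
    have hE : (0 : ℤ) < E := by linarith
    have : E * I ≤ E * (E * Sg) := by nlinarith
    exact le_of_mul_le_mul_left this hE
  have h8 : E * Sg ≤ E * (2 * A + 1) := mul_le_mul_of_nonneg_left h4 (by linarith)
  have h9 : E ^ 2 * A ^ 2 ≤ E * (2 * A + 1) := by nlinarith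
  have h10 : E * A ^ 2 ≤ 2 * A + 1 := by
    have hE : (0 : ℤ) < E := by linarith
    have : E * (E * A ^ 2) ≤ E * (2 * A + 1) := by nlinarith
    exact le_of_mul_le_mul_left this hE
  nlinarith

end sibcount

end Cfsg.Agent.Helper82
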