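import Mathlib
import Cfsg.Agent.Lib.Helper82.SibGram
import Cfsg.Agent.Lib.Helper82.SibAnchor
import Cfsg.Agent.Lib.Helper82.SibCong
import Cfsg.Agent.Lib.Helper82.SibCount
import Cfsg.Agent.Lib.Helper82.Coh62Aux
import Cfsg.Agent.Lib.Helper83.SibleyAuxB
import Cfsg.Agent.Lib.Helper83.SibleyAuxC
import Cfsg.Agent.S1523

/-!
# Sibley's coherence theorem: assembling the character-theoretic part
-/

set_option autoImplicit false
set_option linter.unusedSectionVars false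
set_option linter.unusedVariables false
set_option linter.style.haveILetI false

namespace Cfsg.Agent.Helper82

open Cfsg Cfsg.Agent.Helper81
open scoped ComplexConjugate

universe u

section sibmain

variable {G : Type u} [Group G] [Fintype G] (L : Subgroup G) [Fintype L]

/-- The character-theoretic core of Sibley's theorem. -/
theorem sib_main (hodd : Odd (Nat.card L)) (K Z : Subgroup L) [Z.Normal] (hZK : Z ≤ K)
    (hcent : ∀ z ∈ Z, z ≠ 1 → Nat.card (Subgroup.centralizer ({z} : Set L)) = Nat.card K)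
    (S : Finset (L → ℂ)) (e : ℕ) (a : (L → ℂ) → ℕ) (ψ₀ : L → ℂ)
    (hS : SibSetup S (fun α : L → ℂ => indFun L α) e a ψ₀)
    (hclass : ∀ ζ : L → ℂ, IsIrrCharacter L ζ → ζ ∉ S → ∀ k ∈ K, ζ k = ζ 1)
    (hconj : ∀ ξ ∈ S, Cfsg.conjFun ξ ∈ S) (haconj : ∀ ξ ∈ S, a (Cfsg.conjFun ξ) = a ξ)
    (hψ₀ne : Cfsg.conjFun ψ₀ ≠ ψ₀)
    (hcard : Nat.card L = e * Nat.card K) (he3 : 3 ≤ e) (heZ : e < Nat.card Z)
    (hψ₀Z : ∀ z ∈ Z, ψ₀ z = ψ₀ 1)
    (hindZ : ∀ z : L, z ∈ Z →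
      indFun L (Cfsg.conjFun ψ₀ - ψ₀) (z : G) = (Cfsg.conjFun ψ₀ - ψ₀) z)
    (hcongG : ∀ χ : G → ℂ, IsIrrCharacter G χ → ∀ z : L, z ∈ Z → z ≠ 1 →
      χ ((z : G)⁻¹) = χ (z : G) →
      ∃ α : ℂ, IsIntegral ℤ α ∧
        ∑ x : L, (χ ((x * z * x⁻¹ * z : L) : G) - χ ((x * z⁻¹ * x⁻¹ * z : L) : G)) =
          (Nat.card K : ℂ) ^ 2 * α)
    (Ψ : G → ℂ) (hA : IsAnchor S (fun α : L → ℂ => indFun L α) a ψ₀ Ψ)
    (hΨconj : Cfsg.conjFun Ψ = Ψ + indFun L (Cfsg.conjFun ψ₀ - ψ₀))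
    (hnz : ∃ α ∈ Cfsg.zspanOn (↑S : Set (L → ℂ)) {1}ᶜ, α ≠ 0) :
    Cfsg.IsCoherent (↑S : Set (L → ℂ)) {1}ᶜ (fun α : L → ℂ => indFun L α) := by
  classical
  have hτconj : ∀ α : L → ℂ, (fun α : L → ℂ => indFun L α) (Cfsg.conjFun α) =
      Cfsg.conjFun ((fun α : L → ℂ => indFun L α) α) := fun α => (conjFun_indFun L α).symm
  obtain ⟨Ψ', hA', hΨ'conj, hlt⟩ :=
    hS.exists_good_anchor hA hconj haconj hτconj hΨconj hψ₀ne
  obtain ⟨y, hy⟩ := hS.exists_yInt hA'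
  have hylt := hlt y hy
  have hy0 : ∀ ξ ∈ S, 0 ≤ y ξ := fun ξ hξ => hS.y_nonneg hA' hy hξ
  have hyconj : ∀ ξ ∈ S, y (Cfsg.conjFun ξ) = y ξ := by
    intro ξ hξ
    have h1 := hS.sibY_conj hA' hconj haconj hτconj hΨ'conj hψ₀ne hξ
    rw [hy _ (hconj ξ hξ), hy ξ hξ] at h1
    exact_mod_cast h1
  suffices hyz : ∀ ξ ∈ S, y ξ = 0 by
    refine hS.coherent_of_y_zero hA' hnz (fun ξ hξ => ?_)
    rw [hy ξ hξ, hyz ξ hξ]
    simp
  have hcore : ∀ ξ ∈ S, y ξ ≠ 0 → ∀ z ∈ Z, ξ z = ξ 1 := by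
    obtain ⟨ε, Ψz, hε, hΨz, hΨ'eq⟩ : ∃ ε : ℂ, ∃ Ψz : G → ℂ, (ε = 1 ∨ ε = -1) ∧
        IsIrrCharacter G Ψz ∧ Ψ' = ε • Ψz := by
      rcases genChar_norm_one hA'.gen hA'.norm with h | h
      · exact ⟨1, Ψ', Or.inl rfl, h, by simp⟩
      · exact ⟨-1, -Ψ', Or.inr rfl, h, by simp⟩
    have hεconj : conj ε = ε := by
      rcases hε with h | h <;> rw [h] <;> simp
    have hεsq : ε * ε = 1 := by
      rcases hε with h | h <;> rw [h] <;> norm_num
    have hε0 : ε ≠ 0 := by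
      rcases hε with h | h <;> rw [h] <;> norm_num
    obtain ⟨k₀, hk₀⟩ := genChar_inner_int
      (isGeneralizedCharacter_of_isCharacter
        (isCharacter_indFun L (IsIrrCharacter.isCharacter (hS.irr ψ₀ hS.hψ₀)))) hA'.gen
    have hclΨz : IsClassFunction G Ψz := isClassFunction_of_isCharacter (IsIrrCharacter.isCharacter hΨz)
    have hΦ : IsClassFunction L (fun x : L => Ψz (x : G)) := by
      intro g h
      show Ψz ((h * g * h⁻¹ : L) : G) = Ψz (g : G)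
      push_cast
      exact hclΨz _ _
    have hinner : ∀ ζ ∈ S, classInner (fun x : L => Ψz (x : G)) ζ =
        ε * ((y ζ : ℂ) + (if ζ = ψ₀ then 1 else 0) + (a ζ : ℂ) * ((k₀ - 1 : ℤ) : ℂ)) := by
      intro ζ hζ
      have h1 : classInner (indFun L ζ) Ψz = classInner ζ (fun x : L => Ψz (x : G)) :=
        frobenius_reciprocity L ζ hclΨz
      have h2 : classInner (indFun L ζ) Ψ' = conj ε * classInner (indFun L ζ) Ψz := by
        rw [hΨ'eq, classInner_smul_right]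
      have h3 := hS.inner_tau_anchor (Ψ := Ψ') hζ
      rw [hy ζ hζ, hk₀] at h3
      have h4 : classInner (indFun L ζ) Ψz = ε * classInner (indFun L ζ) Ψ' := by
        rw [h2, hεconj, ← mul_assoc, hεsq, one_mul]
      rw [classInner_conj_symm ζ (fun x : L => Ψz (x : G)), ← h1, h4]
      have h5 : classInner (indFun L ζ) Ψ' =
          (y ζ : ℂ) + (if ζ = ψ₀ then 1 else 0) + (a ζ : ℂ) * ((k₀ : ℂ) - 1) := by
        rw [← h3]
      rw [h5]
      by_cases hh : ζ = ψ₀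
      · simp only [if_pos hh, map_mul, map_add, map_sub, map_one, hεconj, map_intCast,
          Complex.conj_natCast]
        push_cast
        ring
      · simp only [if_neg hh, map_mul, map_add, map_sub, map_one, hεconj, map_intCast,
          Complex.conj_natCast, map_zero]
        push_cast
        ring
    have hncj : ∀ z ∈ Z, z ≠ 1 → ¬ IsConj z z⁻¹ := by
      intro z _ hz1 hc
      obtain ⟨c, hc⟩ := isConj_iff.mp hc
      exact hz1 (Cfsg.Agent.S1523.eq_one_of_conj_inv (⊤ : Subgroup L)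
        (by rw [Subgroup.card_top]; exact hodd) z c (Subgroup.mem_top _) (Subgroup.mem_top _) hc)
    have hcong : ∀ z ∈ Z, z ≠ 1 → ∃ α : ℂ, IsIntegral ℤ α ∧
        ∑ x : L, ((fun x : L => Ψz (x : G)) (x * z * x⁻¹ * z) -
          (fun x : L => Ψz (x : G)) (x * z⁻¹ * x⁻¹ * z)) = ε * (Nat.card K : ℂ) ^ 2 * α := by
      intro z hz hz1
      have hreal : Ψz ((z : G)⁻¹) = Ψz (z : G) := by
        rw [Cfsg.Agent.Helper78.IsIrrCharacter.inv hΨz]
        have h1 := congrFun hΨ'conj (z : G)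
        rw [Pi.add_apply, hindZ z hz, Pi.sub_apply] at h1
        have h2 : Cfsg.conjFun ψ₀ z - ψ₀ z = 0 := by
          show conj (ψ₀ z) - ψ₀ z = 0
          rw [hψ₀Z z hz, irr_one_conj (hS.irr ψ₀ hS.hψ₀), sub_self]
        rw [h2, add_zero, hΨ'eq] at h1
        have h3 : conj (ε * Ψz (z : G)) = ε * Ψz (z : G) := h1
        rw [map_mul, hεconj] at h3
        exact mul_left_cancel₀ hε0 h3
      obtain ⟨α, hα, hsum⟩ := hcongG Ψz hΨz z hz hz1 hreal
      refine ⟨ε * α, ?_, ?_⟩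
      · rcases hε with h | h
        · rw [h, one_mul]; exact hα
        · rw [h, neg_one_mul]; exact hα.neg
      · rw [hsum]
        linear_combination (-(Nat.card K : ℂ) ^ 2 * α) * hεsq
    haveI : Fintype Z := Fintype.ofFinite _
    exact sib_core K Z hZK hcent hncj S hS.irr hclass hconj e a hS.deg hS.apos hcard haconj y
      hyconj hy0 hylt ψ₀ hS.hψ₀ hψ₀Z _ hΦ ε hε (k₀ - 1) hinner hcong
      (fun f hf N hN hint him h0 h1 =>
        Cfsg.Agent.Helper83.SibleyAux.genChar_eq_zero_of_small f hf N hN hint him h0 h1)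
      (fun ξ hξ hreal => Cfsg.Agent.Helper83.SibleyAux.real_on_normal_odd hodd Z ξ hξ hreal)
  exact sib_count Z S hS.irr (fun ζ hζ hn z hz => hclass ζ hζ hn z (hZK hz)) e a hS.deg hS.apos
    he3 heZ y hy0 (fun ξ hξ ha => hS.yInt_x1 hA' hy hξ ha) hcore
    (fun T₀ hT₀ hT₀y ξ hξ hξT => hS.bessel hA' hy T₀ hT₀ hT₀y hξ hξT)

end sibmain

end Cfsg.Agent.Helper82
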