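import Mathlib
import Cfsg.Agent.Lib.Helper82.SibMain
import Cfsg.Agent.Lib.Helper82.BrauerSuzuki
import Cfsg.Agent.Lib.Helper82.TIFrob
import Cfsg.Agent.Lib.Helper82.TIFrobAbel
import Cfsg.Agent.Lib.Helper82.Coh62Sum
import Cfsg.Agent.Lib.Helper82.Coh62Aux
import Cfsg.Agent.Lib.Helper83.FrobAbs
import Cfsg.Agent.Lib.Helper3.CharArtin
import Cfsg.Agent.S0161

/-!
# Sibley's coherence theorem for a Frobenius normalizer (inside `L`)
-/

set_option autoImplicit false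
set_option linter.unusedSectionVars false
set_option linter.unusedVariables false
set_option linter.style.haveILetI false

namespace Cfsg.Agent.Helper82

open Cfsg Cfsg.Agent.Helper81
open scoped ComplexConjugate

universe u

section sibfrob

variable {G : Type u} [Group G] [Fintype G] (L : Subgroup G) [Fintype L]
  (K : Subgroup L) [hKn : K.Normal] [Fintype K]

/-- The set of characters of `L` induced from the non-principal irreducible characters of `K`. -/
noncomputable def sibS : Finset (L → ℂ) :=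
  (irrAbove K ⊥).image (fun θ : IrrCharacter K => indFun K (θ : K → ℂ))

/-- The degree of the character of `K` from which `ξ` is induced. -/
noncomputable def sibA (ξ : L → ℂ) : ℕ := ⌊(ξ 1).re⌋₊ / K.index

theorem mem_sibS (ξ : L → ℂ) : ξ ∈ sibS L K ↔
    ∃ θ : IrrCharacter K, (θ : K → ℂ) ≠ (fun _ => 1) ∧ ξ = indFun K (θ : K → ℂ) := by
  unfold sibS
  rw [Finset.mem_image]
  constructor
  · rintro ⟨θ, hθ, rfl⟩
    exact ⟨θ, ((mem_irrAbove K ⊥ θ).mp hθ).1, rfl⟩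
  · rintro ⟨θ, hθ, rfl⟩
    refine ⟨θ, (mem_irrAbove K ⊥ θ).mpr ⟨hθ, ?_⟩, rfl⟩
    intro a ha
    have : a = 1 := by
      rw [Subgroup.mem_bot] at ha
      exact Subtype.ext ha
    rw [this]

theorem coe_sibS : (↑(sibS L K) : Set (L → ℂ)) = Cfsg.inducedIrrAbove K ⊥ :=
  (inducedIrrAbove_eq K ⊥).symm

theorem sibA_indFun (θ : IrrCharacter K) :
    sibA L K (indFun K (θ : K → ℂ)) = charDegree (θ : K → ℂ) := by
  unfold sibA
  have hidx : 0 < K.index := Nat.pos_of_ne_zero Subgroup.index_ne_zero_of_finite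
  rw [Cfsg.Agent.Helper81.indFun_one, (Cfsg.Agent.Helper79.irr_one_eq θ).1]
  have h1 : ((K.index : ℂ) * (charDegree (θ : K → ℂ) : ℂ)).re =
      ((K.index * charDegree (θ : K → ℂ) : ℕ) : ℝ) := by
    rw [← Nat.cast_mul, Complex.natCast_re]
  rw [h1, Nat.floor_natCast, Nat.mul_div_cancel_left _ hidx]

theorem sibS_one (θ : IrrCharacter K) :
    indFun K (θ : K → ℂ) 1 = (K.index : ℂ) * (charDegree (θ : K → ℂ) : ℂ) := by
  rw [Cfsg.Agent.Helper81.indFun_one, (Cfsg.Agent.Helper79.irr_one_eq θ).1]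

theorem zspan_induction' {N : Type*} {A : Set (N → ℂ)} (P : (N → ℂ) → Prop)
    (hmem : ∀ a ∈ A, P a) (h0 : P 0) (hadd : ∀ x y, P x → P y → P (x + y))
    (hsmul : ∀ (n : ℤ) x, P x → P (n • x)) {x : N → ℂ} (hx : x ∈ Cfsg.zspan A) : P x := by
  rw [mem_zspan] at hx
  induction hx using Submodule.span_induction with
  | mem a ha => exact hmem a ha
  | zero => exact h0
  | add x y _ _ hx hy => exact hadd x y hx hy
  | smul n x _ hx => exact hsmul n x hx

variable (hC : ∀ k ∈ K, k ≠ 1 → Subgroup.centralizer ({k} : Set L) ≤ K)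

include hC in
theorem sibS_irr {ξ : L → ℂ} (hξ : ξ ∈ sibS L K) : IsIrrCharacter L ξ := by
  obtain ⟨θ, hθ, rfl⟩ := (mem_sibS L K ξ).mp hξ
  exact indFun_irr_of_centralizer K hC θ θ.2 hθ

include hC in
theorem sibS_span_props {α : L → ℂ} (hα : α ∈ Cfsg.zspan (↑(sibS L K) : Set (L → ℂ))) :
    IsClassFunction L α ∧ (∀ x : L, x ∉ K → α x = 0) ∧ IsGeneralizedCharacter L α := by
  refine zspan_induction' (fun α => IsClassFunction L α ∧ (∀ x : L, x ∉ K → α x = 0) ∧
    IsGeneralizedCharacter L α) ?_ ?_ ?_ ?_ hα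
  · intro ξ hξ
    have hirr := sibS_irr L K hC (Finset.mem_coe.mp hξ)
    refine ⟨isClassFunction_of_isCharacter (IsIrrCharacter.isCharacter hirr), ?_,
      isGeneralizedCharacter_of_isCharacter (IsIrrCharacter.isCharacter hirr)⟩
    obtain ⟨θ, hθ, rfl⟩ := (mem_sibS L K ξ).mp (Finset.mem_coe.mp hξ)
    intro x hx
    exact indFun_eq_zero_of_not_mem K _ hx
  · refine ⟨fun g h => rfl, fun x _ => rfl, ?_⟩
    exact ⟨0, 0, isCharacter_zero, isCharacter_zero, by simp⟩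
  · rintro x y ⟨hx1, hx2, hx3⟩ ⟨hy1, hy2, hy3⟩
    refine ⟨fun g h => ?_, fun z hz => ?_, isGeneralizedCharacter_add hx3 hy3⟩
    · rw [Pi.add_apply, Pi.add_apply, hx1 g h, hy1 g h]
    · rw [Pi.add_apply, hx2 z hz, hy2 z hz, add_zero]
  · rintro n x ⟨hx1, hx2, hx3⟩
    refine ⟨fun g h => ?_, fun z hz => ?_, isGeneralizedCharacter_zsmul n hx3⟩
    · rw [Pi.smul_apply, Pi.smul_apply, hx1 g h]
    · rw [Pi.smul_apply, hx2 z hz, smul_zero]

theorem sibS_conj_mem {ξ : L → ℂ} (hξ : ξ ∈ sibS L K) : Cfsg.conjFun ξ ∈ sibS L K := by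
  rw [← Finset.mem_coe, coe_sibS] at hξ ⊢
  exact inducedIrrAbove_conj_mem K ⊥ hξ

theorem sibA_conj (ξ : L → ℂ) : sibA L K (Cfsg.conjFun ξ) = sibA L K ξ := by
  unfold sibA
  have : (Cfsg.conjFun ξ 1).re = (ξ 1).re := Complex.conj_re _
  rw [this]

variable (hind : ∀ ϑ : L → ℂ, IsClassFunction L ϑ → (∀ x : L, x ∉ K → ϑ x = 0) → ϑ 1 = 0 →
    ∀ x : L, Cfsg.indFun L ϑ x = ϑ x)

include hC hind in
theorem sib_setup (θ₀ : IrrCharacter K) (hθ₀ : (θ₀ : K → ℂ) ≠ fun _ => 1)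
    (hθ₀1 : (θ₀ : K → ℂ) 1 = 1) :
    SibSetup (sibS L K) (fun α : L → ℂ => indFun L α) K.index (sibA L K)
      (indFun K (θ₀ : K → ℂ)) := by
  have hidx : 0 < K.index := Nat.pos_of_ne_zero Subgroup.index_ne_zero_of_finite
  refine ⟨fun ξ hξ => sibS_irr L K hC hξ, ?_, ?_, hidx, ?_, ?_, fun α β => indFun_add L α β,
    fun c α => indFun_smul L c α, ?_, ?_⟩
  · intro ξ hξ
    obtain ⟨θ, hθ, rfl⟩ := (mem_sibS L K ξ).mp hξ
    rw [sibA_indFun, sibS_one]
  · intro ξ hξ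
    obtain ⟨θ, hθ, rfl⟩ := (mem_sibS L K ξ).mp hξ
    rw [sibA_indFun]
    exact (Cfsg.Agent.Helper79.irr_one_eq θ).2
  · exact (mem_sibS L K _).mpr ⟨θ₀, hθ₀, rfl⟩
  · rw [sibA_indFun]
    have := (Cfsg.Agent.Helper79.irr_one_eq θ₀).1
    rw [hθ₀1] at this
    exact_mod_cast this.symm
  · intro α hα β hβ
    obtain ⟨hβs, hβ1⟩ := mem_zspanOn_compl_one.mp hβ
    obtain ⟨h1, h2, _⟩ := sibS_span_props L K hC hβs
    exact tifn_ind_inner L K hind α h1 h2 hβ1
  · intro α hα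
    obtain ⟨_, _, ⟨χ₁, χ₂, h1, h2, rfl⟩⟩ := sibS_span_props L K hC (mem_zspanOn_compl_one.mp hα).1
    show IsGeneralizedCharacter G (indFun L (χ₁ - χ₂))
    rw [Cfsg.Agent.Helper3.indFun_sub]
    exact ⟨_, _, isCharacter_indFun L h1, isCharacter_indFun L h2, rfl⟩

include hC hind in
/-- The anchor, from the Brauer–Suzuki argument on the characters induced from linear ones. -/
theorem sib_anchor (θ₀ : IrrCharacter K) (hθ₀ : (θ₀ : K → ℂ) ≠ fun _ => 1)
    (hθ₀1 : (θ₀ : K → ℂ) 1 = 1)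
    (hψ₀ne : Cfsg.conjFun (indFun K (θ₀ : K → ℂ)) ≠ indFun K (θ₀ : K → ℂ)) :
    ∃ Ψ : G → ℂ, IsAnchor (sibS L K) (fun α : L → ℂ => indFun L α) (sibA L K)
        (indFun K (θ₀ : K → ℂ)) Ψ ∧
      Cfsg.conjFun Ψ = Ψ + indFun L (Cfsg.conjFun (indFun K (θ₀ : K → ℂ)) -
        indFun K (θ₀ : K → ℂ)) := by
  classical
  have hS := sib_setup L K hC hind θ₀ hθ₀ hθ₀1
  obtain ⟨ψ₀, hψ₀def⟩ : ∃ ψ₀ : L → ℂ, ψ₀ = indFun K (θ₀ : K → ℂ) := ⟨_, rfl⟩
  rw [← hψ₀def] at hS hψ₀ne ⊢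
  have hmemD : ∀ i j : {ψ : L → ℂ // ψ ∈ sibS L K ∧ sibA L K ψ = 1},
      i.1 - j.1 ∈ Cfsg.zspanOn (↑(sibS L K) : Set (L → ℂ)) {1}ᶜ := by
    intro i j
    refine mem_zspanOn_compl_one.mpr ⟨zspan_sub_mem (subset_zspan (Finset.mem_coe.mpr i.2.1))
      (subset_zspan (Finset.mem_coe.mpr j.2.1)), ?_⟩
    rw [Pi.sub_apply, hS.deg _ i.2.1, hS.deg _ j.2.1, i.2.2, j.2.2, sub_self]
  have hinn : ∀ i j k l : {ψ : L → ℂ // ψ ∈ sibS L K ∧ sibA L K ψ = 1},
      classInner (indFun L (i.1 - j.1)) (indFun L (k.1 - l.1)) =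
        classInner (i.1 - j.1) (k.1 - l.1) :=
    fun i j k l => hS.iso _ (hmemD i j) _ (hmemD k l)
  have horth : ∀ i j : {ψ : L → ℂ // ψ ∈ sibS L K ∧ sibA L K ψ = 1},
      classInner i.1 j.1 = if i = j then 1 else 0 := by
    intro i j
    rw [irr_orthonormal (hS.irr _ i.2.1) (hS.irr _ j.2.1)]
    by_cases h : i = j
    · rw [if_pos h, if_pos (congrArg Subtype.val h)]
    · rw [if_neg h, if_neg (fun h' => h (Subtype.ext h'))]
  obtain ⟨ε, f, hε, hfinj, hD⟩ := brauer_suzuki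
    (fun i j : {ψ : L → ℂ // ψ ∈ sibS L K ∧ sibA L K ψ = 1} => indFun L (i.1 - j.1))
    (by
      intro i j k
      show indFun L (i.1 - k.1) = indFun L (i.1 - j.1) + indFun L (j.1 - k.1)
      rw [← indFun_add]
      congr 1
      abel)
    (by
      intro i j h
      show classInner (indFun L (i.1 - j.1)) (indFun L (i.1 - j.1)) = 2
      rw [hinn, classInner_sub_left, classInner_sub_right, classInner_sub_right, horth, horth,
        horth, horth, if_pos rfl, if_pos rfl, if_neg h, if_neg (Ne.symm h)]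
      norm_num)
    (by
      intro i j k h1 h2 h3
      show classInner (indFun L (i.1 - j.1)) (indFun L (i.1 - k.1)) = 1
      rw [hinn, classInner_sub_left, classInner_sub_right, classInner_sub_right, horth, horth,
        horth, horth, if_pos rfl, if_neg h2, if_neg (Ne.symm h1), if_neg h3]
      norm_num)
    (fun i j => hS.gen _ (hmemD i j))
    (by
      intro i j
      obtain ⟨hs, h1⟩ := mem_zspanOn_compl_one.mp (hmemD i j)
      obtain ⟨hcl, hvan, _⟩ := sibS_span_props L K hC hs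
      have := hind _ hcl hvan h1 1
      rw [h1] at this
      exact this)
  have hD' : ∀ i j : {ψ : L → ℂ // ψ ∈ sibS L K ∧ sibA L K ψ = 1},
      indFun L (i.1 - j.1) = ε • ((f i : G → ℂ) - (f j : G → ℂ)) := hD
  have hεconj : conj ε = ε := by
    rcases hε with h | h <;> rw [h] <;> simp
  have hεsq : ε * ε = 1 := by
    rcases hε with h | h <;> rw [h] <;> norm_num
  have hε0 : ε ≠ 0 := by
    rcases hε with h | h <;> rw [h] <;> norm_num
  have hfne : ∀ i j : {ψ : L → ℂ // ψ ∈ sibS L K ∧ sibA L K ψ = 1}, i ≠ j →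
      (f i : G → ℂ) ≠ (f j : G → ℂ) := fun i j h h' => h (hfinj (Subtype.ext h'))
  have hψ₀c : Cfsg.conjFun ψ₀ ∈ sibS L K := sibS_conj_mem L K hS.hψ₀
  have haψ₀c : sibA L K (Cfsg.conjFun ψ₀) = 1 := by rw [sibA_conj, hS.hψ₀a]
  obtain ⟨i₀, hi₀⟩ : ∃ i₀ : {ψ : L → ℂ // ψ ∈ sibS L K ∧ sibA L K ψ = 1}, i₀.1 = ψ₀ :=
    ⟨⟨ψ₀, hS.hψ₀, hS.hψ₀a⟩, rfl⟩
  obtain ⟨ic, hic⟩ : ∃ ic : {ψ : L → ℂ // ψ ∈ sibS L K ∧ sibA L K ψ = 1},
      ic.1 = Cfsg.conjFun ψ₀ := ⟨⟨Cfsg.conjFun ψ₀, hψ₀c, haψ₀c⟩, rfl⟩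
  have hne : ic ≠ i₀ := by
    intro h
    apply hψ₀ne
    rw [← hic, ← hi₀, h]
  -- `conj (f i₀) = f ic`
  have hkey : Cfsg.conjFun (f i₀ : G → ℂ) = (f ic : G → ℂ) := by
    have h1 : Cfsg.conjFun (indFun L (i₀.1 - ic.1)) = indFun L (ic.1 - i₀.1) := by
      rw [conjFun_indFun L]
      congr 1
      rw [hi₀, hic]
      funext x
      simp [Cfsg.conjFun]
    rw [hD' i₀ ic, hD' ic i₀] at h1
    have h2 : Cfsg.conjFun (ε • ((f i₀ : G → ℂ) - (f ic : G → ℂ))) =
        ε • (Cfsg.conjFun (f i₀ : G → ℂ) - Cfsg.conjFun (f ic : G → ℂ)) := by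
      funext x
      simp [Cfsg.conjFun, hεconj]
    rw [h2] at h1
    have h3 : Cfsg.conjFun (f i₀ : G → ℂ) - Cfsg.conjFun (f ic : G → ℂ) =
        (f ic : G → ℂ) - (f i₀ : G → ℂ) := by
      have := congrArg (fun F : G → ℂ => ε • F) h1
      simp only [smul_smul, hεsq, one_smul] at this
      exact this
    have hci₀ : IsIrrCharacter G (Cfsg.conjFun (f i₀ : G → ℂ)) :=
      Cfsg.Agent.Helper80.isIrrCharacter_cconj (f i₀).2
    have hcic : IsIrrCharacter G (Cfsg.conjFun (f ic : G → ℂ)) :=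
      Cfsg.Agent.Helper80.isIrrCharacter_cconj (f ic).2
    have h4 : classInner (Cfsg.conjFun (f i₀ : G → ℂ) - Cfsg.conjFun (f ic : G → ℂ))
        (Cfsg.conjFun (f i₀ : G → ℂ)) =
        classInner ((f ic : G → ℂ) - (f i₀ : G → ℂ)) (Cfsg.conjFun (f i₀ : G → ℂ)) := by
      rw [h3]
    rw [classInner_sub_left, classInner_sub_left, irr_orthonormal hci₀ hci₀, if_pos rfl,
      classInner_conjFun_conjFun, irr_orthonormal (f ic).2 (f i₀).2, if_neg (hfne ic i₀ hne),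
      irr_orthonormal (f ic).2 hci₀, irr_orthonormal (f i₀).2 hci₀] at h4
    by_contra hcon
    rw [if_neg (fun h => hcon h.symm)] at h4
    split_ifs at h4 <;> norm_num at h4
  refine ⟨ε • (f i₀ : G → ℂ), ⟨?_, ?_, ?_⟩, ?_⟩
  · rcases hε with h | h
    · rw [h, one_smul]
      exact isGeneralizedCharacter_of_isCharacter (IsIrrCharacter.isCharacter (f i₀).2)
    · rw [h, neg_one_smul]
      exact isGeneralizedCharacter_neg
        (isGeneralizedCharacter_of_isCharacter (IsIrrCharacter.isCharacter (f i₀).2))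
  · rw [classInner_smul_left, classInner_smul_right, irr_orthonormal (f i₀).2 (f i₀).2,
      if_pos rfl, hεconj, mul_one, hεsq]
  · intro ψ hψ ha hne0
    obtain ⟨i, hi⟩ : ∃ i : {ψ : L → ℂ // ψ ∈ sibS L K ∧ sibA L K ψ = 1}, i.1 = ψ :=
      ⟨⟨ψ, hψ, ha⟩, rfl⟩
    have hii₀ : i ≠ i₀ := by
      intro h
      apply hne0
      rw [← hi, ← hi₀, h]
    show classInner (indFun L (ψ - ψ₀)) (ε • (f i₀ : G → ℂ)) = -1
    rw [← hi, ← hi₀, hD' i i₀, classInner_smul_left, classInner_smul_right, classInner_sub_left,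
      irr_orthonormal (f i).2 (f i₀).2, irr_orthonormal (f i₀).2 (f i₀).2, if_pos rfl,
      if_neg (hfne i i₀ hii₀), hεconj]
    linear_combination (-1 : ℂ) * hεsq
  · have h1 : Cfsg.conjFun (ε • (f i₀ : G → ℂ)) = ε • Cfsg.conjFun (f i₀ : G → ℂ) := by
      funext x
      simp [Cfsg.conjFun, hεconj]
    rw [h1, hkey, ← hic, ← hi₀, hD' ic i₀]
    funext x
    simp only [Pi.add_apply, Pi.smul_apply, Pi.sub_apply, smul_eq_mul]
    ring

include hind in
/-- **Sibley's coherence theorem**, for a Frobenius group `L = K ⋊ E` of odd order with nilpotent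
kernel, given the behaviour of induction to `G` (`hind`) and the class multiplication congruences
(`hcongG`). -/
theorem sib_frobenius (hodd : Odd (Nat.card L)) (E : Subgroup L)
    (hinf : K ⊓ E = ⊥) (hsup : K ⊔ E = ⊤)
    (hfpf : ∀ w ∈ E, w ≠ 1 → ∀ k ∈ K, w * k = k * w → k = 1) (hE : E ≠ ⊥) (hK : K ≠ ⊥)
    (hnil : Group.IsNilpotent K)
    (hcongG : ∀ χ : G → ℂ, IsIrrCharacter G χ → ∀ z : L, z ∈ K → (∀ k ∈ K, z * k = k * z) →
      z ≠ 1 → χ ((z : G)⁻¹) = χ (z : G) →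
      ∃ α : ℂ, IsIntegral ℤ α ∧
        ∑ x : L, (χ ((x * z * x⁻¹ * z : L) : G) - χ ((x * z⁻¹ * x⁻¹ * z : L) : G)) =
          (Nat.card K : ℂ) ^ 2 * α) :
    Cfsg.IsCoherent (Cfsg.inducedIrrAbove K ⊥) {1}ᶜ (fun α : L → ℂ => indFun L α) := by
  classical
  have hC := Cfsg.Agent.Helper83.FrobAbs.frob_centralizer_le K E hsup hfpf
  haveI : Nontrivial K := (Subgroup.nontrivial_iff_ne_bot K).mpr hK
  haveI := hnil
  have hsolv : Group.IsSolvable K := inferInstance
  -- a non-principal linear character trivial on the derived group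
  have hAK : (commutator K).map K.subtype < K := by
    refine lt_of_le_of_ne (Subgroup.map_subtype_le _) ?_
    intro h
    have h1 : commutator K < ⊤ := Group.IsSolvable.commutator_lt_top_of_nontrivial K
    apply h1.ne
    rw [eq_top_iff]
    intro k _
    have hk : (k : L) ∈ (commutator K).map K.subtype := by rw [h]; exact k.2
    obtain ⟨k', hk', hkk⟩ := hk
    have : k' = k := Subtype.ext hkk
    rw [← this]
    exact hk'
  obtain ⟨θ₀, hθ₀, hθ₀A, hθ₀1⟩ := exists_linear_above K ((commutator K).map K.subtype) hsolv hAK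
  have hS := sib_setup L K hC hind θ₀ hθ₀ hθ₀1
  have hidx : 0 < K.index := Nat.pos_of_ne_zero Subgroup.index_ne_zero_of_finite
  -- `3 ≤ e`
  have he3 : 3 ≤ K.index := by
    have h1 : K.index ∣ Nat.card L := Subgroup.index_dvd_card K
    have h2 : Odd K.index := by
      rcases Nat.even_or_odd K.index with h | h
      · exact absurd (h.trans_dvd h1) (Nat.not_even_iff_odd.mpr hodd)
      · exact h
    have h3 : K.index ≠ 1 := by
      intro h
      rw [Subgroup.index_eq_one] at h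
      apply hE
      rw [← hinf, h, top_inf_eq]
    obtain ⟨m, hm⟩ := h2
    omega
  -- `ψ₀` is not real
  have hψ₀ne : Cfsg.conjFun (indFun K (θ₀ : K → ℂ)) ≠ indFun K (θ₀ : K → ℂ) := by
    intro h
    have hirr := hS.irr _ hS.hψ₀
    have hreal : ∀ g : L, (((⟨_, hirr⟩ : IrrCharacter L) : L → ℂ) g).im = 0 := by
      intro g
      exact Complex.conj_eq_iff_im.mp (congrFun h g)
    have h1 := Cfsg.Agent.S0161.result hodd ⟨_, hirr⟩ hreal
    have h2 := congrFun h1 1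
    have h3 := hS.deg _ hS.hψ₀
    rw [hS.hψ₀a] at h3
    have h4 : (indFun K (θ₀ : K → ℂ)) 1 = 1 := h2
    rw [h4] at h3
    have h5 : K.index = 1 := by
      have : ((K.index : ℕ) : ℂ) = 1 := by rw [h3]; push_cast; ring
      exact_mod_cast this
    omega
  obtain ⟨Ψ, hA, hΨconj⟩ := sib_anchor L K hC hind θ₀ hθ₀ hθ₀1 hψ₀ne
  have hψ₀c : Cfsg.conjFun (indFun K (θ₀ : K → ℂ)) ∈ sibS L K := sibS_conj_mem L K hS.hψ₀
  have hdiff : Cfsg.conjFun (indFun K (θ₀ : K → ℂ)) - indFun K (θ₀ : K → ℂ) ∈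
      Cfsg.zspanOn (↑(sibS L K) : Set (L → ℂ)) {1}ᶜ := by
    refine mem_zspanOn_compl_one.mpr ⟨zspan_sub_mem (subset_zspan (Finset.mem_coe.mpr hψ₀c))
      (subset_zspan (Finset.mem_coe.mpr hS.hψ₀)), ?_⟩
    rw [Pi.sub_apply]
    show conj (indFun K (θ₀ : K → ℂ) 1) - indFun K (θ₀ : K → ℂ) 1 = 0
    rw [irr_one_conj (hS.irr _ hS.hψ₀), sub_self]
  have hnz : ∃ α ∈ Cfsg.zspanOn (↑(sibS L K) : Set (L → ℂ)) {1}ᶜ, α ≠ 0 :=
    ⟨_, hdiff, fun h => hψ₀ne (sub_eq_zero.mp h)⟩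
  rw [← coe_sibS]
  by_cases hab : ∀ a b : K, a * b = b * a
  · refine hS.coherent_of_y_zero hA hnz (fun ξ hξ => hS.sibY_x1 hA hξ ?_)
    obtain ⟨θ, hθ, rfl⟩ := (mem_sibS L K ξ).mp hξ
    rw [sibA_indFun]
    obtain ⟨lam, hlam⟩ := Cfsg.Agent.Helper3.irr_abelian_hom hab (θ : K → ℂ) θ.2
    have h1 : (θ : K → ℂ) 1 = 1 := by rw [hlam]; simp
    have h2 := (Cfsg.Agent.Helper79.irr_one_eq θ).1
    rw [h1] at h2
    exact_mod_cast h2.symm
  · have hZ₀ := Cfsg.Agent.Helper83.FrobAbs.nilpotent_center_inf_commutator_ne_bot hab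
    have hZK : (Subgroup.center K ⊓ commutator K).map K.subtype ≤ K := Subgroup.map_subtype_le _
    have hZne : (Subgroup.center K ⊓ commutator K).map K.subtype ≠ ⊥ := by
      intro h
      exact hZ₀ ((Subgroup.map_eq_bot_iff_of_injective _ K.subtype_injective).mp h)
    have hZcent : ∀ z ∈ (Subgroup.center K ⊓ commutator K).map K.subtype, ∀ k ∈ K,
        z * k = k * z := by
      rintro z ⟨z', hz', rfl⟩ k hk
      have := Subgroup.mem_center_iff.mp hz'.1 ⟨k, hk⟩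
      exact (congrArg Subtype.val this).symm
    have hZA : (Subgroup.center K ⊓ commutator K).map K.subtype ≤
        (commutator K).map K.subtype := Subgroup.map_mono inf_le_right
    refine sib_main L hodd K ((Subgroup.center K ⊓ commutator K).map K.subtype) hZK ?_
      (sibS L K) K.index (sibA L K) _ hS ?_ (fun ξ hξ => sibS_conj_mem L K hξ)
      (fun ξ _ => sibA_conj L K ξ) hψ₀ne (Subgroup.index_mul_card K).symm he3
      (Cfsg.Agent.Helper83.FrobAbs.frob_index_lt_card K hC _ hZK hZne) ?_ ?_ ?_ Ψ hA hΨconj hnz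
    · intro z hz hz1
      have : Subgroup.centralizer ({z} : Set L) = K := by
        refine le_antisymm (hC z (hZK hz) hz1) (fun k hk => ?_)
        rw [Subgroup.mem_centralizer_iff]
        intro y hy
        rw [Set.mem_singleton_iff] at hy
        rw [hy]
        exact hZcent z hz k hk
      rw [this]
    · intro ζ hζ hnot k hk
      by_contra hne
      apply hnot
      obtain ⟨θ, hθ, hθ1, rfl⟩ := exists_indFun_eq_of_relevant K hC hζ ⟨k, hk, hne⟩
      exact (mem_sibS L K _).mpr ⟨⟨θ, hθ⟩, hθ1, rfl⟩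
    · intro z hz
      rw [Cfsg.Agent.Helper81.indFun_apply, Cfsg.Agent.Helper81.indFun_apply]
      congr 1
      refine Finset.sum_congr rfl fun x _ => ?_
      have hx : x⁻¹ * z * x ∈ (Subgroup.center K ⊓ commutator K).map K.subtype := by
        have := Subgroup.Normal.conj_mem (inferInstance :
          ((Subgroup.center K ⊓ commutator K).map K.subtype).Normal) z hz x⁻¹
        rwa [inv_inv] at this
      have h1 : x⁻¹ * 1 * x = 1 := by group
      rw [extendByZero_apply_mem K _ (hZK hx), h1, extendByZero_apply_mem K _ K.one_mem]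
      exact hθ₀A ⟨_, hZK hx⟩ (hZA hx)
    · intro z hz
      obtain ⟨hs, h1⟩ := mem_zspanOn_compl_one.mp hdiff
      obtain ⟨hcl, hvan, _⟩ := sibS_span_props L K hC hs
      exact hind _ hcl hvan h1 z
    · intro χ hχ z hz hz1 hreal
      exact hcongG χ hχ z (hZK hz) (fun k hk => hZcent z hz k hk) hz1 hreal

end sibfrob

end Cfsg.Agent.Helper82
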