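import Mathlib
import Cfsg.Agent.Lib.Helper82.SibFrob
import Cfsg.Agent.Lib.Helper82.TIFrobNorm
import Cfsg.Agent.Lib.Helper25.TIHall
import Cfsg.Agent.Lib.Helper83.SibleyAuxA

/-!
# Sibley's coherence theorem for a nilpotent T.I. subgroup with Frobenius normalizer of odd order
-/

set_option autoImplicit false
set_option linter.unusedSectionVars false
set_option linter.unusedVariables false
set_option linter.style.haveILetI false

namespace Cfsg.Agent.Helper82.SibTI

open Cfsg Cfsg.Agent.Helper81 Cfsg.Agent.Helper82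
open scoped ComplexConjugate

universe u

variable {G : Type u} [Group G] [Fintype G]

theorem normal_subgroupOf_normalizer (H : Subgroup G) :
    (H.subgroupOf (Subgroup.normalizer (H : Set G))).Normal :=
  ⟨fun n hn g => by
    rw [Subgroup.mem_subgroupOf] at hn ⊢
    have := (Subgroup.mem_set_normalizer_iff.mp g.2 (n : G)).mp hn
    simpa using this⟩

/-- The class multiplication congruence needed by `sib_frobenius`, from the Hall/TI congruence. -/
theorem hcongG_of_ti (H : Subgroup G) [Fintype ↥(Subgroup.normalizer (H : Set G))]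
    (hHL : H ≤ Subgroup.normalizer (H : Set G)) (hTI : Cfsg.IsTISubset (H : Set G))
    (hCG : ∀ h ∈ H, h ≠ 1 → Subgroup.centralizer ({h} : Set G) ≤ H)
    (hcop : Nat.Coprime (Nat.card H) (H.relIndex (Subgroup.normalizer (H : Set G)))) :
    ∀ χ : G → ℂ, IsIrrCharacter G χ → ∀ z : Subgroup.normalizer (H : Set G),
      z ∈ H.subgroupOf (Subgroup.normalizer (H : Set G)) →
      (∀ k ∈ H.subgroupOf (Subgroup.normalizer (H : Set G)), z * k = k * z) →
      z ≠ 1 → χ ((z : G)⁻¹) = χ (z : G) →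
      ∃ α : ℂ, IsIntegral ℤ α ∧
        ∑ x : Subgroup.normalizer (H : Set G),
          (χ ((x * z * x⁻¹ * z : Subgroup.normalizer (H : Set G)) : G) -
            χ ((x * z⁻¹ * x⁻¹ * z : Subgroup.normalizer (H : Set G)) : G)) =
          (Nat.card (H.subgroupOf (Subgroup.normalizer (H : Set G))) : ℂ) ^ 2 * α := by
  classical
  have hcardK : Nat.card (H.subgroupOf (Subgroup.normalizer (H : Set G))) = Nat.card H :=
    Nat.card_congr (Subgroup.subgroupOfEquivOfLe hHL).toEquiv
  intro χ hχ z hzK hzc hz1 hreal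
  have hzH : (z : G) ∈ H := hzK
  have hz1' : (z : G) ≠ 1 := fun e => hz1 (Subtype.ext e)
  have hzcG : ∀ h ∈ H, (z : G) * h = h * (z : G) := fun h hh => by
    have h1 := congrArg Subtype.val (hzc ⟨h, hHL hh⟩ hh)
    rw [Subgroup.coe_mul, Subgroup.coe_mul] at h1
    exact h1
  obtain ⟨α, hα, hsum⟩ := Cfsg.Agent.Helper25.TIHall.ti_hall_congruence H
    (Subgroup.normalizer (H : Set G)) hHL hTI rfl hcop χ hχ (z : G) hzH hzcG hz1' hreal
  have hB3a : ∑ x : Subgroup.normalizer (H : Set G),
      χ ((z : G) * ((x : G) * (z : G) * (x : G)⁻¹)) =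
      (Nat.card ↥(Subgroup.normalizer (H : Set G) ⊓ Subgroup.centralizer ({(z : G)} : Set G)) : ℂ)
        * ∑ y : G, if (∃ x ∈ Subgroup.normalizer (H : Set G), x * (z : G) * x⁻¹ = y) then
          χ ((z : G) * y) else 0 :=
    Cfsg.Agent.Helper83.SibleyAux.sum_conj_eq_card_mul (Subgroup.normalizer (H : Set G)) (z : G)
      (fun y => χ ((z : G) * y))
  have hB3b : ∑ x : Subgroup.normalizer (H : Set G),
      χ ((z : G) * ((x : G) * (z : G)⁻¹ * (x : G)⁻¹)) =
      (Nat.card ↥(Subgroup.normalizer (H : Set G) ⊓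
        Subgroup.centralizer ({(z : G)⁻¹} : Set G)) : ℂ)
        * ∑ y : G, if (∃ x ∈ Subgroup.normalizer (H : Set G), x * (z : G)⁻¹ * x⁻¹ = y) then
          χ ((z : G) * y) else 0 :=
    Cfsg.Agent.Helper83.SibleyAux.sum_conj_eq_card_mul (Subgroup.normalizer (H : Set G)) (z : G)⁻¹
      (fun y => χ ((z : G) * y))
  have hcz : Subgroup.normalizer (H : Set G) ⊓ Subgroup.centralizer ({(z : G)} : Set G) = H := by
    refine le_antisymm (fun x hx => hCG _ hzH hz1' hx.2)
      (fun h hh => Subgroup.mem_inf.mpr ⟨hHL hh, ?_⟩)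
    rw [Subgroup.mem_centralizer_iff]
    intro y hy
    rw [Set.mem_singleton_iff] at hy
    rw [hy]
    exact hzcG h hh
  have hczi : Subgroup.normalizer (H : Set G) ⊓ Subgroup.centralizer ({(z : G)⁻¹} : Set G) = H := by
    refine le_antisymm (fun x hx => hCG _ (H.inv_mem hzH) (by simpa using hz1') hx.2)
      (fun h hh => Subgroup.mem_inf.mpr ⟨hHL hh, ?_⟩)
    rw [Subgroup.mem_centralizer_iff]
    intro y hy
    rw [Set.mem_singleton_iff] at hy
    rw [hy]
    have := hzcG h hh
    calc (z : G)⁻¹ * h = (z : G)⁻¹ * (h * (z : G)) * (z : G)⁻¹ := by group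
      _ = (z : G)⁻¹ * ((z : G) * h) * (z : G)⁻¹ := by rw [this]
      _ = h * (z : G)⁻¹ := by group
  refine ⟨α, hα, ?_⟩
  have h1 : ∀ x : Subgroup.normalizer (H : Set G),
      χ ((x * z * x⁻¹ * z : Subgroup.normalizer (H : Set G)) : G) =
      χ ((z : G) * ((x : G) * (z : G) * (x : G)⁻¹)) := by
    intro x
    push_cast
    exact Cfsg.Agent.Helper79.irr_mul_comm ⟨χ, hχ⟩ _ _
  have h2 : ∀ x : Subgroup.normalizer (H : Set G),
      χ ((x * z⁻¹ * x⁻¹ * z : Subgroup.normalizer (H : Set G)) : G) =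
      χ ((z : G) * ((x : G) * (z : G)⁻¹ * (x : G)⁻¹)) := by
    intro x
    push_cast
    exact Cfsg.Agent.Helper79.irr_mul_comm ⟨χ, hχ⟩ _ _
  rw [Finset.sum_sub_distrib, Finset.sum_congr rfl (fun x _ => h1 x),
    Finset.sum_congr rfl (fun x _ => h2 x), hB3a, hB3b, hcz, hczi, hcardK, ← mul_sub, hsum]
  ring

/-- The Frobenius structure of the normalizer: a complement acting without fixed points. -/
theorem exists_frobenius_complement (H : Subgroup G)
    (hlt : H < Subgroup.normalizer (H : Set G))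
    (hCG : ∀ h ∈ H, h ≠ 1 → Subgroup.centralizer ({h} : Set G) ≤ H)
    (hcop : Nat.Coprime (Nat.card H) (H.relIndex (Subgroup.normalizer (H : Set G)))) :
    ∃ E : Subgroup (Subgroup.normalizer (H : Set G)),
      H.subgroupOf (Subgroup.normalizer (H : Set G)) ⊓ E = ⊥ ∧
      H.subgroupOf (Subgroup.normalizer (H : Set G)) ⊔ E = ⊤ ∧
      (∀ w ∈ E, w ≠ 1 → ∀ k ∈ H.subgroupOf (Subgroup.normalizer (H : Set G)),
        w * k = k * w → k = 1) ∧ E ≠ ⊥ := by
  haveI := normal_subgroupOf_normalizer H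
  have hcardK : Nat.card (H.subgroupOf (Subgroup.normalizer (H : Set G))) = Nat.card H :=
    Nat.card_congr (Subgroup.subgroupOfEquivOfLe hlt.le).toEquiv
  have hcop' : Nat.Coprime (Nat.card (H.subgroupOf (Subgroup.normalizer (H : Set G))))
      (H.subgroupOf (Subgroup.normalizer (H : Set G))).index := by
    rw [hcardK]
    exact hcop
  obtain ⟨E, hE⟩ := Subgroup.exists_right_complement'_of_coprime hcop'
  have hinf := hE.disjoint.eq_bot
  have hsup := hE.sup_eq_top
  have hC' := tifn_hC' H (Subgroup.normalizer (H : Set G)) hCG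
  refine ⟨E, hinf, hsup, ?_, ?_⟩
  · intro w hw hw1 k hk hwk
    by_contra hk1
    have h1 : w ∈ Subgroup.centralizer ({k} : Set (Subgroup.normalizer (H : Set G))) := by
      rw [Subgroup.mem_centralizer_iff]
      intro y hy
      rw [Set.mem_singleton_iff] at hy
      rw [hy]
      exact hwk.symm
    have h2 : w ∈ H.subgroupOf (Subgroup.normalizer (H : Set G)) ⊓ E := ⟨hC' k hk hk1 h1, hw⟩
    rw [hinf, Subgroup.mem_bot] at h2
    exact hw1 h2
  · intro hE1
    rw [hE1, sup_bot_eq] at hsup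
    apply hlt.ne
    apply le_antisymm hlt.le
    intro x hx
    have : (⟨x, hx⟩ : Subgroup.normalizer (H : Set G)) ∈
        H.subgroupOf (Subgroup.normalizer (H : Set G)) := by rw [hsup]; trivial
    exact this

/-- **Sibley's coherence theorem** in T.I.-Frobenius-normalizer form. -/
theorem sib_ti (H : Subgroup G) [Fintype ↥(Subgroup.normalizer (H : Set G))]
    (hodd : Odd (Nat.card ↥(Subgroup.normalizer (H : Set G)))) (hH1 : H ≠ ⊥)
    (hnil : Group.IsNilpotent H) (hTI : Cfsg.IsTISubset (H : Set G))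
    (hlt : H < Subgroup.normalizer (H : Set G))
    (hCG : ∀ h ∈ H, h ≠ 1 → Subgroup.centralizer ({h} : Set G) ≤ H)
    (hcop : Nat.Coprime (Nat.card H) (H.relIndex (Subgroup.normalizer (H : Set G)))) :
    Cfsg.IsCoherent (Cfsg.inducedIrrAbove (H.subgroupOf (Subgroup.normalizer (H : Set G))) ⊥)
      {1}ᶜ (fun α : ↥(Subgroup.normalizer (H : Set G)) → ℂ =>
        Cfsg.indFun (Subgroup.normalizer (H : Set G)) α) := by
  haveI := normal_subgroupOf_normalizer H
  haveI : Fintype (H.subgroupOf (Subgroup.normalizer (H : Set G))) := Fintype.ofFinite _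
  obtain ⟨E, hinf, hsup, hfpf, hE⟩ := exists_frobenius_complement H hlt hCG hcop
  have hK : H.subgroupOf (Subgroup.normalizer (H : Set G)) ≠ ⊥ := by
    intro h
    apply hH1
    rw [eq_bot_iff]
    intro w hw
    have h1 : (⟨w, hlt.le hw⟩ : Subgroup.normalizer (H : Set G)) ∈
        H.subgroupOf (Subgroup.normalizer (H : Set G)) := hw
    rw [h, Subgroup.mem_bot] at h1
    exact congrArg Subtype.val h1
  have hnil' : Group.IsNilpotent (H.subgroupOf (Subgroup.normalizer (H : Set G))) :=
    (Group.isNilpotent_congr (Subgroup.subgroupOfEquivOfLe hlt.le)).mpr hnil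
  have hind := tifn_hind H hTI hlt hCG
  exact sib_frobenius (Subgroup.normalizer (H : Set G))
    (H.subgroupOf (Subgroup.normalizer (H : Set G))) hind hodd E hinf hsup hfpf hE hK hnil'
    (hcongG_of_ti H hlt.le hTI hCG hcop)

end Cfsg.Agent.Helper82.SibTI
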