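import Mathlib
import Cfsg.Agent.Lib.Helper82.SibFrob
import Cfsg.Agent.Lib.Helper82.SibTI
import Cfsg.Agent.Lib.Helper78.InvSylow

/-!
# Coherence for T.I. Sylow subgroups with Frobenius normalizer: auxiliary results
-/

set_option autoImplicit false
set_option linter.unusedSectionVars false
set_option linter.unusedVariables false
set_option linter.style.haveILetI false

namespace Cfsg.Agent.Helper82.SibSylow

open Cfsg Cfsg.Agent.Helper81 Cfsg.Agent.Helper82
open scoped ComplexConjugate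

universe u

section abstractpart

variable {G : Type u} [Group G] [Fintype G] (L : Subgroup G) [Fintype L]
  (K : Subgroup L) [hKn : K.Normal] [Fintype K]
  (hC : ∀ k ∈ K, k ≠ 1 → Subgroup.centralizer ({k} : Set L) ≤ K)

include hC in
/-- Members of `sibS` are nontrivial on `K` (when `K` is proper). -/
theorem sibS_relevant (hKtop : K ≠ ⊤) {ξ : L → ℂ} (hξ : ξ ∈ sibS L K) :
    ∃ k ∈ K, ξ k ≠ ξ 1 := by
  classical
  by_contra hno
  push Not at hno
  have hirr := sibS_irr L K hC hξ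
  obtain ⟨θ, hθ, rfl⟩ := (mem_sibS L K ξ).mp hξ
  have hmem : (⟨_, hirr⟩ : IrrCharacter L) ∈ Finset.univ.filter
      (fun χ : IrrCharacter L => K ≤ Cfsg.Agent.Helper79.irrKer χ) :=
    Finset.mem_filter.mpr ⟨Finset.mem_univ _, fun z hz =>
      (Cfsg.Agent.Helper79.mem_irrKer _ z).2 (hno z hz)⟩
  have h1 := Finset.single_le_sum
    (f := fun χ : IrrCharacter L => (charDegree (χ : L → ℂ)) ^ 2)
    (fun _ _ => Nat.zero_le _) hmem
  rw [Cfsg.Agent.Helper79.sum_sq_degree_of_le_ker K] at h1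
  have h2 : charDegree (indFun K (θ : K → ℂ)) = K.index * charDegree (θ : K → ℂ) := by
    have h3 := (Cfsg.Agent.Helper79.irr_one_eq (⟨_, hirr⟩ : IrrCharacter L)).1
    have h4 := sibS_one L K θ
    have h5 : ((charDegree (indFun K (θ : K → ℂ)) : ℕ) : ℂ) =
        ((K.index * charDegree (θ : K → ℂ) : ℕ) : ℂ) := by
      rw [← h3]
      push_cast
      exact h4
    exact_mod_cast h5
  simp only at h1
  rw [h2] at h1
  have hd := (Cfsg.Agent.Helper79.irr_one_eq θ).2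
  have hidx : 0 < K.index := Nat.pos_of_ne_zero Subgroup.index_ne_zero_of_finite
  have hone : K.index = 1 := by
    have h6 : K.index * K.index ≤ K.index := by
      calc K.index * K.index = (K.index * 1) ^ 2 := by ring
        _ ≤ (K.index * charDegree (θ : K → ℂ)) ^ 2 :=
            Nat.pow_le_pow_left (Nat.mul_le_mul_left _ hd) 2
        _ ≤ K.index := h1
    nlinarith
  exact hKtop (Subgroup.index_eq_one.mp hone)

include hC in
/-- `sibS` is the set of irreducible characters of `L` that are nontrivial on `K`. -/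
theorem coe_sibS_eq_relevant (hKtop : K ≠ ⊤) :
    (↑(sibS L K) : Set (L → ℂ)) = {χ : L → ℂ | IsIrrCharacter L χ ∧ ∃ k ∈ K, χ k ≠ χ 1} := by
  ext ξ
  rw [Finset.mem_coe]
  constructor
  · intro hξ
    exact ⟨sibS_irr L K hC hξ, sibS_relevant L K hC hKtop hξ⟩
  · rintro ⟨hirr, hrel⟩
    obtain ⟨θ, hθ, hθ1, rfl⟩ := exists_indFun_eq_of_relevant K hC hirr hrel
    exact (mem_sibS L K _).mpr ⟨⟨θ, hθ⟩, hθ1, rfl⟩

include hC in
/-- The sum of the squares of the degrees over `sibS`. -/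
theorem sum_sq_sibS (hKtop : K ≠ ⊤) :
    ∑ ξ ∈ sibS L K, (K.index * sibA L K ξ) ^ 2 = Nat.card L - K.index := by
  classical
  rw [← Cfsg.Agent.Helper79.sum_sq_degree_of_not_le_ker K]
  have h1 := sum_irr_eq_sum_finset (sibS L K) (fun ξ hξ => sibS_irr L K hC hξ)
    (fun ξ : L → ℂ => if (∃ k ∈ K, ξ k ≠ ξ 1) then (charDegree ξ) ^ 2 else 0)
    (by
      intro ζ hζ
      rw [if_neg]
      intro hrel
      apply hζ
      have := coe_sibS_eq_relevant L K hC hKtop
      rw [← Finset.mem_coe, this]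
      exact ⟨ζ.2, hrel⟩)
  rw [Finset.sum_filter]
  have h2 : ∀ ζ : IrrCharacter L,
      (if ¬ K ≤ Cfsg.Agent.Helper79.irrKer ζ then (charDegree (ζ : L → ℂ)) ^ 2 else 0) =
      (if (∃ k ∈ K, (ζ : L → ℂ) k ≠ (ζ : L → ℂ) 1) then (charDegree (ζ : L → ℂ)) ^ 2 else 0) := by
    intro ζ
    by_cases h : ∃ k ∈ K, (ζ : L → ℂ) k ≠ (ζ : L → ℂ) 1
    · rw [if_pos h, if_pos ((not_le_irrKer_iff K ζ).mpr h)]
    · rw [if_neg h, if_neg (fun h' => h ((not_le_irrKer_iff K ζ).mp h'))]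
  rw [Finset.sum_congr rfl (fun ζ _ => h2 ζ), h1]
  refine Finset.sum_congr rfl fun ξ hξ => ?_
  rw [if_pos (sibS_relevant L K hC hKtop hξ)]
  obtain ⟨θ, hθ, rfl⟩ := (mem_sibS L K ξ).mp hξ
  rw [sibA_indFun]
  have hirr := sibS_irr L K hC ((mem_sibS L K _).mpr ⟨θ, hθ, rfl⟩)
  have h3 := (Cfsg.Agent.Helper79.irr_one_eq (⟨_, hirr⟩ : IrrCharacter L)).1
  have h4 := sibS_one L K θ
  have h5 : ((charDegree (indFun K (θ : K → ℂ)) : ℕ) : ℂ) =
      ((K.index * charDegree (θ : K → ℂ) : ℕ) : ℂ) := by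
    rw [← h3]
    push_cast
    exact h4
  have h6 : charDegree (indFun K (θ : K → ℂ)) = K.index * charDegree (θ : K → ℂ) := by
    exact_mod_cast h5
  rw [h6]

variable (hind : ∀ ϑ : L → ℂ, IsClassFunction L ϑ → (∀ x : L, x ∉ K → ϑ x = 0) → ϑ 1 = 0 →
    ∀ x : L, Cfsg.indFun L ϑ x = ϑ x)

include hC hind in
/-- The anchor (without the compatibility with complex conjugation). -/
theorem sib_anchor_noconj (θ₀ : IrrCharacter K) (hθ₀ : (θ₀ : K → ℂ) ≠ fun _ => 1)
    (hθ₀1 : (θ₀ : K → ℂ) 1 = 1) :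
    ∃ Ψ : G → ℂ, IsAnchor (sibS L K) (fun α : L → ℂ => indFun L α) (sibA L K)
        (indFun K (θ₀ : K → ℂ)) Ψ := by
  classical
  have hS := sib_setup L K hC hind θ₀ hθ₀ hθ₀1
  obtain ⟨ψ₀, hψ₀def⟩ : ∃ ψ₀ : L → ℂ, ψ₀ = indFun K (θ₀ : K → ℂ) := ⟨_, rfl⟩
  rw [← hψ₀def] at hS ⊢
  have hmemD : ∀ i j : {ψ : L → ℂ // ψ ∈ sibS L K ∧ sibA L K ψ = 1},
      i.1 - j.1 ∈ Cfsg.zspanOn (↑(sibS L K) : Set (L → ℂ)) {1}ᶜ := by
    intro i j
    refine mem_zspanOn_compl_one.mpr ⟨zspan_sub_mem (subset_zspan (Finset.mem_coe.mpr i.2.1))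
      (subset_zspan (Finset.mem_coe.mpr j.2.1)), ?_⟩
    rw [Pi.sub_apply, hS.deg _ i.2.1, hS.deg _ j.2.1, i.2.2, j.2.2, sub_self]
  have hinn : ∀ i j k l : {ψ : L → ℂ // ψ ∈ sibS L K ∧ sibA L K ψ = 1},
      classInner (indFun L (i.1 - j.1)) (indFun L (k.1 - l.1)) =
        classInner (i.1 - j.1) (k.1 - l.1) :=
    fun i j k l => hS.iso _ (hmemD i j) _ (hmemD k l)
  have horth : ∀ i j : {ψ : L → ℂ // ψ ∈ sibS L K ∧ sibA L K ψ = 1},
      classInner i.1 j.1 = if i = j then 1 else 0 := by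
    intro i j
    rw [irr_orthonormal (hS.irr _ i.2.1) (hS.irr _ j.2.1)]
    by_cases h : i = j
    · rw [if_pos h, if_pos (congrArg Subtype.val h)]
    · rw [if_neg h, if_neg (fun h' => h (Subtype.ext h'))]
  obtain ⟨ε, f, hε, hfinj, hD⟩ := brauer_suzuki
    (fun i j : {ψ : L → ℂ // ψ ∈ sibS L K ∧ sibA L K ψ = 1} => indFun L (i.1 - j.1))
    (by
      intro i j k
      show indFun L (i.1 - k.1) = indFun L (i.1 - j.1) + indFun L (j.1 - k.1)
      rw [← indFun_add]
      congr 1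
      abel)
    (by
      intro i j h
      show classInner (indFun L (i.1 - j.1)) (indFun L (i.1 - j.1)) = 2
      rw [hinn, classInner_sub_left, classInner_sub_right, classInner_sub_right, horth, horth,
        horth, horth, if_pos rfl, if_pos rfl, if_neg h, if_neg (Ne.symm h)]
      norm_num)
    (by
      intro i j k h1 h2 h3
      show classInner (indFun L (i.1 - j.1)) (indFun L (i.1 - k.1)) = 1
      rw [hinn, classInner_sub_left, classInner_sub_right, classInner_sub_right, horth, horth,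
        horth, horth, if_pos rfl, if_neg h2, if_neg (Ne.symm h1), if_neg h3]
      norm_num)
    (fun i j => hS.gen _ (hmemD i j))
    (by
      intro i j
      obtain ⟨hs, h1⟩ := mem_zspanOn_compl_one.mp (hmemD i j)
      obtain ⟨hcl, hvan, _⟩ := sibS_span_props L K hC hs
      have := hind _ hcl hvan h1 1
      rw [h1] at this
      exact this)
  have hD' : ∀ i j : {ψ : L → ℂ // ψ ∈ sibS L K ∧ sibA L K ψ = 1},
      indFun L (i.1 - j.1) = ε • ((f i : G → ℂ) - (f j : G → ℂ)) := hD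
  have hεconj : conj ε = ε := by
    rcases hε with h | h <;> rw [h] <;> simp
  have hεsq : ε * ε = 1 := by
    rcases hε with h | h <;> rw [h] <;> norm_num
  have hfne : ∀ i j : {ψ : L → ℂ // ψ ∈ sibS L K ∧ sibA L K ψ = 1}, i ≠ j →
      (f i : G → ℂ) ≠ (f j : G → ℂ) := fun i j h h' => h (hfinj (Subtype.ext h'))
  obtain ⟨i₀, hi₀⟩ : ∃ i₀ : {ψ : L → ℂ // ψ ∈ sibS L K ∧ sibA L K ψ = 1}, i₀.1 = ψ₀ :=
    ⟨⟨ψ₀, hS.hψ₀, hS.hψ₀a⟩, rfl⟩
  refine ⟨ε • (f i₀ : G → ℂ), ⟨?_, ?_, ?_⟩⟩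
  · rcases hε with h | h
    · rw [h, one_smul]
      exact isGeneralizedCharacter_of_isCharacter (IsIrrCharacter.isCharacter (f i₀).2)
    · rw [h, neg_one_smul]
      exact isGeneralizedCharacter_neg
        (isGeneralizedCharacter_of_isCharacter (IsIrrCharacter.isCharacter (f i₀).2))
  · rw [classInner_smul_left, classInner_smul_right, irr_orthonormal (f i₀).2 (f i₀).2,
      if_pos rfl, hεconj, mul_one, hεsq]
  · intro ψ hψ ha hne0
    obtain ⟨i, hi⟩ : ∃ i : {ψ : L → ℂ // ψ ∈ sibS L K ∧ sibA L K ψ = 1}, i.1 = ψ :=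
      ⟨⟨ψ, hψ, ha⟩, rfl⟩
    have hii₀ : i ≠ i₀ := by
      intro h
      apply hne0
      rw [← hi, ← hi₀, h]
    show classInner (indFun L (ψ - ψ₀)) (ε • (f i₀ : G → ℂ)) = -1
    rw [← hi, ← hi₀, hD' i i₀, classInner_smul_left, classInner_smul_right, classInner_sub_left,
      irr_orthonormal (f i).2 (f i₀).2, irr_orthonormal (f i₀).2 (f i₀).2, if_pos rfl,
      if_neg (hfne i i₀ hii₀), hεconj]
    linear_combination (-1 : ℂ) * hεsq

theorem sibA_eq_one_of_abelian (hab : ∀ a b : K, a * b = b * a) {ξ : L → ℂ}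
    (hξ : ξ ∈ sibS L K) : sibA L K ξ = 1 := by
  obtain ⟨θ, hθ, rfl⟩ := (mem_sibS L K ξ).mp hξ
  rw [sibA_indFun]
  obtain ⟨lam, hlam⟩ := Cfsg.Agent.Helper3.irr_abelian_hom hab (θ : K → ℂ) θ.2
  have h1 : (θ : K → ℂ) 1 = 1 := by rw [hlam]; simp
  have h2 := (Cfsg.Agent.Helper79.irr_one_eq θ).1
  rw [h1] at h2
  exact_mod_cast h2.symm

include hC hind in
/-- With `K` abelian and at least two members, `sibS` is coherent. -/
theorem coherent_of_abelian (hab : ∀ a b : K, a * b = b * a) (hK : K ≠ ⊥)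
    (hcard : 2 ≤ (sibS L K).card) :
    Cfsg.IsCoherent (↑(sibS L K) : Set (L → ℂ)) {1}ᶜ (fun α : L → ℂ => indFun L α) := by
  classical
  have hsolv : Group.IsSolvable K := Group.isSolvable_of_comm hab
  have hAK : (⊥ : Subgroup L) < K := bot_lt_iff_ne_bot.mpr hK
  obtain ⟨θ₀, hθ₀, -, hθ₀1⟩ := exists_linear_above K (⊥ : Subgroup L) hsolv hAK
  have hS := sib_setup L K hC hind θ₀ hθ₀ hθ₀1
  obtain ⟨Ψ, hA⟩ := sib_anchor_noconj L K hC hind θ₀ hθ₀ hθ₀1
  obtain ⟨ξ₁, hξ₁, ξ₂, hξ₂, hne⟩ := Finset.one_lt_card.mp hcard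
  have hnz : ∃ α ∈ Cfsg.zspanOn (↑(sibS L K) : Set (L → ℂ)) {1}ᶜ, α ≠ 0 := by
    refine ⟨ξ₁ - ξ₂, mem_zspanOn_compl_one.mpr ⟨zspan_sub_mem
      (subset_zspan (Finset.mem_coe.mpr hξ₁)) (subset_zspan (Finset.mem_coe.mpr hξ₂)), ?_⟩,
      fun h => hne (sub_eq_zero.mp h)⟩
    rw [Pi.sub_apply, hS.deg _ hξ₁, hS.deg _ hξ₂, sibA_eq_one_of_abelian L K hab hξ₁,
      sibA_eq_one_of_abelian L K hab hξ₂, sub_self]
  exact hS.coherent_of_y_zero hA hnz
    (fun ξ hξ => hS.sibY_x1 hA hξ (sibA_eq_one_of_abelian L K hab hξ))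

include hC in
theorem card_of_abelian_single (hab : ∀ a b : K, a * b = b * a) (hKtop : K ≠ ⊤)
    (hcard : (sibS L K).card = 1) : Nat.card K = K.index + 1 := by
  have h1 := sum_sq_sibS L K hC hKtop
  have h2 : ∑ ξ ∈ sibS L K, (K.index * sibA L K ξ) ^ 2 = K.index ^ 2 := by
    rw [Finset.sum_congr rfl (fun ξ hξ => by rw [sibA_eq_one_of_abelian L K hab hξ, mul_one] :
      ∀ ξ ∈ sibS L K, (K.index * sibA L K ξ) ^ 2 = K.index ^ 2)]
    rw [Finset.sum_const, hcard, one_smul]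
  rw [h2] at h1
  have h3 : K.index * Nat.card K = Nat.card L := Subgroup.index_mul_card K
  have hidx : 0 < K.index := Nat.pos_of_ne_zero Subgroup.index_ne_zero_of_finite
  have hK1 : 1 ≤ Nat.card K := Nat.card_pos
  rw [← h3] at h1
  have h4 : K.index * (K.index + 1) = K.index * Nat.card K := by
    have h5 : K.index ≤ K.index * Nat.card K := Nat.le_mul_of_pos_right _ hK1
    have h6 : K.index ^ 2 + K.index = K.index * Nat.card K := by omega
    rw [← h6]
    ring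
  exact (Nat.eq_of_mul_eq_mul_left hidx h4).symm

include hC in
theorem elementary_of_card (p : ℕ) [Fact p.Prime] (hab : ∀ a b : K, a * b = b * a)
    (hpK : IsPGroup p K) (hK : K ≠ ⊥) (hcardK : Nat.card K = K.index + 1) :
    ∀ k ∈ K, k ^ p = 1 := by
  classical
  have hcomm : ∀ x ∈ K, ∀ y ∈ K, x * y = y * x := fun x hx y hy =>
    congrArg Subtype.val (hab ⟨x, hx⟩ ⟨y, hy⟩)
  let Ω : Subgroup L :=
    { carrier := {x | x ∈ K ∧ x ^ p = 1}
      mul_mem' := by
        rintro x y ⟨hx, hxp⟩ ⟨hy, hyp⟩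
        refine ⟨K.mul_mem hx hy, ?_⟩
        have hc : Commute x y := hcomm x hx y hy
        rw [hc.mul_pow, hxp, hyp, one_mul]
      one_mem' := ⟨K.one_mem, one_pow _⟩
      inv_mem' := by
        rintro x ⟨hx, hxp⟩
        exact ⟨K.inv_mem hx, by rw [inv_pow, hxp, inv_one]⟩ }
  have hΩK : Ω ≤ K := fun x hx => hx.1
  haveI : Ω.Normal := ⟨by
    rintro x ⟨hx, hxp⟩ g
    refine ⟨hKn.conj_mem x hx g, ?_⟩
    rw [conj_pow, hxp, mul_one, mul_inv_cancel]⟩
  have hΩne : Ω ≠ ⊥ := by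
    haveI : Nontrivial K := (Subgroup.nontrivial_iff_ne_bot K).mpr hK
    obtain ⟨n, hn⟩ := IsPGroup.iff_card.mp hpK
    have hn0 : n ≠ 0 := by
      intro h0
      rw [h0, pow_zero] at hn
      have : 1 < Nat.card K := Finite.one_lt_card
      omega
    have hdvd : p ∣ Nat.card K := by
      rw [hn]
      exact dvd_pow_self p hn0
    obtain ⟨x, hx⟩ := exists_prime_orderOf_dvd_card' p hdvd
    intro hbot
    have hxΩ : (x : L) ∈ Ω := ⟨x.2, by
      have := pow_orderOf_eq_one x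
      rw [hx] at this
      exact_mod_cast congrArg Subtype.val this⟩
    rw [hbot, Subgroup.mem_bot] at hxΩ
    have hx1 : x = 1 := Subtype.ext hxΩ
    rw [hx1, orderOf_one] at hx
    exact (Fact.out : p.Prime).one_lt.ne hx
  have h1 := Cfsg.Agent.Helper83.FrobAbs.frob_index_lt_card K hC Ω hΩK hΩne
  have h2 : Nat.card Ω ≤ Nat.card K := Subgroup.card_le_of_le hΩK
  have h3 : Ω = K := Subgroup.eq_of_le_of_card_ge hΩK (by omega)
  intro k hk
  have : k ∈ Ω := by rw [h3]; exact hk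
  exact this.2

end abstractpart

section sylowpart

variable {G : Type u} [Group G] [Fintype G]

theorem sylow_coprime (p : ℕ) [Fact p.Prime] (P : Sylow p G)
    (hle : (P : Subgroup G) ≤ Subgroup.normalizer ((P : Subgroup G) : Set G)) :
    Nat.Coprime (Nat.card (P : Subgroup G))
      ((P : Subgroup G).relIndex (Subgroup.normalizer ((P : Subgroup G) : Set G))) := by
  obtain ⟨n, hn⟩ := IsPGroup.iff_card.mp P.isPGroup'
  rw [hn]
  apply Nat.Coprime.pow_left
  rw [Nat.Prime.coprime_iff_not_dvd (Fact.out : p.Prime)]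
  intro hdvd
  exact P.not_dvd_index (dvd_trans hdvd (Subgroup.relIndex_dvd_index_of_le hle))

/-- Either the normalizer has odd order or `P` is abelian. -/
theorem odd_or_comm (p : ℕ) [Fact p.Prime] (hp : p ≠ 2) (P : Sylow p G)
    (hC : ∀ k ∈ (P : Subgroup G), k ≠ 1 → Subgroup.centralizer ({k} : Set G) ≤ (P : Subgroup G)) :
    Odd (Nat.card ↥(Subgroup.normalizer ((P : Subgroup G) : Set G))) ∨
      ∀ a ∈ (P : Subgroup G), ∀ b ∈ (P : Subgroup G), a * b = b * a := by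
  by_cases hodd : Odd (Nat.card ↥(Subgroup.normalizer ((P : Subgroup G) : Set G)))
  · exact Or.inl hodd
  right
  have heven : 2 ∣ Nat.card ↥(Subgroup.normalizer ((P : Subgroup G) : Set G)) :=
    even_iff_two_dvd.mp (Nat.not_odd_iff_even.mp hodd)
  haveI : Fact (Nat.Prime 2) := ⟨Nat.prime_two⟩
  obtain ⟨t, ht⟩ := exists_prime_orderOf_dvd_card' 2 heven
  have ht2 : (t : G) * (t : G) = 1 := by
    have h1 := pow_orderOf_eq_one t
    rw [ht, pow_two] at h1
    exact_mod_cast congrArg Subtype.val h1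
  have ht1 : (t : G) ≠ 1 := by
    intro h
    have h1 : t = 1 := Subtype.ext h
    rw [h1, orderOf_one] at ht
    norm_num at ht
  have hnorm : ∀ y ∈ (P : Subgroup G), (t : G) * y * (t : G)⁻¹ ∈ (P : Subgroup G) :=
    fun y hy => (Subgroup.mem_set_normalizer_iff.mp t.2 y).mp hy
  have hfpf : ∀ y ∈ (P : Subgroup G), (t : G) * y * (t : G)⁻¹ = y → y = 1 := by
    intro y hy hty
    by_contra hy1
    have htc : (t : G) ∈ Subgroup.centralizer ({y} : Set G) := by
      rw [Subgroup.mem_centralizer_iff]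
      intro z hz
      rw [Set.mem_singleton_iff] at hz
      rw [hz]
      calc y * (t : G) = ((t : G) * y * (t : G)⁻¹) * (t : G) := by rw [hty]
        _ = (t : G) * y := by group
    have htP : (t : G) ∈ (P : Subgroup G) := hC y hy hy1 htc
    obtain ⟨k, hk⟩ := (P.isPGroup' ⟨(t : G), htP⟩)
    have hk' : (t : G) ^ p ^ k = 1 := by
      have h0 := congrArg Subtype.val hk
      rw [Subgroup.coe_pow, Subgroup.coe_one] at h0
      exact h0
    have hord : orderOf (t : G) = 2 := by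
      rw [Subgroup.orderOf_coe]
      exact ht
    have hdvd : 2 ∣ p ^ k := by
      rw [← hord]
      exact orderOf_dvd_of_pow_eq_one hk'
    have h2p : 2 ∣ p := Nat.Prime.dvd_of_dvd_pow Nat.prime_two hdvd
    exact hp ((Nat.prime_dvd_prime_iff_eq Nat.prime_two (Fact.out : p.Prime)).mp h2p).symm
  have hinv := Cfsg.Agent.Helper78.inverts_of_fpf (P : Subgroup G) (t : G) ht2 hnorm hfpf
  intro a ha b hb
  have h1 := hinv (a * b) ((P : Subgroup G).mul_mem ha hb)
  have h2 := hinv a ha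
  have h3 := hinv b hb
  have h4 : (t : G) * (a * b) * (t : G)⁻¹ = ((t : G) * a * (t : G)⁻¹) * ((t : G) * b * (t : G)⁻¹) := by
    group
  rw [h4, h2, h3, mul_inv_rev] at h1
  have h5 := congrArg (fun x => x⁻¹) h1
  simp only [mul_inv_rev, inv_inv] at h5
  exact h5.symm

end sylowpart

end Cfsg.Agent.Helper82.SibSylow
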