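import Mathlib
import Cfsg.Agent.Lib.Helper82.BG1215b
import Cfsg.Agent.Lib.Helper55.BGCyclic
import Cfsg.Agent.Lib.Helper34.BG10d

/-!
# Bender–Glauberman Corollary 12.15 (first part): the two cases of Lemma 12.14(c)
-/

set_option autoImplicit false
open Pointwise

namespace Cfsg.Agent.Helper82.BG1215

open Subgroup Cfsg
open Cfsg.Agent.Helper33 (map_conj_eq_smul mem_conj_smul conj_mem_conj_smul conj_smul_le_iff
  mem_normalizer_iff_smul_eq smul_eq_of_mem_normalizer card_conj_smul conj_smul_le_conj_smul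
  IsSylIn isSylIn_of_sylow exists_isSylIn_ge exists_isSylIn conj_inv_smul_smul conj_mul_smul
  normalizer_conj_smul relIndex_conj_smul isPGroup_conj_smul)
open Cfsg.Agent.Helper34.BG
open Cfsg.Agent.Helper55.BGB (le_sigmaCore_of_isPGroup le_normalizer_sigmaCore sigmaCore_le
  isPi_sigmaCore le_normalizer_map_subtype)

variable {G : Type*} [Group G]

/-- Case `q ∉ σ(M*)` of B–G Lemma 12.14(c): `M* = M*_σ (M ∩ M*)` and `σ(M) ∩ σ(M*) = ∅`. -/
theorem caseA [Finite G] (hG : IsMinSimpleOddOrder G) (hU : UniqHyp G) (h1350 : H1350 G)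
    (h1417 : H1417 G) (h1420 : H1420 G)
    {M Mstar : Subgroup G} (hM : IsCoatom M) (hMs : IsCoatom Mstar) (hne : Mstar ≠ M)
    {q : ℕ} [hq : Fact q.Prime] (hqM : q ∈ sigma M) (hqs : q ∉ sigma Mstar)
    {Sg : Subgroup G} (hS : IsSylIn q Sg Mstar) (hSM : Sg ≤ M) (hScyc : ¬ IsCyclic Sg)
    (hconj : ∀ g : G, Mstar ≠ M.map (MulAut.conj g).toMonoidHom) :
    (∀ m ∈ Mstar, ∃ b ∈ sigmaCore Mstar, ∃ c ∈ M ⊓ Mstar, m = b * c) ∧
      (∀ r : ℕ, r.Prime → r ∈ sigma M → r ∉ sigma Mstar) := by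
  classical
  have hSne : Sg ≠ ⊥ := by
    rintro rfl
    exact hScyc inferInstance
  have hqdvd : q ∣ Nat.card Mstar := by
    obtain ⟨k, hk⟩ := hS.2.1.exists_card_eq
    have hk0 : k ≠ 0 := by
      rintro rfl
      rw [pow_zero] at hk
      exact hSne (Subgroup.eq_bot_of_card_eq _ hk)
    have h1 : q ∣ Nat.card Sg := by rw [hk]; exact dvd_pow_self q hk0
    exact h1.trans (Subgroup.card_dvd_of_le hS.1)
  have hq2 : q ≠ 2 := prime_ne_two hG Mstar hqdvd
  have hr2 : PRankLE q 2 Mstar := by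
    by_contra h
    exact hqs (alpha_subset_sigma hG hU hMs ⟨hq.out, h⟩)
  have hr1S : ¬ PRankLE q 1 Sg := fun h => hScyc (isCyclic_of_pRankLE_one hq2 hS.2.1 h)
  have hr1 : ¬ PRankLE q 1 Mstar := fun h => hr1S (pRankLE_mono hS.1 h)
  have hτ : q ∈ tau2 Mstar := ⟨hq.out, hqs, hr2, hr1⟩
  obtain ⟨A1, hA1S, hA1e, hA1c⟩ := exists_elemAb_of_not_pRankLE hr1S
  obtain ⟨A0, hA0A1, hA0e, hA0c⟩ := exists_elemAb_card_eq hA1e hA1c
  have hA0c' : Nat.card A0 = q ^ 2 := by simpa using hA0c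
  have hA0S : A0 ≤ Sg := hA0A1.trans hA1S
  obtain ⟨hnil, hb, hc, he⟩ := h1417 Mstar hMs q hτ A0 ⟨hA0S.trans hS.1, hA0e, hA0c'⟩
  have hP : ((hS.toSylow : Sylow q Mstar) : Subgroup Mstar).map Mstar.subtype = Sg := by
    rw [hS.coe_toSylow]
    exact Subgroup.map_subgroupOf_eq_of_le hS.1
  have hΩ : ∀ x ∈ Sg, x ^ q = 1 ↔ x ∈ A0 := by
    have := hb hS.toSylow (by rw [hP]; exact hA0S)
    rwa [hP] at this
  have hNA : normalizer (A0 : Set G) ≤ M :=
    h1420 M hM q A0 hqM (isElementaryAbelian_isPGroup hA0e) (hA0S.trans hSM)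
      (not_isCyclic_of_elemAb hA0e hA0c')
  constructor
  · intro m hm
    have hNn : Mstar ≤ normalizer ((sigmaCore Mstar : Subgroup G) : Set G) :=
      le_normalizer_sigmaCore Mstar
    have hK' : Sg ⊔ sigmaCore Mstar ≤ Mstar := sup_le hS.1 (sigmaCore_le Mstar)
    have hSK : IsSylIn q Sg (Sg ⊔ sigmaCore Mstar) := hS.of_le le_sup_left hK'
    have h1 : MulAut.conj m • A0 ≤ Sg ⊔ sigmaCore Mstar := by
      have hmn : MulAut.conj m • (sigmaCore Mstar ⊔ A0) = sigmaCore Mstar ⊔ A0 :=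
        smul_eq_of_mem_normalizer (hc hm)
      calc MulAut.conj m • A0 ≤ MulAut.conj m • (sigmaCore Mstar ⊔ A0) :=
            conj_smul_le_conj_smul le_sup_right
        _ = sigmaCore Mstar ⊔ A0 := hmn
        _ ≤ Sg ⊔ sigmaCore Mstar := sup_le le_sup_right (hA0S.trans le_sup_left)
    obtain ⟨x, hx, hxle⟩ := hSK.exists_conj_le
      (isPGroup_conj_smul (isElementaryAbelian_isPGroup hA0e)) h1
    have h2 : MulAut.conj (x * m) • A0 ≤ A0 := by
      rw [conj_mul_smul]
      intro y hy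
      have hyS := hxle hy
      have hye : IsElementaryAbelian q (MulAut.conj x • MulAut.conj m • A0) :=
        isElementaryAbelian_conj (isElementaryAbelian_conj hA0e m) x
      exact (hΩ y hyS).mp (hye.2 y hy)
    have h3 : MulAut.conj (x * m) • A0 = A0 :=
      Subgroup.eq_of_le_of_card_ge h2 (by rw [card_conj_smul])
    have hxm : x * m ∈ normalizer (A0 : Set G) := mem_normalizer_iff_smul_eq.mpr h3
    have hxmM : x * m ∈ M := hNA hxm
    have hxMs : x ∈ Mstar := hK' hx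
    have hxdec : ∃ t ∈ Sg, ∃ s ∈ sigmaCore Mstar, x = t * s := by
      have hcoe := Subgroup.coe_mul_of_left_le_normalizer_right Sg (sigmaCore Mstar)
        (hS.1.trans hNn)
      have hx' : x ∈ ((Sg ⊔ sigmaCore Mstar : Subgroup G) : Set G) := hx
      rw [hcoe] at hx'
      obtain ⟨t, ht, s, hs, rfl⟩ := Set.mem_mul.mp hx'
      exact ⟨t, ht, s, hs, rfl⟩
    obtain ⟨t, ht, s, hs, rfl⟩ := hxdec
    refine ⟨s⁻¹, (sigmaCore Mstar).inv_mem hs, t⁻¹ * (t * s * m), ⟨?_, ?_⟩, by group⟩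
    · exact M.mul_mem (M.inv_mem (hSM ht)) hxmM
    · exact Mstar.mul_mem (Mstar.inv_mem (hS.1 ht)) (Mstar.mul_mem hxMs hm)
  · intro r hr hrM hrMs
    have := Fact.mk hr
    obtain ⟨hHs, hHsG⟩ := h1350 Mstar hMs
    obtain ⟨hH, hHG⟩ := h1350 M hM
    obtain ⟨T, hT⟩ := exists_isSylIn (p := r) (sigmaCore Mstar)
    have hTn : Mstar ≤ normalizer (T : Set G) :=
      le_normalizer_sylow_of_nilpotent hnil (le_normalizer_sigmaCore Mstar) hT
    have hTMs : IsSylIn r T Mstar := by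
      refine ⟨hT.1.trans (sigmaCore_le _), hT.2.1, fun hd => ?_⟩
      rw [← relIndex_mul_relIndex T (sigmaCore Mstar) Mstar hT.1 (sigmaCore_le _)] at hd
      rcases (Nat.Prime.dvd_mul hr).mp hd with h | h
      · exact hT.2.2 h
      · exact hHs.2.2 r hr hrMs h
    have hTtop : IsSylIn r T ⊤ := isSylIn_top_of_sigma hHs hHsG hrMs hTMs
    obtain ⟨-, -, P, hP⟩ := id hrM
    have hR : IsSylIn r ((P : Subgroup M).map M.subtype) M := isSylIn_of_sylow M P
    have hRtop := isSylIn_top_of_sigma hH hHG hrM hR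
    obtain ⟨x, -, hx⟩ := hRtop.exists_conj_eq hTtop
    have hle : MulAut.conj x • Mstar ≤ M := by
      calc MulAut.conj x • Mstar ≤ MulAut.conj x • normalizer (T : Set G) :=
            conj_smul_le_conj_smul hTn
        _ = normalizer ((MulAut.conj x • T : Subgroup G) : Set G) := (normalizer_conj_smul x T).symm
        _ = normalizer (((P : Subgroup M).map M.subtype : Subgroup G) : Set G) := by rw [hx]
        _ ≤ M := hP
    have heq : M = MulAut.conj x • Mstar := by
      rcases (isCoatom_conj hMs x).le_iff.mp hle with h | h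
      · exact absurd h hM.1
      · exact h
    apply hconj x⁻¹
    rw [map_conj_eq_smul, heq, conj_inv_smul_smul]

/-- Case `q ∈ σ(M*)` of B–G Lemma 12.14(c): `M* = M*_β (M ∩ M*)` and `σ(M) ∩ β(M*) = ∅`. -/
theorem caseB [Finite G] (hG : IsMinSimpleOddOrder G) (hU : UniqHyp G) (h1350 : H1350 G)
    (h1414 : H1414 G)
    {M Mstar : Subgroup G} (hM : IsCoatom M) (hMs : IsCoatom Mstar) (hne : Mstar ≠ M)
    {q : ℕ} [hq : Fact q.Prime] (hqs : q ∈ sigma Mstar)
    {Sg : Subgroup G} (hS : IsSylIn q Sg Mstar) (hSM : Sg ≤ M)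
    (hNS : normalizer (Sg : Set G) ≤ M)
    (hconj : ∀ g : G, Mstar ≠ M.map (MulAut.conj g).toMonoidHom) :
    (∀ m ∈ Mstar, ∃ b ∈ piCoreOf (beta Mstar) Mstar, ∃ c ∈ M ⊓ Mstar, m = b * c) ∧
      (∀ r : ℕ, r.Prime → r ∈ sigma M → r ∉ beta Mstar) := by
  classical
  obtain ⟨hHs, hHsG⟩ := h1350 Mstar hMs
  obtain ⟨hH, hHG⟩ := h1350 M hM
  obtain ⟨hBhall, H, hHhall, hHnil⟩ := h1414 Mstar hMs
  constructor
  · have hr2 : PRankLE q 2 Mstar := by
      by_contra h
      have hu := uniq_of_rank3_sylow hU hMs hS h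
      exact hne (uniq_eq_of_le hu hM hSM hMs hS.1)
    have hqβ : q ∉ beta Mstar := fun h => h.1.2 hr2
    have hSN : Sg ≤ sigmaCore Mstar := le_sigmaCore_of_isPGroup hq.out hHs hqs hS.1 hS.2.1
    have hSN' : IsSylIn q Sg (sigmaCore Mstar) := hS.of_le hSN (sigmaCore_le _)
    obtain ⟨T, hT⟩ := exists_isSylIn (p := q) H
    have hHN : H ≤ sigmaCore Mstar := hHhall.1
    have hTN : IsSylIn q T (sigmaCore Mstar) := by
      refine ⟨hT.1.trans hHN, hT.2.1, fun hd => ?_⟩
      rw [← relIndex_mul_relIndex T H (sigmaCore Mstar) hT.1 hHN] at hd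
      rcases (Nat.Prime.dvd_mul hq.out).mp hd with h | h
      · exact hT.2.2 h
      · exact hHhall.2.2 q hq.out ⟨hq.out, hqβ⟩ h
    obtain ⟨x, hxN, hxe⟩ := hSN'.exists_conj_eq hTN
    have hHT : H ≤ normalizer (T : Set G) := le_normalizer_of_isSylIn_nilpotent hHnil hT
    have hDM : MulAut.conj x • H ≤ M := by
      calc MulAut.conj x • H ≤ MulAut.conj x • normalizer (T : Set G) :=
            conj_smul_le_conj_smul hHT
        _ = normalizer ((MulAut.conj x • T : Subgroup G) : Set G) := (normalizer_conj_smul x T).symm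
        _ = normalizer (Sg : Set G) := by rw [hxe]
        _ ≤ M := hNS
    have hDN : MulAut.conj x • H ≤ sigmaCore Mstar := by
      calc MulAut.conj x • H ≤ MulAut.conj x • sigmaCore Mstar := conj_smul_le_conj_smul hHN
        _ = sigmaCore Mstar := Cfsg.Agent.Helper33.conj_smul_eq_self_of_mem hxN
    have hBMs : piCoreOf (beta Mstar) Mstar ≤ Mstar := hBhall.1
    have hBn : Mstar ≤ normalizer ((piCoreOf (beta Mstar) Mstar : Subgroup G) : Set G) := by
      unfold piCoreOf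
      exact le_normalizer_map_subtype Mstar (piCore (beta Mstar) Mstar)
    have hBN : piCoreOf (beta Mstar) Mstar ≤ sigmaCore Mstar :=
      le_sigmaCore_of_pi hHs hBMs
        (fun p hp hpd => alpha_subset_sigma hG hU hMs (hBhall.2.1 p hp hpd).1)
    have hNle : sigmaCore Mstar ≤ MulAut.conj x • H ⊔ piCoreOf (beta Mstar) Mstar := by
      rw [← relIndex_eq_one]
      by_contra hne1
      obtain ⟨r, hr, hrd⟩ := Nat.exists_prime_and_dvd hne1
      by_cases hrβ : r ∈ beta Mstar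
      · have h1 : (MulAut.conj x • H ⊔ piCoreOf (beta Mstar) Mstar).relIndex (sigmaCore Mstar) ∣
            (piCoreOf (beta Mstar) Mstar).relIndex (sigmaCore Mstar) :=
          relIndex_dvd_of_le_left (sigmaCore Mstar) le_sup_right
        have h2 : (piCoreOf (beta Mstar) Mstar).relIndex (sigmaCore Mstar) ∣
            (piCoreOf (beta Mstar) Mstar).relIndex Mstar := by
          rw [← relIndex_mul_relIndex (piCoreOf (beta Mstar) Mstar) (sigmaCore Mstar) Mstar hBN
            (sigmaCore_le _)]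
          exact dvd_mul_right _ _
        exact hBhall.2.2 r hr hrβ (hrd.trans (h1.trans h2))
      · have h1 : (MulAut.conj x • H ⊔ piCoreOf (beta Mstar) Mstar).relIndex (sigmaCore Mstar) ∣
            (MulAut.conj x • H).relIndex (sigmaCore Mstar) :=
          relIndex_dvd_of_le_left (sigmaCore Mstar) le_sup_left
        have h2 : (MulAut.conj x • H).relIndex (sigmaCore Mstar) = H.relIndex (sigmaCore Mstar) := by
          have := relIndex_conj_smul x H (sigmaCore Mstar)
          rwa [Cfsg.Agent.Helper33.conj_smul_eq_self_of_mem hxN] at this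
        rw [h2] at h1
        exact hHhall.2.2 r hr ⟨hr, hrβ⟩ (hrd.trans h1)
    intro m hm
    have hS'' : IsSylIn q (MulAut.conj m • Sg) (sigmaCore Mstar) := by
      have := hSN'.conj m
      rwa [smul_eq_of_mem_normalizer (le_normalizer_sigmaCore Mstar hm)] at this
    obtain ⟨k, hkN, hke⟩ := hSN'.exists_conj_eq hS''
    have hkm : k * m ∈ normalizer (Sg : Set G) := by
      rw [mem_normalizer_iff_smul_eq, conj_mul_smul]
      exact hke
    have hkmM : k * m ∈ M := hNS hkm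
    have hcoe := Subgroup.coe_mul_of_left_le_normalizer_right (MulAut.conj x • H)
      (piCoreOf (beta Mstar) Mstar) (hDN.trans ((sigmaCore_le _).trans hBn))
    have hk' : k ∈ ((MulAut.conj x • H ⊔ piCoreOf (beta Mstar) Mstar : Subgroup G) : Set G) :=
      hNle hkN
    rw [hcoe] at hk'
    obtain ⟨d, hd, b, hb, rfl⟩ := Set.mem_mul.mp hk'
    refine ⟨b⁻¹, (piCoreOf (beta Mstar) Mstar).inv_mem hb, d⁻¹ * (d * b * m), ⟨?_, ?_⟩, by group⟩
    · exact M.mul_mem (M.inv_mem (hDM hd)) hkmM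
    · exact Mstar.mul_mem (Mstar.inv_mem (sigmaCore_le _ (hDN hd)))
        (Mstar.mul_mem (sigmaCore_le _ hkN) hm)
  · intro r hr hrM hrβ
    have := Fact.mk hr
    have hrα : r ∈ alpha Mstar := hrβ.1
    have hrs : r ∈ sigma Mstar := alpha_subset_sigma hG hU hMs hrα
    obtain ⟨T, hT⟩ := exists_isSylIn (p := r) Mstar
    have hu : InUniqueMaximal T := uniq_of_rank3_sylow hU hMs hT hrα.2
    have hTtop := isSylIn_top_of_sigma hHs hHsG hrs hT
    obtain ⟨-, -, P, hP⟩ := id hrM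
    have hR : IsSylIn r ((P : Subgroup M).map M.subtype) M := isSylIn_of_sylow M P
    have hRtop := isSylIn_top_of_sigma hH hHG hrM hR
    obtain ⟨x, -, hx⟩ := hTtop.exists_conj_eq hRtop
    have hTle : T ≤ MulAut.conj x • M := by
      rw [← hx]
      exact conj_smul_le_conj_smul hR.1
    have h := uniq_eq_of_le hu hMs hT.1 (isCoatom_conj hM x) hTle
    exact hconj x (by rw [map_conj_eq_smul]; exact h.symm)

end Cfsg.Agent.Helper82.BG1215
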