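import Mathlib
import Cfsg.Agent.Lib.Helper82.BG1215c

/-!
# Bender–Glauberman Corollary 12.15 (first part): assembly

`sigma_conj`: every nontrivial `σ(M)`-subgroup of `G` is conjugate to a subgroup of `M_σ`
(relative to the earlier rows S1350, S1403 (`UniqHyp`), S1414, S1417, S1420, S1424).
-/

set_option autoImplicit false
open Pointwise

namespace Cfsg.Agent.Helper82.BG1215

open Subgroup Cfsg
open Cfsg.Agent.Helper33 (map_conj_eq_smul mem_conj_smul conj_mem_conj_smul conj_smul_le_iff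
  mem_normalizer_iff_smul_eq smul_eq_of_mem_normalizer card_conj_smul conj_smul_le_conj_smul
  IsSylIn isSylIn_of_sylow exists_isSylIn_ge exists_isSylIn conj_inv_smul_smul conj_mul_smul
  normalizer_conj_smul relIndex_conj_smul isPGroup_conj_smul)
open Cfsg.Agent.Helper34.BG
open Cfsg.Agent.Helper55.BGB (le_sigmaCore_of_isPGroup le_normalizer_sigmaCore sigmaCore_le
  isPi_sigmaCore le_normalizer_map_subtype)

variable {G : Type*} [Group G]

/-- A prime `q` divides the order of any subgroup containing a nontrivial `q`-subgroup. -/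
theorem dvd_card_of_isPGroup_le [Finite G] {q : ℕ} [hq : Fact q.Prime] {X K : Subgroup G}
    (hX : IsPGroup q X) (hne : X ≠ ⊥) (hXK : X ≤ K) : q ∣ Nat.card K := by
  obtain ⟨k, hk⟩ := hX.exists_card_eq
  have hk0 : k ≠ 0 := by
    rintro rfl
    rw [pow_zero] at hk
    exact hne (Subgroup.card_eq_one.mp hk)
  have h1 : q ∣ Nat.card X := by
    rw [hk]
    exact dvd_pow_self q hk0
  exact h1.trans (Subgroup.card_dvd_of_le hXK)

/-- The common endgame: a Hall-type decomposition `M* = N (M ∩ M*)` with `N` a normal Hall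
subgroup of `M*` of order prime to all of `σ(M)`. -/
theorem endgame [Finite G] (hG : IsMinSimpleOddOrder G)
    {M Mstar : Subgroup G} (hHall : IsPiHallOf (sigma M) (sigmaCore M) M)
    (hMs : IsCoatom Mstar) {π : Set ℕ} {N : Subgroup G}
    (hN : IsPiHallOf π N Mstar) (hn : Mstar ≤ normalizer (N : Set G))
    (hdec : ∀ m ∈ Mstar, ∃ b ∈ N, ∃ c ∈ M ⊓ Mstar, m = b * c)
    (hdisj : ∀ r : ℕ, r.Prime → r ∈ sigma M → r ∉ π)
    {Y : Subgroup G} (hYMs : Y ≤ Mstar)
    (hY : ∀ p : ℕ, p.Prime → p ∣ Nat.card Y → p ∈ sigma M) :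
    ∃ k : G, MulAut.conj k • Y ≤ sigmaCore M := by
  have hK : Group.IsSolvable Mstar := solvable_of_ne_top hG hMs.1
  have hcop : (Nat.card N).Coprime (N.relIndex Mstar) :=
    Nat.coprime_of_dvd fun r hr h1 h2 => hN.2.2 r hr (hN.2.1 r hr h1) h2
  have hYN : (Nat.card Y).Coprime (Nat.card N) :=
    Nat.coprime_of_dvd fun r hr h1 h2 => hdisj r hr (hY r hr h1) (hN.2.1 r hr h2)
  obtain ⟨k, -, hk⟩ := exists_conj_le_of_dec hK hN.1 hn (inf_le_right : M ⊓ Mstar ≤ Mstar) hdec
    hcop hYMs hYN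
  refine ⟨k, le_sigmaCore_of_pi hHall (hk.trans inf_le_left) ?_⟩
  intro p hp hpd
  rw [card_conj_smul] at hpd
  exact hY p hp hpd

/-- B–G Corollary 12.15, first part. -/
theorem sigma_conj [Finite G] (hG : IsMinSimpleOddOrder G) (hU : UniqHyp G) (h1350 : H1350 G)
    (h1414 : H1414 G) (h1417 : H1417 G) (h1420 : H1420 G) (h1424 : H1424 G)
    (M : Subgroup G) (hM : IsCoatom M) (Y : Subgroup G) (hY1 : Y ≠ ⊥)
    (hY : ∀ p : ℕ, p.Prime → p ∣ Nat.card Y → p ∈ sigma M) :
    ∃ g : G, Y.map (MulAut.conj g).toMonoidHom ≤ sigmaCore M := by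
  classical
  obtain ⟨hH, hHG⟩ := h1350 M hM
  -- `Y` is a proper subgroup
  have hYtop : Y ≠ ⊤ := by
    rintro rfl
    have hidx : (sigmaCore M).index = 1 := by
      by_contra hne1
      obtain ⟨r, hr, hrd⟩ := Nat.exists_prime_and_dvd hne1
      have h1 : r ∣ Nat.card (⊤ : Subgroup G) := by
        rw [Subgroup.card_top]
        exact hrd.trans (Subgroup.index_dvd_card _)
      exact hHG.2 r hr (hY r hr h1) hrd
    have h2 : sigmaCore M = ⊤ := Subgroup.index_eq_one.mp hidx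
    have h3 : M = ⊤ := top_le_iff.mp (h2 ▸ sigmaCore_le M)
    exact hM.1 h3
  have hYsol : Group.IsSolvable Y := solvable_of_ne_top hG hYtop
  -- a nontrivial normal `q`-subgroup `X` of `Y`
  have hsolT : Group.IsSolvable (⊤ : Subgroup Y) :=
    Group.isSolvable_of_isSolvable_injective (Subgroup.subtype_injective _)
  obtain ⟨q, hq, R, hRn, -, hRne, hRq⟩ :=
    Cfsg.Agent.Helper52.exists_normal_pgroup_le (⊤ : Subgroup Y) hsolT
      (by
        intro h
        apply hY1
        rw [eq_bot_iff]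
        intro y hy
        have : (⟨y, hy⟩ : Y) ∈ (⊥ : Subgroup Y) := h ▸ Subgroup.mem_top _
        have h2 : (⟨y, hy⟩ : Y) = 1 := Subgroup.mem_bot.mp this
        exact Subgroup.mem_bot.mpr (congrArg Subtype.val h2))
  have hqF : Fact q.Prime := ⟨hq⟩
  set X : Subgroup G := R.map Y.subtype with hXdef
  have hXY : X ≤ Y := by
    rintro x ⟨y, -, rfl⟩
    exact y.2
  have hYX : Y ≤ normalizer (X : Set G) := le_normalizer_map_subtype Y R
  have hXq : IsPGroup q X := hRq.map Y.subtype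
  have hXne : X ≠ ⊥ := by
    intro h
    apply hRne
    rw [eq_bot_iff]
    intro y hy
    have : (y : G) ∈ X := ⟨y, hy, rfl⟩
    rw [h] at this
    exact Subgroup.mem_bot.mpr (Subtype.ext (Subgroup.mem_bot.mp this))
  have hqY : q ∣ Nat.card Y := dvd_card_of_isPGroup_le hXq hXne hXY
  have hqM : q ∈ sigma M := hY q hq hqY
  -- conjugate `X` into `M`
  obtain ⟨T, hT⟩ := exists_isSylIn (p := q) M
  have hTtop := isSylIn_top_of_sigma hH hHG hqM hT
  obtain ⟨g0, -, hg0⟩ := hTtop.exists_conj_le hXq le_top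
  set X' : Subgroup G := MulAut.conj g0 • X with hX'def
  set Y' : Subgroup G := MulAut.conj g0 • Y with hY'def
  have hX'M : X' ≤ M := hg0.trans hT.1
  have hX'q : IsPGroup q X' := isPGroup_conj_smul (g := g0) hXq
  have hX'ne : X' ≠ ⊥ := by
    intro h
    exact hXne ((Cfsg.Agent.Helper33.conj_smul_eq_bot_iff).mp h)
  have hY'X' : Y' ≤ normalizer (X' : Set G) := by
    rw [hX'def, normalizer_conj_smul]
    exact conj_smul_le_conj_smul hYX
  have hY'card : ∀ p : ℕ, p.Prime → p ∣ Nat.card Y' → p ∈ sigma M := by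
    intro p hp hpd
    rw [hY'def, card_conj_smul] at hpd
    exact hY p hp hpd
  -- it suffices to conjugate `Y'` into `M_σ`
  suffices hsuff : ∃ k : G, MulAut.conj k • Y' ≤ sigmaCore M by
    obtain ⟨k, hk⟩ := hsuff
    refine ⟨k * g0, ?_⟩
    rw [map_conj_eq_smul, conj_mul_smul]
    exact hk
  -- a maximal subgroup `M*` containing `N_G(X')`
  have hX'top : X' ≠ ⊤ := ne_top_of_le_coatom hM hX'M
  obtain ⟨Mstar, hMs, hNMs⟩ := exists_coatom_ge (normalizer_ne_top hG hX'ne hX'top)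
  have hY'Ms : Y' ≤ Mstar := hY'X'.trans hNMs
  by_cases hne : Mstar = M
  · subst hne
    exact ⟨1, by
      rw [show MulAut.conj (1 : G) • Y' = Y' by simp]
      exact le_sigmaCore_of_pi hH hY'Ms hY'card⟩
  -- a Sylow `q`-subgroup `S` of `M ∩ M*` containing `X'`
  have hX'Ms : X' ≤ Mstar := le_normalizer.trans hNMs
  have hX'I : X' ≤ M ⊓ Mstar := le_inf hX'M hX'Ms
  have hX'sub : IsPGroup q (X'.subgroupOf (M ⊓ Mstar)) := hX'q.comap_subtype
  obtain ⟨S, hS⟩ := hX'sub.exists_le_sylow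
  set Sg : Subgroup G := (S : Subgroup ↥(M ⊓ Mstar)).map (M ⊓ Mstar).subtype with hSgdef
  have hX'S : X' ≤ Sg := by
    intro x hx
    exact ⟨⟨x, hX'I hx⟩, hS (mem_subgroupOf.mpr hx), rfl⟩
  obtain ⟨hconj, hNS, hSidx⟩ := h1424 M hM q hqM X' hX'q hX'ne hX'M Mstar hMs hne hNMs S hX'S
  have hSgI : IsSylIn q Sg (M ⊓ Mstar) := isSylIn_of_sylow (M ⊓ Mstar) S
  have hSgM : Sg ≤ M := hSgI.1.trans inf_le_left
  have hSg : IsSylIn q Sg Mstar := ⟨hSgI.1.trans inf_le_right, hSgI.2.1, hSidx⟩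
  by_cases hqs : q ∈ sigma Mstar
  · -- case B
    obtain ⟨hdec, hdisj⟩ := caseB hG hU h1350 h1414 hM hMs hne hqs hSg hSgM hNS hconj
    obtain ⟨hBhall, -⟩ := h1414 Mstar hMs
    have hBn : Mstar ≤ normalizer ((piCoreOf (beta Mstar) Mstar : Subgroup G) : Set G) := by
      unfold piCoreOf
      exact le_normalizer_map_subtype Mstar (piCore (beta Mstar) Mstar)
    exact endgame hG hH hMs hBhall hBn hdec hdisj hY'Ms hY'card
  · -- case A
    have hScyc : ¬ IsCyclic Sg := by
      intro hcyc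
      apply hqs
      refine mem_sigma_of_isSylIn hSg (dvd_card_of_isPGroup_le hX'q hX'ne hX'Ms) ?_
      intro g hg
      apply hNMs
      rw [mem_normalizer_iff_smul_eq, ← map_conj_eq_smul]
      apply Cfsg.Agent.Helper55.BGB.map_conj_eq_of_le_cyclic hcyc hX'S g
      rw [map_conj_eq_smul]
      calc MulAut.conj g • X' ≤ MulAut.conj g • Sg := conj_smul_le_conj_smul hX'S
        _ = Sg := smul_eq_of_mem_normalizer hg
    obtain ⟨hdec, hdisj⟩ := caseA hG hU h1350 h1417 h1420 hM hMs hne hqM hqs hSg hSgM hScyc hconj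
    obtain ⟨hHs, -⟩ := h1350 Mstar hMs
    exact endgame hG hH hMs hHs (le_normalizer_sigmaCore Mstar) hdec hdisj hY'Ms hY'card

end Cfsg.Agent.Helper82.BG1215
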