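import Mathlib
import Cfsg.Prelude.Def_OddOrder
import Cfsg.Prelude.Def_OddOrderLocal
import Cfsg.Agent.S1449

/-!
# (R1) of helper53's BG139 requests: S1449 in non-faithful (automorphism) form (helper82)
-/

set_option autoImplicit false

namespace Cfsg.Agent.Helper82.BG139Req

open scoped commutatorElement

/-- (R1) S1449 in NON-FAITHFUL (automorphism) form. -/
theorem commutator_le_centralizer_of_prankLE_two {G : Type*} [Group G] [Finite G] (q : ℕ) [Fact q.Prime]
    (hq : q ≠ 2) (S E : Subgroup G) (hS : IsPGroup q S) (hr : Cfsg.PRankLE q 2 S)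
    (hES : E ≤ Subgroup.normalizer (S : Set G)) (hEs : Group.IsSolvable E) (hEodd : Odd (Nat.card E))
    (hEq : (Nat.card E).Coprime q) :
    ⁅E, E⁆ ≤ Subgroup.centralizer (S : Set G) := by
  classical
  have hqp : q.Prime := Fact.out
  set φ : ↥E →* MulAut ↥S := Cfsg.Agent.S1449.conjHom S E hES with hφ
  have hdvd : Nat.card φ.range ∣ Nat.card E := Subgroup.card_range_dvd φ
  have hXodd : Odd (Nat.card φ.range) := by
    rcases hdvd with ⟨k, hk⟩
    rw [hk] at hEodd
    exact (Nat.odd_mul.mp hEodd).1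
  have hXs : Group.IsSolvable φ.range :=
    Group.isSolvable_of_surjective (f := φ.rangeRestrict) φ.rangeRestrict_surjective
  have h1 : IsPGroup q (commutator φ.range) :=
    Cfsg.Agent.Helper24.RankTwoAut.isPGroup_commutator_of_rank_two hq hS hr
      φ.range.subtype Subtype.val_injective hXodd hXs
  have h2 : commutator φ.range = ⊥ := by
    rcases h1.card_eq_or_dvd with h | h
    · exact Subgroup.card_eq_one.mp h
    · exfalso
      have h3 : q ∣ Nat.card E :=
        h.trans ((Subgroup.card_subgroup_dvd_card _).trans hdvd)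
      have h4 : q ∣ Nat.gcd (Nat.card E) q := Nat.dvd_gcd h3 dvd_rfl
      rw [hEq] at h4
      exact hqp.one_lt.ne' (Nat.dvd_one.mp h4)
  have hcomm : ∀ a b : ↥E, φ a * φ b = φ b * φ a := by
    intro a b
    have hm : ⁅(⟨φ a, ⟨a, rfl⟩⟩ : φ.range), (⟨φ b, ⟨b, rfl⟩⟩ : φ.range)⁆ ∈ commutator φ.range := by
      rw [commutator_def]
      exact Subgroup.commutator_mem_commutator (Subgroup.mem_top _) (Subgroup.mem_top _)
    rw [h2, Subgroup.mem_bot] at hm
    have hm' := congrArg Subtype.val hm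
    simp only [Subgroup.coe_one] at hm'
    have : ⁅φ a, φ b⁆ = 1 := hm'
    exact commutatorElement_eq_one_iff_mul_comm.mp this
  rw [Subgroup.commutator_le]
  intro a ha b hb
  rw [Subgroup.mem_centralizer_iff]
  intro s hs
  have hab : φ ⁅(⟨a, ha⟩ : ↥E), (⟨b, hb⟩ : ↥E)⁆ = 1 := by
    rw [map_commutatorElement]
    exact commutatorElement_eq_one_iff_mul_comm.mpr (hcomm _ _)
  have h5 : φ ⁅(⟨a, ha⟩ : ↥E), (⟨b, hb⟩ : ↥E)⁆ ⟨s, hs⟩ = ⟨s, hs⟩ := by rw [hab]; rfl
  have h6 := congrArg Subtype.val h5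
  rw [Cfsg.Agent.S1449.conjHom_apply] at h6
  have h7 : ⁅a, b⁆ * s * ⁅a, b⁆⁻¹ = s := h6
  calc s * ⁅a, b⁆ = (⁅a, b⁆ * s * ⁅a, b⁆⁻¹) * ⁅a, b⁆ := by rw [h7]
    _ = ⁅a, b⁆ * s := by group

end Cfsg.Agent.Helper82.BG139Req
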