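import Mathlib
import Cfsg.Prelude.Def_OddOrder
import Cfsg.Prelude.Def_OddOrderLocal

set_option autoImplicit false

/-! helper54's request (Q12) for B-G 14.2: the normal Hall `τ₁(M)'`-subgroup of a complement `E`
of `M_σ` in `M`. -/

namespace Cfsg.Agent.Helper82.BG142Req

open Subgroup
open scoped commutatorElement

/-- Pure core: `D` a normal `π'`-subgroup of the finite group `E` with `E/D` commutative and `E1`
a Hall `π`-subgroup of `E`; then `E` has a normal `π'`-subgroup `U` that is a complement of `E1`. -/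
theorem exists_normal_compl_of_comm_quot {E : Type*} [Group E] [Finite E] (π : Set ℕ)
    (D : Subgroup E) [hDn : D.Normal] (hcomm : ∀ a b : E, (a * b)⁻¹ * (b * a) ∈ D)
    (hD : ∀ p : ℕ, p.Prime → p ∣ Nat.card D → p ∉ π) (E1 : Subgroup E)
    (h1 : ∀ p : ℕ, p.Prime → p ∣ Nat.card E1 → p ∈ π)
    (h2 : ∀ p : ℕ, p.Prime → p ∈ π → ¬ p ∣ E1.index) :
    ∃ U : Subgroup E, U.Normal ∧ (∀ p : ℕ, p.Prime → p ∣ Nat.card U → p ∉ π) ∧
      IsComplement' U E1 ∧ Nat.card U * Nat.card E1 = Nat.card E := by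
  classical
  have hc : ∀ x y : E ⧸ D, Commute x y := by
    intro x y
    induction x using QuotientGroup.induction_on with
    | H a =>
      induction y using QuotientGroup.induction_on with
      | H b =>
        show (a : E ⧸ D) * (b : E ⧸ D) = (b : E ⧸ D) * (a : E ⧸ D)
        rw [← QuotientGroup.mk_mul, ← QuotientGroup.mk_mul]
        exact (QuotientGroup.eq).mpr (hcomm a b)
  set n2 : ℕ := E1.index with hn2
  have hn : Nat.card E1 * n2 = Nat.card E := E1.card_mul_index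
  let φ : E →* E ⧸ D := MonoidHom.mk' (fun e => ((e : E ⧸ D)) ^ n2) (by
    intro a b
    show ((a * b : E) : E ⧸ D) ^ n2 = _
    rw [QuotientGroup.mk_mul, (hc _ _).mul_pow])
  have hφ : ∀ e : E, φ e = ((e : E ⧸ D)) ^ n2 := fun _ => rfl
  -- the range has exponent dividing `card E1`
  have hrange : ∀ y ∈ φ.range, y ^ Nat.card E1 = 1 := by
    rintro y ⟨e, rfl⟩
    rw [hφ, ← pow_mul, mul_comm, hn, ← QuotientGroup.mk_pow, pow_card_eq_one', QuotientGroup.mk_one]
  have hrangeπ : ∀ p : ℕ, p.Prime → p ∣ Nat.card φ.range → p ∈ π := by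
    intro p hp hdvd
    have : Fact p.Prime := ⟨hp⟩
    obtain ⟨y, hy⟩ := exists_prime_orderOf_dvd_card' p hdvd
    have h := hrange y.1 y.2
    have : orderOf y ∣ Nat.card E1 := by
      apply orderOf_dvd_of_pow_eq_one
      apply Subtype.ext
      simpa using h
    rw [hy] at this
    exact h1 p hp this
  have hkerπ : ∀ p : ℕ, p.Prime → p ∣ Nat.card φ.ker → p ∉ π := by
    intro p hp hdvd hpπ
    have : Fact p.Prime := ⟨hp⟩
    obtain ⟨u, hu⟩ := exists_prime_orderOf_dvd_card' p hdvd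
    have hu' : orderOf (u : E) = p := by rw [Subgroup.orderOf_coe, hu]
    have hcop : Nat.Coprime (orderOf (u : E)) n2 := by
      rw [hu']
      exact (Nat.Prime.coprime_iff_not_dvd hp).mpr (h2 p hp hpπ)
    have hmem : (u : E) ^ n2 ∈ D := by
      have := u.2
      rw [MonoidHom.mem_ker, hφ, ← QuotientGroup.mk_pow] at this
      exact (QuotientGroup.eq_one_iff _).mp this
    have hord : orderOf ((u : E) ^ n2) = p := by
      rw [hcop.orderOf_pow, hu']
    have : p ∣ Nat.card D := by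
      have h := orderOf_dvd_natCard (⟨(u : E) ^ n2, hmem⟩ : D)
      rwa [← Subgroup.orderOf_coe, hord] at h
    exact hD p hp this hpπ
  have hcard : Nat.card φ.ker * Nat.card φ.range = Nat.card E := by
    rw [← Subgroup.index_ker]
    exact φ.ker.card_mul_index
  have hcop1 : Nat.Coprime (Nat.card φ.ker) (Nat.card E1) :=
    Nat.coprime_of_dvd (fun k hk hk1 hk2 => hkerπ k hk hk1 (h1 k hk hk2))
  have hcop2 : Nat.Coprime n2 (Nat.card φ.range) :=
    Nat.coprime_of_dvd (fun k hk hk1 hk2 => h2 k hk (hrangeπ k hk hk2) hk1)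
  have hd1 : Nat.card φ.ker ∣ n2 := by
    apply hcop1.dvd_of_dvd_mul_left
    rw [hn, ← hcard]
    exact dvd_mul_right _ _
  have hd2 : n2 ∣ Nat.card φ.ker := by
    apply hcop2.dvd_of_dvd_mul_right
    rw [hcard, ← hn]
    exact dvd_mul_left _ _
  have heq : Nat.card φ.ker = n2 := Nat.dvd_antisymm hd1 hd2
  have hprod : Nat.card φ.ker * Nat.card E1 = Nat.card E := by
    rw [heq, mul_comm, hn]
  exact ⟨φ.ker, inferInstance, hkerπ, isComplement'_of_coprime hprod hcop1, hprod⟩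

variable {G : Type*} [Group G] [Finite G]

/-- (Q12): the normal Hall tau1(M)'-subgroup of a complement E. -/
theorem exists_normal_hall_compl_tau1 (hG : Cfsg.IsMinSimpleOddOrder G) (M : Subgroup G)
    (hM : IsCoatom M) (E : Subgroup G) (hE : Cfsg.IsComplIn E (Cfsg.sigmaCore M) M)
    (E1 : Subgroup G) (hE1 : Cfsg.IsPiHallOf (Cfsg.tau1 M) E1 E) :
    ∃ U : Subgroup G, U ≤ E ∧ E ≤ normalizer (U : Set G) ∧
      (∀ p : ℕ, p.Prime → p ∣ Nat.card U → p ∉ Cfsg.tau1 M) ∧ U ⊓ E1 = ⊥ ∧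
      (∀ e ∈ E, ∃ u ∈ U, ∃ k ∈ E1, e = u * k) ∧ Nat.card E = Nat.card U * Nat.card E1 := by
  classical
  obtain ⟨hE1E, hE1π, hE1idx⟩ := hE1
  have hEM : E ≤ M := hE.1
  have hMM : ⁅M, M⁆ ≤ M := Subgroup.commutator_le.mpr (fun a ha b hb => by
    rw [commutatorElement_def]
    exact M.mul_mem (M.mul_mem (M.mul_mem ha hb) (M.inv_mem ha)) (M.inv_mem hb))
  have hconj : ∀ g ∈ M, ∀ n ∈ ⁅M, M⁆, g * n * g⁻¹ ∈ ⁅M, M⁆ := by
    intro g hg n hn
    have : g * n * g⁻¹ = ⁅g, n⁆ * n := by rw [commutatorElement_def]; group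
    rw [this]
    exact mul_mem (Subgroup.commutator_mem_commutator hg (hMM hn)) hn
  -- `D := M' ∩ E` inside `E`
  have hDn : (⁅M, M⁆.subgroupOf E).Normal := by
    constructor
    intro n hn g
    rw [Subgroup.mem_subgroupOf] at hn ⊢
    have : ((g * n * g⁻¹ : E) : G) = (g : G) * (n : G) * (g : G)⁻¹ := by simp
    rw [this]
    exact hconj _ (hEM g.2) _ hn
  have hcomm : ∀ a b : E, (a * b)⁻¹ * (b * a) ∈ ⁅M, M⁆.subgroupOf E := by
    intro a b
    rw [Subgroup.mem_subgroupOf]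
    have : (((a * b)⁻¹ * (b * a) : E) : G) = ⁅(b : G)⁻¹, (a : G)⁻¹⁆ := by
      rw [commutatorElement_def]
      simp only [Subgroup.coe_mul, Subgroup.coe_inv]
      group
    rw [this]
    exact Subgroup.commutator_mem_commutator (M.inv_mem (hEM b.2)) (M.inv_mem (hEM a.2))
  have hD : ∀ p : ℕ, p.Prime → p ∣ Nat.card (⁅M, M⁆.subgroupOf E) → p ∉ Cfsg.tau1 M := by
    intro p hp hdvd hpτ
    apply hpτ.2.2.2.1
    rw [← Subgroup.inf_subgroupOf_right,
      Nat.card_congr (Subgroup.subgroupOfEquivOfLe (inf_le_right : ⁅M, M⁆ ⊓ E ≤ E)).toEquiv] at hdvd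
    exact hdvd.trans (Subgroup.card_dvd_of_le inf_le_left)
  have hc1 : Nat.card (E1.subgroupOf E) = Nat.card E1 :=
    Nat.card_congr (Subgroup.subgroupOfEquivOfLe hE1E).toEquiv
  obtain ⟨U, hUn, hUπ, hcompl, hcard⟩ := exists_normal_compl_of_comm_quot (Cfsg.tau1 M)
    (⁅M, M⁆.subgroupOf E) hcomm hD (E1.subgroupOf E)
    (fun p hp hdvd => hE1π p hp (hc1 ▸ hdvd)) (fun p hp hpτ => hE1idx p hp hpτ)
  have hcU : Nat.card (U.map E.subtype) = Nat.card U :=
    Subgroup.card_map_of_injective E.subtype_injective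
  refine ⟨U.map E.subtype, Subgroup.map_subtype_le U, ?_, ?_, ?_, ?_, ?_⟩
  · have h := Subgroup.le_normalizer_map (H := U) E.subtype
    rw [Subgroup.normalizer_eq_top, ← MonoidHom.range_eq_map, Subgroup.range_subtype] at h
    exact h
  · intro p hp hdvd
    rw [hcU] at hdvd
    exact hUπ p hp hdvd
  · apply disjoint_iff.mp
    apply Subgroup.disjoint_of_coprime_natCard
    rw [hcU]
    exact Nat.coprime_of_dvd (fun k hk hk1 hk2 => hUπ k hk hk1 (hE1π k hk hk2))
  · intro e he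
    obtain ⟨⟨⟨u, hu⟩, ⟨k, hk⟩⟩, hx, -⟩ := (isComplement'_def.mp hcompl).existsUnique ⟨e, he⟩
    refine ⟨(u : G), Subgroup.mem_map.mpr ⟨u, hu, rfl⟩, (k : G), Subgroup.mem_subgroupOf.mp hk, ?_⟩
    have := congrArg Subtype.val hx
    simpa using this.symm
  · rw [hcU, ← hc1, hcard]

end Cfsg.Agent.Helper82.BG142Req
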