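import Mathlib
import Cfsg.Agent.Lib.Helper93.MD0

/-!
# MD project (helper93 server, S2140): piece (Fa)

`n ≥ 4`: the `v`-component of `b` vanishes.
-/

set_option autoImplicit false
set_option linter.unusedSectionVars false
set_option linter.unusedVariables false

namespace Cfsg.Agent.Helper82.MD

open Module Cfsg.Agent.Helper93.McL Cfsg.Agent.Helper93.MD

variable {F V : Type*} [Field F] [Fintype F] [AddCommGroup V] [Module F V] [FiniteDimensional F V]

/-- a vector of `T` outside `S` when `finrank S < finrank T` -/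
theorem h82_exists_mem_notMem (S T : Submodule F V) (h : finrank F S < finrank F T) :
    ∃ w ∈ T, w ∉ S := by
  by_contra hcon
  push Not at hcon
  have hle : T ≤ S := fun w hw => hcon w hw
  have := Submodule.finrank_mono hle
  omega

theorem h82_finrank_span_pair_le (u v : V) :
    finrank F (Submodule.span F ({u, v} : Set V)) ≤ 2 := by
  classical
  have h : finrank F (Submodule.span F ((({u, v} : Finset V)) : Set V)) ≤
      ({u, v} : Finset V).card := finrank_span_finset_le_card (R := F) ({u, v} : Finset V)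
  have h2 : ({u, v} : Finset V).card ≤ 2 := Finset.card_le_two
  have h3 : ((({u, v} : Finset V)) : Set V) = {u, v} := by simp
  rw [h3] at h
  omega

theorem h82_finrank_ker_dual (χ : Dual F V) :
    finrank F V ≤ finrank F (LinearMap.ker χ) + 1 := by
  have h := LinearMap.finrank_range_add_finrank_ker χ
  have h1 : finrank F (LinearMap.range χ) ≤ 1 := by
    have := Submodule.finrank_le (LinearMap.range χ)
    simpa using this
  omega

/-- a functional vanishing on `u, v` with a prescribed value at `z ∉ span {u, v}` -/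
theorem h82_exists_dual_pair {u v z : V} (hz : z ∉ Submodule.span F ({u, v} : Set V)) (a : F) :
    ∃ c : Dual F V, c u = 0 ∧ c v = 0 ∧ c z = a := by
  obtain ⟨c₀, hc₀z, hc₀le⟩ := Submodule.exists_le_ker_of_notMem hz
  have hc₀u : c₀ u = 0 := hc₀le (Submodule.subset_span (by simp))
  have hc₀v : c₀ v = 0 := hc₀le (Submodule.subset_span (by simp))
  refine ⟨(a * (c₀ z)⁻¹) • c₀, by simp [hc₀u], by simp [hc₀v], ?_⟩
  simp only [LinearMap.smul_apply, smul_eq_mul]
  rw [mul_assoc, inv_mul_cancel₀ hc₀z, mul_one]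

/-- (Fa) `n ≥ 4`: the `v`-component of `b` vanishes. -/
theorem fa (hn : 4 ≤ finrank F V) {u v : V} (hu : u ≠ 0) (hv : v ∉ Submodule.span F {u})
    (K : Subgroup (V ≃ₗ[F] V)) (hKS : K ≤ SLV F V) (hKu : ∀ k ∈ K, ∃ α : F, k u = α • u)
    (hKE : ∀ φ : Dual F V, φ u = 0 → tv u φ ∈ K → φ = 0)
    (hcov : ∀ g ∈ SLV F V, (∃ α : F, g u = α • u) → ∃ φ : Dual F V, φ u = 0 ∧ tv u φ * g ∈ K)
    (D : CData K u v) : ∀ c : Dual F V, c u = 0 → c v = 0 → D.b c v = 0 := by
  intro χ hχu hχv
  -- `z ∈ ker χ` outside `span {u, v}`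
  obtain ⟨z, hzχ, hzuv⟩ := h82_exists_mem_notMem (Submodule.span F ({u, v} : Set V))
    (LinearMap.ker χ) (by
      have h1 := h82_finrank_span_pair_le (F := F) u v
      have h2 := h82_finrank_ker_dual χ
      omega)
  have hχz : χ z = 0 := hzχ
  obtain ⟨c, hcu, hcv, hcz⟩ := h82_exists_dual_pair hzuv (-1 : F)
  -- the element `k`
  have hgu : tv z χ u = u := by rw [tv_apply hχz, hχu, zero_smul, add_zero]
  have hgv : tv z χ v = v := by rw [tv_apply hχz, hχv, zero_smul, add_zero]
  obtain ⟨φ₀, hφ₀u, hk⟩ := hcov (tv z χ) (tv_mem_SLV z χ) ⟨1, by rw [hgu, one_smul]⟩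
  have hku : (tv u φ₀ * tv z χ) u = (1 : F) • u := by
    rw [LinearEquiv.mul_apply, hgu, tv_apply hφ₀u, hφ₀u, zero_smul, add_zero, one_smul]
  have hkv : (tv u φ₀ * tv z χ) v = (1 : F) • v + (φ₀ v) • u := by
    rw [LinearEquiv.mul_apply, hgv, tv_apply hφ₀u, one_smul]
  -- `(c + χ) ∘ k = c`
  have hck : ∀ x, (c + χ) ((tv u φ₀ * tv z χ) x) = c x := by
    intro x
    rw [LinearEquiv.mul_apply, tv_apply hχz, tv_apply hφ₀u]
    simp only [map_add, map_smul, LinearMap.add_apply, smul_eq_mul, hcu, hχu, hcz, hχz]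
    ring
  have hcs : c ∘ₗ ((tv u φ₀ * tv z χ).symm : V →ₗ[F] V) = c + χ := by
    apply LinearMap.ext
    intro x
    have := hck ((tv u φ₀ * tv z χ).symm x)
    rw [LinearEquiv.apply_symm_apply] at this
    simpa using this.symm
  have hksv : (tv u φ₀ * tv z χ).symm v = v - (φ₀ v) • u := by
    rw [LinearEquiv.symm_apply_eq, map_sub, map_smul, hkv, hku]
    simp
  have hb := D.b_equiv (tv u φ₀ * tv z χ) hk 1 1 (φ₀ v) hku hkv c hcu hcv
  rw [hcs, one_smul, one_smul] at hb
  have hb2 := congrArg (fun ψ : Dual F V => ψ v) hb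
  simp only [LinearMap.add_apply, LinearMap.smul_apply, LinearMap.comp_apply,
    LinearEquiv.coe_coe, hksv, smul_eq_mul, hcv, hχv, add_zero, mul_zero] at hb2
  rw [D.b_add c χ hcu hcv hχu hχv] at hb2
  simp only [LinearMap.add_apply, LinearMap.sub_apply, LinearMap.smul_apply, smul_eq_mul, hcv,
    mul_zero, sub_zero, map_sub, map_smul, D.b_u c hcu hcv] at hb2
  have := add_left_cancel (a := D.b c v) (b := D.b χ v) (c := 0) (by rw [add_zero]; exact hb2)
  exact this

end Cfsg.Agent.Helper82.MD
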