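import Mathlib
import Cfsg.Agent.Lib.Helper93.MD0
import Cfsg.Agent.Lib.Helper82.MDFa

/-!
# MD project (helper93 server, S2140): piece (F5)

`n ≥ 5`: some nonzero `c` vanishing on `u, v` has `b c ∈ F c`.
-/

set_option autoImplicit false
set_option linter.unusedSectionVars false
set_option linter.unusedVariables false

namespace Cfsg.Agent.Helper82.MD

open Module Cfsg.Agent.Helper93.McL Cfsg.Agent.Helper93.MD

variable {F V : Type*} [Field F] [Fintype F] [AddCommGroup V] [Module F V] [FiniteDimensional F V]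

theorem h82_finrank_span_triple_le (u v z : V) :
    finrank F (Submodule.span F ({u, v, z} : Set V)) ≤ 3 := by
  classical
  have h : finrank F (Submodule.span F ((({u, v, z} : Finset V)) : Set V)) ≤
      ({u, v, z} : Finset V).card := finrank_span_finset_le_card (R := F) ({u, v, z} : Finset V)
  have h2 : ({u, v, z} : Finset V).card ≤ 3 := Finset.card_le_three
  have h3 : ((({u, v, z} : Finset V)) : Set V) = {u, v, z} := by simp
  rw [h3] at h
  omega

theorem h82_finrank_span_singleton_le (c : V) :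
    finrank F (Submodule.span F ({c} : Set V)) ≤ 1 := by
  classical
  have h : finrank F (Submodule.span F ((({c} : Finset V)) : Set V)) ≤
      ({c} : Finset V).card := finrank_span_finset_le_card (R := F) ({c} : Finset V)
  have h3 : ((({c} : Finset V)) : Set V) = {c} := by simp
  rw [h3] at h
  simpa using h

/-- if `ψ ∉ F c` there is `z` with `c z = 0`, `ψ z ≠ 0` -/
theorem h82_exists_ker_ne {c ψ : Dual F V} (h : ∀ μ : F, ψ ≠ μ • c) :
    ∃ z, c z = 0 ∧ ψ z ≠ 0 := by
  by_contra hcon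
  push Not at hcon
  by_cases hc : c = 0
  · apply h 0
    apply LinearMap.ext
    intro x
    have := hcon x (by rw [hc]; rfl)
    simp [this]
  · obtain ⟨x₀, hx₀⟩ : ∃ x₀, c x₀ ≠ 0 := by
      by_contra h0
      push Not at h0
      exact hc (LinearMap.ext h0)
    apply h (ψ x₀ * (c x₀)⁻¹)
    apply LinearMap.ext
    intro x
    have h1 : c (x - (c x * (c x₀)⁻¹) • x₀) = 0 := by
      rw [map_sub, map_smul, smul_eq_mul, mul_assoc, inv_mul_cancel₀ hx₀, mul_one, sub_self]
    have h2 := hcon _ h1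
    rw [map_sub, map_smul, smul_eq_mul, sub_eq_zero] at h2
    rw [h2, LinearMap.smul_apply, smul_eq_mul]
    ring

/-- (F5) `n ≥ 5`. -/
theorem f5 (hn : 5 ≤ finrank F V) {u v : V} (hu : u ≠ 0) (hv : v ∉ Submodule.span F {u})
    (K : Subgroup (V ≃ₗ[F] V)) (hKS : K ≤ SLV F V) (hKu : ∀ k ∈ K, ∃ α : F, k u = α • u)
    (hKE : ∀ φ : Dual F V, φ u = 0 → tv u φ ∈ K → φ = 0)
    (hcov : ∀ g ∈ SLV F V, (∃ α : F, g u = α • u) → ∃ φ : Dual F V, φ u = 0 ∧ tv u φ * g ∈ K)
    (D : CData K u v) (ha : ∀ c : Dual F V, c u = 0 → c v = 0 → D.b c v = 0) :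
    ∃ (c : Dual F V) (μ : F), c ≠ 0 ∧ c u = 0 ∧ c v = 0 ∧ D.b c = μ • c := by
  -- a nonzero `c` vanishing on `u, v`
  obtain ⟨w, -, hw⟩ := h82_exists_mem_notMem (Submodule.span F ({u, v} : Set V)) ⊤ (by
    rw [finrank_top]
    have := h82_finrank_span_pair_le (F := F) u v
    omega)
  obtain ⟨c, hcu, hcv, hcw⟩ := h82_exists_dual_pair hw (1 : F)
  have hc0 : c ≠ 0 := by
    intro h
    rw [h] at hcw
    simp at hcw
  by_contra hcon
  push Not at hcon
  have hψ : ∀ μ : F, D.b c ≠ μ • c := fun μ => hcon c μ hc0 hcu hcv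
  have hψu : D.b c u = 0 := D.b_u c hcu hcv
  have hψv : D.b c v = 0 := ha c hcu hcv
  obtain ⟨z, hcz, hψz⟩ := h82_exists_ker_ne hψ
  -- `χ` vanishing on `u, v, z`, not in `F c`
  obtain ⟨χ, hχA, hχc⟩ := h82_exists_mem_notMem (Submodule.span F ({c} : Set (Dual F V)))
    (Submodule.span F ({u, v, z} : Set V)).dualAnnihilator (by
      have h1 := Subspace.finrank_add_finrank_dualAnnihilator_eq
        (Submodule.span F ({u, v, z} : Set V))
      have h2 := h82_finrank_span_triple_le (F := F) u v z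
      have h3 := h82_finrank_span_singleton_le (F := F) c
      omega)
  have hχu : χ u = 0 :=
    (Submodule.mem_dualAnnihilator χ).mp hχA u (Submodule.subset_span (by simp))
  have hχv : χ v = 0 :=
    (Submodule.mem_dualAnnihilator χ).mp hχA v (Submodule.subset_span (by simp))
  have hχz : χ z = 0 :=
    (Submodule.mem_dualAnnihilator χ).mp hχA z (Submodule.subset_span (by simp))
  -- the element `k`
  have hgu : tv z χ u = u := by rw [tv_apply hχz, hχu, zero_smul, add_zero]
  have hgv : tv z χ v = v := by rw [tv_apply hχz, hχv, zero_smul, add_zero]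
  obtain ⟨φ₀, hφ₀u, hk⟩ := hcov (tv z χ) (tv_mem_SLV z χ) ⟨1, by rw [hgu, one_smul]⟩
  have hku : (tv u φ₀ * tv z χ) u = (1 : F) • u := by
    rw [LinearEquiv.mul_apply, hgu, tv_apply hφ₀u, hφ₀u, zero_smul, add_zero, one_smul]
  have hkv : (tv u φ₀ * tv z χ) v = (1 : F) • v + (φ₀ v) • u := by
    rw [LinearEquiv.mul_apply, hgv, tv_apply hφ₀u, one_smul]
  have hck : ∀ x, c ((tv u φ₀ * tv z χ) x) = c x := by
    intro x
    rw [LinearEquiv.mul_apply, tv_apply hχz, tv_apply hφ₀u]
    simp only [map_add, map_smul, smul_eq_mul, hcu, hcz]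
    ring
  have hcs : c ∘ₗ ((tv u φ₀ * tv z χ).symm : V →ₗ[F] V) = c := by
    apply LinearMap.ext
    intro x
    have := hck ((tv u φ₀ * tv z χ).symm x)
    rw [LinearEquiv.apply_symm_apply] at this
    simpa using this.symm
  have hb := D.b_equiv (tv u φ₀ * tv z χ) hk 1 1 (φ₀ v) hku hkv c hcu hcv
  rw [hcs, one_smul, one_smul] at hb
  have key : ∀ x, χ x * D.b c z = φ₀ v * c x := by
    intro x
    have h1 := congrArg (fun ψ : Dual F V => ψ ((tv u φ₀ * tv z χ) x)) hb
    simp only [LinearMap.add_apply, LinearMap.comp_apply, LinearEquiv.coe_coe,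
      LinearEquiv.symm_apply_apply, LinearMap.smul_apply, smul_eq_mul, hck x] at h1
    have h2 : D.b c ((tv u φ₀ * tv z χ) x) = D.b c x + χ x * D.b c z := by
      rw [LinearEquiv.mul_apply, tv_apply hχz, tv_apply hφ₀u]
      simp only [map_add, map_smul, smul_eq_mul, hψu]
      ring
    rw [h2] at h1
    exact add_left_cancel h1
  apply hχc
  rw [Submodule.mem_span_singleton]
  refine ⟨φ₀ v * (D.b c z)⁻¹, ?_⟩
  apply LinearMap.ext
  intro x
  rw [LinearMap.smul_apply, smul_eq_mul]
  have := key x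
  field_simp
  rw [mul_comm] at this
  linear_combination (-1 : F) * this

end Cfsg.Agent.Helper82.MD
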