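import Mathlib
import Cfsg.Agent.Lib.Helper87.SVKit
import Cfsg.Agent.S0215

/-!
# The "isolated involution" kill for exercise orders of S0983 (helper17's sieve)

If `|P| = p`, an involution `t ∈ C(P)` fixes exactly one Sylow `p`-subgroup, the Sylow 2-subgroups
have order 4 and `4 ∤ |C(P)|`, then `t` is isolated in a Sylow 2-subgroup and Glauberman's
Z*-theorem shows that the group is not a nonabelian simple group.
-/

set_option autoImplicit false

namespace Cfsg.Agent.Helper82.SV

open Nat MulAction Cfsg.Agent.Helper17 Cfsg.Agent.Helper17.Sieve Cfsg.Agent.Helper75.FixKill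
  Cfsg.Agent.Helper87.SV

/-- an isolated involution of a Sylow 2-subgroup cannot exist in a nonabelian simple group of
even order (Glauberman's Z*-theorem) -/
theorem h82_false_of_isolated {G : Type*} [Group G] [Finite G] [IsSimpleGroup G]
    (hna : ¬ IsMulCommutative G) (heven : Even (Nat.card G)) (S : Sylow 2 G) (u : G)
    (hu : orderOf u = 2) (huS : u ∈ S) (hiso : ∀ g : G, g * u * g⁻¹ ∈ S → g * u * g⁻¹ = u) :
    False := by
  obtain ⟨N, hNn, hNodd, hN⟩ := Cfsg.Agent.S0215.result S u hu huS hiso
  have hu1 : u ≠ 1 := by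
    intro h
    rw [h, orderOf_one] at hu
    norm_num at hu
  rcases hNn.eq_bot_or_eq_top with h | h
  · have hcen : u ∈ Subgroup.center G := by
      rw [Subgroup.mem_center_iff]
      intro g
      have h1 := hN g
      rw [h, Subgroup.mem_bot] at h1
      have h2 : u * g = g * u := by
        calc u * g = (u * g * u⁻¹ * g⁻¹) * (g * u) := by group
          _ = g * u := by rw [h1, one_mul]
      exact h2.symm
    have hcn : (Subgroup.center G).Normal := inferInstance
    rcases hcn.eq_bot_or_eq_top with h' | h'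
    · rw [h', Subgroup.mem_bot] at hcen
      exact hu1 hcen
    · apply hna
      refine ⟨⟨fun a b => ?_⟩⟩
      have ha : a ∈ Subgroup.center G := by rw [h']; exact Subgroup.mem_top a
      exact ((Subgroup.mem_center_iff.1 ha) b).symm
  · rw [h, Subgroup.card_top] at hNodd
    exact (Nat.not_even_iff_odd.2 hNodd) heven

/-- the generic core: an involution of `C(P)` with exactly one fixed point on `Syl_p` -/
theorem h82_isolated_core {G : Type*} [Group G] [Finite G] [IsSimpleGroup G]
    (hna : ¬ IsMulCommutative G) (heven : Even (Nat.card G)) {p : ℕ} [Fact p.Prime]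
    (P : Sylow p G) (t : G) (ht : orderOf t = 2)
    (htC : t ∈ Subgroup.centralizer ((P : Subgroup G) : Set G))
    (hf : Nat.card (fixedBy (Sylow p G) t) = 1)
    (hS4 : ∀ S : Sylow 2 G, Nat.card (S : Subgroup G) = 2 ^ 2)
    (hC4 : ¬ 4 ∣ Nat.card (Subgroup.centralizer ((P : Subgroup G) : Set G))) : False := by
  classical
  have h2p : Fact (Nat.Prime 2) := ⟨by norm_num⟩
  have ht1 : t ≠ 1 := Cfsg.Agent.S1017.ne_one_of_orderOf_prime t (by norm_num) ht
  have hsub : Subsingleton ↥(fixedBy (Sylow p G) t) := (Nat.card_eq_one_iff_unique.1 hf).1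
  have htN : t ∈ Subgroup.normalizer ((P : Subgroup G) : Set G) :=
    Subgroup.centralizer_le_normalizer _ htC
  have hPfix : P ∈ fixedBy (Sylow p G) t := by
    rw [MulAction.mem_fixedBy]
    exact Sylow.smul_eq_iff_mem_normalizer.2 htN
  have hfixP : ∀ Q : Sylow p G, t • Q = Q → Q = P := by
    intro Q hQ
    have : (⟨Q, hQ⟩ : ↥(fixedBy (Sylow p G) t)) = ⟨P, hPfix⟩ := Subsingleton.elim _ _
    exact congrArg Subtype.val this
  -- conjugates of `t` inside `N(P)` come from `N(P)`
  have hK : ∀ g : G, g * t * g⁻¹ ∈ Subgroup.normalizer ((P : Subgroup G) : Set G) →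
      g ∈ Subgroup.normalizer ((P : Subgroup G) : Set G) := by
    intro g hg
    have h1 : (g * t * g⁻¹) • P = P := Sylow.smul_eq_iff_mem_normalizer.2 hg
    have h2 : t • (g⁻¹ • P) = g⁻¹ • P := by
      have : g⁻¹ • ((g * t * g⁻¹) • P) = g⁻¹ • P := by rw [h1]
      rw [← mul_smul] at this
      rw [← mul_smul]
      have e1 : g⁻¹ * (g * t * g⁻¹) = t * g⁻¹ := by group
      rw [e1] at this
      exact this
    have h3 : g⁻¹ • P = P := hfixP _ h2
    have h4 : g⁻¹ ∈ Subgroup.normalizer ((P : Subgroup G) : Set G) :=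
      Sylow.smul_eq_iff_mem_normalizer.1 h3
    have := Subgroup.inv_mem _ h4
    simpa using this
  -- a Sylow 2-subgroup containing `t`
  have hzp : IsPGroup 2 (Subgroup.zpowers t) := by
    apply IsPGroup.of_card (n := 1)
    rw [Nat.card_zpowers, ht, pow_one]
  obtain ⟨S, hS⟩ := hzp.exists_le_sylow
  have htS : t ∈ S := hS (Subgroup.mem_zpowers t)
  have hScard : Nat.card (S : Subgroup G) = 2 ^ 2 := hS4 S
  have hScomm : ∀ a b : ↥(S : Subgroup G), a * b = b * a :=
    (IsPGroup.isMulCommutative_of_card_eq_prime_sq hScard).is_comm.comm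
  -- `S ≤ N(P)`
  have hSN : ∀ s ∈ (S : Subgroup G), s ∈ Subgroup.normalizer ((P : Subgroup G) : Set G) := by
    intro s hs
    have hcomm : s * t = t * s := by
      have := hScomm ⟨s, hs⟩ ⟨t, htS⟩
      exact congrArg Subtype.val this
    have h2 : t • (s • P) = s • P := by
      rw [← mul_smul, ← hcomm, mul_smul, Sylow.smul_eq_iff_mem_normalizer.2 htN]
    have h3 : s • P = P := hfixP _ h2
    exact Sylow.smul_eq_iff_mem_normalizer.1 h3
  -- `S ⊓ C(P) = zpowers t`
  have hKle : Subgroup.zpowers t ≤
      (S : Subgroup G) ⊓ Subgroup.centralizer ((P : Subgroup G) : Set G) := by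
    rw [Subgroup.zpowers_le]
    exact ⟨htS, htC⟩
  have hKcard : Nat.card ↥((S : Subgroup G) ⊓
      Subgroup.centralizer ((P : Subgroup G) : Set G)) ≤ 2 := by
    have d1 : Nat.card ↥((S : Subgroup G) ⊓
        Subgroup.centralizer ((P : Subgroup G) : Set G)) ∣ 4 := by
      have := Subgroup.card_dvd_of_le
        (inf_le_left : (S : Subgroup G) ⊓ Subgroup.centralizer ((P : Subgroup G) : Set G) ≤ S)
      rw [hScard] at this
      simpa using this
    have d2 : Nat.card ↥((S : Subgroup G) ⊓
        Subgroup.centralizer ((P : Subgroup G) : Set G)) ∣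
        Nat.card (Subgroup.centralizer ((P : Subgroup G) : Set G)) :=
      Subgroup.card_dvd_of_le inf_le_right
    have hle4 := Nat.le_of_dvd (by norm_num) d1
    generalize Nat.card ↥((S : Subgroup G) ⊓
        Subgroup.centralizer ((P : Subgroup G) : Set G)) = k at d1 d2 hle4
    interval_cases k
    · omega
    · omega
    · omega
    · omega
    · exact absurd d2 hC4
  have hKeq : Subgroup.zpowers t =
      (S : Subgroup G) ⊓ Subgroup.centralizer ((P : Subgroup G) : Set G) := by
    apply Subgroup.eq_of_le_of_card_ge hKle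
    rw [Nat.card_zpowers, ht]
    exact hKcard
  -- `t` is isolated in `S`
  have hiso : ∀ g : G, g * t * g⁻¹ ∈ S → g * t * g⁻¹ = t := by
    intro g hg
    have hgN : g ∈ Subgroup.normalizer ((P : Subgroup G) : Set G) := hK g (hSN _ hg)
    have hgC : g * t * g⁻¹ ∈ Subgroup.centralizer ((P : Subgroup G) : Set G) := by
      rw [Subgroup.mem_centralizer_iff]
      intro y hy
      have hy' : g⁻¹ * y * g ∈ (P : Subgroup G) := by
        have hgi : g⁻¹ ∈ Subgroup.normalizer ((P : Subgroup G) : Set G) := Subgroup.inv_mem _ hgN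
        have := (Subgroup.mem_normalizer_iff.1 hgi y).1 hy
        simpa using this
      have hc := (Subgroup.mem_centralizer_iff.1 htC) (g⁻¹ * y * g) hy'
      calc y * (g * t * g⁻¹) = g * ((g⁻¹ * y * g) * t) * g⁻¹ := by group
        _ = g * (t * (g⁻¹ * y * g)) * g⁻¹ := by rw [hc]
        _ = g * t * g⁻¹ * y := by group
    have hmem : g * t * g⁻¹ ∈ Subgroup.zpowers t := by
      rw [hKeq]
      exact ⟨hg, hgC⟩
    rw [mem_zpowers_iff_mem_range_orderOf, ht] at hmem
    simp only [Finset.mem_image, Finset.mem_range] at hmem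
    obtain ⟨k, hk, hk'⟩ := hmem
    interval_cases k
    · exfalso
      rw [pow_zero] at hk'
      apply ht1
      have : g * t * g⁻¹ = 1 := hk'.symm
      calc t = g⁻¹ * (g * t * g⁻¹) * g := by group
        _ = 1 := by rw [this]; group
    · rw [pow_one] at hk'
      exact hk'.symm
  exact h82_false_of_isolated hna heven S t ht htS hiso

end Cfsg.Agent.Helper82.SV
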