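import Mathlib
import Cfsg.Agent.Lib.Helper82.SVIso

/-!
# A nonabelian simple group of even order has no Sylow 2-subgroup with a unique involution
(Glauberman's `Z*`-theorem S0215, through `h82_false_of_isolated`): generic tool, written for the
O2520 server (S0984).
-/

set_option autoImplicit false

namespace Cfsg.Agent.Helper82.SV

/-- a Sylow 2-subgroup of a group of even order contains an involution -/
theorem h82_exists_involution_mem_sylow {G : Type*} [Group G] [Finite G]
    (heven : Even (Nat.card G)) (S : Sylow 2 G) :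
    ∃ u : G, orderOf u = 2 ∧ u ∈ (S : Subgroup G) := by
  have h2 : Fact (Nat.Prime 2) := ⟨Nat.prime_two⟩
  have hne : (S : Subgroup G) ≠ ⊥ := S.ne_bot_of_dvd_card heven.two_dvd
  obtain ⟨n, hn⟩ := S.isPGroup'.exists_card_eq
  have hn0 : n ≠ 0 := by
    rintro rfl
    rw [pow_zero] at hn
    exact hne (Subgroup.eq_bot_of_card_eq _ hn)
  have hdvd : 2 ∣ Nat.card (S : Subgroup G) := by
    rw [hn]
    exact dvd_pow_self 2 hn0
  obtain ⟨x, hx⟩ := exists_prime_orderOf_dvd_card' 2 hdvd
  exact ⟨x.1, by rw [Subgroup.orderOf_coe]; exact hx, x.2⟩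

/-- conjugation preserves the order -/
theorem h82_orderOf_conj {G : Type*} [Group G] (g u : G) : orderOf (g * u * g⁻¹) = orderOf u :=
  orderOf_injective (MulAut.conj g).toMonoidHom (MulAut.conj g).injective u

/-- no Sylow 2-subgroup of a nonabelian simple group of even order has a unique involution -/
theorem h82_not_unique_involution {G : Type*} [Group G] [Finite G] [IsSimpleGroup G]
    (hna : ¬ IsMulCommutative G) (heven : Even (Nat.card G)) (S : Sylow 2 G)
    (huniq : ∀ x ∈ (S : Subgroup G), ∀ y ∈ (S : Subgroup G), orderOf x = 2 → orderOf y = 2 →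
      x = y) : False := by
  obtain ⟨u, hu, huS⟩ := h82_exists_involution_mem_sylow heven S
  refine h82_false_of_isolated hna heven S u hu huS ?_
  intro g hg
  exact huniq _ hg _ huS (by rw [h82_orderOf_conj, hu]) hu

end Cfsg.Agent.Helper82.SV
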