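import Mathlib
import Cfsg.Prelude.Def_OddOrder
import Cfsg.Prelude.Def_OddOrderLocal
import Cfsg.Agent.Lib.Helper47.Comm
import Cfsg.Agent.Lib.Helper1.ZCoprime

/-!
# (R3) of helper53's BG139 requests (helper82)
-/

set_option autoImplicit false
set_option linter.unusedVariables false

namespace Cfsg.Agent.Helper82.BG139Req

open scoped commutatorElement

/-- (R3) `E = E3 E1`, `E3` normal abelian, `E1` abelian, coprime, `E3 ≤ E'` implies `C_{E3}(E1) = 1`. -/
theorem inf_centralizer_eq_bot_of_le_commutator {G : Type*} [Group G] [Finite G] (E E1 E3 : Subgroup G)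
    (h1 : E1 ≤ E) (h3 : E3 ≤ E) (hgen : E ≤ E3 ⊔ E1) (hn : E ≤ Subgroup.normalizer (E3 : Set G))
    (hc3 : IsMulCommutative E3) (hc1 : IsMulCommutative E1)
    (hcop : (Nat.card E3).Coprime (Nat.card E1)) (hle : E3 ≤ ⁅E, E⁆) :
    E3 ⊓ Subgroup.centralizer (E1 : Set G) = ⊥ := by
  classical
  have hE1n : E1 ≤ Subgroup.normalizer (E3 : Set G) := h1.trans hn
  -- `D := [E3, E1] ≤ E3`
  have hDle : ⁅E3, E1⁆ ≤ E3 := by
    rw [Subgroup.commutator_le]
    intro x hx y hy
    have hy' := hE1n hy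
    rw [Subgroup.mem_normalizer_iff] at hy'
    have h2 : y * x⁻¹ * y⁻¹ ∈ E3 := (hy' x⁻¹).mp (E3.inv_mem hx)
    have : ⁅x, y⁆ = x * (y * x⁻¹ * y⁻¹) := by
      rw [commutatorElement_def]; group
    rw [this]
    exact E3.mul_mem hx h2
  -- abelian subgroups have trivial commutator
  have hab3 : ⁅E3, E3⁆ = ⊥ := by
    rw [Subgroup.commutator_eq_bot_iff_le_centralizer]
    intro x hx
    rw [Subgroup.mem_centralizer_iff]
    intro y hy
    have := hc3.is_comm.comm ⟨y, hy⟩ ⟨x, hx⟩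
    exact congrArg Subtype.val this
  have hab1 : ⁅E1, E1⁆ = ⊥ := by
    rw [Subgroup.commutator_eq_bot_iff_le_centralizer]
    intro x hx
    rw [Subgroup.mem_centralizer_iff]
    intro y hy
    have := hc1.is_comm.comm ⟨y, hy⟩ ⟨x, hx⟩
    exact congrArg Subtype.val this
  -- `E3` centralizes `D`, `E1` normalizes `D`
  have hn3 : E3 ≤ Subgroup.normalizer ((⁅E3, E1⁆ : Subgroup G) : Set G) := by
    intro x hx
    rw [Subgroup.mem_normalizer_iff]
    intro d
    have hcomm : ∀ d ∈ E3, x * d * x⁻¹ = d := by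
      intro d hd
      have := hc3.is_comm.comm ⟨x, hx⟩ ⟨d, hd⟩
      have h' : x * d = d * x := congrArg Subtype.val this
      rw [h']; group
    constructor
    · intro hd
      rw [hcomm d (hDle hd)]; exact hd
    · intro hd
      have hd3 : x * d * x⁻¹ ∈ E3 := hDle hd
      have hd' : d ∈ E3 := by
        have : d = x⁻¹ * (x * d * x⁻¹) * x := by group
        rw [this]
        exact E3.mul_mem (E3.mul_mem (E3.inv_mem hx) hd3) hx
      rw [hcomm d hd'] at hd; exact hd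
  have hn1 : E1 ≤ Subgroup.normalizer ((⁅E3, E1⁆ : Subgroup G) : Set G) := by
    have key : ∀ e ∈ E1, ∀ d ∈ ⁅E3, E1⁆, e * d * e⁻¹ ∈ ⁅E3, E1⁆ := by
      intro e he d hd
      have hmap : (⁅E3, E1⁆ : Subgroup G).map (MulAut.conj e).toMonoidHom ≤ ⁅E3, E1⁆ := by
        rw [Subgroup.map_commutator]
        apply Subgroup.commutator_mono
        · rintro _ ⟨x, hx, rfl⟩
          have he' := hE1n he
          rw [Subgroup.mem_normalizer_iff] at he'
          exact (he' x).mp hx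
        · rintro _ ⟨y, hy, rfl⟩
          exact E1.mul_mem (E1.mul_mem he hy) (E1.inv_mem he)
      exact hmap ⟨d, hd, rfl⟩
    intro e he
    rw [Subgroup.mem_normalizer_iff]
    intro d
    constructor
    · intro hd; exact key e he d hd
    · intro hd
      have := key e⁻¹ (E1.inv_mem he) _ hd
      have h2 : e⁻¹ * (e * d * e⁻¹) * e⁻¹⁻¹ = d := by group
      rw [h2] at this; exact this
  -- `[E3 ⊔ E1, E3 ⊔ E1] ≤ D`
  have hA : ⁅E3 ⊔ E1, E3⁆ ≤ ⁅E3, E1⁆ := by
    rw [Subgroup.commutator_comm]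
    exact Cfsg.Agent.Helper47.commutator_sup_right_le (by rw [hab3]; exact bot_le) le_rfl hn3 hn1
  have hB : ⁅E3 ⊔ E1, E1⁆ ≤ ⁅E3, E1⁆ := by
    rw [Subgroup.commutator_comm]
    exact Cfsg.Agent.Helper47.commutator_sup_right_le
      (by rw [Subgroup.commutator_comm]) (by rw [hab1]; exact bot_le) hn3 hn1
  have hC : ⁅E3 ⊔ E1, E3 ⊔ E1⁆ ≤ ⁅E3, E1⁆ :=
    Cfsg.Agent.Helper47.commutator_sup_right_le hA hB hn3 hn1
  have hEE : ⁅E, E⁆ ≤ ⁅E3, E1⁆ := (Subgroup.commutator_mono hgen hgen).trans hC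
  have hEq : ⁅E3, E1⁆ = E3 := le_antisymm hDle (hle.trans hEE)
  have := Cfsg.Agent.Helper1.ZCoprime.commutator_inf_centralizer_eq_bot E1 E3 hE1n hcop.symm
  rw [hEq] at this
  exact this

end Cfsg.Agent.Helper82.BG139Req
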