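import Mathlib
import Cfsg.Prelude.Def_OddOrder
import Cfsg.Prelude.Def_OddOrderLocal
import Cfsg.Agent.S1350
import Cfsg.Agent.S1429
import Cfsg.Agent.S1446
import Cfsg.Agent.Lib.Helper69.BG11c
import Cfsg.Agent.Lib.Helper53.ElemAbBasic
import Cfsg.Agent.Lib.Helper34.BG10a
import Cfsg.Agent.Lib.Helper22.Radical

set_option autoImplicit false

/-! helper54's request (Q15) for B-G 14.2: if `M` is not of type `P₁` and some subgroup `X` of
prime order acts fixed-point-freely on a Sylow `q₀`-subgroup of `M` (`q₀ ∉ σ(M) ∪ κ(M)`), then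
every prime divisor of `|M_σ|` lies in `β(M)`. -/

namespace Cfsg.Agent.Helper82.BG142Req

open Subgroup

variable {G : Type*} [Group G]

/-- The normalizer of `S` normalizes `Ω_n(S) = ⟨x ∈ S | x ^ n = 1⟩`. -/
theorem normalizer_le_normalizer_closure_pow (S : Subgroup G) (n : ℕ) :
    normalizer (S : Set G) ≤
      normalizer ((closure {x : G | x ∈ S ∧ x ^ n = 1} : Subgroup G) : Set G) := by
  have key : ∀ g ∈ normalizer (S : Set G), ∀ w ∈ closure {x : G | x ∈ S ∧ x ^ n = 1},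
      g * w * g⁻¹ ∈ closure {x : G | x ∈ S ∧ x ^ n = 1} := by
    intro g hg w hw
    induction hw using Subgroup.closure_induction with
    | mem x hx =>
      apply Subgroup.subset_closure
      refine ⟨(mem_normalizer_iff.mp hg x).mp hx.1, ?_⟩
      rw [conj_pow, hx.2, mul_one, mul_inv_cancel]
    | one => simp
    | mul x y _ _ hx hy =>
      have : g * (x * y) * g⁻¹ = (g * x * g⁻¹) * (g * y * g⁻¹) := by group
      rw [this]
      exact mul_mem hx hy
    | inv x _ hx =>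
      have : g * x⁻¹ * g⁻¹ = (g * x * g⁻¹)⁻¹ := by group
      rw [this]
      exact inv_mem hx
  intro g hg
  rw [mem_normalizer_iff]
  intro w
  refine ⟨fun hw => key g hg w hw, fun hw => ?_⟩
  have := key g⁻¹ (inv_mem hg) _ hw
  have h2 : g⁻¹ * (g * w * g⁻¹) * g⁻¹⁻¹ = w := by group
  rwa [h2] at this

variable [Finite G]

/-- (Q15) not type P1: every prime of M_sigma is in beta(M), provided some X <= M of prime order acts
on the Sylow q0-subgroup (q0 outside sigma(M) u kappa(M)) of M fixed-point-freely. -/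
theorem mem_beta_of_not_P1 (hG : Cfsg.IsMinSimpleOddOrder G) (M : Subgroup G) (hM : IsCoatom M)
    (q0 : ℕ) [Fact q0.Prime] (hq0M : q0 ∣ Nat.card M) (hq0 : q0 ∉ Cfsg.sigma M ∪ Cfsg.kappa M)
    (S : Sylow q0 M) (X : Subgroup G) (hXM : X ≤ M) (hX : (Nat.card X).Prime)
    (hXσ : Nat.card X ∉ Cfsg.sigma M)
    (hXS : X ≤ normalizer (((S : Subgroup M).map M.subtype : Subgroup G) : Set G))
    (hfpf : ∀ x ∈ X, x ≠ 1 →
      (S : Subgroup M).map M.subtype ⊓ centralizer ({x} : Set G) = ⊥)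
    (q : ℕ) (hq : q.Prime) (hqM : q ∣ Nat.card ↥(Cfsg.sigmaCore M)) :
    q ∈ Cfsg.beta M := by
  classical
  have hq' : Fact q.Prime := ⟨hq⟩
  have hXp : Fact (Nat.card X).Prime := ⟨hX⟩
  have hq0p : q0.Prime := Fact.out
  -- S1429
  have hP1 : ¬ (∀ r : ℕ, r.Prime → r ∣ Nat.card M → r ∉ Cfsg.sigma M → r ∈ Cfsg.kappa M) := by
    intro h
    exact hq0 (Or.inr (h q0 hq0p hq0M (fun h' => hq0 (Or.inl h'))))
  obtain ⟨-, hCW, hnil⟩ := Cfsg.Agent.S1429.result hG M hM hP1 q0 hq0M hq0 S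
  set SG : Subgroup G := (S : Subgroup M).map M.subtype with hSG
  set W : Subgroup G := closure {x : G | x ∈ SG ∧ x ^ q0 = 1} with hW
  -- S1350
  obtain ⟨hHallM, hHallG, -⟩ := Cfsg.Agent.S1350.result hG M hM
  have hqσ : q ∈ Cfsg.sigma M := hHallM.2.1 q hq hqM
  obtain ⟨Q, hQσ, hQq, hQ1, hMQ, hQc⟩ :=
    Cfsg.Agent.Helper69.BG11c.exists_normal_sylow_sigmaCore M hHallG hnil q hqσ hqM
  set V : Subgroup G := Cfsg.Agent.Helper69.BG11c.omegaZ Q q with hV
  have hVQ : V ≤ Q := Cfsg.Agent.Helper69.BG11c.omegaZ_le Q q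
  have hV1 : V ≠ ⊥ := Cfsg.Agent.Helper69.BG11c.omegaZ_ne_bot hQq hQ1
  have hMV : M ≤ normalizer (V : Set G) :=
    hMQ.trans (Cfsg.Agent.Helper69.BG11c.normalizer_le_normalizer_omegaZ Q q)
  have hVea : Cfsg.IsElementaryAbelian q V := Cfsg.Agent.Helper69.BG11c.isElementaryAbelian_omegaZ Q q
  have hVq : IsPGroup q V := hQq.to_le hVQ
  -- basic facts on `S`, `W`, `X`
  have hSGM : SG ≤ M := Subgroup.map_subtype_le _
  have hSGp : IsPGroup q0 SG := S.isPGroup'.map M.subtype
  have hWSG : W ≤ SG := (closure_le _).mpr (fun x hx => hx.1)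
  have hWp : IsPGroup q0 W := hSGp.to_le hWSG
  have hW1 : W ≠ ⊥ := by
    have hdvd : q0 ∣ Nat.card (S : Subgroup M) := S.dvd_card_of_dvd_card hq0M
    obtain ⟨s, hs⟩ := exists_prime_orderOf_dvd_card' q0 hdvd
    have hsG : ((s : M) : G) ∈ W := by
      apply Subgroup.subset_closure
      refine ⟨Subgroup.mem_map.mpr ⟨(s : M), s.2, rfl⟩, ?_⟩
      have h1 : s ^ q0 = 1 := by
        have := pow_orderOf_eq_one s
        rwa [hs] at this
      have h2 := congrArg (fun t : (S : Subgroup M) => ((t : M) : G)) h1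
      simpa using h2
    intro hbot
    rw [hbot, mem_bot] at hsG
    have hs1 : s = 1 := by
      apply Subtype.ext
      apply Subtype.ext
      simpa using hsG
    rw [hs1, orderOf_one] at hs
    exact hq0p.ne_one hs.symm
  have hX1 : X ≠ ⊥ := by
    intro hbot
    rw [hbot, Subgroup.card_bot] at hX
    exact Nat.not_prime_one hX
  have hXcyc : ∀ x ∈ X, x ≠ 1 → ∀ y ∈ X, y ∈ zpowers x := by
    intro x hx hx1 y hy
    have hx1' : (⟨x, hx⟩ : X) ≠ 1 := fun h => hx1 (congrArg Subtype.val h)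
    have := mem_zpowers_of_prime_card (G := X) (p := Nat.card X) rfl (g := ⟨x, hx⟩) (g' := ⟨y, hy⟩) hx1'
    obtain ⟨k, hk⟩ := Subgroup.mem_zpowers_iff.mp this
    refine Subgroup.mem_zpowers_iff.mpr ⟨k, ?_⟩
    have := congrArg Subtype.val hk
    simpa using this
  have hKR : W ⊓ X = ⊥ := by
    rw [Subgroup.eq_bot_iff_forall]
    intro z hz
    by_contra hz1
    have hmem : z ∈ SG ⊓ centralizer ({z} : Set G) := by
      refine Subgroup.mem_inf.mpr ⟨hWSG hz.1, ?_⟩
      rw [Subgroup.mem_centralizer_iff]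
      intro h hh
      rw [Set.mem_singleton_iff.mp hh]
    rw [hfpf z hz.2 hz1, mem_bot] at hmem
    exact hz1 hmem
  have hRK : X ≤ normalizer (W : Set G) :=
    hXS.trans (normalizer_le_normalizer_closure_pow SG q0)
  have hfrob : ∀ r ∈ X, r ≠ 1 → W ⊓ centralizer ({r} : Set G) = ⊥ := by
    intro r hr hr1
    rw [eq_bot_iff]
    exact (inf_le_inf_right _ hWSG).trans (hfpf r hr hr1).le
  have hWXM : W ⊔ X ≤ M := sup_le (hWSG.trans hSGM) hXM
  have hsolv : Group.IsSolvable ↥(W ⊔ X) :=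
    Cfsg.Agent.Helper34.BG.solvable_of_ne_top hG (ne_top_of_le_ne_top hM.1 hWXM)
  have hodd : Odd (Nat.card ↥(W ⊔ X)) :=
    Odd.of_dvd_nat hG.1 (Subgroup.card_subgroup_dvd_card _)
  have hVn : Group.IsNilpotent ↥V := hVq.isNilpotent
  have hKM : W ≤ normalizer (V : Set G) := (hWSG.trans hSGM).trans hMV
  have hRM : X ≤ normalizer (V : Set G) := hXM.trans hMV
  have hne0 : q0 ≠ q := fun h => hq0 (Or.inl (h ▸ hqσ))
  have hneX : Nat.card X ≠ q := fun h => hXσ (h ▸ hqσ)
  have hcop : (Nat.card ↥(W ⊔ X)).Coprime (Nat.card V) := by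
    have hcW : (Nat.card W).Coprime (Nat.card V) :=
      IsPGroup.coprime_card_of_ne q0 q hne0 W V hWp hVq
    have hXpg : IsPGroup (Nat.card X) X := IsPGroup.of_card (n := 1) (by simp)
    have hcX : (Nat.card X).Coprime (Nat.card V) :=
      IsPGroup.coprime_card_of_ne (Nat.card X) q hneX X V hXpg hVq
    rw [sup_comm]
    exact Cfsg.Agent.Helper22.card_sup_coprime hcX hcW hRK
  have hCK : V ⊓ centralizer (W : Set G) = ⊥ := by
    rw [eq_bot_iff]
    exact (inf_le_inf_right _ (hVQ.trans hQσ)).trans hCW.le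
  have hpr : ∀ x ∈ X, x ≠ 1 →
      V ⊓ centralizer ({x} : Set G) = V ⊓ centralizer (X : Set G) := by
    intro x hx hx1
    apply le_antisymm
    · intro v hv
      refine Subgroup.mem_inf.mpr ⟨(Subgroup.mem_inf.mp hv).1, ?_⟩
      have hvx : x * v = v * x :=
        (Subgroup.mem_centralizer_iff.mp (Subgroup.mem_inf.mp hv).2) x (Set.mem_singleton x)
      rw [Subgroup.mem_centralizer_iff]
      intro y hy
      obtain ⟨k, rfl⟩ := Subgroup.mem_zpowers_iff.mp (hXcyc x hx hx1 y hy)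
      exact (Commute.zpow_left (show Commute x v from hvx) k).eq
    · apply inf_le_inf_left
      apply Subgroup.centralizer_le
      intro y hy
      rw [Set.mem_singleton_iff.mp hy]
      exact hx
  obtain ⟨-, hcardV, -⟩ := Cfsg.Agent.S1446.result W X V hW1 hX1 hKR hRK hfrob hsolv hodd hV1 hVn
    hKM hRM hcop hCK hpr
  -- `q ^ 3 ≤ |V|`
  have hV3 : q ^ 3 ≤ Nat.card V := by
    have hc1 : Nat.card ↥(V ⊓ centralizer (X : Set G)) ≠ 1 := by
      intro h1
      rw [h1, one_pow] at hcardV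
      exact hV1 (Subgroup.eq_bot_of_card_eq V hcardV)
    have hcq : IsPGroup q ↥(V ⊓ centralizer (X : Set G)) := hVq.to_le inf_le_left
    have hdvd : q ∣ Nat.card ↥(V ⊓ centralizer (X : Set G)) := by
      rcases hcq.card_eq_or_dvd with h | h
      · exact absurd h hc1
      · exact h
    have hqc : q ≤ Nat.card ↥(V ⊓ centralizer (X : Set G)) := Nat.le_of_dvd Nat.card_pos hdvd
    have hXodd : Odd (Nat.card X) := Odd.of_dvd_nat hG.1 (Subgroup.card_subgroup_dvd_card _)
    have hX3 : 3 ≤ Nat.card X := by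
      have h2 := hX.two_le
      rcases hXodd with ⟨k, hk⟩
      omega
    rw [hcardV]
    exact (Nat.pow_le_pow_right hq.pos hX3).trans (Nat.pow_le_pow_left hqc _)
  have hlt : q ^ 2 < q ^ 3 := Nat.pow_lt_pow_right hq.one_lt (by norm_num)
  have hVM : V ≤ M := (hVQ.trans hQσ).trans hHallM.1
  refine ⟨⟨hq, fun h => ?_⟩, hq, fun h => ?_, fun P A hAP hAea hAc => ?_⟩
  · -- `q`-rank of `M` at least 3
    have hcomm : IsMulCommutative ↥(V.subgroupOf M) := by
      refine ⟨⟨fun a b => ?_⟩⟩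
      have := hVea.1.is_comm.comm ⟨(a : M), Subgroup.mem_subgroupOf.mp a.2⟩
        ⟨(b : M), Subgroup.mem_subgroupOf.mp b.2⟩
      have h2 : ((a : M) : G) * ((b : M) : G) = ((b : M) : G) * ((a : M) : G) :=
        congrArg Subtype.val this
      apply Subtype.ext
      apply Subtype.ext
      simpa using h2
    have hexp : ∀ a ∈ V.subgroupOf M, a ^ q = 1 := by
      intro a ha
      apply Subtype.ext
      have := hVea.2 _ (Subgroup.mem_subgroupOf.mp ha)
      simpa using this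
    have hle := h (V.subgroupOf M) hcomm hexp
    rw [Nat.card_congr (Subgroup.subgroupOfEquivOfLe hVM).toEquiv] at hle
    omega
  · have hle := h V hVea.1 hVea.2
    omega
  · -- the ideal condition
    let Q' : Sylow q G := Sylow.ofCard Q hQc
    obtain ⟨g, hg⟩ := MulAction.exists_smul_eq G Q' P
    have hPQ : ∀ y : G, y ∈ (P : Subgroup G) ↔ g⁻¹ * y * g ∈ Q := by
      intro y
      rw [← hg, Sylow.smul_def, Sylow.pointwise_smul_def,
        Subgroup.mem_pointwise_smul_iff_inv_smul_mem]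
      simp [MulAut.smul_def, Q']
    set Vg : Subgroup G := V.map (MulAut.conj g).toMonoidHom with hVg
    have hVgmem : ∀ y ∈ Vg, ∃ v ∈ V, y = g * v * g⁻¹ := by
      intro y hy
      obtain ⟨v, hv, rfl⟩ := Subgroup.mem_map.mp hy
      exact ⟨v, hv, by simp⟩
    have hVgP : Vg ≤ (P : Subgroup G) := by
      intro y hy
      obtain ⟨v, hv, rfl⟩ := hVgmem y hy
      rw [hPQ]
      have : g⁻¹ * (g * v * g⁻¹) * g = v := by group
      rw [this]
      exact hVQ hv
    have hVgea : Cfsg.IsElementaryAbelian q Vg := by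
      refine ⟨⟨⟨fun a b => ?_⟩⟩, fun a ha => ?_⟩
      · obtain ⟨v, hv, hav⟩ := hVgmem a a.2
        obtain ⟨w, hw, hbw⟩ := hVgmem b b.2
        have h1 : v * w = w * v := congrArg Subtype.val (hVea.1.is_comm.comm ⟨v, hv⟩ ⟨w, hw⟩)
        apply Subtype.ext
        show (a : G) * (b : G) = (b : G) * (a : G)
        rw [hav, hbw]
        have e1 : g * v * g⁻¹ * (g * w * g⁻¹) = g * (v * w) * g⁻¹ := by group
        have e2 : g * w * g⁻¹ * (g * v * g⁻¹) = g * (w * v) * g⁻¹ := by group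
        rw [e1, e2, h1]
      · obtain ⟨v, hv, rfl⟩ := hVgmem a ha
        rw [conj_pow, hVea.2 v hv, mul_one, mul_inv_cancel]
    have hAV : ∀ a ∈ A, ∀ b ∈ Vg, a * b = b * a := by
      intro a ha b hb
      obtain ⟨v, hv, rfl⟩ := hVgmem b hb
      have ha' : g⁻¹ * a * g ∈ Q := (hPQ a).mp (hAP ha)
      have hc := (Cfsg.Agent.Helper69.BG11c.mem_omegaZ.mp hv).2.1 _ ha'
      have e1 : a * (g * v * g⁻¹) = g * ((g⁻¹ * a * g) * v) * g⁻¹ := by group
      have e2 : g * v * g⁻¹ * a = g * (v * (g⁻¹ * a * g)) * g⁻¹ := by group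
      rw [e1, e2, hc]
    have hcVg : Nat.card Vg = Nat.card V :=
      Subgroup.card_map_of_injective (MulAut.conj g).injective
    refine ⟨A ⊔ Vg, sup_le hAP hVgP, Cfsg.Agent.Helper53.ea_sup_of_commute hAea hVgea hAV,
      lt_of_le_of_ne le_sup_left (fun h => ?_)⟩
    have hle : Vg ≤ A := by rw [h]; exact le_sup_right
    have := Subgroup.card_le_of_le hle
    omega

end Cfsg.Agent.Helper82.BG142Req
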