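import Mathlib
import Cfsg.Agent.Lib.Helper38.SL2Lift
import Cfsg.Agent.Lib.Helper38.SL2PresMain

/-!
# R1 (ISO) iso_of_ker_le_center (helper82, for helper83's R1 server, S5022)
-/

set_option autoImplicit false

namespace Cfsg.Agent.Helper82.R1

open Cfsg.Agent.Helper38.SL2Pres

variable {Γ : Type*} [Group Γ] {p : ℕ} [Fact p.Prime]

/-- a central element of `SL₂(ZMod p)` is `1` or has matrix `scalar (-1)` -/
theorem h82_center_cases (z : Matrix.SpecialLinearGroup (Fin 2) (ZMod p))
    (hz : z ∈ Subgroup.center (Matrix.SpecialLinearGroup (Fin 2) (ZMod p))) :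
    z = 1 ∨ (z : Matrix (Fin 2) (Fin 2) (ZMod p)) = Matrix.scalar (Fin 2) (-1 : ZMod p) := by
  rw [Matrix.SpecialLinearGroup.mem_center_iff] at hz
  obtain ⟨r, hr, hrz⟩ := hz
  have hr2 : r * r = 1 := by
    have : r ^ 2 = 1 := by simpa using hr
    rw [← this, sq]
  rcases mul_self_eq_one_iff.mp hr2 with h1 | h1
  · left
    apply Subtype.ext
    rw [← hrz, h1]
    simp
  · right
    rw [← hrz, h1]

theorem iso_of_ker_le_center (Φ : Matrix.SpecialLinearGroup (Fin 2) (ZMod p) →* Γ)
    (h : Φ.ker ≤ Subgroup.center (Matrix.SpecialLinearGroup (Fin 2) (ZMod p))) :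
    Nonempty (Φ.range ≃* Matrix.SpecialLinearGroup (Fin 2) (ZMod p)) ∨
    Nonempty (Φ.range ≃* Matrix.ProjectiveSpecialLinearGroup (Fin 2) (ZMod p)) := by
  by_cases hK : Φ.ker = ⊥
  · left
    have hinj : Function.Injective Φ := (MonoidHom.ker_eq_bot_iff Φ).mp hK
    exact ⟨(MonoidHom.ofInjective hinj).symm⟩
  · right
    have hKc : Φ.ker = Subgroup.center (Matrix.SpecialLinearGroup (Fin 2) (ZMod p)) := by
      apply le_antisymm h
      obtain ⟨g, hg, hg1⟩ : ∃ g ∈ Φ.ker, g ≠ 1 := by
        by_contra hcon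
        push Not at hcon
        apply hK
        rw [Subgroup.eq_bot_iff_forall]
        exact hcon
      have hgm : (g : Matrix (Fin 2) (Fin 2) (ZMod p)) = Matrix.scalar (Fin 2) (-1 : ZMod p) := by
        rcases h82_center_cases g (h hg) with h1 | h1
        · exact absurd h1 hg1
        · exact h1
      intro z hz
      rcases h82_center_cases z hz with h1 | h1
      · rw [h1]; exact Subgroup.one_mem _
      · have : z = g := Subtype.ext (by rw [h1, hgm])
        rw [this]; exact hg
    exact ⟨(QuotientGroup.quotientKerEquivRange Φ).symm.trans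
      (QuotientGroup.quotientMulEquivOfEq hKc)⟩

end Cfsg.Agent.Helper82.R1
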