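import Mathlib
import Cfsg.Agent.Lib.Helper38.SL2Lift
import Cfsg.Agent.Lib.Helper38.SL2PresMain

/-!
# R1 (RNG) range_eq_closure (helper82, for helper83's R1 server, S5022)
-/

set_option autoImplicit false

namespace Cfsg.Agent.Helper82.R1

open Cfsg.Agent.Helper38.SL2Pres

variable {Γ : Type*} [Group Γ] {p : ℕ} [Fact p.Prime]

theorem range_eq_closure (Φ : Matrix.SpecialLinearGroup (Fin 2) (ZMod p) →* Γ) (a b : Γ)
    (hX : ∀ t : ZMod p, Φ (xmat t) = a ^ t.val) (hY : ∀ t : ZMod p, Φ (ymat t) = b ^ t.val) :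
    Φ.range = Subgroup.closure ({a, b} : Set Γ) := by
  have ha : a ∈ Subgroup.closure ({a, b} : Set Γ) := Subgroup.subset_closure (by simp)
  have hb : b ∈ Subgroup.closure ({a, b} : Set Γ) := Subgroup.subset_closure (by simp)
  apply le_antisymm
  · rintro _ ⟨g, rfl⟩
    have hg := mem_closure_elem g
    induction hg using Subgroup.closure_induction with
    | mem x hx =>
      rcases hx with ⟨t, rfl⟩ | ⟨t, rfl⟩
      · rw [hX]; exact Subgroup.pow_mem _ ha _
      · rw [hY]; exact Subgroup.pow_mem _ hb _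
    | one => rw [map_one]; exact Subgroup.one_mem _
    | mul x y _ _ hx hy => rw [map_mul]; exact Subgroup.mul_mem _ hx hy
    | inv x _ hx => rw [map_inv]; exact Subgroup.inv_mem _ hx
  · rw [Subgroup.closure_le]
    intro x hx
    simp only [Set.mem_insert_iff, Set.mem_singleton_iff] at hx
    have h1 : (1 : ZMod p).val = 1 := ZMod.val_one p
    rcases hx with rfl | rfl
    · refine ⟨xmat 1, ?_⟩
      rw [hX, h1, pow_one]
    · refine ⟨ymat 1, ?_⟩
      rw [hY, h1, pow_one]

end Cfsg.Agent.Helper82.R1
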