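import Mathlib

/-!
# The arithmetic core of Suzuki's theorem on CA-groups of odd order

A "collapsed character table" with rows `1`, `Θ_k` and columns `1`, `𝒞_m` is square; row
orthogonality gives column orthogonality, and the resulting integer relations are contradictory.
-/

set_option autoImplicit false

namespace Cfsg.Agent.Helper82

section colrow

/-- Row orthogonality of a square table gives column orthogonality. -/
theorem col_of_row {I : Type*} [Fintype I] [DecidableEq I] (U : I → I → ℚ) (u w : I → ℚ)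
    (hu : ∀ i, u i ≠ 0) (hw : ∀ i, w i ≠ 0)
    (hrow : ∀ i i', ∑ j, U i j * u j * U i' j = if i = i' then w i else 0) (j j' : I) :
    ∑ i, U i j * U i j' / w i = if j = j' then (u j)⁻¹ else 0 := by
  have hAB : (Matrix.of fun i j => U i j * u j) * (Matrix.of fun j i' => U i' j / w i') =
      (1 : Matrix I I ℚ) := by
    ext i i'
    rw [Matrix.mul_apply, Matrix.one_apply]
    simp only [Matrix.of_apply]
    have h := hrow i i'
    have h2 : ∑ x, U i x * u x * (U i' x / w i') = (∑ x, U i x * u x * U i' x) / w i' := by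
      rw [Finset.sum_div]
      apply Finset.sum_congr rfl
      intro x _
      ring
    rw [h2, h]
    split_ifs with hii
    · subst hii; exact div_self (hw i)
    · exact zero_div _
  have hBA := mul_eq_one_comm.1 hAB
  have h := congrArg (fun M : Matrix I I ℚ => M j j') hBA
  simp only [Matrix.mul_apply, Matrix.one_apply, Matrix.of_apply] at h
  have h2 : ∑ i, U i j / w i * (U i j' * u j') = (∑ i, U i j * U i j' / w i) * u j' := by
    rw [Finset.sum_mul]
    apply Finset.sum_congr rfl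
    intro x _
    ring
  rw [h2] at h
  split_ifs with hjj
  · subst hjj
    rw [if_pos rfl] at h
    exact eq_inv_of_mul_eq_one_left h
  · rw [if_neg hjj] at h
    exact (mul_eq_zero.1 h).resolve_right (hu j')

end colrow

section table

variable {ι : Type*} [Fintype ι] [DecidableEq ι]

/-- The table on `Option ι`. -/
def caU (T : ι → ℚ) (V : ι → ι → ℚ) : Option ι → Option ι → ℚ
  | none, _ => 1
  | some k, none => T k
  | some k, some m => V k m

/-- Row weights. -/
def caw (t : ι → ℚ) : Option ι → ℚ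
  | none => 1
  | some k => t k

/-- Column weights. -/
def cau (g : ℚ) (r : ι → ℚ) : Option ι → ℚ
  | none => g⁻¹
  | some m => r m

/-- Column relations of the collapsed table. -/
theorem ca_columns (g : ℚ) (hg : g ≠ 0) (r t T : ι → ℚ) (V : ι → ι → ℚ)
    (hr : ∀ m, r m ≠ 0) (ht : ∀ m, t m ≠ 0)
    (h1 : ∀ k l, T k * T l / g + ∑ m, r m * V k m * V l m = if k = l then t k else 0)
    (h2 : ∀ k, T k / g + ∑ m, r m * V k m = 0)
    (h3 : 1 / g + ∑ m, r m = 1) (k l : ι) :
    1 + ∑ i, V i k * V i l / t i = if k = l then (r k)⁻¹ else 0 := by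
  have hu : ∀ i, cau g r i ≠ 0 := by
    intro i
    cases i with
    | none => exact inv_ne_zero hg
    | some m => exact hr m
  have hw : ∀ i, caw t i ≠ 0 := by
    intro i
    cases i with
    | none => exact one_ne_zero
    | some m => exact ht m
  have hrow : ∀ i i', ∑ j, caU T V i j * cau g r j * caU T V i' j =
      if i = i' then caw t i else 0 := by
    intro i i'
    rw [Fintype.sum_option]
    cases i with
    | none =>
      cases i' with
      | none =>
        rw [if_pos rfl]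
        simp only [caU, cau, caw, one_mul, mul_one]
        rw [← h3, one_div]
      | some l =>
        rw [if_neg (by simp)]
        simp only [caU, cau, one_mul]
        rw [← h2 l, div_eq_mul_inv, mul_comm (T l)]
    | some k =>
      cases i' with
      | none =>
        rw [if_neg (by simp)]
        simp only [caU, cau, mul_one]
        rw [← h2 k, div_eq_mul_inv]
        congr 1
        apply Finset.sum_congr rfl
        intro m _
        ring
      | some l =>
        simp only [caU, cau, caw, Option.some.injEq]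
        rw [← h1 k l]
        congr 1
        · ring
        · apply Finset.sum_congr rfl
          intro m _
          ring
  have h := col_of_row (caU T V) (cau g r) (caw t) hu hw hrow (some k) (some l)
  rw [Fintype.sum_option] at h
  simp only [caU, cau, caw, Option.some.injEq, mul_one, div_one] at h
  exact h

end table

section arith

variable {ι : Type*} [Fintype ι] [DecidableEq ι]

/-- The purely numerical contradiction. -/
theorem ca_ineq [Nonempty ι] (g : ℕ) (t e a : ι → ℕ) (c : ι → ι → ℤ) (hg : 0 < g)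
    (ha : ∀ k, a k = t k * e k + 1) (ht2 : ∀ k, 2 ≤ t k) (hte : ∀ k, Even (t k))
    (he3 : ∀ k, 3 ≤ e k) (heo : ∀ k, Odd (e k)) (hag : ∀ k, a k ∣ g)
    (hcop : ∀ k l, k ≠ l → Nat.Coprime (a k) (a l))
    (H1 : ∀ k, ∑ i ∈ Finset.univ.erase k, (t i : ℤ) * c i k ^ 2 + 1 ≤ e k)
    (H2 : ∀ k l, k ≠ l → Odd (c k l + c l k))
    (H3 : ∀ k, ∑ m ∈ Finset.univ.erase k, ((t m : ℚ) / a m) * (c k m : ℚ) ^ 2 ≤
      (1 + ((∑ i ∈ Finset.univ.erase k, (t i : ℤ) * c i k ^ 2 : ℤ) : ℚ)) / a k)
    (h3 : 1 / (g : ℚ) + ∑ m, (t m : ℚ) / a m = 1) : False := by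
  have hgq : (0 : ℚ) < g := by exact_mod_cast hg
  have haq : ∀ k, (0 : ℚ) < a k := by
    intro k
    have : 0 < a k := by rw [ha k]; omega
    exact_mod_cast this
  have heq : ∀ k, (0 : ℚ) < e k := by
    intro k
    have : 0 < e k := by have := he3 k; omega
    exact_mod_cast this
  have hag' : ∀ k, a k ≤ g := fun k => Nat.le_of_dvd hg (hag k)
  -- the basic bound
  have hbound : ∀ k (E : ℕ), 0 < E → (∀ m, m ≠ k → c k m = 0 → E ≤ e m) →
      ∃ r s : ℤ, 0 ≤ r ∧ 2 * r ≤ s ∧ s + 1 ≤ e k ∧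
        (1 - 1 / (g : ℚ)) ≤ ((t k : ℚ) + 1 + s) / a k + r / E := by
    intro k E hE hEm
    have hEq : (0 : ℚ) < E := by exact_mod_cast hE
    refine ⟨(((Finset.univ.erase k).filter (fun m => c k m = 0)).card : ℤ),
      ∑ i ∈ Finset.univ.erase k, (t i : ℤ) * c i k ^ 2, Nat.cast_nonneg _, ?_, H1 k, ?_⟩
    · -- 2 r ≤ s
      have hsub : (Finset.univ.erase k).filter (fun m => c k m = 0) ⊆ Finset.univ.erase k :=
        Finset.filter_subset _ _
      have h1 : ∑ i ∈ (Finset.univ.erase k).filter (fun m => c k m = 0), (t i : ℤ) * c i k ^ 2 ≤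
          ∑ i ∈ Finset.univ.erase k, (t i : ℤ) * c i k ^ 2 := by
        apply Finset.sum_le_sum_of_subset_of_nonneg hsub
        intro i _ _
        positivity
      have h2 : ∑ _i ∈ (Finset.univ.erase k).filter (fun m => c k m = 0), (2 : ℤ) ≤
          ∑ i ∈ (Finset.univ.erase k).filter (fun m => c k m = 0), (t i : ℤ) * c i k ^ 2 := by
        apply Finset.sum_le_sum
        intro i hi
        rw [Finset.mem_filter] at hi
        have hik : i ≠ k := Finset.ne_of_mem_erase hi.1
        have hodd := H2 k i hik.symm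
        rw [hi.2, zero_add] at hodd
        have hne : c i k ≠ 0 := by
          rintro h0
          rw [h0] at hodd
          exact absurd hodd (by decide)
        have hsq : 1 ≤ c i k ^ 2 := by
          have := sq_nonneg (c i k)
          have h' : c i k ^ 2 ≠ 0 := pow_ne_zero 2 hne
          omega
        have ht : (2 : ℤ) ≤ t i := by exact_mod_cast ht2 i
        nlinarith
      rw [Finset.sum_const, nsmul_eq_mul] at h2
      linarith
    · -- the main inequality
      have hx : 1 - 1 / (g : ℚ) = ∑ m, (t m : ℚ) / a m := by linarith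
      rw [hx, ← Finset.add_sum_erase Finset.univ _ (Finset.mem_univ k)]
      have hpt : ∀ m ∈ Finset.univ.erase k, (t m : ℚ) / a m ≤
          ((t m : ℚ) / a m) * (c k m : ℚ) ^ 2 + (if c k m = 0 then 1 / (E : ℚ) else 0) := by
        intro m hm
        have hmk : m ≠ k := Finset.ne_of_mem_erase hm
        have hnn : (0 : ℚ) ≤ (t m : ℚ) / a m := by positivity
        by_cases h0 : c k m = 0
        · rw [if_pos h0, h0]
          have hE' : (E : ℚ) ≤ e m := by exact_mod_cast hEm m hmk h0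
          have h1 : (t m : ℚ) / a m ≤ 1 / e m := by
            rw [div_le_div_iff₀ (haq m) (heq m), ha m]
            push_cast
            nlinarith
          have h2 : 1 / (e m : ℚ) ≤ 1 / E := one_div_le_one_div_of_le hEq hE'
          simp only [Int.cast_zero, ne_eq, OfNat.ofNat_ne_zero, not_false_eq_true, zero_pow,
            mul_zero, zero_add]
          linarith
        · rw [if_neg h0, add_zero]
          have hsq : (1 : ℤ) ≤ c k m ^ 2 := by
            have := sq_nonneg (c k m)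
            have h' : c k m ^ 2 ≠ 0 := pow_ne_zero 2 h0
            omega
          have hsq' : (1 : ℚ) ≤ (c k m : ℚ) ^ 2 := by exact_mod_cast hsq
          exact le_mul_of_one_le_right hnn hsq'
      have hsum := Finset.sum_le_sum hpt
      rw [Finset.sum_add_distrib, ← Finset.sum_filter, Finset.sum_const, nsmul_eq_mul] at hsum
      have h3' := H3 k
      have : (((Finset.univ.erase k).filter (fun m => c k m = 0)).card : ℚ) * (1 / (E : ℚ)) =
          ((((Finset.univ.erase k).filter (fun m => c k m = 0)).card : ℤ) : ℚ) / E := by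
        push_cast
        ring
      rw [this] at hsum
      have hsplit : ((t k : ℚ) + 1 + ((∑ i ∈ Finset.univ.erase k, (t i : ℤ) * c i k ^ 2 : ℤ) : ℚ))
          / a k = (t k : ℚ) / a k +
            (1 + ((∑ i ∈ Finset.univ.erase k, (t i : ℤ) * c i k ^ 2 : ℤ) : ℚ)) / a k := by
        ring
      rw [hsplit]
      linarith
  -- minimal `e`
  obtain ⟨k₀, hk₀⟩ := Finite.exists_min e
  -- a family with minimal `e` has `t = 2`
  have hmin2 : ∀ k, (∀ l, e k ≤ e l) → t k = 2 := by
    intro k hk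
    by_contra hne
    have ht4 : 4 ≤ t k := by
      obtain ⟨j, hj⟩ := hte k
      have := ht2 k
      omega
    obtain ⟨r, s, hr0, hrs, hs, hb⟩ := hbound k (e k) (by have := he3 k; omega)
      (fun m _ _ => hk m)
    have hga : 1 / (g : ℚ) ≤ 1 / a k :=
      one_div_le_one_div_of_le (haq k) (by exact_mod_cast hag' k)
    have hb' : 1 - 1 / (a k : ℚ) ≤ ((t k : ℚ) + 1 + s) / a k + r / e k := by linarith
    have key : (a k : ℚ) * e k - e k ≤ ((t k : ℚ) + 1 + s) * e k + r * a k := by
      have h := mul_le_mul_of_nonneg_right hb'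
        (le_of_lt (mul_pos (haq k) (heq k)) : (0 : ℚ) ≤ a k * e k)
      have e1 : (1 - 1 / (a k : ℚ)) * (a k * e k) = (a k : ℚ) * e k - e k := by
        have := (haq k).ne'
        field_simp
      have e2 : (((t k : ℚ) + 1 + s) / a k + r / e k) * (a k * e k) =
          ((t k : ℚ) + 1 + s) * e k + r * a k := by
        have := (haq k).ne'
        have := (heq k).ne'
        field_simp
      rw [e1, e2] at h
      exact h
    have keyZ : (a k : ℤ) * e k - e k ≤ ((t k : ℤ) + 1 + s) * e k + r * a k := by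
      exact_mod_cast key
    have haZ : (a k : ℤ) = t k * e k + 1 := by exact_mod_cast ha k
    have htZ : (4 : ℤ) ≤ t k := by exact_mod_cast ht4
    have heZ : (3 : ℤ) ≤ e k := by exact_mod_cast he3 k
    rw [haZ] at keyZ
    have p1 : s * (e k : ℤ) ≤ ((e k : ℤ) - 1) * e k :=
      mul_le_mul_of_nonneg_right (by linarith) (by linarith)
    have p2 : 2 * r * ((t k : ℤ) * e k) ≤ ((e k : ℤ) - 1) * ((t k : ℤ) * e k) :=
      mul_le_mul_of_nonneg_right (by linarith) (by positivity)
    have p3 : 0 ≤ ((t k : ℤ) - 4) * ((e k : ℤ) - 3) * e k :=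
      mul_nonneg (mul_nonneg (by linarith) (by linarith)) (by linarith)
    have p4 : 0 ≤ ((t k : ℤ) - 4) * e k := mul_nonneg (by linarith) (by linarith)
    have p5 : 0 ≤ ((e k : ℤ) - 3) * e k := mul_nonneg (by linarith) (by linarith)
    nlinarith [keyZ, p1, p2, p3, p4, p5]
  have htk : t k₀ = 2 := hmin2 k₀ hk₀
  have hak : a k₀ = 2 * e k₀ + 1 := by rw [ha k₀, htk]
  -- the other families have larger `e`
  have hem : ∀ m, m ≠ k₀ → e k₀ + 2 ≤ e m := by
    intro m hm
    have hne : e m ≠ e k₀ := by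
      intro heq'
      have htm : t m = 2 := hmin2 m (fun l => by rw [heq']; exact hk₀ l)
      have ham : a m = a k₀ := by rw [ha m, ha k₀, htm, htk, heq']
      have hc := hcop m k₀ hm
      rw [ham, Nat.coprime_self] at hc
      have := he3 k₀
      omega
    obtain ⟨j, hj⟩ := heo m
    obtain ⟨j', hj'⟩ := heo k₀
    have := hk₀ m
    omega
  by_cases hex : ∃ m, m ≠ k₀
  · obtain ⟨m, hm⟩ := hex
    obtain ⟨r, s, hr0, hrs, hs, hb⟩ := hbound k₀ (e k₀ + 2) (by omega)
      (fun m hm _ => hem m hm)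
    have ham : 2 * e k₀ + 5 ≤ a m := by
      rw [ha m]
      have h1 := Nat.mul_le_mul (ht2 m) (hem m hm)
      omega
    have hgge : (2 * e k₀ + 1) * (2 * e k₀ + 5) ≤ g := by
      have hdvd : a k₀ * a m ∣ g :=
        Nat.Coprime.mul_dvd_of_dvd_of_dvd (hcop k₀ m hm.symm) (hag k₀) (hag m)
      have h1 := Nat.le_of_dvd hg hdvd
      have h2 : (2 * e k₀ + 1) * (2 * e k₀ + 5) ≤ a k₀ * a m := by
        rw [hak]
        exact Nat.mul_le_mul_left _ ham
      omega
    have hP : (0 : ℚ) < (2 * (e k₀ : ℚ) + 1) * (2 * (e k₀ : ℚ) + 5) := by positivity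
    have hga : 1 / (g : ℚ) ≤ 1 / ((2 * (e k₀ : ℚ) + 1) * (2 * (e k₀ : ℚ) + 5)) := by
      apply one_div_le_one_div_of_le hP
      exact_mod_cast hgge
    have hakq : (a k₀ : ℚ) = 2 * (e k₀ : ℚ) + 1 := by rw [hak]; push_cast; ring
    have htkq : (t k₀ : ℚ) = 2 := by rw [htk]; norm_num
    rw [hakq, htkq] at hb
    push_cast at hb
    have hb' : 1 - 1 / ((2 * (e k₀ : ℚ) + 1) * (2 * (e k₀ : ℚ) + 5)) ≤
        ((2 : ℚ) + 1 + s) / (2 * (e k₀ : ℚ) + 1) + r / ((e k₀ : ℚ) + 2) := by linarith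
    have h1 : (0 : ℚ) < 2 * (e k₀ : ℚ) + 1 := by positivity
    have h2 : (0 : ℚ) < 2 * (e k₀ : ℚ) + 5 := by positivity
    have h3 : (0 : ℚ) < (e k₀ : ℚ) + 2 := by positivity
    have key : (2 * (e k₀ : ℚ) + 1) * (2 * (e k₀ : ℚ) + 5) * ((e k₀ : ℚ) + 2) - ((e k₀ : ℚ) + 2) ≤
        ((2 : ℚ) + 1 + s) * (2 * (e k₀ : ℚ) + 5) * ((e k₀ : ℚ) + 2) +
          r * (2 * (e k₀ : ℚ) + 1) * (2 * (e k₀ : ℚ) + 5) := by
      have h := mul_le_mul_of_nonneg_right hb'
        (le_of_lt (mul_pos (mul_pos h1 h2) h3) :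
          (0 : ℚ) ≤ (2 * (e k₀ : ℚ) + 1) * (2 * (e k₀ : ℚ) + 5) * ((e k₀ : ℚ) + 2))
      have e1 : (1 - 1 / ((2 * (e k₀ : ℚ) + 1) * (2 * (e k₀ : ℚ) + 5))) *
          ((2 * (e k₀ : ℚ) + 1) * (2 * (e k₀ : ℚ) + 5) * ((e k₀ : ℚ) + 2)) =
          (2 * (e k₀ : ℚ) + 1) * (2 * (e k₀ : ℚ) + 5) * ((e k₀ : ℚ) + 2) - ((e k₀ : ℚ) + 2) := by
        have := h1.ne'
        have := h2.ne'
        field_simp
      have e2 : (((2 : ℚ) + 1 + s) / (2 * (e k₀ : ℚ) + 1) + r / ((e k₀ : ℚ) + 2)) *
          ((2 * (e k₀ : ℚ) + 1) * (2 * (e k₀ : ℚ) + 5) * ((e k₀ : ℚ) + 2)) =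
          ((2 : ℚ) + 1 + s) * (2 * (e k₀ : ℚ) + 5) * ((e k₀ : ℚ) + 2) +
          r * (2 * (e k₀ : ℚ) + 1) * (2 * (e k₀ : ℚ) + 5) := by
        have := h1.ne'
        have := h3.ne'
        field_simp
      rw [e1, e2] at h
      exact h
    have keyZ : (2 * (e k₀ : ℤ) + 1) * (2 * (e k₀ : ℤ) + 5) * ((e k₀ : ℤ) + 2) - ((e k₀ : ℤ) + 2) ≤
        ((2 : ℤ) + 1 + s) * (2 * (e k₀ : ℤ) + 5) * ((e k₀ : ℤ) + 2) +
          r * (2 * (e k₀ : ℤ) + 1) * (2 * (e k₀ : ℤ) + 5) := by
      exact_mod_cast key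
    have heZ : (3 : ℤ) ≤ e k₀ := by exact_mod_cast he3 k₀
    have p1 : s * ((2 * (e k₀ : ℤ) + 5) * ((e k₀ : ℤ) + 2)) ≤
        ((e k₀ : ℤ) - 1) * ((2 * (e k₀ : ℤ) + 5) * ((e k₀ : ℤ) + 2)) :=
      mul_le_mul_of_nonneg_right (by linarith) (by positivity)
    have p2 : 2 * r * ((2 * (e k₀ : ℤ) + 1) * (2 * (e k₀ : ℤ) + 5)) ≤
        ((e k₀ : ℤ) - 1) * ((2 * (e k₀ : ℤ) + 1) * (2 * (e k₀ : ℤ) + 5)) :=
      mul_le_mul_of_nonneg_right (by linarith) (by positivity)
    have p3 : 0 ≤ ((e k₀ : ℤ) - 3) * e k₀ := mul_nonneg (by linarith) (by linarith)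
    nlinarith [keyZ, p1, p2, p3]
  · push Not at hex
    have hsum : ∑ m, (t m : ℚ) / a m = (t k₀ : ℚ) / a k₀ := by
      apply Finset.sum_eq_single k₀
      · intro b _ hb
        exact absurd (hex b) hb
      · intro h
        exact absurd (Finset.mem_univ _) h
    rw [hsum] at h3
    have hga : 1 / (g : ℚ) ≤ 1 / a k₀ :=
      one_div_le_one_div_of_le (haq k₀) (by exact_mod_cast hag' k₀)
    have hakq : (a k₀ : ℚ) = 2 * (e k₀ : ℚ) + 1 := by rw [hak]; push_cast; ring
    have htkq : (t k₀ : ℚ) = 2 := by rw [htk]; norm_num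
    rw [hakq, htkq] at h3
    rw [hakq] at hga
    have heQ : (3 : ℚ) ≤ e k₀ := by exact_mod_cast he3 k₀
    have h7 : (2 : ℚ) / (2 * (e k₀ : ℚ) + 1) ≤ 2 / 7 := by
      apply div_le_div_of_nonneg_left (by norm_num) (by norm_num) (by linarith)
    have h8 : (1 : ℚ) / (2 * (e k₀ : ℚ) + 1) ≤ 1 / 7 := by
      apply div_le_div_of_nonneg_left (by norm_num) (by norm_num) (by linarith)
    linarith

/-- The entries of the collapsed table. -/
def caV (t : ι → ℕ) (c : ι → ι → ℤ) (z : ι → ℤ) (k m : ι) : ℚ :=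
  if m = k then (z k : ℚ) else (t k : ℚ) * (c k m : ℚ)

/-- The collapsed table of a CA-group of odd order cannot exist. -/
theorem ca_arith [Nonempty ι] (g : ℕ) (t e a : ι → ℕ) (c : ι → ι → ℤ) (z : ι → ℤ) (T : ι → ℚ)
    (hg : 0 < g)
    (ha : ∀ k, a k = t k * e k + 1) (ht2 : ∀ k, 2 ≤ t k) (hte : ∀ k, Even (t k))
    (he3 : ∀ k, 3 ≤ e k) (heo : ∀ k, Odd (e k)) (hag : ∀ k, a k ∣ g)
    (hcop : ∀ k l, k ≠ l → Nat.Coprime (a k) (a l))
    (h1 : ∀ k l, T k * T l / g + ∑ m, ((t m : ℚ) / a m) * caV t c z k m * caV t c z l m =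
      if k = l then (t k : ℚ) else 0)
    (h2 : ∀ k, T k / g + ∑ m, ((t m : ℚ) / a m) * caV t c z k m = 0)
    (h3 : 1 / (g : ℚ) + ∑ m, (t m : ℚ) / a m = 1) : False := by
  have hgq : (0 : ℚ) < g := by exact_mod_cast hg
  have haq : ∀ k, (0 : ℚ) < a k := by
    intro k
    have : 0 < a k := by rw [ha k]; omega
    exact_mod_cast this
  have htq : ∀ k, (0 : ℚ) < t k := by
    intro k
    have : 0 < t k := by have := ht2 k; omega
    exact_mod_cast this
  have hcol := ca_columns (g : ℚ) hgq.ne' (fun m => (t m : ℚ) / a m) (fun m => (t m : ℚ)) T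
    (caV t c z) (fun m => (div_pos (htq m) (haq m)).ne') (fun m => (htq m).ne') h1 h2 h3
  have hVne : ∀ i k, i ≠ k → caV t c z i k = (t i : ℚ) * (c i k : ℚ) := by
    intro i k hik
    unfold caV
    rw [if_neg (Ne.symm hik)]
  have hVeq : ∀ k, caV t c z k k = (z k : ℚ) := by
    intro k
    unfold caV
    rw [if_pos rfl]
  -- the diagonal column relation
  have hkk : ∀ k, (t k : ℤ) + z k ^ 2 +
      t k * ∑ i ∈ Finset.univ.erase k, (t i : ℤ) * c i k ^ 2 = a k := by
    intro k
    have h := hcol k k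
    rw [if_pos rfl, ← Finset.add_sum_erase Finset.univ _ (Finset.mem_univ k), hVeq] at h
    have h5 : ∑ i ∈ Finset.univ.erase k, caV t c z i k * caV t c z i k / (t i : ℚ) =
        ((∑ i ∈ Finset.univ.erase k, (t i : ℤ) * c i k ^ 2 : ℤ) : ℚ) := by
      push_cast
      apply Finset.sum_congr rfl
      intro i hi
      rw [hVne i k (Finset.ne_of_mem_erase hi)]
      have := (htq i).ne'
      field_simp
    rw [h5] at h
    have h6 : (t k : ℚ) + (z k : ℚ) ^ 2 +
        t k * ((∑ i ∈ Finset.univ.erase k, (t i : ℤ) * c i k ^ 2 : ℤ) : ℚ) = a k := by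
      have h7 := (htq k).ne'
      have h8 := (haq k).ne'
      have h9 : ((t k : ℚ) / a k)⁻¹ = (a k : ℚ) / t k := inv_div _ _
      rw [h9] at h
      field_simp at h
      linarith
    exact_mod_cast h6
  have haZ : ∀ k, (a k : ℤ) = t k * e k + 1 := fun k => by exact_mod_cast ha k
  have htZ : ∀ k, (2 : ℤ) ≤ t k := fun k => by exact_mod_cast ht2 k
  have H1 : ∀ k, ∑ i ∈ Finset.univ.erase k, (t i : ℤ) * c i k ^ 2 + 1 ≤ e k := by
    intro k
    by_contra hlt
    push Not at hlt
    have h := hkk k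
    rw [haZ k] at h
    have h2' := htZ k
    have h3' := sq_nonneg (z k)
    nlinarith
  have hzodd : ∀ k, Odd (z k) := by
    intro k
    obtain ⟨j, hj⟩ := hte k
    have h := hkk k
    rw [haZ k, hj] at h
    push_cast at h
    have hsq : Odd (z k ^ 2) := by
      refine ⟨(j : ℤ) * e k - j - j * ∑ i ∈ Finset.univ.erase k, (t i : ℤ) * c i k ^ 2, ?_⟩
      linarith
    rcases Int.odd_pow.1 hsq with h' | h'
    · exact h'
    · exact absurd h' (by norm_num)
  have H2 : ∀ k l, k ≠ l → Odd (c k l + c l k) := by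
    intro k l hkl
    have h := hcol k l
    rw [if_neg hkl] at h
    have hq : ∀ i, caV t c z i k * caV t c z i l / (t i : ℚ) =
        (((if i = k then z k * c k l else if i = l then c l k * z l
          else (t i : ℤ) * (c i k * c i l)) : ℤ) : ℚ) := by
      intro i
      have := (htq i).ne'
      by_cases hik : i = k
      · subst hik
        rw [if_pos rfl, hVeq, hVne i l hkl]
        push_cast
        field_simp
      · rw [if_neg hik]
        by_cases hil : i = l
        · subst hil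
          rw [if_pos rfl, hVeq, hVne i k hik]
          push_cast
          field_simp
        · rw [if_neg hil, hVne i k hik, hVne i l hil]
          push_cast
          field_simp
    rw [Finset.sum_congr rfl (fun i _ => hq i), ← Int.cast_sum] at h
    have hZ : (1 : ℤ) + ∑ i, (if i = k then z k * c k l else if i = l then c l k * z l
          else (t i : ℤ) * (c i k * c i l)) = 0 := by exact_mod_cast h
    rw [← Finset.add_sum_erase Finset.univ _ (Finset.mem_univ k), if_pos rfl,
      ← Finset.add_sum_erase (Finset.univ.erase k) _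
        (Finset.mem_erase.2 ⟨hkl.symm, Finset.mem_univ l⟩), if_neg hkl.symm, if_pos rfl] at hZ
    have hdvd : (2 : ℤ) ∣ ∑ i ∈ (Finset.univ.erase k).erase l,
        (if i = k then z k * c k l else if i = l then c l k * z l
          else (t i : ℤ) * (c i k * c i l)) := by
      apply Finset.dvd_sum
      intro i hi
      have hil : i ≠ l := Finset.ne_of_mem_erase hi
      have hik : i ≠ k := Finset.ne_of_mem_erase (Finset.mem_of_mem_erase hi)
      rw [if_neg hik, if_neg hil]
      obtain ⟨j, hj⟩ := hte i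
      refine ⟨j * (c i k * c i l), ?_⟩
      rw [hj]
      push_cast
      ring
    obtain ⟨R, hR⟩ := hdvd
    obtain ⟨u, hu⟩ := hzodd k
    obtain ⟨v, hv⟩ := hzodd l
    rw [hR, hu, hv] at hZ
    refine ⟨-u * c k l - v * c l k - R - 1, ?_⟩
    linarith
  have H3 : ∀ k, ∑ m ∈ Finset.univ.erase k, ((t m : ℚ) / a m) * (c k m : ℚ) ^ 2 ≤
      (1 + ((∑ i ∈ Finset.univ.erase k, (t i : ℤ) * c i k ^ 2 : ℤ) : ℚ)) / a k := by
    intro k
    have hrow := h1 k k
    rw [if_pos rfl, ← Finset.add_sum_erase Finset.univ _ (Finset.mem_univ k), hVeq] at hrow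
    have h5 : ∑ m ∈ Finset.univ.erase k, ((t m : ℚ) / a m) * caV t c z k m * caV t c z k m =
        (t k : ℚ) ^ 2 * ∑ m ∈ Finset.univ.erase k, ((t m : ℚ) / a m) * (c k m : ℚ) ^ 2 := by
      rw [Finset.mul_sum]
      apply Finset.sum_congr rfl
      intro m hm
      rw [hVne k m (Finset.ne_of_mem_erase hm).symm]
      ring
    rw [h5] at hrow
    have hz : ((z k : ℚ)) ^ 2 = (a k : ℚ) - t k -
        t k * ((∑ i ∈ Finset.univ.erase k, (t i : ℤ) * c i k ^ 2 : ℤ) : ℚ) := by
      have h := hkk k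
      have h' : ((((t k : ℤ) + z k ^ 2 +
        t k * ∑ i ∈ Finset.univ.erase k, (t i : ℤ) * c i k ^ 2 : ℤ)) : ℚ) = ((a k : ℤ) : ℚ) := by
        rw [h]
      push_cast at h'
      push_cast
      linarith
    have hT : 0 ≤ T k * T k / (g : ℚ) := div_nonneg (mul_self_nonneg _) hgq.le
    have h6 : (t k : ℚ) / a k * (z k : ℚ) * (z k : ℚ) = (t k : ℚ) - (t k : ℚ) ^ 2 *
        ((1 + ((∑ i ∈ Finset.univ.erase k, (t i : ℤ) * c i k ^ 2 : ℤ) : ℚ)) / a k) := by
      have h8 := (haq k).ne'
      have : (z k : ℚ) * (z k : ℚ) = (z k : ℚ) ^ 2 := by ring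
      rw [mul_assoc, this, hz]
      field_simp
      ring
    rw [h6] at hrow
    have h7 : (t k : ℚ) ^ 2 * ∑ m ∈ Finset.univ.erase k, ((t m : ℚ) / a m) * (c k m : ℚ) ^ 2 ≤
        (t k : ℚ) ^ 2 *
          ((1 + ((∑ i ∈ Finset.univ.erase k, (t i : ℤ) * c i k ^ 2 : ℤ) : ℚ)) / a k) := by
      linarith
    exact le_of_mul_le_mul_left h7 (pow_pos (htq k) 2)
  exact ca_ineq g t e a c hg ha ht2 hte he3 heo hag hcop H1 H2 H3 h3

end arith

end Cfsg.Agent.Helper82
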