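import Mathlib
import Cfsg.Prelude.Def_Transfer
import Cfsg.Agent.Lib.Helper24.CYCDefs

/-!
# CYC lemma server (helper24) for S4016: piece (OB4)
-/

set_option autoImplicit false
set_option linter.unusedSectionVars false
set_option linter.unusedVariables false

namespace Cfsg.Agent.Helper82.CYC

open Subgroup Cfsg.Agent.Helper24.CYC

universe u

variable {G : Type u} [Group G] [Finite G] {p : ℕ} [Fact p.Prime]

/-- pure arithmetic core of (OB4) -/
theorem ob4_arith {p e a c N : ℕ} (hp3 : 3 ≤ p) (hed : e ∣ p - 1) (ha : 0 < a) (hac : a ∣ c)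
    (hne : a ≠ c) (hc : 0 < c) (hN : N = e * c) (hineq : p * c + a ≤ N + p * a) : e = p - 1 := by
  obtain ⟨k, rfl⟩ := hac
  have hk2 : 2 ≤ k := by
    rcases k with _ | _ | k
    · simp at hc
    · simp at hne
    · omega
  obtain ⟨m, hm⟩ := hed
  rcases m with _ | _ | m
  · omega
  · omega
  · exfalso
    -- `2 e ≤ p - 1`
    have h2e : 2 * e + 1 ≤ p := by
      have : e * (m + 1 + 1) = e * m + 2 * e := by ring
      have h0 : 0 ≤ e * m := Nat.zero_le _
      omega
    subst hN
    have h1 : (p * k + 1) * a ≤ (e * k + p) * a := by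
      calc (p * k + 1) * a = p * (a * k) + a := by ring
        _ ≤ e * (a * k) + p * a := hineq
        _ = (e * k + p) * a := by ring
    have h3 : p * k + 1 ≤ e * k + p := Nat.le_of_mul_le_mul_right h1 ha
    obtain ⟨d, rfl⟩ := Nat.exists_eq_add_of_le (show e ≤ p by omega)
    have h4 : d * 2 ≤ d * k := Nat.mul_le_mul_left d hk2
    have h5 : (e + d) * k = e * k + d * k := by ring
    omega

/-- (OB4) arithmetic.  `c = |C_G(P)| ≥ 2|P|` (`P < C_G(P)` as `t ∉ P`, and `|P| ∣ c`), `|N| = e c`, `e ∣ p - 1` (`ediv`):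
`(p - e) c ≤ (p - 1)|P|`, `2(p - e) ≤ p - 1`, `2e ≥ p + 1`, so `e = p - 1`, even (`podd`), `2 ∣ |N| ∣ |G|`. -/
theorem odd_arith (hC : Core p G) (hodd : Odd (Nat.card G)) (P : Sylow p G) (t : G) (ht : t ∈ CP P) (ht1 : t ≠ 1)
    (htp : (orderOf t).Coprime p)
    (hineq : p * Nat.card (CP P) + Nat.card P ≤ Nat.card (NP P) + p * Nat.card P) : False := by
  have hp : p.Prime := Fact.out
  have hp3 : 3 ≤ p := by
    have := hp.two_le
    have := hC.c1.podd
    omega
  -- `P ≤ C_G(P)`
  have hPC : (P : Subgroup G) ≤ CP P := by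
    intro x hx
    rw [mem_centralizer_iff]
    intro y hy
    have hcyc : IsCyclic (P : Subgroup G) := hC.c1.min.cyc P
    have := (IsCyclic.isMulCommutative (α := (P : Subgroup G))).is_comm.comm ⟨y, hy⟩ ⟨x, hx⟩
    exact congrArg Subtype.val this
  -- `t ∉ P`
  have htP : t ∉ (P : Subgroup G) := by
    intro htP
    obtain ⟨k, hk⟩ := P.isPGroup' ⟨t, htP⟩
    have hk' : t ^ p ^ k = 1 := by
      have := congrArg Subtype.val hk
      simpa using this
    have hdvd : orderOf t ∣ p ^ k := orderOf_dvd_of_pow_eq_one hk'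
    have h1 : orderOf t = 1 := Nat.Coprime.eq_one_of_dvd (Nat.Coprime.pow_right k htp) hdvd
    exact ht1 (orderOf_eq_one_iff.mp h1)
  have hne : Nat.card (P : Subgroup G) ≠ Nat.card (CP P) := by
    intro h
    have := Subgroup.eq_of_le_of_card_ge hPC (le_of_eq h.symm)
    exact htP (this ▸ ht)
  obtain ⟨e, hed, hN⟩ := hC.ediv P
  have he : e = p - 1 :=
    ob4_arith hp3 hed Nat.card_pos (Subgroup.card_dvd_of_le hPC) hne Nat.card_pos hN hineq
  have h2e : 2 ∣ e := by
    rw [he]
    rcases hp.eq_two_or_odd' with h | h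
    · exact absurd h hC.c1.podd
    · obtain ⟨m, hm⟩ := h
      exact ⟨m, by omega⟩
  have h2N : 2 ∣ Nat.card (NP P) := by rw [hN]; exact Dvd.dvd.mul_right h2e _
  have h2G : 2 ∣ Nat.card G := h2N.trans (Subgroup.card_subgroup_dvd_card _)
  rcases hodd with ⟨m, hm⟩
  omega

end Cfsg.Agent.Helper82.CYC
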