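import Mathlib

/-!
# C3 lemma server (helper32, S4415), piece (M3): combinatorics of `Perm (Fin 4)` and sign vectors,
and the cocycle calculus of a monomial representation of degree 4 over `ZMod 3`  (helper82)
-/

set_option autoImplicit false

namespace Cfsg.Agent.Helper82.C3

open Equiv

/-- the Klein four-group inside `Perm (Fin 4)` -/
def h82_V4 (τ : Perm (Fin 4)) : Prop := τ * τ = 1 ∧ ∀ i, τ i = i → τ = 1

instance : DecidablePred h82_V4 := fun τ => by unfold h82_V4; infer_instance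

/-- the sign vector of weight two supported on `{i, j}` -/
def h82_wt (i j : Fin 4) : Fin 4 → (ZMod 3)ˣ := fun k => if k = i ∨ k = j then -1 else 1

/-- the four elements of the Klein four-group -/
def h82_V4s : List (Perm (Fin 4)) :=
  [1, swap 0 1 * swap 2 3, swap 0 2 * swap 1 3, swap 0 3 * swap 1 2]

set_option maxRecDepth 100000 in
theorem h82_u_sq : ∀ u : (ZMod 3)ˣ, u * u = 1 := by decide

set_option maxRecDepth 100000 in
theorem h82_u_cases : ∀ u : (ZMod 3)ˣ, u = 1 ∨ u = -1 := by decide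

set_option maxRecDepth 100000 in
theorem h82_fix : ∀ c : Perm (Fin 4), c ^ 3 = 1 → c ≠ 1 → ∃ p, c p = p := by decide

set_option maxRecDepth 100000 in
theorem h82_V4_of_N3 : ∀ c τ : Perm (Fin 4), c ^ 3 = 1 → c ≠ 1 → (τ ^ 3 = 1 → τ = 1) →
    ((τ * (c * τ * c⁻¹)) ^ 3 = 1 → τ * (c * τ * c⁻¹) = 1) →
    ((τ * (c⁻¹ * τ * c)) ^ 3 = 1 → τ * (c⁻¹ * τ * c) = 1) → h82_V4 τ := by decide

set_option maxRecDepth 100000 in
theorem h82_V4_eq : ∀ τ σ : Perm (Fin 4), h82_V4 τ → h82_V4 σ → ∀ i, τ i = σ i → τ = σ := by decide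

set_option maxRecDepth 100000 in
theorem h82_V4_comm : ∀ τ σ : Perm (Fin 4), h82_V4 τ → h82_V4 σ → τ * σ = σ * τ := by decide

set_option maxRecDepth 100000 in
theorem h82_V4_third : ∀ a b τ : Perm (Fin 4), h82_V4 a → h82_V4 b → h82_V4 τ → a ≠ 1 → b ≠ 1 →
    a ≠ b → τ ≠ 1 → τ ≠ a → τ ≠ b → τ = a * b := by decide

set_option maxRecDepth 100000 in
theorem h82_const : ∀ τ : Perm (Fin 4), h82_V4 τ → ∀ δ : Fin 4 → (ZMod 3)ˣ, (∏ i, δ i) = 1 →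
    ∃ c0 : (ZMod 3)ˣ, ∀ i, δ i * δ (τ i) = c0 := by decide

set_option maxRecDepth 100000 in
theorem h82_class : ∀ ε : Fin 4 → (ZMod 3)ˣ, (∏ i, ε i) = 1 →
    (∃ c0 : (ZMod 3)ˣ, ∀ i, ε i = c0) ∨ ∃ i j, i ≠ j ∧ ε = h82_wt i j := by decide

set_option maxRecDepth 100000 in
theorem h82_noninv : ∀ τ : Perm (Fin 4), h82_V4 τ → τ ≠ 1 →
    ∃ i j, i ≠ j ∧ ∃ k, h82_wt i j (τ k) ≠ h82_wt i j k := by decide

set_option maxRecDepth 100000 in
theorem h82_const_of_inv : ∀ ε : Fin 4 → (ZMod 3)ˣ,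
    (∀ τ : Perm (Fin 4), h82_V4 τ → ∀ k, ε (τ k) = ε k) → ∃ c0 : (ZMod 3)ˣ, ∀ i, ε i = c0 := by
  decide

set_option maxRecDepth 100000 in
theorem h82_V4s_V4 : ∀ τ ∈ h82_V4s, h82_V4 τ := by decide

set_option maxRecDepth 100000 in
theorem h82_move : ∀ c : Perm (Fin 4), c ^ 3 = 1 → c ≠ 1 → ∀ i0 j0 i j : Fin 4, i0 ≠ j0 → i ≠ j →
    ∃ k : Fin 3, ∃ τ ∈ h82_V4s, (τ ((c ^ (k : ℕ)) i0) = i ∧ τ ((c ^ (k : ℕ)) j0) = j) ∨
      (τ ((c ^ (k : ℕ)) i0) = j ∧ τ ((c ^ (k : ℕ)) j0) = i) := by decide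

set_option maxRecDepth 100000 in
theorem h82_wt_mul : ∀ k, h82_wt 0 1 k * h82_wt 2 3 k = -1 := by decide

set_option maxRecDepth 100000 in
theorem h82_one_ne_neg : (1 : (ZMod 3)ˣ) ≠ -1 := by decide

set_option maxRecDepth 100000 in
theorem h82_V4_ex : h82_V4 (swap 0 1 * swap 2 3) ∧ (swap 0 1 * swap 2 3 : Perm (Fin 4)) ≠ 1 := by
  decide

set_option maxRecDepth 100000 in
theorem h82_card_E8 : Fintype.card {ε : Fin 4 → (ZMod 3)ˣ // (∏ i, ε i) = 1} = 8 := by decide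

set_option maxRecDepth 100000 in
theorem h82_card_32 :
    Fintype.card {x : Perm (Fin 4) × (Fin 4 → (ZMod 3)ˣ) // h82_V4 x.1 ∧ (∏ i, x.2 i) = 1} = 32 := by
  decide

theorem h82_wt_symm (i j : Fin 4) : h82_wt i j = h82_wt j i := by
  funext k
  unfold h82_wt
  simp only [or_comm]

theorem h82_wt_comp (σ : Perm (Fin 4)) (i0 j0 m : Fin 4) :
    h82_wt i0 j0 (σ⁻¹ m) = h82_wt (σ i0) (σ j0) m := by
  unfold h82_wt
  have h1 : σ⁻¹ m = i0 ↔ m = σ i0 := by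
    rw [Perm.inv_eq_iff_eq]
  have h2 : σ⁻¹ m = j0 ↔ m = σ j0 := by
    rw [Perm.inv_eq_iff_eq]
  simp only [h1, h2]

end Cfsg.Agent.Helper82.C3
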