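import Mathlib
import Cfsg.Agent.Lib.Helper32.C3Defs
import Cfsg.Agent.Lib.Helper8.InvCent
import Cfsg.Agent.Lib.Helper82.C3M3a

/-!
# C3 lemma server (helper32, S4415), piece (M3) `concl_of_mono_four`  (helper82)

Monomial, `n = 4`: `R` is extraspecial of order 32.
-/

set_option autoImplicit false

namespace Cfsg.Agent.Helper82.C3

open Equiv Cfsg.Agent.Helper32.C3

universe u v

section Mono

variable {G : Type u} [Group G] {V : Type v} [AddCommGroup V] [Module (ZMod 3) V]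
  (ρ : Representation (ZMod 3) G V) (e : Module.Basis (Fin 4) (ZMod 3) V)
  (π : G →* Perm (Fin 4)) (s : G → Fin 4 → (ZMod 3)ˣ)

theorem h82_cocycle (hm : ∀ g i, ρ g (e i) = ((s g i : (ZMod 3)ˣ) : ZMod 3) • e (π g i))
    (g h : G) (i : Fin 4) : s (g * h) i = s g (π h i) * s h i := by
  have h1 : ρ (g * h) (e i) = ((s (g * h) i : (ZMod 3)ˣ) : ZMod 3) • e (π g (π h i)) := by
    rw [hm, map_mul, Perm.mul_apply]
  have h2 : ρ (g * h) (e i) =
      (((s g (π h i) * s h i : (ZMod 3)ˣ)) : ZMod 3) • e (π g (π h i)) := by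
    rw [map_mul, Module.End.mul_apply, hm h i, map_smul, hm g (π h i), smul_smul, Units.val_mul,
      mul_comm]
  have h3 := h1.symm.trans h2
  have h4 := congrArg (fun v => e.repr v (π g (π h i))) h3
  simp only [map_smul, Module.Basis.repr_self, Finsupp.smul_apply, Finsupp.single_eq_same,
    smul_eq_mul, mul_one] at h4
  exact Units.ext h4

theorem h82_s_one (hm : ∀ g i, ρ g (e i) = ((s g i : (ZMod 3)ˣ) : ZMod 3) • e (π g i))
    (i : Fin 4) : s 1 i = 1 := by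
  have h := h82_cocycle ρ e π s hm 1 1 i
  rw [mul_one, map_one, Perm.one_apply] at h
  have h' : s 1 i * 1 = s 1 i * s 1 i := by rw [mul_one]; exact h
  exact (mul_left_cancel h').symm

theorem h82_ext (hm : ∀ g i, ρ g (e i) = ((s g i : (ZMod 3)ˣ) : ZMod 3) • e (π g i))
    (hf : Function.Injective ρ) (g h : G) (hπ : π g = π h) (hs : ∀ i, s g i = s h i) : g = h := by
  apply hf
  apply e.ext
  intro i
  rw [hm, hm, hπ, hs]

theorem h82_conj (hm : ∀ g i, ρ g (e i) = ((s g i : (ZMod 3)ˣ) : ZMod 3) • e (π g i))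
    (g d : G) (hd : π d = 1) (k : Fin 4) : s (g * d * g⁻¹) (π g k) = s d k := by
  have h1 : s (g * d * g⁻¹) (π g k) = s (g * d) (π g⁻¹ (π g k)) * s g⁻¹ (π g k) :=
    h82_cocycle ρ e π s hm (g * d) g⁻¹ (π g k)
  have h2 : π g⁻¹ (π g k) = k := by
    rw [map_inv]; exact Equiv.symm_apply_apply (π g) k
  have h3 : s (g * d) k = s g (π d k) * s d k := h82_cocycle ρ e π s hm g d k
  have h4 : s (g⁻¹ * g) k = s g⁻¹ (π g k) * s g k := h82_cocycle ρ e π s hm g⁻¹ g k
  rw [inv_mul_cancel, h82_s_one ρ e π s hm] at h4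
  rw [h1, h2, h3, hd, Perm.one_apply]
  calc s g k * s d k * s g⁻¹ (π g k) = s d k * (s g⁻¹ (π g k) * s g k) := by
        rw [mul_comm (s g k) (s d k), mul_assoc, mul_comm (s g k)]
    _ = s d k := by rw [← h4, mul_one]

/-- the product of the signs is a homomorphism -/
def h82_P (hm : ∀ g i, ρ g (e i) = ((s g i : (ZMod 3)ˣ) : ZMod 3) • e (π g i)) : G →* (ZMod 3)ˣ where
  toFun g := ∏ i, s g i
  map_one' := by
    simp only [h82_s_one ρ e π s hm, Finset.prod_const_one]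
  map_mul' g h := by
    simp only [h82_cocycle ρ e π s hm]
    rw [Finset.prod_mul_distrib]
    congr 1
    exact Equiv.prod_comp (π h) (fun i => s g i)

theorem h82_P_apply (hm : ∀ g i, ρ g (e i) = ((s g i : (ZMod 3)ˣ) : ZMod 3) • e (π g i)) (g : G) :
    h82_P ρ e π s hm g = ∏ i, s g i := rfl

/-- constant sign `-1` with trivial permutation: `ρ g = -1` -/
theorem h82_neg_one (hm : ∀ g i, ρ g (e i) = ((s g i : (ZMod 3)ˣ) : ZMod 3) • e (π g i))
    (g : G) (hπ : π g = 1) (hs : ∀ i, s g i = -1) : ρ g = -1 := by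
  apply e.ext
  intro i
  rw [hm, hπ, hs, Perm.one_apply]
  simp

/-- elements acting as `-1` are central -/
theorem h82_central (hf : Function.Injective ρ) (g : G) (hg : ρ g = -1) (x : G) : g * x = x * g := by
  apply hf
  rw [map_mul, map_mul, hg]
  simp

/-- constant signs with trivial permutation: `g = 1` or `ρ g = -1` -/
theorem h82_of_const (hm : ∀ g i, ρ g (e i) = ((s g i : (ZMod 3)ˣ) : ZMod 3) • e (π g i))
    (hf : Function.Injective ρ) (g : G) (hπ : π g = 1) (c0 : (ZMod 3)ˣ) (hs : ∀ i, s g i = c0) :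
    g = 1 ∨ ρ g = -1 := by
  rcases h82_u_cases c0 with h | h
  · left
    apply h82_ext ρ e π s hm hf g 1
    · rw [hπ, map_one]
    · intro i; rw [hs, h, h82_s_one ρ e π s hm]
  · right
    exact h82_neg_one ρ e π s hm g hπ (fun i => by rw [hs, h])

end Mono

section Main

variable {G : Type u} [Group G] [Finite G] {V : Type v} [AddCommGroup V]
    [Module (ZMod 3) V] [Finite V]

/-- setup facts shared by both cases -/
theorem h82_setup (ρ : Representation (ZMod 3) G V) (R Q : Subgroup G) (b : G)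
    (h : Cfg ρ R Q b) (e : Module.Basis (Fin 4) (ZMod 3) V)
    (π : G →* Perm (Fin 4)) (s : G → Fin 4 → (ZMod 3)ˣ)
    (hm : ∀ g i, ρ g (e i) = ((s g i : (ZMod 3)ˣ) : ZMod 3) • e (π g i)) :
    (π b) ^ 3 = 1 ∧ π b ≠ 1 ∧ (∀ r ∈ R, h82_V4 (π r)) ∧
      (∀ τ : Perm (Fin 4), h82_V4 τ → ∃ r ∈ R, π r = τ) ∧ (∀ r ∈ R, (∏ i, s r i) = 1) := by
  classical
  have hf := h.faith
  have hc3 : (π b) ^ 3 = 1 := by rw [← map_pow, h.b3, map_one]
  have hc1 : π b ≠ 1 := by
    intro hπb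
    have hsb : ∀ i, s b i = 1 := by
      intro i
      have h1 : s (b * b) i = s b i * s b i := by
        rw [h82_cocycle ρ e π s hm, hπb, Perm.one_apply]
      have h2 : s (b * b * b) i = s (b * b) i * s b i := by
        rw [h82_cocycle ρ e π s hm (b * b) b, hπb, Perm.one_apply]
      have h3 : b * b * b = 1 := by rw [← h.b3, pow_succ, pow_two]
      rw [h3, h82_s_one ρ e π s hm, h1, h82_u_sq, one_mul] at h2
      exact h2.symm
    have hb1 : b = 1 := by
      apply h82_ext ρ e π s hm hf b 1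
      · rw [hπb, map_one]
      · intro i; rw [hsb, h82_s_one ρ e π s hm]
    obtain ⟨q, hq, hne⟩ := h.four.2.2.2
    apply hne
    rw [hb1]; simp
  -- no element of order 3 in `π R`
  have hR3 : ∀ y ∈ R, (π y) ^ 3 = 1 → π y = 1 := by
    intro y hy h3
    have hord : orderOf (π y) ∣ 3 := orderOf_dvd_of_pow_eq_one h3
    have hord2 : orderOf (π y) ∣ Nat.card ↥R :=
      (orderOf_map_dvd π y).trans (Subgroup.orderOf_dvd_natCard R hy)
    have hg := Nat.dvd_gcd hord2 hord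
    rw [h.Rcop.gcd_eq_one, Nat.dvd_one] at hg
    exact orderOf_eq_one_iff.1 hg
  have hRn := h.Rn
  have hRV4 : ∀ r ∈ R, h82_V4 (π r) := by
    intro r hr
    have h1 : b * r * b⁻¹ ∈ R := hRn.conj_mem r hr b
    have h2 : b⁻¹ * r * b ∈ R := by simpa using hRn.conj_mem r hr b⁻¹
    apply h82_V4_of_N3 (π b) (π r) hc3 hc1 (hR3 r hr)
    · have := hR3 (r * (b * r * b⁻¹)) (R.mul_mem hr h1)
      simpa only [map_mul, map_inv] using this
    · have := hR3 (r * (b⁻¹ * r * b)) (R.mul_mem hr h2)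
      simpa only [map_mul, map_inv] using this
  obtain ⟨p, hp⟩ := h82_fix (π b) hc3 hc1
  -- transitivity
  have htrans : ∀ j, ∃ r ∈ R, π r p = j := by
    let O : Set (Fin 4) := {j | ∃ g : G, π g p = j}
    let N : Submodule (ZMod 3) V := Submodule.span (ZMod 3) (e '' O)
    have hInv : Inv ρ ⊤ N := by
      intro g _ v hv
      have hle : N.map (ρ g) ≤ N := by
        rw [Submodule.map_span_le]
        rintro m ⟨j, ⟨g', hg'⟩, rfl⟩
        rw [hm]
        apply Submodule.smul_mem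
        apply Submodule.subset_span
        refine ⟨π g j, ⟨g * g', ?_⟩, rfl⟩
        rw [map_mul, Perm.mul_apply, hg']
      exact hle (Submodule.mem_map_of_mem hv)
    have hpN : e p ∈ N := Submodule.subset_span ⟨p, ⟨1, by rw [map_one, Perm.one_apply]⟩, rfl⟩
    have hNtop : N = ⊤ := by
      rcases h.irred N hInv with h0 | h0
      · exfalso
        rw [h0, Submodule.mem_bot] at hpN
        exact e.ne_zero p hpN
      · exact h0
    intro j
    have hj : e j ∈ N := by rw [hNtop]; exact Submodule.mem_top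
    have hjO : j ∈ O := by
      have := (Module.Basis.mem_span_image e).1 hj
      apply this
      rw [Module.Basis.repr_self]
      simp
    obtain ⟨g, hg⟩ := hjO
    obtain ⟨r, hr, i, hgi⟩ := h.RB g
    refine ⟨r, hr, ?_⟩
    rw [← hg, hgi, map_mul, map_pow, Perm.mul_apply,
      Perm.pow_apply_eq_self_of_apply_eq_self hp]
  have hlift : ∀ τ : Perm (Fin 4), h82_V4 τ → ∃ r ∈ R, π r = τ := by
    intro τ hτ
    obtain ⟨r, hr, hrp⟩ := htrans (τ p)
    exact ⟨r, hr, h82_V4_eq (π r) τ (hRV4 r hr) hτ p hrp⟩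
  have hP : ∀ r ∈ R, (∏ i, s r i) = 1 := by
    have hle : R ≤ (h82_P ρ e π s hm).ker := by
      rw [← h.comm, Subgroup.commutator_le]
      intro g₁ _ g₂ _
      rw [MonoidHom.mem_ker, map_commutatorElement]
      exact commutatorElement_eq_one_iff_commute.2 (Commute.all _ _)
    intro r hr
    have := hle hr
    rwa [MonoidHom.mem_ker, h82_P_apply] at this
  exact ⟨hc3, hc1, hRV4, hlift, hP⟩

/-- case B: no element of weight two in `D = R ∩ ker π` is impossible -/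
theorem h82_caseB (ρ : Representation (ZMod 3) G V) (R Q : Subgroup G) (b : G)
    (h : Cfg ρ R Q b) (e : Module.Basis (Fin 4) (ZMod 3) V)
    (π : G →* Perm (Fin 4)) (s : G → Fin 4 → (ZMod 3)ˣ)
    (hm : ∀ g i, ρ g (e i) = ((s g i : (ZMod 3)ˣ) : ZMod 3) • e (π g i))
    (q₁ q₂ q₃ : G) (v₁ v₂ v₃ : V) (hw : QWeights ρ Q b q₁ q₂ q₃ v₁ v₂ v₃)
    (hno : ∀ d ∈ R, π d = 1 → ∃ c0 : (ZMod 3)ˣ, ∀ i, s d i = c0) : False := by
  classical
  obtain ⟨hc3, hc1, hRV4, hlift, hP⟩ := h82_setup ρ R Q b h e π s hm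
  have hf := h.faith
  have hv1 : v₁ ≠ 0 := hw.li.ne_zero (0 : Fin 3)
  have hv2 : v₂ ≠ 0 := hw.li.ne_zero (1 : Fin 3)
  have hv3 : v₃ ≠ 0 := hw.li.ne_zero (2 : Fin 3)
  have hQfix : ∀ q ∈ Q, ∃ v : V, v ≠ 0 ∧ ρ q v = v := by
    intro q hq
    rcases hw.all q hq with rfl | rfl | rfl | rfl
    · exact ⟨v₁, hv1, by simp⟩
    · exact ⟨v₁, hv1, hw.act₁.1⟩
    · exact ⟨v₂, hv2, hw.act₂.2.1⟩
    · exact ⟨v₃, hv3, hw.act₃.2.2⟩
  have hQneg : ∀ q ∈ Q, ρ q ≠ -1 := by
    intro q hq hneg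
    obtain ⟨v, hv0, hv⟩ := hQfix q hq
    rw [hneg] at hv
    have h2 : (2 : ZMod 3) • v = 0 := by
      rw [two_smul]
      nth_rewrite 1 [← hv]
      simp
    rcases smul_eq_zero.1 h2 with h3 | h3
    · exact absurd h3 (by decide)
    · exact hv0 h3
  have hQker : ∀ q ∈ Q, π q = 1 → q = 1 := by
    intro q hq hπ
    obtain ⟨c0, hc0⟩ := hno q (h.QR hq) hπ
    rcases h82_of_const ρ e π s hm hf q hπ c0 hc0 with h1 | h1
    · exact h1
    · exact absurd h1 (hQneg q hq)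
  have hq1 : π q₁ ≠ 1 := fun h' => hw.ne.1 (hQker q₁ hw.mem.1 h')
  have hq2 : π q₂ ≠ 1 := fun h' => hw.ne.2.1 (hQker q₂ hw.mem.2.1 h')
  have hq12 : π q₁ ≠ π q₂ := by
    intro h'
    have h3 : π q₃ = 1 := by
      rw [← hw.mul.1, map_mul, h']
      exact (hRV4 q₂ (h.QR hw.mem.2.1)).1
    exact hw.ne.2.2.1 (hQker q₃ hw.mem.2.2 h3)
  have hdecomp : ∀ r ∈ R, ∃ q ∈ Q, ∃ d : G, (∀ x, d * x = x * d) ∧ r = q * d := by
    intro r hr
    have hτ := hRV4 r hr
    have hq : ∃ q ∈ Q, π q = π r := by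
      by_cases h1 : π r = 1
      · exact ⟨1, Q.one_mem, by rw [map_one, h1]⟩
      by_cases h2 : π r = π q₁
      · exact ⟨q₁, hw.mem.1, h2.symm⟩
      by_cases h3 : π r = π q₂
      · exact ⟨q₂, hw.mem.2.1, h3.symm⟩
      refine ⟨q₃, hw.mem.2.2, ?_⟩
      rw [← hw.mul.1, map_mul]
      exact (h82_V4_third (π q₁) (π q₂) (π r) (hRV4 q₁ (h.QR hw.mem.1))
        (hRV4 q₂ (h.QR hw.mem.2.1)) hτ hq1 hq2 hq12 h1 h2 h3).symm
    obtain ⟨q, hq, hπq⟩ := hq
    have hdR : q⁻¹ * r ∈ R := R.mul_mem (R.inv_mem (h.QR hq)) hr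
    have hπd : π (q⁻¹ * r) = 1 := by
      rw [map_mul, map_inv, hπq, inv_mul_cancel]
    obtain ⟨c0, hc0⟩ := hno _ hdR hπd
    rcases h82_of_const ρ e π s hm hf _ hπd c0 hc0 with h1 | h1
    · refine ⟨q, hq, 1, by simp, ?_⟩
      rw [mul_one]
      exact (inv_mul_eq_one.1 h1).symm
    · exact ⟨q, hq, q⁻¹ * r, h82_central ρ hf _ h1, by rw [mul_inv_cancel_left]⟩
  have hbQn : ∀ n : ℕ, ∀ q ∈ Q, b ^ n * q * (b ^ n)⁻¹ ∈ Q := by
    intro n
    induction n with
    | zero => intro q hq; simpa using hq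
    | succ n ih =>
      intro q hq
      have := h.four.2.2.1 _ (ih q hq)
      have e1 : b ^ (n + 1) * q * (b ^ (n + 1))⁻¹ = b * (b ^ n * q * (b ^ n)⁻¹) * b⁻¹ := by
        rw [pow_succ']; group
      rw [e1]; exact this
  have hbQ : ∀ x ∈ Subgroup.zpowers b, ∀ q ∈ Q, x * q * x⁻¹ ∈ Q := by
    intro x hx
    have hx' := (mem_powers_iff_mem_zpowers (x := b) (y := x)).2 hx
    obtain ⟨n, rfl⟩ := Submonoid.mem_powers_iff _ _ |>.1 hx'
    exact hbQn n
  have hRQ : R ≤ Q := by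
    have hcomm : ⁅R, Subgroup.zpowers b⁆ ≤ Q := by
      rw [Subgroup.commutator_le]
      intro r hr x hx
      obtain ⟨q, hq, d, hd, rfl⟩ := hdecomp r hr
      have hdx : d * x * d⁻¹ = x := by rw [hd x]; group
      have e1 : q * d * x * (q * d)⁻¹ * x⁻¹ = q * (x * q⁻¹ * x⁻¹) := by
        calc q * d * x * (q * d)⁻¹ * x⁻¹ = q * (d * x * d⁻¹) * q⁻¹ * x⁻¹ := by group
          _ = q * (x * q⁻¹ * x⁻¹) := by rw [hdx]; group
      rw [commutatorElement_def, e1]
      exact Q.mul_mem hq (hbQ x hx q⁻¹ (Q.inv_mem hq))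
    exact (le_of_eq h.comm.symm).trans hcomm
  have hInv : Inv ρ ⊤ (fixS ρ R) := by
    intro g _ v hv r hr
    have hmem : g⁻¹ * r * g ∈ R := by simpa using h.Rn.conj_mem r hr g⁻¹
    have h1 := hv _ hmem
    have e1 : ρ (r * g) = ρ r * ρ g := map_mul ρ r g
    have e2 : ρ (g * (g⁻¹ * r * g)) = ρ g * ρ (g⁻¹ * r * g) := map_mul ρ g _
    have e3 : g * (g⁻¹ * r * g) = r * g := by group
    calc ρ r (ρ g v) = (ρ r * ρ g) v := rfl
      _ = (ρ g * ρ (g⁻¹ * r * g)) v := by rw [← e1, ← e3, e2]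
      _ = ρ g (ρ (g⁻¹ * r * g) v) := rfl
      _ = ρ g v := by rw [h1]
  have hfixQ : fixS ρ Q ≠ ⊥ := by
    intro h0
    have h1 := hw.dec.2
    rw [h0, bot_sup_eq, hw.com] at h1
    have h2 : Module.finrank (ZMod 3) (Submodule.span (ZMod 3) ({v₁, v₂, v₃} : Set V)) = 4 := by
      rw [h1, finrank_top, Module.finrank_eq_card_basis e, Fintype.card_fin]
    have h3 := finrank_span_finset_le_card (R := ZMod 3) ({v₁, v₂, v₃} : Finset V)
    have h4 : (({v₁, v₂, v₃} : Finset V) : Set V) = {v₁, v₂, v₃} := by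
      push_cast; rfl
    rw [Set.finrank, h4, h2] at h3
    have h5 : ({v₁, v₂, v₃} : Finset V).card ≤ 3 := Finset.card_le_three
    omega
  have hfixR : fixS ρ R ≠ ⊥ := by
    intro h0
    apply hfixQ
    rw [eq_bot_iff, ← h0]
    intro v hv r hr
    exact hv r (hRQ hr)
  have htop : fixS ρ R = ⊤ := (h.irred _ hInv).resolve_left hfixR
  have hq1R : q₁ ∈ R := h.QR hw.mem.1
  apply hw.ne.1
  apply hf
  rw [map_one]
  apply LinearMap.ext
  intro v
  have hv : v ∈ fixS ρ R := by rw [htop]; exact Submodule.mem_top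
  rw [Module.End.one_apply]
  exact hv q₁ hq1R

/-- case A: an element of weight two in `D = R ∩ ker π` gives the extraspecial conclusion -/
theorem h82_caseA (ρ : Representation (ZMod 3) G V) (R Q : Subgroup G) (b : G)
    (h : Cfg ρ R Q b) (e : Module.Basis (Fin 4) (ZMod 3) V)
    (π : G →* Perm (Fin 4)) (s : G → Fin 4 → (ZMod 3)ˣ)
    (hm : ∀ g i, ρ g (e i) = ((s g i : (ZMod 3)ˣ) : ZMod 3) • e (π g i))
    (d₀ : G) (hd₀R : d₀ ∈ R) (hd₀π : π d₀ = 1) (i0 j0 : Fin 4) (h0 : i0 ≠ j0)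
    (hd₀s : s d₀ = h82_wt i0 j0) : Concl R := by
  classical
  obtain ⟨hc3, hc1, hRV4, hlift, hP⟩ := h82_setup ρ R Q b h e π s hm
  have hf := h.faith
  have hRn := h.Rn
  -- all weight-two vectors occur
  have hall : ∀ i j, i ≠ j → ∃ d ∈ R, π d = 1 ∧ s d = h82_wt i j := by
    intro i j hij
    obtain ⟨k, τ, hτ, hcase⟩ := h82_move (π b) hc3 hc1 i0 j0 i j h0 hij
    obtain ⟨r, hr, hrτ⟩ := hlift τ (h82_V4s_V4 τ hτ)
    have hπg : π (r * b ^ (k : ℕ)) = τ * (π b) ^ (k : ℕ) := by rw [map_mul, map_pow, hrτ]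
    refine ⟨(r * b ^ (k : ℕ)) * d₀ * (r * b ^ (k : ℕ))⁻¹, hRn.conj_mem d₀ hd₀R _, ?_, ?_⟩
    · rw [map_mul, map_mul, hd₀π, mul_one, map_inv, mul_inv_cancel]
    · funext m
      have h1 := h82_conj ρ e π s hm (r * b ^ (k : ℕ)) d₀ hd₀π ((π (r * b ^ (k : ℕ)))⁻¹ m)
      have h2 : π (r * b ^ (k : ℕ)) ((π (r * b ^ (k : ℕ)))⁻¹ m) = m :=
        Equiv.apply_symm_apply (π (r * b ^ (k : ℕ))) m
      rw [h2] at h1
      rw [h1, hd₀s, h82_wt_comp]
      rcases hcase with ⟨ha, hb⟩ | ⟨ha, hb⟩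
      · rw [hπg, Perm.mul_apply, Perm.mul_apply, ha, hb]
      · rw [hπg, Perm.mul_apply, Perm.mul_apply, ha, hb, h82_wt_symm]
  -- every sign vector of product one occurs
  have hsurj : ∀ ε : Fin 4 → (ZMod 3)ˣ, (∏ i, ε i) = 1 → ∃ d ∈ R, π d = 1 ∧ s d = ε := by
    intro ε hε
    rcases h82_class ε hε with ⟨c0, hc0⟩ | ⟨i, j, hij, rfl⟩
    · rcases h82_u_cases c0 with rfl | rfl
      · refine ⟨1, R.one_mem, map_one π, ?_⟩
        funext m
        rw [h82_s_one ρ e π s hm, hc0]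
      · obtain ⟨d1, hd1R, hd1π, hd1s⟩ := hall 0 1 (by decide)
        obtain ⟨d2, hd2R, hd2π, hd2s⟩ := hall 2 3 (by decide)
        refine ⟨d1 * d2, R.mul_mem hd1R hd2R, by rw [map_mul, hd1π, hd2π, mul_one], ?_⟩
        funext m
        rw [h82_cocycle ρ e π s hm, hd2π, Perm.one_apply, hd1s, hd2s, h82_wt_mul, hc0]
    · exact hall i j hij
  -- the central involution
  obtain ⟨z, hzR, hzπ, hzs⟩ := hsurj (fun _ => -1) (by decide)
  have hρz : ρ z = -1 := h82_neg_one ρ e π s hm z hzπ (fun i => by rw [hzs])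
  have hzc : ∀ x, z * x = x * z := h82_central ρ hf z hρz
  have hz1 : z ≠ 1 := by
    intro h1
    have := congrFun hzs 0
    rw [h1, h82_s_one ρ e π s hm] at this
    exact h82_one_ne_neg this
  have hzz : z * z = 1 := by
    apply h82_ext ρ e π s hm hf
    · rw [map_mul, hzπ, one_mul, map_one]
    · intro i
      rw [h82_cocycle ρ e π s hm, hzπ, Perm.one_apply, h82_u_sq, h82_s_one ρ e π s hm]
  have hconst : ∀ g : G, π g = 1 → (∃ c0 : (ZMod 3)ˣ, ∀ i, s g i = c0) → g = 1 ∨ g = z := by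
    rintro g hπ ⟨c0, hc0⟩
    rcases h82_of_const ρ e π s hm hf g hπ c0 hc0 with h1 | h1
    · exact Or.inl h1
    · exact Or.inr (hf (h1.trans hρz.symm))
  -- commutators
  have hcomm_const : ∀ x ∈ R, ∀ y ∈ R, x * y * x⁻¹ * y⁻¹ = 1 ∨ x * y * x⁻¹ * y⁻¹ = z := by
    intro x hx y hy
    have hVc := h82_V4_comm _ _ (hRV4 x hx) (hRV4 y hy)
    have hπu : π (x * y * x⁻¹ * y⁻¹) = 1 := by
      rw [map_mul, map_mul, map_mul, map_inv, map_inv, hVc]; group
    obtain ⟨cx, hcx⟩ := h82_const (π y) (hRV4 y hy) (s x) (hP x hx)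
    obtain ⟨cy, hcy⟩ := h82_const (π x) (hRV4 x hx) (s y) (hP y hy)
    apply hconst _ hπu
    refine ⟨cx * cy, ?_⟩
    have key : ∀ i, s (x * y * x⁻¹ * y⁻¹) (π y (π x i)) = cx * cy := by
      intro i
      have e1 : s ((x * y * x⁻¹ * y⁻¹) * (y * x)) i =
          s (x * y * x⁻¹ * y⁻¹) (π y (π x i)) * (s y (π x i) * s x i) := by
        rw [h82_cocycle ρ e π s hm (x * y * x⁻¹ * y⁻¹) (y * x), map_mul, Perm.mul_apply,
          h82_cocycle ρ e π s hm y x]
      have e2 : s (x * y) i = s x (π y i) * s y i := h82_cocycle ρ e π s hm x y i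
      have e3 : (x * y * x⁻¹ * y⁻¹) * (y * x) = x * y := by group
      rw [e3, e2] at e1
      calc s (x * y * x⁻¹ * y⁻¹) (π y (π x i))
          = s (x * y * x⁻¹ * y⁻¹) (π y (π x i)) *
              ((s y (π x i) * s x i) * (s y (π x i) * s x i)) := by rw [h82_u_sq, mul_one]
        _ = (s x (π y i) * s y i) * (s y (π x i) * s x i) := by rw [← mul_assoc, ← e1]
        _ = (s x i * s x (π y i)) * (s y i * s y (π x i)) := by ac_rfl
        _ = cx * cy := by rw [hcx, hcy]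
    intro m
    have := key ((π x)⁻¹ ((π y)⁻¹ m))
    have h2 : π y (π x ((π x)⁻¹ ((π y)⁻¹ m))) = m := by
      rw [show π x ((π x)⁻¹ ((π y)⁻¹ m)) = (π y)⁻¹ m from Equiv.apply_symm_apply (π x) _]
      exact Equiv.apply_symm_apply (π y) m
    rw [h2] at this
    exact this
  -- squares
  have hsq_const : ∀ x ∈ R, x * x = 1 ∨ x * x = z := by
    intro x hx
    have hπu : π (x * x) = 1 := by rw [map_mul]; exact (hRV4 x hx).1
    obtain ⟨cx, hcx⟩ := h82_const (π x) (hRV4 x hx) (s x) (hP x hx)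
    apply hconst _ hπu
    refine ⟨cx, fun i => ?_⟩
    rw [h82_cocycle ρ e π s hm, mul_comm, hcx]
  -- the centre
  have hcenter : ∀ x ∈ R, (∀ y ∈ R, x * y = y * x) → x = 1 ∨ x = z := by
    intro x hxR hx
    by_cases hτ1 : π x = 1
    · apply hconst x hτ1
      apply h82_const_of_inv (s x)
      intro σ hσ k
      obtain ⟨r, hr, hrσ⟩ := hlift σ hσ
      have hc := hx r hr
      have h1 := h82_conj ρ e π s hm r x hτ1 k
      have e1 : r * x * r⁻¹ = x := by rw [← hc]; group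
      rw [e1, hrσ] at h1
      exact h1
    · exfalso
      obtain ⟨i, j, hij, k, hk⟩ := h82_noninv (π x) (hRV4 x hxR) hτ1
      obtain ⟨d, hdR, hdπ, hds⟩ := hall i j hij
      have hc := hx d hdR
      have h1 := h82_conj ρ e π s hm x d hdπ k
      have e1 : x * d * x⁻¹ = d := by rw [hc]; group
      rw [e1, hds] at h1
      exact hk h1
  -- nonabelian
  have hnonab : ∃ x ∈ R, ∃ y ∈ R, x * y ≠ y * x := by
    obtain ⟨hV, hne⟩ := h82_V4_ex
    obtain ⟨r, hr, hrτ⟩ := hlift _ hV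
    obtain ⟨i, j, hij, k, hk⟩ := h82_noninv _ hV hne
    obtain ⟨d, hdR, hdπ, hds⟩ := hall i j hij
    refine ⟨r, hr, d, hdR, ?_⟩
    intro hc
    have h1 := h82_conj ρ e π s hm r d hdπ k
    have e1 : r * d * r⁻¹ = d := by rw [hc]; group
    rw [e1, hds, hrτ] at h1
    exact hk h1
  -- the order of `R`
  have hcardR : Nat.card ↥R = 32 := by
    let Φ : ↥R → {x : Perm (Fin 4) × (Fin 4 → (ZMod 3)ˣ) // h82_V4 x.1 ∧ (∏ i, x.2 i) = 1} :=
      fun r => ⟨(π r, s r), hRV4 r r.2, hP r r.2⟩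
    have hinj : Function.Injective Φ := by
      intro r r' hrr
      have h1 : (π r, s r) = (π r', s r') := congrArg Subtype.val hrr
      have h2 : π r = π r' := congrArg Prod.fst h1
      have h3 : s r = s r' := congrArg Prod.snd h1
      exact Subtype.ext (h82_ext ρ e π s hm hf r r' h2 (fun i => congrFun h3 i))
    have hsur : Function.Surjective Φ := by
      rintro ⟨⟨τ, δ⟩, hτ, hδ⟩
      obtain ⟨r, hr, hrτ⟩ := hlift τ hτ
      have hε : (∏ i, (s r i * δ i)) = 1 := by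
        rw [Finset.prod_mul_distrib, hP r hr]
        simpa using hδ
      obtain ⟨d, hdR, hdπ, hds⟩ := hsurj (fun i => s r i * δ i) hε
      refine ⟨⟨r * d, R.mul_mem hr hdR⟩, ?_⟩
      apply Subtype.ext
      show (π (r * d), s (r * d)) = (τ, δ)
      have e1 : π (r * d) = τ := by rw [map_mul, hdπ, mul_one, hrτ]
      have e2 : s (r * d) = δ := by
        funext i
        rw [h82_cocycle ρ e π s hm, hdπ, Perm.one_apply, hds, ← mul_assoc, h82_u_sq, one_mul]
      rw [e1, e2]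
    rw [Nat.card_eq_of_bijective Φ ⟨hinj, hsur⟩, Nat.card_eq_fintype_card]
    convert h82_card_32
  -- the diagonal subgroup
  have hcardD : Nat.card ↥(R ⊓ π.ker) = 8 := by
    let Ψ : ↥(R ⊓ π.ker) → {ε : Fin 4 → (ZMod 3)ˣ // (∏ i, ε i) = 1} :=
      fun d => ⟨s d, hP d d.2.1⟩
    have hinj : Function.Injective Ψ := by
      intro d d' hdd
      have h3 : s d = s d' := congrArg Subtype.val hdd
      have h1 : π d = 1 := MonoidHom.mem_ker.1 d.2.2
      have h2 : π d' = 1 := MonoidHom.mem_ker.1 d'.2.2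
      exact Subtype.ext (h82_ext ρ e π s hm hf d d' (h1.trans h2.symm) (fun i => congrFun h3 i))
    have hsur : Function.Surjective Ψ := by
      rintro ⟨ε, hε⟩
      obtain ⟨d, hdR, hdπ, hds⟩ := hsurj ε hε
      exact ⟨⟨d, hdR, MonoidHom.mem_ker.2 hdπ⟩, Subtype.ext hds⟩
    rw [Nat.card_eq_of_bijective Ψ ⟨hinj, hsur⟩, Nat.card_eq_fintype_card]
    convert h82_card_E8
  right
  refine ⟨?_, hcardR, R ⊓ π.ker, inf_le_left, ⟨⟨⟨?_⟩⟩, ?_⟩, hcardD⟩
  · -- extraspecial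
    have : Fact (Nat.Prime 2) := ⟨Nat.prime_two⟩
    have hE : IsPGroup 2 ↥R := IsPGroup.of_card (n := 5) (by rw [hcardR]; norm_num)
    have hzR2 : (⟨z, hzR⟩ : ↥R) ^ 2 = 1 := by
      apply Subtype.ext
      rw [pow_two]
      exact hzz
    have hzR1 : (⟨z, hzR⟩ : ↥R) ≠ 1 := fun h1 => hz1 (congrArg Subtype.val h1)
    have hmemT : ∀ x : ↥R, ((x : G) = 1 ∨ (x : G) = z) → x ∈ Subgroup.zpowers (⟨z, hzR⟩ : ↥R) := by
      intro x hx
      rcases hx with hx | hx
      · have : x = 1 := Subtype.ext hx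
        rw [this]; exact Subgroup.one_mem _
      · have : x = ⟨z, hzR⟩ := Subtype.ext hx
        rw [this]; exact Subgroup.mem_zpowers _
    apply Cfsg.Agent.Helper8.InvC.isExtraspecial_of_crit' hE (Subgroup.zpowers (⟨z, hzR⟩ : ↥R))
    · rw [Nat.card_zpowers]
      exact orderOf_eq_prime hzR2 hzR1
    · rw [Subgroup.zpowers_le, Subgroup.mem_center_iff]
      intro g
      exact Subtype.ext (hzc g).symm
    · intro x hx
      apply hmemT
      apply hcenter x x.2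
      intro y hy
      have := Subgroup.mem_center_iff.1 hx ⟨y, hy⟩
      exact (congrArg Subtype.val this).symm
    · intro x y
      apply hmemT
      rw [commutatorElement_def]
      simp only [Subgroup.coe_mul, Subgroup.coe_inv]
      exact hcomm_const x x.2 y y.2
    · intro x
      apply hmemT
      rw [pow_two, Subgroup.coe_mul]
      exact hsq_const x x.2
    · obtain ⟨x, hx, y, hy, hne⟩ := hnonab
      exact ⟨⟨x, hx⟩, ⟨y, hy⟩, fun hc => hne (congrArg Subtype.val hc)⟩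
  · -- commutative
    intro a a'
    apply Subtype.ext
    have h1 : π a = 1 := MonoidHom.mem_ker.1 a.2.2
    have h2 : π a' = 1 := MonoidHom.mem_ker.1 a'.2.2
    rw [Subgroup.coe_mul, Subgroup.coe_mul]
    apply h82_ext ρ e π s hm hf
    · rw [map_mul, map_mul, h1, h2]
    · intro i
      rw [h82_cocycle ρ e π s hm, h82_cocycle ρ e π s hm, h1, h2, Perm.one_apply, mul_comm]
  · -- exponent two
    intro a ha
    have h1 : π a = 1 := MonoidHom.mem_ker.1 ha.2
    rw [pow_two]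
    apply h82_ext ρ e π s hm hf
    · rw [map_mul, h1, one_mul, map_one]
    · intro i
      rw [h82_cocycle ρ e π s hm, h1, Perm.one_apply, h82_u_sq, h82_s_one ρ e π s hm]

/-- **M3.** Monomial, `n = 4`: `R` extraspecial of order 32. -/
theorem concl_of_mono_four {G : Type u} [Group G] [Finite G] {V : Type v} [AddCommGroup V]
    [Module (ZMod 3) V] [Finite V] (ρ : Representation (ZMod 3) G V) (R Q : Subgroup G) (b : G)
    (h : Cfg ρ R Q b) (hm : IsMono ρ 4)
    (hQW : ∃ (q₁ q₂ q₃ : G) (v₁ v₂ v₃ : V), QWeights ρ Q b q₁ q₂ q₃ v₁ v₂ v₃) : Concl R := by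
  classical
  obtain ⟨e, π, s, hm⟩ := hm
  obtain ⟨q₁, q₂, q₃, v₁, v₂, v₃, hw⟩ := hQW
  obtain ⟨hc3, hc1, hRV4, hlift, hP⟩ := h82_setup ρ R Q b h e π s hm
  by_cases hwt : ∃ d ∈ R, π d = 1 ∧ ∃ i j, i ≠ j ∧ s d = h82_wt i j
  · obtain ⟨d₀, hd₀R, hd₀π, i0, j0, h0, hd₀s⟩ := hwt
    exact h82_caseA ρ R Q b h e π s hm d₀ hd₀R hd₀π i0 j0 h0 hd₀s
  · exfalso
    apply h82_caseB ρ R Q b h e π s hm q₁ q₂ q₃ v₁ v₂ v₃ hw
    intro d hdR hdπ
    rcases h82_class (s d) (hP d hdR) with hc | ⟨i, j, hij, hs⟩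
    · exact hc
    · exact absurd ⟨d, hdR, hdπ, i, j, hij, hs⟩ hwt

end Main

end Cfsg.Agent.Helper82.C3
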