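import Mathlib
import Cfsg.Agent.Lib.Helper2.SR0
import Cfsg.Agent.Lib.Helper13.SpMid

/-!
# SR project (S2281, server helper2): pieces (A3) (A5) (A6) (A7) of block A

Generic facts about `Orb`, `MM`, `QQ`.  (A5)-(A7) go through helper13's additive group
`Helper13.SpMid.QQ`, whose carrier is definitionally `Helper2.SR.QQ`.
-/

set_option autoImplicit false

namespace Cfsg.Agent.Helper82.SR

open Matrix Cfsg Cfsg.Agent.Helper13 Cfsg.Agent.Helper84.SpRoot Cfsg.Agent.Helper5.SpAut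
open Cfsg.Agent.Helper2.SR

section A
variable {F : Type*} [Field F] {n : ℕ}
  {H : Subgroup (Matrix.symplecticGroup (Fin n) F)} {e0 : Fin n ⊕ Fin n → F}

/-- (A3) `conj_sympT` -/
theorem tv_of_orb {x : Fin n ⊕ Fin n → F} (hx : x ∈ Orb H e0) {c : F} (hc : c ∈ MM H e0) :
    sympT x c ∈ H := by
  obtain ⟨h, hh, rfl⟩ := hx
  rw [← conj_sympT h e0 c]
  exact H.mul_mem (H.mul_mem hh hc) (H.inv_mem hh)

/-- (A5) `eich_mul`; `eich e0 0 0 = 1`; inverse of `eich e0 w c` is `eich e0 (-w) (-c)` -/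
theorem QQ_addsub : ∃ S : AddSubgroup (Fin n ⊕ Fin n → F), (S : Set (Fin n ⊕ Fin n → F)) = QQ H e0 :=
  ⟨Cfsg.Agent.Helper13.SpMid.QQ H e0, rfl⟩

/-- (A6) `conj_eich` -/
theorem QQ_stab {w : Fin n ⊕ Fin n → F} (hw : w ∈ QQ H e0)
    {h : Matrix.symplecticGroup (Fin n) F} (hh : h ∈ H) (hfix : h.val *ᵥ e0 = e0) :
    h.val *ᵥ w ∈ QQ H e0 :=
  Cfsg.Agent.Helper13.SpMid.QQ_act (H := H) (e := e0) hh hfix hw

/-- (A7) `T_y(c)` fixes `e0` and lies in `H`; `T_y(c) w - w = c ω(w,y) y`; uses A3 A5 A6 -/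
theorem QQ_tv {w y : Fin n ⊕ Fin n → F} (hw : w ∈ QQ H e0) (hy : y ∈ Orb H e0)
    (hy0 : Cfsg.sympForm n F y e0 = 0) {c : F} (hc : c ∈ MM H e0) :
    (c * Cfsg.sympForm n F w y) • y ∈ QQ H e0 :=
  Cfsg.Agent.Helper13.SpMid.QQ_transv (H := H) (e := e0) hy0 (tv_of_orb hy hc) hw

end A

end Cfsg.Agent.Helper82.SR
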