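import Mathlib
import Cfsg.Agent.Lib.Helper2.SR0
import Cfsg.Agent.Lib.Helper82.SRA

/-!
# SR project (S2281, server helper2): pieces (K1) (K2) of block K, and the cores of (K4) (K5) (K7)
with the earlier pieces as hypotheses.
-/

set_option autoImplicit false

namespace Cfsg.Agent.Helper82.SR

open Matrix Cfsg Cfsg.Agent.Helper13 Cfsg.Agent.Helper84.SpRoot Cfsg.Agent.Helper5.SpAut
open Cfsg.Agent.Helper2.SR

section K
variable {F : Type*} [Field F] {n : ℕ}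
  {H : Subgroup (Matrix.symplecticGroup (Fin n) F)} {u l : Matrix.symplecticGroup (Fin n) F}
  {e0 e1 p : Fin n ⊕ Fin n → F} {κ γ : F}

/-- (K1) `e1 = l e0`, `e1 + e0 = u e1`, `p = l⁻¹ e0` -/
theorem orb_basic (hyp : Hyp H u l e0 e1 p κ γ) :
    e1 ∈ Orb H e0 ∧ e1 + e0 ∈ Orb H e0 ∧ p ∈ Orb H e0 := by
  refine ⟨⟨l, hyp.hl, hyp.le0⟩, ⟨u * l, H.mul_mem hyp.hu hyp.hl, ?_⟩,
    ⟨l⁻¹, H.inv_mem hyp.hl, ?_⟩⟩
  · rw [mul_act, hyp.le0, hyp.ue1]
  · rw [← hyp.lp, inv_mulVec_mulVec]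

/-- the identity behind (K2) -/
theorem h82_seed_identity {e0 e1 : Fin n ⊕ Fin n → F} (h10 : Cfsg.sympForm n F e1 e0 = 0)
    (c : F) : sympT (e1 + e0) c * sympT e1 (-c) = eich e0 (c • e1) c := by
  have h1 : Cfsg.sympForm n F (c • e1) e0 = 0 := by rw [sympForm_smul_left, h10, mul_zero]
  apply sp_ext
  intro x
  rw [mul_act, sympT_act, sympT_act, eich_act h1]
  simp only [sympForm_add_left, sympForm_add_right, sympForm_smul_left, sympForm_smul_right,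
    sympForm_self, h10, orth_symm h10]
  module

/-- (K2) `sympT (e1 + e0) c * sympT e1 (-c) = eich e0 (c • e1) c` -/
theorem seed (hyp : Hyp H u l e0 e1 p κ γ) {c : F} (hc : c ∈ MM H e0) :
    c • e1 ∈ QQ H e0 := by
  obtain ⟨h1, h10, -⟩ := orb_basic hyp
  refine ⟨by rw [sympForm_smul_left, hyp.e1e0, mul_zero], c, ?_⟩
  rw [← h82_seed_identity hyp.e1e0 c]
  refine H.mul_mem (tv_of_orb h10 hc) ?_
  rw [← sympT_inv]
  exact H.inv_mem (tv_of_orb h1 hc)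

/-- core of (K4): from (K3) and (A7) with `y = e1` -/
theorem h82_lin_e1_core (hyp : Hyp H u l e0 e1 p κ γ) (hK3 : ∀ a : F, a • p ∈ QQ H e0) :
    ∀ a : F, a • e1 ∈ QQ H e0 := by
  intro a
  obtain ⟨h1, -, -⟩ := orb_basic hyp
  have hκ : κ ∈ MM H e0 := hyp.hκ
  have hb := QQ_tv (hK3 (-(a / (κ * γ)))) h1 hyp.e1e0 hκ
  have hpe1 : Cfsg.sympForm n F p e1 = -γ := by rw [sympForm_swap, hyp.e1p]
  rw [sympForm_smul_left, hpe1] at hb
  have hκ0 := hyp.κ0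
  have hγ0 := hyp.γ0
  have : κ * (-(a / (κ * γ)) * -γ) = a := by field_simp
  rwa [this] at hb

end K

end Cfsg.Agent.Helper82.SR
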