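import Mathlib
import Cfsg.Agent.S1017

/-!
# N96 server (helper54, S0980 case n_5 = 96): shared auxiliary lemmas of helper82's pieces.
-/

set_option autoImplicit false

namespace Cfsg.Agent.Helper82.N96

open MulAction

universe u

variable {G : Type u} [Group G]

theorem h82_mem_fixedBy_coset_iff (M : Subgroup G) (u a : G) :
    ((a : G) : G ⧸ M) ∈ fixedBy (G ⧸ M) u ↔ a⁻¹ * u * a ∈ M := by
  rw [MulAction.mem_fixedBy, MulAction.Quotient.smul_coe, QuotientGroup.eq, smul_eq_mul]
  constructor
  · intro h
    have := M.inv_mem h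
    simpa [mul_assoc] using this
  · intro h
    have := M.inv_mem h
    simpa [mul_assoc] using this

theorem h82_card_quot [Finite G] (M : Subgroup G) (n m k : ℕ) (hG : Nat.card G = n)
    (hM : Nat.card M = m) (hm : 0 < m) (hn : n = m * k) : Nat.card (G ⧸ M) = k := by
  have h1 : Nat.card M * M.index = Nat.card G := Subgroup.card_mul_index M
  rw [hM, hG, hn] at h1
  have h2 : M.index = k := Nat.eq_of_mul_eq_mul_left hm h1
  rw [← h2]
  rfl

/-- if `r` fixes only the base point and `u ∈ M`, then `Fix u ∩ Fix r` is a single point -/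
theorem h82_card_inter_eq_one (M : Subgroup G) (u r : G) (hu : u ∈ M)
    (hfr : ∀ g : G, g⁻¹ * r * g ∈ M → g ∈ M) (hr : r ∈ M) :
    Nat.card ↥(fixedBy (G ⧸ M) u ∩ fixedBy (G ⧸ M) r) = 1 := by
  have hset : fixedBy (G ⧸ M) u ∩ fixedBy (G ⧸ M) r = {((1 : G) : G ⧸ M)} := by
    ext a
    induction a using QuotientGroup.induction_on with
    | H a =>
      constructor
      · rintro ⟨-, h2⟩
        rw [h82_mem_fixedBy_coset_iff] at h2
        have ha : a ∈ M := hfr a h2
        rw [Set.mem_singleton_iff, QuotientGroup.eq]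
        simpa using M.inv_mem ha
      · intro h
        rw [Set.mem_singleton_iff, QuotientGroup.eq] at h
        have ha : a ∈ M := by
          have := M.inv_mem h
          simpa using this
        constructor
        · rw [h82_mem_fixedBy_coset_iff]
          exact M.mul_mem (M.mul_mem (M.inv_mem ha) hu) ha
        · rw [h82_mem_fixedBy_coset_iff]
          exact M.mul_mem (M.mul_mem (M.inv_mem ha) hr) ha
  rw [hset]
  simp

end Cfsg.Agent.Helper82.N96
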