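import Mathlib
import Cfsg.Agent.S1017
import Cfsg.Agent.Lib.Helper82.N96Aux

/-!
# N96 server (helper54, S0980 case n_5 = 96): (P11) invol_fix_four
-/

set_option autoImplicit false

namespace Cfsg.Agent.Helper82.N96

open Cfsg MulAction

universe u

variable {G : Type u} [Group G] [Finite G] [IsSimpleGroup G]

theorem invol_fix_four (hG : Nat.card G = 5760) (M : Subgroup G) (hM : Nat.card M = 360)
    (x : G) (hx : orderOf x = 3) (hcent : ∀ g : G, Commute g x → g ∈ M)
    (hfx : ∀ g : G, g⁻¹ * x * g ∈ M → g ∈ M)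
    (v : G) (hv : orderOf v = 2) (hvx : Commute v x) :
    Nat.card (fixedBy (G ⧸ M) v) = 4 := by
  have : Fact (Nat.Prime 3) := ⟨by norm_num⟩
  have hq : Nat.card (G ⧸ M) = 16 := h82_card_quot M 5760 360 16 hG hM (by norm_num) (by norm_num)
  have hvM : v ∈ M := hcent v hvx
  have hxM : x ∈ M := hcent x (Commute.refl x)
  have h4 := Cfsg.Agent.S1017.card_fixedBy_mod_four (G := G) (by omega) (α := G ⧸ M) v hv
  have h3 := Cfsg.Agent.S1017.card_fixedBy_modEq_inter (α := G ⧸ M) x v hvx.symm hx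
  rw [h82_card_inter_eq_one M v x hvM hfx hxM] at h3
  rw [hq] at h4
  have hMtop : M ≠ ⊤ := by
    intro h
    have : Nat.card M = Nat.card G := by rw [h]; exact Subgroup.card_top
    omega
  have hv1 : v ≠ 1 := Cfsg.Agent.S1017.ne_one_of_orderOf_prime v (by norm_num) hv
  have hne := Cfsg.Agent.S1017.card_fixedBy_ne (α := G ⧸ M)
    (Cfsg.Agent.S1017.coset_action_nontrivial M hMtop) v hv1
  have hle := Cfsg.Agent.S1017.card_fixedBy_le (α := G ⧸ M) v
  rw [hq] at hne hle
  unfold Nat.ModEq at h3 h4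
  omega

end Cfsg.Agent.Helper82.N96
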