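import Mathlib
import Cfsg.Agent.S1017
import Cfsg.Agent.Lib.Helper82.N96Aux

/-!
# N96 server (helper54, S0980 case n_5 = 96): (P6) fix_x
-/

set_option autoImplicit false

namespace Cfsg.Agent.Helper82.N96

open Cfsg MulAction

universe u

variable {G : Type u} [Group G] [Finite G] [IsSimpleGroup G]

theorem fix_x (hG : Nat.card G = 5760) (M : Subgroup G) (hM : Nat.card M = 360)
    (x : G) (hx : orderOf x = 3) (hxM : x ∈ M) (r : G) (hr : orderOf r = 5) (hrM : r ∈ M)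
    (hcomm : Commute r x) (hfr : ∀ g : G, g⁻¹ * r * g ∈ M → g ∈ M)
    (g : G) (hg : g⁻¹ * x * g ∈ M) : g ∈ M := by
  have : Fact (Nat.Prime 3) := ⟨by norm_num⟩
  have : Fact (Nat.Prime 5) := ⟨by norm_num⟩
  have hq : Nat.card (G ⧸ M) = 16 := h82_card_quot M 5760 360 16 hG hM (by norm_num) (by norm_num)
  have h3 := Cfsg.Agent.S1017.card_modEq_card_fixedBy (α := G ⧸ M) x hx
  have h5 := Cfsg.Agent.S1017.card_fixedBy_modEq_inter (α := G ⧸ M) r x hcomm hr
  rw [h82_card_inter_eq_one M x r hxM hfr hrM] at h5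
  rw [hq] at h3
  have hMtop : M ≠ ⊤ := by
    intro h
    have : Nat.card M = Nat.card G := by rw [h]; exact Subgroup.card_top
    omega
  have hx1 : x ≠ 1 := Cfsg.Agent.S1017.ne_one_of_orderOf_prime x (by norm_num) hx
  have hne := Cfsg.Agent.S1017.card_fixedBy_ne (α := G ⧸ M)
    (Cfsg.Agent.S1017.coset_action_nontrivial M hMtop) x hx1
  have hle := Cfsg.Agent.S1017.card_fixedBy_le (α := G ⧸ M) x
  rw [hq] at hne hle
  have hf : Nat.card (fixedBy (G ⧸ M) x) = 1 := by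
    unfold Nat.ModEq at h3 h5
    omega
  have h1 : ((1 : G) : G ⧸ M) ∈ fixedBy (G ⧸ M) x := Cfsg.Agent.S1017.coset_fixed M x hxM
  have h2 : ((g : G) : G ⧸ M) ∈ fixedBy (G ⧸ M) x := (h82_mem_fixedBy_coset_iff M x g).2 hg
  have hsub : Subsingleton ↥(fixedBy (G ⧸ M) x) := by
    have := (Nat.card_eq_one_iff_unique.1 hf).1
    exact this
  have heq : (⟨((g : G) : G ⧸ M), h2⟩ : ↥(fixedBy (G ⧸ M) x)) = ⟨((1 : G) : G ⧸ M), h1⟩ :=
    Subsingleton.elim _ _
  have heq' : ((g : G) : G ⧸ M) = ((1 : G) : G ⧸ M) := congrArg Subtype.val heq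
  rw [QuotientGroup.eq] at heq'
  have := M.inv_mem heq'
  simpa using this

end Cfsg.Agent.Helper82.N96
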