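import Mathlib
import Cfsg.Agent.Lib.Helper47.Comm
import Cfsg.Agent.Lib.Helper52.Coprime
import Cfsg.Agent.Lib.Helper24.Averaging

/-!
# BG 14.2, (L4) CONFIG A kill: the pure endgame (request E1 of helper51) (helper82)
-/

set_option autoImplicit false
set_option linter.unusedVariables false

namespace Cfsg.Agent.Helper82.BG142End

open Subgroup
open scoped commutatorElement

variable {G : Type*} [Group G]

/-- step (4a): `B := S ⊓ C(X) ⊓ C(A0)` is contained in `A0`. -/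
theorem mem_of_mem_B [Finite G] (r : ℕ) [Fact r.Prime] (S X A A0 T : Subgroup G)
    (hS : IsPGroup r S)
    (hAX : A ⊓ centralizer (X : Set G) ≤ A0)
    (hP0o : ∀ x ∈ S ⊓ centralizer (A0 : Set G), x ^ r = 1 → x ∈ A)
    (hTp : ∀ y ∈ S, y ^ r ∈ T)
    (hA0T : A0 ⊓ T = ⊥) :
    ∀ b ∈ S ⊓ centralizer (X : Set G) ⊓ centralizer (A0 : Set G), b ∈ A0 := by
  intro b hb
  have hr : r.Prime := Fact.out
  have hbS : b ∈ S := hb.1.1
  have key : ∀ z ∈ S ⊓ centralizer (X : Set G) ⊓ centralizer (A0 : Set G), z ^ r = 1 → z ∈ A0 := by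
    intro z hz hzr
    exact hAX ⟨hP0o z ⟨hz.1.1, hz.2⟩ hzr, hz.1.2⟩
  obtain ⟨k, hk⟩ := (IsPGroup.iff_orderOf.mp hS) ⟨b, hbS⟩
  have hk' : orderOf b = r ^ k := by
    rw [← hk]; exact (Subgroup.orderOf_mk b hbS).symm
  rcases k with _ | k
  · have : b = 1 := by rwa [pow_zero, orderOf_eq_one_iff] at hk'
    rw [this]; exact A0.one_mem
  rcases k with _ | k
  · apply key b hb
    have := pow_orderOf_eq_one b
    rw [hk'] at this
    simpa using this
  · exfalso
    have hzr : (b ^ (r ^ (k + 1))) ^ r = 1 := by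
      rw [← pow_mul, ← pow_succ, ← hk']; exact pow_orderOf_eq_one b
    have hzB : b ^ (r ^ (k + 1)) ∈ S ⊓ centralizer (X : Set G) ⊓ centralizer (A0 : Set G) :=
      Subgroup.pow_mem _ hb _
    have hzA0 : b ^ (r ^ (k + 1)) ∈ A0 := key _ hzB hzr
    have hzT : b ^ (r ^ (k + 1)) ∈ T := by
      have : b ^ (r ^ (k + 1)) = (b ^ (r ^ k)) ^ r := by rw [← pow_mul, ← pow_succ]
      rw [this]; exact hTp _ (S.pow_mem hbS _)
    have hz1 : b ^ (r ^ (k + 1)) = 1 := by
      have : b ^ (r ^ (k + 1)) ∈ A0 ⊓ T := ⟨hzA0, hzT⟩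
      rw [hA0T] at this; exact this
    have hdvd : orderOf b ∣ r ^ (k + 1) := orderOf_dvd_of_pow_eq_one hz1
    rw [hk'] at hdvd
    have := (Nat.pow_dvd_pow_iff_le_right hr.one_lt).mp hdvd
    omega

/-- step (4b): `S ⊓ C(X) ≤ A0`. -/
theorem mem_of_mem_D [Finite G] (r : ℕ) [Fact r.Prime] (S X A0 : Subgroup G)
    (hS : IsPGroup r S) (hA0 : Nat.card A0 = r)
    (hA0D : A0 ≤ S ⊓ centralizer (X : Set G))
    (hB : ∀ b ∈ S ⊓ centralizer (X : Set G) ⊓ centralizer (A0 : Set G), b ∈ A0) :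
    ∀ d ∈ S ⊓ centralizer (X : Set G), d ∈ A0 := by
  have hr : r.Prime := Fact.out
  have hDp : IsPGroup r ↥(S ⊓ centralizer (X : Set G)) := hS.to_le inf_le_left
  -- `A0` is nontrivial
  have hA0nt : Nontrivial ↥A0 := by
    rw [← Finite.one_lt_card_iff_nontrivial, hA0]; exact hr.one_lt
  obtain ⟨⟨a1, ha1⟩, ha1ne⟩ := exists_ne (1 : ↥A0)
  have ha1ne' : a1 ≠ 1 := fun h => ha1ne (Subtype.ext h)
  have : Nontrivial ↥(S ⊓ centralizer (X : Set G)) :=
    ⟨⟨⟨a1, hA0D ha1⟩, 1, fun h => ha1ne' (congrArg Subtype.val h)⟩⟩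
  have := hDp.center_nontrivial
  obtain ⟨⟨z, hzc⟩, hzne⟩ := exists_ne (1 : ↥(center ↥(S ⊓ centralizer (X : Set G))))
  have hzne' : (z : G) ≠ 1 := by
    intro h
    apply hzne
    apply Subtype.ext
    apply Subtype.ext
    exact h
  rw [Subgroup.mem_center_iff] at hzc
  -- `z` commutes with all of `D`
  have hzD : ∀ d ∈ S ⊓ centralizer (X : Set G), d * (z : G) = (z : G) * d := by
    intro d hd
    have := hzc ⟨d, hd⟩
    exact congrArg Subtype.val this
  have hzA0 : (z : G) ∈ A0 := by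
    apply hB _ (Subgroup.mem_inf.mpr ⟨z.2, ?_⟩)
    rw [Subgroup.mem_centralizer_iff]
    intro a ha
    exact hzD a (hA0D ha)
  -- every element of `A0` is a power of `z`
  have hpow : ∀ a ∈ A0, ∃ n : ℤ, (z : G) ^ n = a := by
    intro a ha
    have hz1 : (⟨(z : G), hzA0⟩ : ↥A0) ≠ 1 := fun h => hzne' (congrArg Subtype.val h)
    have := mem_zpowers_of_prime_card (G := ↥A0) hA0 (g := ⟨(z : G), hzA0⟩) (g' := ⟨a, ha⟩) hz1
    obtain ⟨n, hn⟩ := Subgroup.mem_zpowers_iff.mp this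
    refine ⟨n, ?_⟩
    have := congrArg Subtype.val hn
    simpa using this
  intro d hd
  apply hB d (Subgroup.mem_inf.mpr ⟨hd, ?_⟩)
  rw [Subgroup.mem_centralizer_iff]
  intro a ha
  obtain ⟨n, rfl⟩ := hpow a ha
  have hc : Commute d (z : G) := hzD d hd
  exact ((hc.zpow_right n).eq).symm

/-- **(E1)** the pure endgame of the CONFIG A kill (steps (4)-(6) of helper51 #2607). -/
theorem configA_endgame {G : Type*} [Group G] [Finite G] (r : ℕ) [Fact r.Prime]
    (S V X A A0 T : Subgroup G)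
    (hS : IsPGroup r S) (hVS : V ≤ normalizer (S : Set G))
    (hcop : (Nat.card V).Coprime (Nat.card S))
    (hSV : S ≤ ⁅S, V⁆)
    (hXV : X ≤ V)
    (hAS : A ≤ S) (hA0A : A0 ≤ A) (hA0 : Nat.card A0 = r)
    (hXA0 : X ≤ centralizer (A0 : Set G))
    (hAX : A ⊓ centralizer (X : Set G) ≤ A0)
    (hP0c : ∀ x ∈ S ⊓ centralizer (A0 : Set G), ∀ y ∈ S ⊓ centralizer (A0 : Set G), x * y = y * x)
    (hP0o : ∀ x ∈ S ⊓ centralizer (A0 : Set G), x ^ r = 1 → x ∈ A)
    (hN : ∀ v ∈ V, v ∈ normalizer (A0 : Set G) → v ∈ centralizer (A0 : Set G))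
    (hTS : T ≤ S) (hST : S ≤ normalizer (T : Set G)) (hTV : V ≤ normalizer (T : Set G))
    (hTc : ⁅S, S⁆ ≤ T) (hTp : ∀ y ∈ S, y ^ r ∈ T)
    (hA0T : A0 ⊓ T = ⊥)
    (h5 : S ≤ A0 ⊔ T ∨ ⁅V, V⁆ ≤ centralizer (S : Set G)) : False := by
  classical
  have hr : r.Prime := Fact.out
  have hA0S : A0 ≤ S := hA0A.trans hAS
  have hA0X : A0 ≤ centralizer (X : Set G) := Subgroup.le_centralizer_iff.mp hXA0
  have hA0D : A0 ≤ S ⊓ centralizer (X : Set G) := le_inf hA0S hA0X
  -- step (4)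
  have hB := mem_of_mem_B r S X A A0 T hS hAX hP0o hTp hA0T
  have hD := mem_of_mem_D r S X A0 hS hA0 hA0D hB
  -- conjugation by `v ∈ V` preserves `S`
  have hconjS : ∀ v ∈ V, ∀ s ∈ S, v * s * v⁻¹ ∈ S := fun v hv s hs =>
    (Subgroup.mem_normalizer_iff.mp (hVS hv) s).mp hs
  -- step (5): `V ≤ N(A0)`
  have hconjA0 : ∀ v ∈ V, ∀ a ∈ A0, v * a * v⁻¹ ∈ A0 := by
    rcases h5 with h5l | h5r
    · -- case `S = A0 T`
      have hV0N : V ⊓ Cfsg.Agent.Helper47.commStab S T ≤ normalizer (T : Set G) :=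
        inf_le_left.trans hTV
      have hXV0 : X ≤ V ⊓ Cfsg.Agent.Helper47.commStab S T := by
        intro x hx
        refine ⟨hXV hx, hTV (hXV hx), ?_⟩
        intro s hs
        have hs' : s ∈ T ⊔ A0 := by rw [sup_comm]; exact h5l hs
        obtain ⟨t, ht, a, ha, rfl⟩ :=
          Cfsg.Agent.Helper47.exists_mul_of_mem_sup_of_le_normalizer (hA0S.trans hST) hs'
        have hax : a * x = x * a := by
          have := hXA0 hx
          rw [Subgroup.mem_centralizer_iff] at this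
          exact this a ha
        have h1 : a * x * a⁻¹ = x := by rw [hax]; group
        have h2 : ⁅t * a, x⁆ = t * (x * t⁻¹ * x⁻¹) := by
          rw [commutatorElement_def]
          calc t * a * x * (t * a)⁻¹ * x⁻¹ = t * (a * x * a⁻¹) * t⁻¹ * x⁻¹ := by group
            _ = t * (x * t⁻¹ * x⁻¹) := by rw [h1]; group
        rw [h2]
        exact T.mul_mem ht
          ((Subgroup.mem_normalizer_iff.mp (hTV (hXV hx)) t⁻¹).mp (T.inv_mem ht))
      have hcop0 : (Nat.card ↥(V ⊓ Cfsg.Agent.Helper47.commStab S T)).Coprime (Nat.card S) :=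
        Nat.Coprime.coprime_dvd_left (Subgroup.card_dvd_of_le inf_le_left) hcop
      have hTsolv : Group.IsSolvable ↥T := by
        have : Group.IsNilpotent ↥T := (hS.to_le hTS).isNilpotent
        infer_instance
      -- `A0 ≤ C(V0)`
      have hA0V0 : ∀ a ∈ A0, a ∈ centralizer
          ((V ⊓ Cfsg.Agent.Helper47.commStab S T : Subgroup G) : Set G) := by
        intro a ha
        obtain ⟨n, hn, c, hc, hac⟩ :=
          Cfsg.Agent.Helper52.exists_mul_centralizer_of_comm_mem S T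
            (V ⊓ Cfsg.Agent.Helper47.commStab S T) hTS (inf_le_left.trans hVS) hV0N hcop0
            (Or.inl hTsolv) a (hA0S ha) (by
              intro v hv
              have := hv.2.2 a (hA0S ha)
              rwa [commutatorElement_def] at this)
        have hcA0 : c ∈ A0 :=
          hD c ⟨hc.1, Subgroup.centralizer_le hXV0 hc.2⟩
        have hn1 : n = 1 := by
          have hnA0 : n ∈ A0 := by
            have : n = a * c⁻¹ := by rw [hac]; group
            rw [this]; exact A0.mul_mem ha (A0.inv_mem hcA0)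
          have : n ∈ A0 ⊓ T := ⟨hnA0, hn⟩
          rw [hA0T] at this; exact this
        rw [hac, hn1, one_mul]; exact hc.2
      -- `V` normalizes `V0`
      have hV0conj : ∀ v ∈ V, ∀ w ∈ V ⊓ Cfsg.Agent.Helper47.commStab S T,
          v * w * v⁻¹ ∈ V ⊓ Cfsg.Agent.Helper47.commStab S T := by
        intro v hv w hw
        refine ⟨V.mul_mem (V.mul_mem hv hw.1) (V.inv_mem hv), hTV (V.mul_mem (V.mul_mem hv hw.1) (V.inv_mem hv)), ?_⟩
        intro s hs
        have hs' : v⁻¹ * s * v⁻¹⁻¹ ∈ S := hconjS v⁻¹ (V.inv_mem hv) s hs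
        have h1 := hw.2.2 _ hs'
        have h2 : ⁅s, v * w * v⁻¹⁆ = v * ⁅v⁻¹ * s * v⁻¹⁻¹, w⁆ * v⁻¹ := by
          simp only [commutatorElement_def]; group
        rw [h2]
        exact (Subgroup.mem_normalizer_iff.mp (hTV hv) _).mp h1
      intro v hv a ha
      apply hD
      refine Subgroup.mem_inf.mpr ⟨hconjS v hv a (hA0S ha), ?_⟩
      apply Subgroup.centralizer_le hXV0
      rw [Subgroup.mem_centralizer_iff]
      intro w hw
      have hw' := hV0conj v⁻¹ (V.inv_mem hv) w hw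
      have h1 := hA0V0 a ha
      rw [Subgroup.mem_centralizer_iff] at h1
      have h2 : (v⁻¹ * w * v⁻¹⁻¹) * a = a * (v⁻¹ * w * v⁻¹⁻¹) := h1 _ hw'
      calc w * (v * a * v⁻¹) = v * ((v⁻¹ * w * v⁻¹⁻¹) * a) * v⁻¹ := by group
        _ = v * (a * (v⁻¹ * w * v⁻¹⁻¹)) * v⁻¹ := by rw [h2]
        _ = v * a * v⁻¹ * w := by group
    · -- case `[V,V] ≤ C(S)`
      intro v hv a ha
      apply hD
      refine Subgroup.mem_inf.mpr ⟨hconjS v hv a (hA0S ha), ?_⟩
      rw [Subgroup.mem_centralizer_iff]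
      intro x hx
      have hc : ⁅v⁻¹, x⁆ ∈ centralizer (S : Set G) :=
        h5r (Subgroup.commutator_mem_commutator (V.inv_mem hv) (hXV hx))
      rw [Subgroup.mem_centralizer_iff] at hc
      have hca : a * ⁅v⁻¹, x⁆ = ⁅v⁻¹, x⁆ * a := hc a (hA0S ha)
      have hxa : a * x = x * a := by
        have := hXA0 hx
        rw [Subgroup.mem_centralizer_iff] at this
        exact this a ha
      have h1 : v⁻¹ * x * v⁻¹⁻¹ = ⁅v⁻¹, x⁆ * x := by
        rw [commutatorElement_def]; group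
      have h2 : (v⁻¹ * x * v⁻¹⁻¹) * a = a * (v⁻¹ * x * v⁻¹⁻¹) := by
        rw [h1, mul_assoc, ← hxa, ← mul_assoc, ← hca, mul_assoc]
      calc x * (v * a * v⁻¹) = v * ((v⁻¹ * x * v⁻¹⁻¹) * a) * v⁻¹ := by group
        _ = v * (a * (v⁻¹ * x * v⁻¹⁻¹)) * v⁻¹ := by rw [h2]
        _ = v * a * v⁻¹ * x := by group
  -- step (6)
  have hVN : V ≤ normalizer (A0 : Set G) := by
    intro v hv
    rw [Subgroup.mem_normalizer_iff]
    intro k
    constructor
    · exact hconjA0 v hv k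
    · intro hk
      have := hconjA0 v⁻¹ (V.inv_mem hv) _ hk
      have e : v⁻¹ * (v * k * v⁻¹) * v⁻¹⁻¹ = k := by group
      rwa [e] at this
  have hVC : V ≤ centralizer (A0 : Set G) := fun v hv => hN v hv (hVN hv)
  have hA0C : A0 ≤ centralizer (V : Set G) := Subgroup.le_centralizer_iff.mp hVC
  have h6 : A0 ≤ T := by
    intro a ha
    apply hTc
    apply Cfsg.Agent.Helper24.inf_centralizer_inf_commutator_le S V hVS hcop.symm
    exact ⟨⟨hA0S ha, hA0C ha⟩, hSV (hA0S ha)⟩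
  have h7 : A0 = ⊥ := by
    rw [eq_bot_iff, ← hA0T]
    exact le_inf le_rfl h6
  rw [h7, Subgroup.card_bot] at hA0
  exact hr.one_lt.ne hA0

end Cfsg.Agent.Helper82.BG142End
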