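import Mathlib
import Cfsg.Agent.Lib.Helper82.SibSylow
import Cfsg.Agent.Lib.Helper82.CAFamily
import Cfsg.Agent.S1529

/-!
# The exceptional characters attached to a nilpotent T.I. subgroup with Frobenius normalizer,
from coherence
-/

set_option autoImplicit false
set_option linter.unusedSectionVars false
set_option linter.unusedVariables false
set_option linter.style.haveILetI false

namespace Cfsg.Agent.Helper82.CNFamily

open Cfsg Cfsg.Agent.Helper81 Cfsg.Agent.Helper82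
open scoped ComplexConjugate

universe u

section cnfam

variable {G : Type u} [Group G] [Fintype G] (N : Subgroup G) [Fintype N]
  (K' : Subgroup N) [hKn : K'.Normal] [Fintype K']
  (hC' : ∀ n ∈ K', n ≠ 1 → Subgroup.centralizer ({n} : Set N) ≤ K')
  (τ₁ : (N → ℂ) → (G → ℂ))
  (hτ₁ : Cfsg.IsLinearIsometryOn (Cfsg.zspan (↑(sibS N K') : Set (N → ℂ))) τ₁)
  (hagree : ∀ α ∈ Cfsg.zspanOn (↑(sibS N K') : Set (N → ℂ)) {1}ᶜ, τ₁ α = indFun N α)

/-- The degree-zero combination of two members of `sibS`. -/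
theorem diff_mem {χ ξ : N → ℂ} (hχ : χ ∈ sibS N K') (hξ : ξ ∈ sibS N K') :
    (sibA N K' ξ : ℤ) • χ - (sibA N K' χ : ℤ) • ξ ∈
      Cfsg.zspanOn (↑(sibS N K') : Set (N → ℂ)) {1}ᶜ := by
  refine mem_zspanOn_compl_one.mpr ⟨zspan_sub_mem (zspan_smul_mem _ (subset_zspan
    (Finset.mem_coe.mpr hχ))) (zspan_smul_mem _ (subset_zspan (Finset.mem_coe.mpr hξ))), ?_⟩
  obtain ⟨θ, hθ, rfl⟩ := (mem_sibS N K' χ).mp hχ
  obtain ⟨θ', hθ', rfl⟩ := (mem_sibS N K' ξ).mp hξ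
  rw [Pi.sub_apply, Pi.smul_apply, Pi.smul_apply, sibS_one, sibS_one, sibA_indFun, sibA_indFun]
  simp only [zsmul_eq_mul]
  push_cast
  ring

include hτ₁ hagree in
theorem tau_diff {χ ξ : N → ℂ} (hχ : χ ∈ sibS N K') (hξ : ξ ∈ sibS N K') :
    (sibA N K' ξ : ℤ) • τ₁ χ - (sibA N K' χ : ℤ) • τ₁ ξ =
      indFun N ((sibA N K' ξ : ℤ) • χ - (sibA N K' χ : ℤ) • ξ) := by
  have hZ := zlinOn_of_isLinearIsometryOn hτ₁
  have hχs : χ ∈ Cfsg.zspan (↑(sibS N K') : Set (N → ℂ)) := subset_zspan (Finset.mem_coe.mpr hχ)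
  have hξs : ξ ∈ Cfsg.zspan (↑(sibS N K') : Set (N → ℂ)) := subset_zspan (Finset.mem_coe.mpr hξ)
  rw [← hagree _ (diff_mem N K' hχ hξ), hZ.map_sub (zspan_smul_mem _ hχs) (zspan_smul_mem _ hξs),
    hZ.smul _ hχs, hZ.smul _ hξs]

include hC' hτ₁ hagree in
/-- Off the conjugates of `K' ∖ {1}`, the values of the `τ₁ χ` are proportional to the weights. -/
theorem tau_supp {χ ξ : N → ℂ} (hχ : χ ∈ sibS N K') (hξ : ξ ∈ sibS N K') (y : G)
    (hy : y = 1 ∨ ∀ x : G, ∀ hx : x⁻¹ * y * x ∈ N, (⟨x⁻¹ * y * x, hx⟩ : N) ∉ K') :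
    (sibA N K' ξ : ℂ) * τ₁ χ y = (sibA N K' χ : ℂ) * τ₁ ξ y := by
  have h1 := congrFun (tau_diff N K' τ₁ hτ₁ hagree hχ hξ) y
  have hmem := diff_mem N K' hχ hξ
  obtain ⟨hs, hone⟩ := mem_zspanOn_compl_one.mp hmem
  obtain ⟨hcl, hvan, _⟩ := sibS_span_props N K' hC' hs
  have h2 : indFun N ((sibA N K' ξ : ℤ) • χ - (sibA N K' χ : ℤ) • ξ) y = 0 := by
    rcases hy with rfl | hy
    · rw [Cfsg.Agent.Helper81.indFun_one, hone, mul_zero]
    · exact indFun_eq_zero_of_forall N _ y (fun x hx => hvan _ (hy x hx))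
  rw [h2, Pi.sub_apply, Pi.smul_apply, Pi.smul_apply] at h1
  simp only [zsmul_eq_mul] at h1
  push_cast at h1
  linear_combination h1

include hτ₁ hagree in
/-- Restriction to `N` of a class function of `G`, against the degree-zero combinations. -/
theorem restrict_inner_diff {ψ : G → ℂ} (hψ : IsClassFunction G ψ) {χ ξ : N → ℂ}
    (hχ : χ ∈ sibS N K') (hξ : ξ ∈ sibS N K') :
    (sibA N K' ξ : ℂ) * classInner (fun x : N => ψ x) χ -
      (sibA N K' χ : ℂ) * classInner (fun x : N => ψ x) ξ =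
    (sibA N K' ξ : ℂ) * classInner ψ (τ₁ χ) - (sibA N K' χ : ℂ) * classInner ψ (τ₁ ξ) := by
  have h1 := restrict_inner_ind N hψ ((sibA N K' ξ : ℤ) • χ - (sibA N K' χ : ℤ) • ξ)
  rw [← tau_diff N K' τ₁ hτ₁ hagree hχ hξ] at h1
  have e1 : ∀ (n : ℤ) (F : N → ℂ), n • F = (n : ℂ) • F := fun n F => by
    funext x; simp
  have e2 : ∀ (n : ℤ) (F : G → ℂ), n • F = (n : ℂ) • F := fun n F => by
    funext x; simp
  rw [e1, e1, e2, e2, classInner_sub_right, classInner_sub_right, classInner_smul_right,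
    classInner_smul_right, classInner_smul_right, classInner_smul_right] at h1
  simp only [Int.cast_natCast, Complex.conj_natCast] at h1
  exact h1

include hC' in
/-- A class function of `N` with integral multiplicities, proportional to the weights on `sibS`,
is constant (and integral) on `K' ∖ {1}`. -/
theorem const_of_prop (hKtop : K' ≠ ⊤) {Φ : N → ℂ} (hΦ : IsClassFunction N Φ)
    (hint : ∀ ζ : IrrCharacter N, ∃ z : ℤ, classInner Φ (ζ : N → ℂ) = (z : ℂ))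
    (hprop : ∀ χ ∈ sibS N K', ∀ ξ ∈ sibS N K',
      (sibA N K' ξ : ℂ) * classInner Φ χ = (sibA N K' χ : ℂ) * classInner Φ ξ)
    {ξ₀ : N → ℂ} (hξ₀ : ξ₀ ∈ sibS N K') (ha₀ : sibA N K' ξ₀ = 1) :
    ∃ z : ℤ, ∀ k ∈ K', k ≠ 1 → Φ k = (z : ℂ) := by
  classical
  have hidx : 0 < K'.index := Nat.pos_of_ne_zero Subgroup.index_ne_zero_of_finite
  have hidxC : (K'.index : ℂ) ≠ 0 := by exact_mod_cast hidx.ne'
  have hSmem : ∀ ζ : IrrCharacter N, ¬ K' ≤ Cfsg.Agent.Helper79.irrKer ζ →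
      (ζ : N → ℂ) ∈ sibS N K' := by
    intro ζ hζ
    have := SibSylow.coe_sibS_eq_relevant N K' hC' hKtop
    rw [← Finset.mem_coe, this]
    exact ⟨ζ.2, (not_le_irrKer_iff K' ζ).mp hζ⟩
  have hdeg : ∀ ξ ∈ sibS N K', ξ 1 = (K'.index : ℂ) * (sibA N K' ξ : ℂ) := by
    intro ξ hξ
    obtain ⟨θ, hθ, rfl⟩ := (mem_sibS N K' ξ).mp hξ
    rw [sibA_indFun, sibS_one]
  have hirr₀ := sibS_irr N K' hC' hξ₀
  have hrel₀ : ¬ K' ≤ Cfsg.Agent.Helper79.irrKer (⟨ξ₀, hirr₀⟩ : IrrCharacter N) :=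
    (not_le_irrKer_iff K' _).mpr (SibSylow.sibS_relevant N K' hC' hKtop hξ₀)
  have hformula := fun (k : N) (hk : k ∈ K') (hk1 : k ≠ 1) =>
    rel_const_formula K' hΦ (by
      intro χ ξ hχ hξ
      have h1 := hprop _ (hSmem χ hχ) _ (hSmem ξ hξ)
      rw [hdeg _ (hSmem χ hχ), hdeg _ (hSmem ξ hξ)]
      linear_combination (K'.index : ℂ) * h1) (⟨ξ₀, hirr₀⟩ : IrrCharacter N) hrel₀ hk hk1
  choose zf hzf using hint
  refine ⟨∑ ζ ∈ Finset.univ.filter (fun ζ : IrrCharacter N => K' ≤ Cfsg.Agent.Helper79.irrKer ζ),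
    zf ζ * (charDegree (ζ : N → ℂ) : ℤ) - zf ⟨ξ₀, hirr₀⟩, ?_⟩
  intro k hk hk1
  rw [hformula k hk hk1]
  have h2 : ((⟨ξ₀, hirr₀⟩ : IrrCharacter N) : N → ℂ) 1 = (K'.index : ℂ) := by
    show ξ₀ 1 = _
    rw [hdeg ξ₀ hξ₀, ha₀]
    push_cast
    ring
  rw [h2, hzf ⟨ξ₀, hirr₀⟩]
  push_cast
  rw [div_mul_cancel₀ _ hidxC]
  congr 1
  refine Finset.sum_congr rfl fun ζ _ => ?_
  rw [hzf ζ, (Cfsg.Agent.Helper79.irr_one_eq ζ).1]

variable (ε : ℂ) (hε : ε = 1 ∨ ε = -1)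
  (hirr : ∀ χ ∈ sibS N K', IsIrrCharacter G (ε • τ₁ χ))
  (hinj : ∀ χ ∈ sibS N K', ∀ ψ ∈ sibS N K', τ₁ χ = τ₁ ψ → χ = ψ)

include hε in
theorem eps_sq : ε * ε = 1 := by
  rcases hε with h | h <;> rw [h] <;> norm_num

include hε in
theorem eps_conj : conj ε = ε := by
  rcases hε with h | h <;> rw [h] <;> simp

include hε in
theorem tau_eq_eps_smul (χ : N → ℂ) : τ₁ χ = ε • (ε • τ₁ χ) := by
  rw [smul_smul, eps_sq ε hε, one_smul]

include hε hirr hinj in
theorem f_inj {χ ξ : N → ℂ} (hχ : χ ∈ sibS N K') (hξ : ξ ∈ sibS N K')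
    (h : ε • τ₁ χ = ε • τ₁ ξ) : χ = ξ := by
  apply hinj χ hχ ξ hξ
  rw [tau_eq_eps_smul N τ₁ ε hε χ, h, ← tau_eq_eps_smul N τ₁ ε hε ξ]

include hε hirr in
/-- Inner product of an irreducible character with `τ₁ χ`. -/
theorem inner_irr_tau {ψ : G → ℂ} (hψ : IsIrrCharacter G ψ) {χ : N → ℂ} (hχ : χ ∈ sibS N K') :
    classInner ψ (τ₁ χ) = if ψ = ε • τ₁ χ then ε else 0 := by
  conv_lhs => rw [tau_eq_eps_smul N τ₁ ε hε χ]
  rw [classInner_smul_right, eps_conj ε hε, irr_orthonormal hψ (hirr χ hχ)]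
  split_ifs <;> simp

include hC' hτ₁ hagree hε hirr in
/-- Characters outside the exceptional family are constant on `K' ∖ {1}`. -/
theorem const_outside (hKtop : K' ≠ ⊤) {ξ₀ : N → ℂ} (hξ₀ : ξ₀ ∈ sibS N K')
    (ha₀ : sibA N K' ξ₀ = 1) {ψ : G → ℂ} (hψ : IsIrrCharacter G ψ)
    (hout : ∀ χ ∈ sibS N K', ψ ≠ ε • τ₁ χ) :
    ∃ z : ℤ, ∀ k : N, k ∈ K' → k ≠ 1 → ψ (k : G) = (z : ℂ) := by
  have hψc : IsCharacter G ψ := IsIrrCharacter.isCharacter hψ
  have hcl : IsClassFunction G ψ := isClassFunction_of_isCharacter hψc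
  have hres : IsCharacter N (fun x : N => ψ x) := Cfsg.Agent.Helper81.isCharacter_restrict N hψc
  obtain ⟨z, hz⟩ := const_of_prop N K' hC' hKtop (Φ := fun x : N => ψ x)
    (isClassFunction_of_isCharacter hres)
    (fun ζ => by
      obtain ⟨k, hk⟩ := exists_nat_classInner_char hres (IsIrrCharacter.isCharacter ζ.2)
      exact ⟨k, by rw [hk]; simp⟩)
    (by
      intro χ hχ ξ hξ
      have h1 := restrict_inner_diff N K' τ₁ hτ₁ hagree hcl hχ hξ
      rw [inner_irr_tau N K' τ₁ ε hε hirr hψ hχ, inner_irr_tau N K' τ₁ ε hε hirr hψ hξ,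
        if_neg (hout χ hχ), if_neg (hout ξ hξ)] at h1
      linear_combination h1) hξ₀ ha₀
  exact ⟨z, fun k hk hk1 => hz k hk hk1⟩

include hC' hτ₁ hagree hε hirr hinj in
/-- The weighted sum of the exceptional characters is constant on `K' ∖ {1}`. -/
theorem const_theta (hKtop : K' ≠ ⊤) {ξ₀ : N → ℂ} (hξ₀ : ξ₀ ∈ sibS N K')
    (ha₀ : sibA N K' ξ₀ = 1) :
    ∃ z : ℤ, ∀ k : N, k ∈ K' → k ≠ 1 →
      ∑ χ ∈ sibS N K', (sibA N K' χ : ℂ) * (ε • τ₁ χ) (k : G) = (z : ℂ) := by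
  classical
  have hΘc : IsCharacter G (∑ χ ∈ sibS N K', (sibA N K' χ) • (ε • τ₁ χ)) :=
    isCharacter_sum _ _ (fun χ hχ => isCharacter_nsmul _ (IsIrrCharacter.isCharacter (hirr χ hχ)))
  have hcl : IsClassFunction G (∑ χ ∈ sibS N K', (sibA N K' χ) • (ε • τ₁ χ)) :=
    isClassFunction_of_isCharacter hΘc
  have hres : IsCharacter N (fun x : N => (∑ χ ∈ sibS N K', (sibA N K' χ) • (ε • τ₁ χ)) x) :=
    Cfsg.Agent.Helper81.isCharacter_restrict N hΘc
  have hinnerΘ : ∀ χ' ∈ sibS N K', classInner (∑ χ ∈ sibS N K', (sibA N K' χ) • (ε • τ₁ χ))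
      (τ₁ χ') = ε * (sibA N K' χ' : ℂ) := by
    intro χ' hχ'
    rw [classInner_sum_left, Finset.sum_eq_single χ']
    · have e1 : (sibA N K' χ') • (ε • τ₁ χ') = ((sibA N K' χ' : ℕ) : ℂ) • (ε • τ₁ χ') := by
        funext x; simp
      rw [e1, classInner_smul_left, inner_irr_tau N K' τ₁ ε hε hirr (hirr χ' hχ') hχ', if_pos rfl]
      ring
    · intro χ hχ hne
      have e1 : (sibA N K' χ) • (ε • τ₁ χ) = ((sibA N K' χ : ℕ) : ℂ) • (ε • τ₁ χ) := by
        funext x; simp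
      rw [e1, classInner_smul_left, inner_irr_tau N K' τ₁ ε hε hirr (hirr χ hχ) hχ', if_neg, mul_zero]
      intro h
      exact hne (f_inj N K' τ₁ ε hε hirr hinj hχ hχ' h)
    · intro h
      exact absurd hχ' h
  obtain ⟨z, hz⟩ := const_of_prop N K' hC' hKtop
    (Φ := fun x : N => (∑ χ ∈ sibS N K', (sibA N K' χ) • (ε • τ₁ χ)) x)
    (isClassFunction_of_isCharacter hres)
    (fun ζ => by
      obtain ⟨k, hk⟩ := exists_nat_classInner_char hres (IsIrrCharacter.isCharacter ζ.2)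
      exact ⟨k, by rw [hk]; simp⟩)
    (by
      intro χ hχ ξ hξ
      have h1 := restrict_inner_diff N K' τ₁ hτ₁ hagree hcl hχ hξ
      rw [hinnerΘ χ hχ, hinnerΘ ξ hξ] at h1
      linear_combination h1) hξ₀ ha₀
  refine ⟨z, fun k hk hk1 => ?_⟩
  rw [← hz k hk hk1, Finset.sum_apply]
  refine Finset.sum_congr rfl fun χ _ => ?_
  simp

include hC' hτ₁ hagree hε hirr hinj in
/-- No exceptional character is the principal character. -/
theorem ne_one_of_two (hKtop : K' ≠ ⊤) {χ ξ : N → ℂ} (hχ : χ ∈ sibS N K')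
    (hξ : ξ ∈ sibS N K') (hne : ξ ≠ χ) : ε • τ₁ χ ≠ fun _ => 1 := by
  intro h
  have hcl : IsClassFunction G (fun _ : G => (1 : ℂ)) := fun _ _ => rfl
  have h1 := restrict_inner_diff N K' τ₁ hτ₁ hagree hcl hχ hξ
  have hone : IsIrrCharacter G (fun _ : G => (1 : ℂ)) := isIrrCharacter_one
  have honeN : IsIrrCharacter N (fun _ : N => (1 : ℂ)) := isIrrCharacter_one
  have hχ1 : (fun _ : N => (1 : ℂ)) ≠ χ := by
    intro hh
    obtain ⟨k, hk, hk1⟩ := SibSylow.sibS_relevant N K' hC' hKtop hχ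
    apply hk1
    rw [← hh]
  have hξ1 : (fun _ : N => (1 : ℂ)) ≠ ξ := by
    intro hh
    obtain ⟨k, hk, hk1⟩ := SibSylow.sibS_relevant N K' hC' hKtop hξ
    apply hk1
    rw [← hh]
  rw [irr_orthonormal honeN (sibS_irr N K' hC' hχ), irr_orthonormal honeN (sibS_irr N K' hC' hξ),
    if_neg hχ1, if_neg hξ1, inner_irr_tau N K' τ₁ ε hε hirr hone hχ,
    inner_irr_tau N K' τ₁ ε hε hirr hone hξ, if_pos h.symm, if_neg] at h1
  · have hapos : (sibA N K' ξ : ℂ) ≠ 0 := by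
      obtain ⟨θ, hθ, rfl⟩ := (mem_sibS N K' ξ).mp hξ
      rw [sibA_indFun]
      exact_mod_cast (Cfsg.Agent.Helper79.irr_one_eq θ).2.ne'
    have hε0 : ε ≠ 0 := by
      rcases hε with h' | h' <;> rw [h'] <;> norm_num
    apply mul_ne_zero hapos hε0
    linear_combination -h1
  · intro h2
    apply hne
    exact f_inj N K' τ₁ ε hε hirr hinj hξ hχ (by rw [← h2, h])

end cnfam

section family

variable {G : Type u} [Group G] [Fintype G]

theorem exists_sibS_weight_one (N : Subgroup G) [Fintype N] (K' : Subgroup N) [hKn : K'.Normal]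
    [Fintype K'] (hsolv : Group.IsSolvable K') (hK : K' ≠ ⊥) :
    ∃ ξ₀ ∈ sibS N K', sibA N K' ξ₀ = 1 := by
  obtain ⟨θ₀, hθ₀, -, hθ₀1⟩ := exists_linear_above K' (⊥ : Subgroup N) hsolv
    (bot_lt_iff_ne_bot.mpr hK)
  refine ⟨indFun K' (θ₀ : K' → ℂ), (mem_sibS N K' _).mpr ⟨θ₀, hθ₀, rfl⟩, ?_⟩
  rw [sibA_indFun]
  have := (Cfsg.Agent.Helper79.irr_one_eq θ₀).1
  rw [hθ₀1] at this
  exact_mod_cast this.symm

theorem two_le_card_of_nz (N : Subgroup G) [Fintype N] (K' : Subgroup N) [hKn : K'.Normal]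
    [Fintype K']
    (hC' : ∀ n ∈ K', n ≠ 1 → Subgroup.centralizer ({n} : Set N) ≤ K')
    (hnz : ∃ α ∈ Cfsg.zspanOn (↑(sibS N K') : Set (N → ℂ)) {1}ᶜ, α ≠ 0) :
    2 ≤ (sibS N K').card := by
  classical
  by_contra hcon
  push Not at hcon
  obtain ⟨α, hα, hα0⟩ := hnz
  obtain ⟨hs, h1⟩ := mem_zspanOn_compl_one.mp hα
  rw [mem_zspan] at hs
  have hcases : (sibS N K').card = 0 ∨ (sibS N K').card = 1 := by omega
  rcases hcases with h0 | h1'
  · rw [Finset.card_eq_zero] at h0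
    rw [h0, Finset.coe_empty, Submodule.span_empty, Submodule.mem_bot] at hs
    exact hα0 hs
  · obtain ⟨ξ, hξ⟩ := Finset.card_eq_one.mp h1'
    rw [hξ, Finset.coe_singleton, Submodule.mem_span_singleton] at hs
    obtain ⟨n, rfl⟩ := hs
    have hξS : ξ ∈ sibS N K' := by rw [hξ]; exact Finset.mem_singleton_self ξ
    have hirr := sibS_irr N K' hC' hξS
    rw [Pi.smul_apply, zsmul_eq_mul, mul_eq_zero] at h1
    rcases h1 with h | h
    · apply hα0
      have : n = 0 := by exact_mod_cast h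
      rw [this, zero_smul]
    · exact irr_one_ne_zero'' hirr h

/-- The exceptional characters attached to a nilpotent T.I. subgroup with Frobenius normalizer of
odd order, with their weights. -/
theorem cn_family (hodd : Odd (Nat.card G)) (K : Subgroup G)
    (hTI : Cfsg.IsTISubset (K : Set G))
    (hlt : K < Subgroup.normalizer (K : Set G))
    (hC : ∀ k ∈ K, k ≠ 1 → Subgroup.centralizer ({k} : Set G) ≤ K)
    (hnil : Group.IsNilpotent K) (hne : K ≠ ⊥)
    (hcop : Nat.Coprime (Nat.card K) (K.relIndex (Subgroup.normalizer (K : Set G)))) :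
    ∃ (R : Type u) (_ : Fintype R) (f : R → IrrCharacter G) (w : R → ℕ), Function.Injective f ∧
      (∑ r, w r ^ 2) * K.relIndex (Subgroup.normalizer (K : Set G)) + 1 = Nat.card K ∧
      2 ≤ Fintype.card R ∧ (∀ r, 0 < w r) ∧ (∃ r, w r = 1) ∧
      (∀ χ ξ : R, ∀ y : G, (y = 1 ∨ ∀ x : G, x * y * x⁻¹ ∉ K) →
        (w ξ : ℂ) * (f χ : G → ℂ) y = (w χ : ℂ) * (f ξ : G → ℂ) y) ∧
      (∀ ψ : IrrCharacter G, (∀ χ, f χ ≠ ψ) →
        ∃ z : ℤ, ∀ k ∈ K, k ≠ 1 → (ψ : G → ℂ) k = (z : ℂ)) ∧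
      (∃ z : ℤ, ∀ k ∈ K, k ≠ 1 → ∑ χ, (w χ : ℂ) * (f χ : G → ℂ) k = (z : ℂ)) ∧
      (∀ χ, (f χ : G → ℂ) ≠ fun _ => 1) := by
  classical
  haveI : Fintype ↥(Subgroup.normalizer (K : Set G)) := Fintype.ofFinite _
  haveI := SibTI.normal_subgroupOf_normalizer K
  haveI : Fintype (K.subgroupOf (Subgroup.normalizer (K : Set G))) := Fintype.ofFinite _
  have hodd' : Odd (Nat.card ↥(Subgroup.normalizer (K : Set G))) :=
    Odd.of_dvd_nat hodd (Subgroup.card_subgroup_dvd_card _)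
  have hcoh := SibTI.sib_ti K hodd' hne hnil hTI hlt hC hcop
  rw [← coe_sibS] at hcoh
  obtain ⟨hnz, τ₁, hτ₁, hagree0⟩ := hcoh
  have hagree : ∀ α ∈ Cfsg.zspanOn (↑(sibS (Subgroup.normalizer (K : Set G))
      (K.subgroupOf (Subgroup.normalizer (K : Set G)))) :
      Set (↥(Subgroup.normalizer (K : Set G)) → ℂ)) {1}ᶜ,
      τ₁ α = indFun (Subgroup.normalizer (K : Set G)) α := hagree0
  have hC' := tifn_hC' K (Subgroup.normalizer (K : Set G)) hC
  have hKtop : K.subgroupOf (Subgroup.normalizer (K : Set G)) ≠ ⊤ := by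
    intro h
    apply hlt.ne
    apply le_antisymm hlt.le
    intro x hx
    have : (⟨x, hx⟩ : Subgroup.normalizer (K : Set G)) ∈
        K.subgroupOf (Subgroup.normalizer (K : Set G)) := by rw [h]; trivial
    exact this
  have hK' : K.subgroupOf (Subgroup.normalizer (K : Set G)) ≠ ⊥ := by
    intro h
    apply hne
    rw [eq_bot_iff]
    intro w hw
    have h1 : (⟨w, hlt.le hw⟩ : Subgroup.normalizer (K : Set G)) ∈
        K.subgroupOf (Subgroup.normalizer (K : Set G)) := hw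
    rw [h, Subgroup.mem_bot] at h1
    exact congrArg Subtype.val h1
  have hnil' : Group.IsNilpotent (K.subgroupOf (Subgroup.normalizer (K : Set G))) :=
    (Group.isNilpotent_congr (Subgroup.subgroupOfEquivOfLe hlt.le)).mpr hnil
  have hsolv : Group.IsSolvable (K.subgroupOf (Subgroup.normalizer (K : Set G))) := by
    haveI := hnil'
    infer_instance
  have h2 := two_le_card_of_nz _ _ hC' hnz
  obtain ⟨ξ₀, hξ₀, ha₀⟩ := exists_sibS_weight_one (Subgroup.normalizer (K : Set G))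
    (K.subgroupOf (Subgroup.normalizer (K : Set G))) hsolv hK'
  obtain ⟨χa, hχa, χb, hχb, hab⟩ := Finset.one_lt_card.mp h2
  obtain ⟨ε, hε, hirr, hinj⟩ := Cfsg.Agent.S1529.result (Subgroup.normalizer (K : Set G))
    (↑(sibS (Subgroup.normalizer (K : Set G)) (K.subgroupOf (Subgroup.normalizer (K : Set G)))) :
      Set (↥(Subgroup.normalizer (K : Set G)) → ℂ))
    (fun χ hχ => sibS_irr _ _ hC' (Finset.mem_coe.mp hχ))
    ⟨χa, Finset.mem_coe.mpr hχa, χb, Finset.mem_coe.mpr hχb, hab⟩ τ₁ hτ₁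
    (by
      intro α hα h1
      rw [hagree α (mem_zspanOn_compl_one.mpr ⟨hα, h1⟩), Cfsg.Agent.Helper81.indFun_one, h1,
        mul_zero])
  have hirr' : ∀ χ ∈ sibS (Subgroup.normalizer (K : Set G))
      (K.subgroupOf (Subgroup.normalizer (K : Set G))), IsIrrCharacter G (ε • τ₁ χ) :=
    fun χ hχ => hirr χ (Finset.mem_coe.mpr hχ)
  have hinj' : ∀ χ ∈ sibS (Subgroup.normalizer (K : Set G))
      (K.subgroupOf (Subgroup.normalizer (K : Set G))),
      ∀ ψ ∈ sibS (Subgroup.normalizer (K : Set G))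
      (K.subgroupOf (Subgroup.normalizer (K : Set G))), τ₁ χ = τ₁ ψ → χ = ψ :=
    fun χ hχ ψ hψ => hinj χ (Finset.mem_coe.mpr hχ) ψ (Finset.mem_coe.mpr hψ)
  have hidx : 0 < (K.subgroupOf (Subgroup.normalizer (K : Set G))).index :=
    Nat.pos_of_ne_zero Subgroup.index_ne_zero_of_finite
  have hcardK : Nat.card (K.subgroupOf (Subgroup.normalizer (K : Set G))) = Nat.card K :=
    Nat.card_congr (Subgroup.subgroupOfEquivOfLe hlt.le).toEquiv
  refine ⟨{ξ // ξ ∈ sibS (Subgroup.normalizer (K : Set G))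
      (K.subgroupOf (Subgroup.normalizer (K : Set G)))}, inferInstance,
    fun r => ⟨ε • τ₁ r.1, hirr' r.1 r.2⟩,
    fun r => sibA (Subgroup.normalizer (K : Set G))
      (K.subgroupOf (Subgroup.normalizer (K : Set G))) r.1, ?_, ?_, ?_, ?_, ?_, ?_, ?_, ?_, ?_⟩
  · intro r r' h
    have h1 : ε • τ₁ r.1 = ε • τ₁ r'.1 := congrArg Subtype.val h
    exact Subtype.ext (f_inj _ _ τ₁ ε hε hirr' hinj' r.2 r'.2 h1)
  · have h1 := SibSylow.sum_sq_sibS _ _ hC' hKtop
    have h3 := Subgroup.index_mul_card (K.subgroupOf (Subgroup.normalizer (K : Set G)))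
    rw [Finset.sum_coe_sort (sibS (Subgroup.normalizer (K : Set G))
      (K.subgroupOf (Subgroup.normalizer (K : Set G))))
      (fun ξ => sibA (Subgroup.normalizer (K : Set G))
        (K.subgroupOf (Subgroup.normalizer (K : Set G))) ξ ^ 2)]
    have h4 : ∑ ξ ∈ sibS (Subgroup.normalizer (K : Set G))
        (K.subgroupOf (Subgroup.normalizer (K : Set G))),
        ((K.subgroupOf (Subgroup.normalizer (K : Set G))).index *
          sibA (Subgroup.normalizer (K : Set G))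
            (K.subgroupOf (Subgroup.normalizer (K : Set G))) ξ) ^ 2 =
        (K.subgroupOf (Subgroup.normalizer (K : Set G))).index ^ 2 *
          ∑ ξ ∈ sibS (Subgroup.normalizer (K : Set G))
            (K.subgroupOf (Subgroup.normalizer (K : Set G))),
            sibA (Subgroup.normalizer (K : Set G))
              (K.subgroupOf (Subgroup.normalizer (K : Set G))) ξ ^ 2 := by
      rw [Finset.mul_sum]
      exact Finset.sum_congr rfl fun ξ _ => by ring
    rw [h4, ← h3, hcardK] at h1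
    have hK1 : 1 ≤ Nat.card K := Nat.card_pos
    show _ * (K.subgroupOf (Subgroup.normalizer (K : Set G))).index + 1 = Nat.card K
    generalize (K.subgroupOf (Subgroup.normalizer (K : Set G))).index = e at h1 hidx
    generalize ∑ ξ ∈ sibS (Subgroup.normalizer (K : Set G))
      (K.subgroupOf (Subgroup.normalizer (K : Set G))),
      sibA (Subgroup.normalizer (K : Set G))
        (K.subgroupOf (Subgroup.normalizer (K : Set G))) ξ ^ 2 = T at h1
    have h5 : e * (T * e + 1) = e * Nat.card K := by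
      have h6 : e ≤ e * Nat.card K := Nat.le_mul_of_pos_right _ hK1
      have h7 : e ^ 2 * T + e = e * Nat.card K := by omega
      rw [← h7]
      ring
    exact Nat.eq_of_mul_eq_mul_left hidx h5
  · rw [Fintype.card_coe]
    exact h2
  · intro r
    obtain ⟨θ, hθ, hr⟩ := (mem_sibS _ _ r.1).mp r.2
    show 0 < sibA _ _ r.1
    rw [hr, sibA_indFun]
    exact (Cfsg.Agent.Helper79.irr_one_eq θ).2
  · exact ⟨⟨ξ₀, hξ₀⟩, ha₀⟩
  · intro χ ξ y hy
    have hy' : y = 1 ∨ ∀ x : G, ∀ hx : x⁻¹ * y * x ∈ Subgroup.normalizer (K : Set G),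
        (⟨x⁻¹ * y * x, hx⟩ : Subgroup.normalizer (K : Set G)) ∉
          K.subgroupOf (Subgroup.normalizer (K : Set G)) := by
      rcases hy with h | h
      · exact Or.inl h
      · right
        intro x hx hmem
        have := h x⁻¹
        rw [inv_inv] at this
        exact this hmem
    have h1 := tau_supp _ _ hC' τ₁ hτ₁ hagree χ.2 ξ.2 y hy'
    show _ * (ε • τ₁ χ.1) y = _ * (ε • τ₁ ξ.1) y
    rw [Pi.smul_apply, Pi.smul_apply, smul_eq_mul, smul_eq_mul]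
    linear_combination ε * h1
  · intro ψ hψ
    obtain ⟨z, hz⟩ := const_outside _ _ hC' τ₁ hτ₁ hagree ε hε hirr' hKtop hξ₀ ha₀ ψ.2
      (fun χ hχ h => hψ ⟨χ, hχ⟩ (Subtype.ext h.symm))
    exact ⟨z, fun k hk hk1 => hz ⟨k, hlt.le hk⟩ hk (fun h => hk1 (congrArg Subtype.val h))⟩
  · obtain ⟨z, hz⟩ := const_theta _ _ hC' τ₁ hτ₁ hagree ε hε hirr' hinj' hKtop hξ₀ ha₀
    refine ⟨z, fun k hk hk1 => ?_⟩
    rw [← hz ⟨k, hlt.le hk⟩ hk (fun h => hk1 (congrArg Subtype.val h))]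
    exact Finset.sum_coe_sort (sibS (Subgroup.normalizer (K : Set G))
      (K.subgroupOf (Subgroup.normalizer (K : Set G))))
      (fun χ => (sibA (Subgroup.normalizer (K : Set G))
        (K.subgroupOf (Subgroup.normalizer (K : Set G))) χ : ℂ) * (ε • τ₁ χ) k)
  · intro χ
    obtain ⟨ξ, hξ, hne'⟩ := Finset.exists_mem_ne h2 χ.1
    exact ne_one_of_two _ _ hC' τ₁ hτ₁ hagree ε hε hirr' hinj' hKtop χ.2 hξ hne'

end family

end Cfsg.Agent.Helper82.CNFamily
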