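import Mathlib
import Cfsg.Agent.Lib.Helper82.CATable
import Cfsg.Agent.Lib.Helper82.CNFamily

/-!
# A finite group of odd order is not partitioned by nilpotent T.I. subgroups with Frobenius
normalizers (the weighted version of the table argument of the CA-theorem)
-/

set_option autoImplicit false
set_option linter.style.haveILetI false
set_option linter.unusedSectionVars false
set_option linter.unusedVariables false

namespace Cfsg.Agent.Helper82.CNTable

open Cfsg Cfsg.Agent.Helper81 Cfsg.Agent.Helper82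
open scoped ComplexConjugate

universe u

variable {G : Type u} [Group G] [Fintype G] {ι : Type u} [Fintype ι] [DecidableEq ι]

/-- A group of odd order cannot be partitioned (up to conjugacy) by nilpotent T.I. subgroups of
pairwise coprime orders with Frobenius normalizers. -/
theorem cn_table_false [Nonempty ι] (hodd : Odd (Nat.card G)) (K : ι → Subgroup G)
    (hTI : ∀ m, ∀ g : G, g ∉ Subgroup.normalizer (K m : Set G) →
      ∀ k ∈ K m, g * k * g⁻¹ ∈ K m → k = 1)
    (hlt : ∀ m, K m < Subgroup.normalizer (K m : Set G))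
    (hC : ∀ m, ∀ k ∈ K m, k ≠ 1 → Subgroup.centralizer ({k} : Set G) ≤ K m)
    (hnil : ∀ m, Group.IsNilpotent (K m))
    (hne : ∀ m, K m ≠ ⊥)
    (hcopN : ∀ m, Nat.Coprime (Nat.card (K m))
      ((K m).relIndex (Subgroup.normalizer (K m : Set G))))
    (hcop : ∀ k l, k ≠ l → Nat.Coprime (Nat.card (K k)) (Nat.card (K l)))
    (cls : G → ι) (hcls : ∀ x : G, x ≠ 1 → ∀ m, (∃ g : G, g * x * g⁻¹ ∈ K m) ↔ cls x = m) :
    False := by
  classical
  choose R instR f w hinj hcard h2 hwpos hw1 hsupp hconst hΘ hone using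
    fun m => CNFamily.cn_family hodd (K m) (hTI m) (hlt m) (hC m) (hnil m) (hne m) (hcopN m)
  choose z hz using hΘ
  choose r₁ hr₁ using hw1
  obtain ⟨t, ht⟩ : ∃ t : ι → ℕ, ∀ m, t m = ∑ r : R m, w m r ^ 2 := ⟨_, fun _ => rfl⟩
  obtain ⟨e, he⟩ : ∃ e : ι → ℕ, ∀ m, e m =
      (K m).relIndex (Subgroup.normalizer (K m : Set G)) := ⟨_, fun _ => rfl⟩
  obtain ⟨a, ha⟩ : ∃ a : ι → ℕ, ∀ m, a m = Nat.card (K m) := ⟨_, fun _ => rfl⟩
  obtain ⟨g, hg⟩ : ∃ g : ℕ, g = Nat.card G := ⟨_, rfl⟩
  have hcard' : ∀ m, t m * e m + 1 = a m := by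
    intro m
    rw [ht, he, ha]
    exact hcard m
  have ht2 : ∀ m, 2 ≤ t m := by
    intro m
    rw [ht]
    calc 2 ≤ Fintype.card (R m) := h2 m
      _ = ∑ r : R m, 1 := by rw [Finset.sum_const, Finset.card_univ, smul_eq_mul, mul_one]
      _ ≤ ∑ r : R m, w m r ^ 2 := Finset.sum_le_sum (fun r _ => Nat.one_le_pow _ _ (hwpos m r))
  have hgpos : 0 < g := by rw [hg]; exact Nat.card_pos
  have hoddg : Odd g := by rw [hg]; exact hodd
  -- elements of `K m`
  have hK_cls : ∀ m, ∀ y ∈ K m, y ≠ 1 → cls y = m := by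
    intro m y hy hy1
    exact (hcls y hy1 m).1 ⟨1, by simpa using hy⟩
  have hsupp' : ∀ k (χ ξ : R k) (y : G), (y = 1 ∨ cls y ≠ k) →
      (w k ξ : ℂ) * (f k χ : G → ℂ) y = (w k χ : ℂ) * (f k ξ : G → ℂ) y := by
    intro k χ ξ y hy
    apply hsupp k χ ξ y
    by_cases hy1 : y = 1
    · exact Or.inl hy1
    · right
      intro x hx
      rcases hy with hy | hy
      · exact hy1 hy
      · exact hy ((hcls y hy1 k).1 ⟨x, hx⟩)
  have hexne : ∀ k (χ : R k), ∃ ξ, ξ ≠ χ := fun k χ =>
    Fintype.exists_ne_of_one_lt_card (by have := h2 k; omega) χ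
  have hwC : ∀ k (χ : R k), conj (w k χ : ℂ) = (w k χ : ℂ) := fun k χ => Complex.conj_natCast _
  -- the families of exceptional characters are disjoint
  have hX1 : ∀ k l, k ≠ l → ∀ (χ : R k) (ξ : R l), f k χ ≠ f l ξ := by
    intro k l hkl χ ξ heq
    obtain ⟨χ', hχ'⟩ := hexne k χ
    obtain ⟨ξ', hξ'⟩ := hexne l ξ
    have hzero : classInner ((w k χ' : ℂ) • (f k χ : G → ℂ) - (w k χ : ℂ) • (f k χ' : G → ℂ))
        ((w l ξ' : ℂ) • (f l ξ : G → ℂ) - (w l ξ : ℂ) • (f l ξ' : G → ℂ)) = 0 := by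
      unfold classInner
      rw [Finset.sum_eq_zero, mul_zero]
      intro y _
      by_cases hyk : y = 1 ∨ cls y ≠ k
      · rw [Pi.sub_apply, Pi.smul_apply, Pi.smul_apply, smul_eq_mul, smul_eq_mul,
          hsupp' k χ χ' y hyk, sub_self, zero_mul]
      · push Not at hyk
        have hyl : y = 1 ∨ cls y ≠ l := Or.inr (by rw [hyk.2]; exact hkl)
        have h0 : ((w l ξ' : ℂ) • (f l ξ : G → ℂ) - (w l ξ : ℂ) • (f l ξ' : G → ℂ)) y = 0 := by
          rw [Pi.sub_apply, Pi.smul_apply, Pi.smul_apply, smul_eq_mul, smul_eq_mul,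
            hsupp' l ξ ξ' y hyl, sub_self]
        rw [h0, map_zero, mul_zero]
    rw [classInner_sub_left, classInner_sub_right, classInner_sub_right,
      classInner_smul_left, classInner_smul_left, classInner_smul_left, classInner_smul_left,
      classInner_smul_right, classInner_smul_right, classInner_smul_right, classInner_smul_right,
      irr_orthonormal (f k χ).2 (f l ξ).2, irr_orthonormal (f k χ).2 (f l ξ').2,
      irr_orthonormal (f k χ').2 (f l ξ).2, irr_orthonormal (f k χ').2 (f l ξ').2,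
      hwC, hwC] at hzero
    have e1 : (f k χ : G → ℂ) = (f l ξ : G → ℂ) := congrArg Subtype.val heq
    have e2 : (f k χ : G → ℂ) ≠ (f l ξ' : G → ℂ) := by
      intro h
      apply hξ'
      apply hinj l
      apply Subtype.ext
      rw [← h, e1]
    have e3 : (f k χ' : G → ℂ) ≠ (f l ξ : G → ℂ) := by
      intro h
      apply hχ'
      apply hinj k
      apply Subtype.ext
      rw [h, e1]
    rw [if_pos e1, if_neg e2, if_neg e3] at hzero
    have hp1 : 0 < w k χ' * w l ξ' := Nat.mul_pos (hwpos k χ') (hwpos l ξ')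
    split_ifs at hzero
    · have hz' : ((w k χ' * w l ξ' + w k χ * w l ξ : ℕ) : ℂ) = 0 := by
        push_cast
        linear_combination hzero
      have := Nat.cast_eq_zero.1 hz'
      have hp2 : 0 ≤ w k χ * w l ξ := Nat.zero_le _
      omega
    · have hz' : ((w k χ' * w l ξ' : ℕ) : ℂ) = 0 := by
        push_cast
        linear_combination hzero
      have := Nat.cast_eq_zero.1 hz'
      omega
  -- orthogonality relations for the sums
  have hΘΘ : ∀ k l, classInner (∑ χ : R k, (w k χ : ℂ) • (f k χ : G → ℂ))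
      (∑ ξ : R l, (w l ξ : ℂ) • (f l ξ : G → ℂ)) =
      if k = l then (t k : ℂ) else 0 := by
    intro k l
    rw [classInner_sum_left]
    by_cases hkl : k = l
    · subst hkl
      rw [if_pos rfl]
      have h1 : ∀ χ : R k, classInner ((w k χ : ℂ) • (f k χ : G → ℂ))
          (∑ ξ : R k, (w k ξ : ℂ) • (f k ξ : G → ℂ)) = ((w k χ ^ 2 : ℕ) : ℂ) := by
        intro χ
        rw [classInner_smul_left, classInner_sum_right, Finset.sum_eq_single χ]
        · rw [classInner_smul_right, irr_orthonormal (f k χ).2 (f k χ).2, if_pos rfl, hwC]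
          push_cast
          ring
        · intro b _ hb
          rw [classInner_smul_right, irr_orthonormal (f k χ).2 (f k b).2, if_neg, mul_zero]
          intro h
          exact hb (hinj k (Subtype.ext h)).symm
        · intro h
          exact absurd (Finset.mem_univ _) h
      rw [Finset.sum_congr rfl (fun χ _ => h1 χ), ht, Nat.cast_sum]
    · rw [if_neg hkl]
      apply Finset.sum_eq_zero
      intro χ _
      rw [classInner_smul_left, classInner_sum_right, Finset.sum_eq_zero, mul_zero]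
      intro ξ _
      rw [classInner_smul_right, irr_orthonormal (f k χ).2 (f l ξ).2, if_neg, mul_zero]
      intro h
      exact hX1 k l hkl χ ξ (Subtype.ext h)
  have hΘ1 : ∀ k, classInner (∑ χ : R k, (w k χ : ℂ) • (f k χ : G → ℂ))
      (fun _ : G => (1 : ℂ)) = 0 := by
    intro k
    rw [classInner_sum_left]
    apply Finset.sum_eq_zero
    intro χ _
    rw [classInner_smul_left, irr_orthonormal (f k χ).2 isIrrCharacter_one, if_neg (hone k χ),
      mul_zero]
  have h11 : classInner (fun _ : G => (1 : ℂ)) (fun _ : G => (1 : ℂ)) = 1 := by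
    rw [irr_orthonormal isIrrCharacter_one isIrrCharacter_one, if_pos rfl]
  have hΘapp : ∀ k (y : G), (∑ χ : R k, (w k χ : ℂ) • (f k χ : G → ℂ)) y =
      ∑ χ : R k, (w k χ : ℂ) * (f k χ : G → ℂ) y := by
    intro k y
    rw [Finset.sum_apply]
    apply Finset.sum_congr rfl
    intro χ _
    rw [Pi.smul_apply, smul_eq_mul]
  -- the values off the diagonal
  have hc : ∀ k m, ∃ c : ℤ, m ≠ k → ∀ y ∈ K m, y ≠ 1 → ∀ χ : R k,
      (f k χ : G → ℂ) y = (w k χ : ℂ) * (c : ℂ) := by
    intro k m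
    by_cases hmk : m = k
    · exact ⟨0, fun h => absurd hmk h⟩
    · obtain ⟨c, hcv⟩ := hconst m (f k (r₁ k)) (fun χ h => hX1 m k hmk χ (r₁ k) h)
      refine ⟨c, fun _ y hy hy1 χ => ?_⟩
      have h := hsupp' k χ (r₁ k) y (Or.inr (by rw [hK_cls m y hy hy1]; exact hmk))
      rw [hr₁ k, Nat.cast_one, one_mul, hcv y hy hy1] at h
      exact h
  choose c hc using hc
  have hΘval : ∀ k, ∀ y : G, y ≠ 1 → (∑ χ : R k, (w k χ : ℂ) • (f k χ : G → ℂ)) y =
      ((caV t c z k (cls y) : ℚ) : ℂ) := by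
    intro k y hy1
    obtain ⟨x, hx⟩ := (hcls y hy1 (cls y)).2 rfl
    have hx1 : x * y * x⁻¹ ≠ 1 := by
      intro h
      apply hy1
      have h' : y = x⁻¹ * (x * y * x⁻¹) * x := by group
      rw [h', h]
      group
    have hconj : (∑ χ : R k, (w k χ : ℂ) • (f k χ : G → ℂ)) y =
        (∑ χ : R k, (w k χ : ℂ) • (f k χ : G → ℂ)) (x * y * x⁻¹) := by
      rw [hΘapp, hΘapp]
      apply Finset.sum_congr rfl
      intro χ _
      rw [(isClassFunction_of_isCharacter (IsIrrCharacter.isCharacter (f k χ).2) y x)]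
    rw [hconj]
    unfold caV
    by_cases hmk : cls y = k
    · rw [if_pos hmk]
      rw [hmk] at hx
      rw [hΘapp, hz k _ hx hx1]
      push_cast
      rfl
    · rw [if_neg hmk, hΘapp,
        Finset.sum_congr rfl (fun χ _ => by rw [hc k (cls y) hmk _ hx hx1 χ]),
        ht]
      push_cast
      rw [Finset.sum_mul]
      apply Finset.sum_congr rfl
      intro χ _
      ring
  -- class sizes
  have hn : ∀ m, (Finset.univ.filter (fun x : G => x ≠ 1 ∧ cls x = m)).card * a m = g * t m := by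
    intro m
    rw [card_cls K hTI cls hcls m]
    have hle : K m ≤ Subgroup.normalizer (K m : Set G) := (hlt m).le
    have h1 := Subgroup.index_mul_card (Subgroup.normalizer (K m : Set G))
    have h2' := Subgroup.card_mul_index ((K m).subgroupOf (Subgroup.normalizer (K m : Set G)))
    have hcK : Nat.card ((K m).subgroupOf (Subgroup.normalizer (K m : Set G))) =
        Nat.card (K m) := Nat.card_congr (Subgroup.subgroupOfEquivOfLe hle).toEquiv
    have h4 : ((K m).subgroupOf (Subgroup.normalizer (K m : Set G))).index = e m := by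
      rw [he]
      rfl
    rw [hcK, h4, ← ha] at h2'
    have ha1 : a m - 1 = t m * e m := by
      rw [← hcard' m]
      simp
    rw [← ha, ha1, hg, ← h1, ← h2']
    ring
  have hg0 : (g : ℂ) ≠ 0 := by exact_mod_cast hgpos.ne'
  have hapos : ∀ m, 0 < a m := fun m => by rw [ha]; exact Nat.card_pos
  have ha0 : ∀ m, (a m : ℂ) ≠ 0 := fun m => by exact_mod_cast (hapos m).ne'
  have hnC : ∀ m, ((Finset.univ.filter (fun x : G => x ≠ 1 ∧ cls x = m)).card : ℂ) * (g : ℂ)⁻¹ =
      (t m : ℂ) / (a m : ℂ) := by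
    intro m
    have h' : ((Finset.univ.filter (fun x : G => x ≠ 1 ∧ cls x = m)).card : ℂ) * (a m : ℂ) =
        (g : ℂ) * (t m : ℂ) := by exact_mod_cast hn m
    have := ha0 m
    field_simp
    linear_combination h'
  have hconjq : ∀ r : ℚ, conj (r : ℂ) = (r : ℂ) := fun r => map_ratCast (starRingEnd ℂ) r
  have key : ∀ (φ ψ : G → ℂ) (p q : ℚ) (P Q : ι → ℚ), φ 1 = (p : ℂ) → ψ 1 = (q : ℂ) →
      (∀ x, x ≠ 1 → φ x = (P (cls x) : ℂ)) → (∀ x, x ≠ 1 → ψ x = (Q (cls x) : ℂ)) →
      classInner φ ψ = ((p * q / (g : ℚ) +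
        ∑ m, ((t m : ℚ) / (a m : ℚ)) * P m * Q m : ℚ) : ℂ) := by
    intro φ ψ p q P Q h1 h2 hφ hψ
    rw [classInner_by_cls cls φ ψ (fun m => (P m : ℂ)) (fun m => (Q m : ℂ)) hφ hψ, h1, h2,
      ← hg]
    push_cast
    rw [hconjq, mul_add, Finset.mul_sum]
    congr 1
    · ring
    · apply Finset.sum_congr rfl
      intro m _
      rw [hconjq, ← hnC m]
      ring
  have hT : ∀ k, ∃ T : ℚ, (∑ χ : R k, (w k χ : ℂ) • (f k χ : G → ℂ)) 1 = (T : ℂ) := by
    intro k
    refine ⟨∑ χ : R k, (w k χ : ℚ) * (charDegree (f k χ : G → ℂ) : ℚ), ?_⟩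
    rw [hΘapp]
    push_cast
    apply Finset.sum_congr rfl
    intro χ _
    rw [(Cfsg.Agent.Helper79.irr_one_eq (f k χ)).1]
  choose T hT using hT
  have hKodd : ∀ m, Odd (a m) := by
    intro m
    rw [ha]
    exact Odd.of_dvd_nat hodd (Subgroup.card_subgroup_dvd_card (K m))
  have heodd : ∀ m, Odd (e m) := by
    intro m
    rw [he]
    exact Odd.of_dvd_nat hodd ((Subgroup.relIndex_dvd_card _ _).trans
      (Subgroup.card_subgroup_dvd_card (Subgroup.normalizer (K m : Set G))))
  apply ca_arith g t e a c z T hgpos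
  · intro k
    exact (hcard' k).symm
  · exact ht2
  · intro k
    have h1 := hKodd k
    rw [← hcard' k] at h1
    rcases Nat.even_or_odd (t k * e k) with h | h
    · rcases Nat.even_mul.1 h with h' | h'
      · exact h'
      · exact absurd (heodd k) (Nat.not_odd_iff_even.2 h')
    · exact absurd h1 (Nat.not_odd_iff_even.2 (Odd.add_odd h odd_one))
  · intro k
    have h1 : e k ≠ 1 := by
      rw [he, Ne, Subgroup.relIndex_eq_one]
      exact not_le_of_gt (hlt k)
    obtain ⟨j, hj⟩ := heodd k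
    omega
  · exact heodd
  · intro k
    rw [ha, hg]
    exact Subgroup.card_subgroup_dvd_card (K k)
  · intro k l hkl
    rw [ha, ha]
    exact hcop k l hkl
  · intro k l
    have h := key _ _ (T k) (T l) (caV t c z k) (caV t c z l) (hT k) (hT l) (hΘval k) (hΘval l)
    rw [hΘΘ k l] at h
    by_cases hkl : k = l
    · rw [if_pos hkl] at h ⊢
      exact_mod_cast h.symm
    · rw [if_neg hkl] at h ⊢
      exact_mod_cast h.symm
  · intro k
    have h := key (∑ χ : R k, (w k χ : ℂ) • (f k χ : G → ℂ)) (fun _ : G => (1 : ℂ)) (T k) 1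
      (caV t c z k)
      (fun _ => 1) (hT k) (by norm_num) (hΘval k) (fun _ _ => by norm_num)
    rw [hΘ1 k] at h
    have h' : (0 : ℚ) = T k * 1 / (g : ℚ) + ∑ m, ((t m : ℚ) / (a m : ℚ)) * caV t c z k m * 1 := by
      exact_mod_cast h
    simp only [mul_one] at h'
    exact h'.symm
  · have h := key (fun _ : G => (1 : ℂ)) (fun _ : G => (1 : ℂ)) 1 1 (fun _ => 1) (fun _ => 1)
      (by norm_num) (by norm_num) (fun _ _ => by norm_num) (fun _ _ => by norm_num)
    rw [h11] at h
    have h' : (1 : ℚ) = 1 * 1 / (g : ℚ) + ∑ m, ((t m : ℚ) / (a m : ℚ)) * 1 * 1 := by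
      exact_mod_cast h
    simp only [mul_one] at h'
    exact h'.symm

end Cfsg.Agent.Helper82.CNTable
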