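import Mathlib
import Cfsg.Prelude.Def_Transfer
import Cfsg.Agent.Lib.Helper24.CYCDefs

/-!
# CYC lemma server (helper24) for S4016: piece (C0)
-/

set_option autoImplicit false
set_option linter.unusedSectionVars false

namespace Cfsg.Agent.Helper82.CYC

open Subgroup Cfsg.Agent.Helper24.CYC

universe u

variable {G : Type u} [Group G] [Finite G] {p : ℕ} [Fact p.Prime]

/-- (C0) a `Min` group has no normal `p`-complement: `N ⊴ G` complement of `P`: `N = ⊥` ⟹ `P = ⊤`, `G ≅ P` cyclic, abelian;
`N = ⊤` ⟹ `P = ⊥`, `p ∤ |G|`. -/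
theorem not_compl_of_min (hM : Min p G) : ¬ Cfsg.HasNormalPComplement p G := by
  rintro ⟨P, N, hN, hc⟩
  have hs := hM.simple
  rcases hN.eq_bot_or_eq_top with h | h
  · subst h
    have hP : (P : Subgroup G) = ⊤ := Subgroup.isComplement'_bot_left.mp hc
    obtain ⟨a, b, hab⟩ := hM.nonab
    have hcyc : IsCyclic (P : Subgroup G) := hM.cyc P
    have ha : a ∈ (P : Subgroup G) := by rw [hP]; trivial
    have hb : b ∈ (P : Subgroup G) := by rw [hP]; trivial
    have := (IsCyclic.isMulCommutative (α := (P : Subgroup G))).is_comm.comm ⟨a, ha⟩ ⟨b, hb⟩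
    exact hab (congrArg Subtype.val this)
  · subst h
    have hP : (P : Subgroup G) = ⊥ := Subgroup.isComplement'_top_left.mp hc
    exact P.ne_bot_of_dvd_card hM.pdvd hP

end Cfsg.Agent.Helper82.CYC
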