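import Mathlib
import Cfsg.Prelude.Def_Transfer
import Cfsg.Agent.Lib.Helper24.CYCDefs

/-!
# CYC lemma server (helper24) for S4016: piece (E6b)
-/

set_option autoImplicit false
set_option linter.unusedSectionVars false

namespace Cfsg.Agent.Helper82.CYC

open Subgroup Cfsg.Agent.Helper24.CYC
open scoped Pointwise

universe u

variable {G : Type u} [Group G] [Finite G] {p : ℕ} [Fact p.Prime]

theorem e6b_mem_smul (P : Sylow p G) (g h : G) :
    h ∈ ((g • P : Sylow p G) : Subgroup G) ↔ g⁻¹ * h * g ∈ (P : Subgroup G) := by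
  rw [Sylow.coe_subgroup_smul, Subgroup.mem_pointwise_smul_iff_inv_smul_mem]
  simp [MulAut.smul_def]

theorem e6b_mem_NP (P : Sylow p G) (g s : G) : s ∈ NP (g • P) ↔ g⁻¹ * s * g ∈ NP P := by
  have h1 : s ∈ NP (g • P) ↔ s • (g • P) = g • P := Sylow.smul_eq_iff_mem_normalizer.symm
  have h2 : g⁻¹ * s * g ∈ NP P ↔ (g⁻¹ * s * g) • P = P := Sylow.smul_eq_iff_mem_normalizer.symm
  rw [h1, h2, mul_smul, mul_smul, inv_smul_eq_iff]

theorem e6b_mem_CP (P : Sylow p G) (g s : G) : s ∈ CP (g • P) ↔ g⁻¹ * s * g ∈ CP P := by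
  constructor
  · intro hs
    rw [mem_centralizer_iff] at hs ⊢
    intro h hh
    have hh' : g * h * g⁻¹ ∈ ((g • P : Sylow p G) : Subgroup G) := by
      rw [e6b_mem_smul]
      have : g⁻¹ * (g * h * g⁻¹) * g = h := by group
      rw [this]; exact hh
    have h1 := hs (g * h * g⁻¹) hh'
    calc h * (g⁻¹ * s * g) = g⁻¹ * ((g * h * g⁻¹) * s) * g := by group
      _ = g⁻¹ * (s * (g * h * g⁻¹)) * g := by rw [h1]
      _ = g⁻¹ * s * g * h := by group
  · intro hs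
    rw [mem_centralizer_iff] at hs ⊢
    intro h hh
    have hh' : g⁻¹ * h * g ∈ (P : Subgroup G) := (e6b_mem_smul P g h).mp hh
    have h1 := hs (g⁻¹ * h * g) hh'
    calc h * s = g * ((g⁻¹ * h * g) * (g⁻¹ * s * g)) * g⁻¹ := by group
      _ = g * ((g⁻¹ * s * g) * (g⁻¹ * h * g)) * g⁻¹ := by rw [h1]
      _ = s * h := by group

/-- (E6b) `Ivs` is conjugation-equivariant (`Sylow.coe_smul`, `g • P = g P g⁻¹`). -/
theorem inv_conj (P : Sylow p G) (g : G) : Ivs (g • P) = (fun x => g * x * g⁻¹) '' Ivs P := by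
  ext s
  constructor
  · rintro ⟨h1, h2, h3⟩
    refine ⟨g⁻¹ * s * g, ⟨?_, (e6b_mem_NP P g s).mp h2, fun h => h3 ((e6b_mem_CP P g s).mpr h)⟩, by group⟩
    calc g⁻¹ * s * g * (g⁻¹ * s * g) = g⁻¹ * (s * s) * g := by group
      _ = 1 := by rw [h1]; group
  · rintro ⟨x, ⟨h1, h2, h3⟩, rfl⟩
    have hx : g⁻¹ * (g * x * g⁻¹) * g = x := by group
    refine ⟨?_, ?_, ?_⟩
    · calc g * x * g⁻¹ * (g * x * g⁻¹) = g * (x * x) * g⁻¹ := by group
        _ = 1 := by rw [h1]; group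
    · rw [e6b_mem_NP, hx]; exact h2
    · rw [e6b_mem_CP, hx]; exact h3

end Cfsg.Agent.Helper82.CYC
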