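import Mathlib
import Cfsg.Prelude.Def_Transfer
import Cfsg.Agent.Lib.Helper24.CYCDefs

/-!
# CYC lemma server (helper24) for S4016: piece (G2)

`N_G(P)/C_G(P)` embeds in `(ZMod p)ˣ` for a cyclic Sylow `p`-subgroup `P`.
-/

set_option autoImplicit false
set_option linter.unusedSectionVars false
set_option linter.unusedVariables false

namespace Cfsg.Agent.Helper82.CYC

open Subgroup Cfsg.Agent.Helper24.CYC

universe u

variable {G : Type u} [Group G] [Finite G] {p : ℕ} [Fact p.Prime]

/-- the kernel of `(ZMod (p^n))ˣ → (ZMod p)ˣ` has exponent dividing `p^(n-1)` -/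
theorem g2_ker_pow {m n : ℕ} (hm : m = p ^ n) (hn : 0 < n) (hd : p ∣ m) (u : (ZMod m)ˣ)
    (hu : ZMod.unitsMap hd u = 1) : u ^ (p ^ (n - 1)) = 1 := by
  have hp : p.Prime := Fact.out
  subst hm
  have hne : NeZero (p ^ n) := ⟨pow_ne_zero n hp.ne_zero⟩
  have hnep : NeZero p := ⟨hp.ne_zero⟩
  have hsurj := ZMod.unitsMap_surjective hd
  have hidx : (ZMod.unitsMap hd).ker.index = p - 1 := by
    rw [Subgroup.index_ker, MonoidHom.range_eq_top.mpr hsurj, Subgroup.card_top,
      Nat.card_eq_fintype_card, ZMod.card_units_eq_totient, Nat.totient_prime hp]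
  have hcard : Nat.card (ZMod (p ^ n))ˣ = p ^ (n - 1) * (p - 1) := by
    rw [Nat.card_eq_fintype_card, ZMod.card_units_eq_totient, Nat.totient_prime_pow hp hn]
  have hK : Nat.card (ZMod.unitsMap hd).ker = p ^ (n - 1) := by
    have h1 := Subgroup.card_mul_index (ZMod.unitsMap hd).ker
    rw [hidx, hcard] at h1
    have hpos : 0 < p - 1 := by have := hp.two_le; omega
    exact Nat.eq_of_mul_eq_mul_right hpos h1
  have hmem : u ∈ (ZMod.unitsMap hd).ker := hu
  have h2 : (⟨u, hmem⟩ : (ZMod.unitsMap hd).ker) ^ Nat.card (ZMod.unitsMap hd).ker = 1 :=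
    pow_card_eq_one'
  rw [hK] at h2
  have := congrArg Subtype.val h2
  simpa using this

/-- (G2) `N_G(P)/C_G(P)` embeds in `(ZMod p)ˣ` for a cyclic Sylow `p`-subgroup `P`.
Proof: conjugation `N_G(P) → MulAut P ≃* (ZMod |P|)ˣ` (`IsCyclic.mulAutMulEquiv`) `→ (ZMod p)ˣ` (`ZMod.unitsMap`, if `P ≠ 1`; if `P = 1`
take `f = 1`).  Kernel: `x` acts trivially on the subgroup of order `p`; write `x = x_p x_{p'}` (commuting powers of `x`), `x_p ∈ P`
(`P` is the only Sylow `p`-subgroup of `N_G(P)`) centralises the abelian `P`, and `x_{p'}` centralises `P` by (G1). -/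
theorem exists_hom_units (P : Sylow p G) (hcyc : IsCyclic P) :
    ∃ f : ↥(NP P) →* (ZMod p)ˣ, ∀ x : ↥(NP P), f x = 1 ↔ (x : G) ∈ CP P := by
  have hp : p.Prime := Fact.out
  by_cases hP : (P : Subgroup G) = ⊥
  · refine ⟨1, fun x => ?_⟩
    simp only [MonoidHom.one_apply, true_iff]
    rw [mem_centralizer_iff]
    intro y hy
    have hy' : y ∈ (P : Subgroup G) := hy
    rw [hP, Subgroup.mem_bot] at hy'
    subst hy'
    simp
  · obtain ⟨n, hn⟩ := IsPGroup.iff_card.mp P.isPGroup'
    have hn0 : 0 < n := by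
      rcases Nat.eq_zero_or_pos n with h | h
      · exfalso
        rw [h, pow_zero] at hn
        exact hP (Subgroup.card_eq_one.mp hn)
      · exact h
    have hdvd : p ∣ Nat.card (P : Subgroup G) := by rw [hn]; exact dvd_pow_self p hn0.ne'
    have hcyc' : IsCyclic (P : Subgroup G) := hcyc
    -- `P ≤ C_G(P)`
    have hPC : ∀ a ∈ (P : Subgroup G), a ∈ CP P := by
      intro a ha
      rw [mem_centralizer_iff]
      intro y hy
      have := (IsCyclic.isMulCommutative (α := (P : Subgroup G))).is_comm.comm ⟨y, hy⟩ ⟨a, ha⟩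
      exact congrArg Subtype.val this
    -- kernel of the conjugation map
    have hker : ∀ x : ↥(NP P), (P : Subgroup G).normalizerMonoidHom x = 1 ↔ (x : G) ∈ CP P := by
      intro x
      have h1 : (P : Subgroup G).normalizerMonoidHom x = 1 ↔
          x ∈ (P : Subgroup G).normalizerMonoidHom.ker := Iff.rfl
      rw [h1, Subgroup.normalizerMonoidHom_ker, mem_subgroupOf]
    refine ⟨(ZMod.unitsMap hdvd).comp
      ((IsCyclic.mulAutMulEquiv (P : Subgroup G)).toMonoidHom.comp
        (P : Subgroup G).normalizerMonoidHom), fun x => ⟨fun hx => ?_, fun hx => ?_⟩⟩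
    · -- `f x = 1 → x ∈ C_G(P)`
      have hx' : ZMod.unitsMap hdvd ((IsCyclic.mulAutMulEquiv (P : Subgroup G))
          ((P : Subgroup G).normalizerMonoidHom x)) = 1 := hx
      have hpow1 := g2_ker_pow hn hn0 hdvd _ hx'
      -- the `p'`-part `r` of `|N_G(P)|`
      have hPN : (P : Subgroup G) ≤ NP P := le_normalizer
      have hrdvd : (P : Subgroup G).relIndex (NP P) ∣ (P : Subgroup G).index :=
        Subgroup.relIndex_dvd_index_of_le hPN
      have hrcop : Nat.Coprime ((P : Subgroup G).relIndex (NP P)) p := by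
        rw [Nat.coprime_comm, hp.coprime_iff_not_dvd]
        intro h
        exact P.not_dvd_index (h.trans hrdvd)
      have hNcard : Nat.card (NP P) =
          Nat.card (P : Subgroup G) * (P : Subgroup G).relIndex (NP P) := by
        have h1 := Subgroup.card_mul_index ((P : Subgroup G).subgroupOf (NP P))
        have h2 : Nat.card ((P : Subgroup G).subgroupOf (NP P)) = Nat.card (P : Subgroup G) :=
          Nat.card_congr (Subgroup.subgroupOfEquivOfLe hPN).toEquiv
        rw [h2] at h1
        exact h1.symm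
      -- `x^r ∈ P`
      have hxr : ((x : G) ^ (P : Subgroup G).relIndex (NP P)) ∈ (P : Subgroup G) := by
        have h1 : x ^ Nat.card (NP P) = 1 := pow_card_eq_one'
        have h2 : ((x : G) ^ (P : Subgroup G).relIndex (NP P)) ^ (p ^ n) = 1 := by
          rw [← pow_mul, mul_comm, ← hn, ← hNcard]
          have := Subtype.ext_iff.mp h1
          simpa only [SubgroupClass.coe_pow, OneMemClass.coe_one] using this
        have h3 : orderOf ((x : G) ^ (P : Subgroup G).relIndex (NP P)) ∣ p ^ n :=
          orderOf_dvd_of_pow_eq_one h2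
        obtain ⟨j, -, hj⟩ := (Nat.dvd_prime_pow hp).mp h3
        have hpg : IsPGroup p (zpowers ((x : G) ^ (P : Subgroup G).relIndex (NP P))) :=
          IsPGroup.of_card (n := j) (by rw [Nat.card_zpowers, hj])
        have h4 := hpg.inf_normalizer_sylow P
        have h5 : (x : G) ^ (P : Subgroup G).relIndex (NP P) ∈
            zpowers ((x : G) ^ (P : Subgroup G).relIndex (NP P)) ⊓
              normalizer (P : Set G) :=
          ⟨mem_zpowers _, pow_mem x.2 _⟩
        rw [h4] at h5
        exact h5.2
      -- `y^r = 1`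
      have hyr : ((P : Subgroup G).normalizerMonoidHom x) ^ (P : Subgroup G).relIndex (NP P)
          = 1 := by
        rw [← map_pow, hker]
        exact hPC _ hxr
      have hpow2 : ((IsCyclic.mulAutMulEquiv (P : Subgroup G))
          ((P : Subgroup G).normalizerMonoidHom x)) ^ (P : Subgroup G).relIndex (NP P) = 1 := by
        rw [← map_pow, hyr, map_one]
      have ho1 := orderOf_dvd_of_pow_eq_one hpow1
      have ho2 := orderOf_dvd_of_pow_eq_one hpow2
      have hcop : Nat.Coprime ((P : Subgroup G).relIndex (NP P)) (p ^ (n - 1)) :=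
        Nat.Coprime.pow_right _ hrcop
      have ho : orderOf ((IsCyclic.mulAutMulEquiv (P : Subgroup G))
          ((P : Subgroup G).normalizerMonoidHom x)) = 1 :=
        Nat.eq_one_of_dvd_coprimes hcop ho2 ho1
      have hy1 : (IsCyclic.mulAutMulEquiv (P : Subgroup G))
          ((P : Subgroup G).normalizerMonoidHom x) = 1 := orderOf_eq_one_iff.mp ho
      have hy2 : (P : Subgroup G).normalizerMonoidHom x = 1 := by
        have := (IsCyclic.mulAutMulEquiv (P : Subgroup G)).injective
          (hy1.trans (map_one _).symm)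
        exact this
      exact (hker x).mp hy2
    · -- `x ∈ C_G(P) → f x = 1`
      have h1 := (hker x).mpr hx
      show ZMod.unitsMap hdvd ((IsCyclic.mulAutMulEquiv (P : Subgroup G))
          ((P : Subgroup G).normalizerMonoidHom x)) = 1
      rw [h1, map_one, map_one]

end Cfsg.Agent.Helper82.CYC
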