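import Mathlib

set_option autoImplicit false

namespace Cfsg.Agent.Helper82

open Finset

/-- Averaging projection for an endomorphism of finite order prime to the order of the group. -/
theorem exists_proj {M : Type*} [AddCommGroup M] [Finite M] (a : AddMonoid.End M) (n : ℕ)
    (han : a ^ n = 1) (hcop : Nat.Coprime n (Nat.card M)) :
    ∃ e q : AddMonoid.End M,
      (∀ c : AddMonoid.End M, Commute c a → Commute c e) ∧
      (∀ c : AddMonoid.End M, Commute c a → Commute c q) ∧
      a * e = e ∧ (∀ x : M, a x = x → e x = x) ∧ e * (1 - a) = 0 ∧ 1 - e = (1 - a) * q := by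
  classical
  -- the order of the group kills everything
  have hcard : ((Nat.card M : ℕ) : AddMonoid.End M) = 0 := by
    ext x
    simp only [AddMonoid.End.natCast_apply]
    exact card_nsmul_eq_zero'
  -- Bezout
  obtain ⟨A, hA⟩ : ∃ A : ℤ, ((n : ℕ) : AddMonoid.End M) * (A : AddMonoid.End M) = 1 := by
    have hb := Nat.gcd_eq_gcd_ab n (Nat.card M)
    rw [hcop] at hb
    refine ⟨Nat.gcdA n (Nat.card M), ?_⟩
    have h1 : ((1 : ℤ) : AddMonoid.End M) =
        ((((n : ℤ) * Nat.gcdA n (Nat.card M) + (Nat.card M : ℤ) * Nat.gcdB n (Nat.card M)) : ℤ) :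
          AddMonoid.End M) := by
      rw [← hb]; simp
    push_cast at h1
    rw [hcard, zero_mul, add_zero] at h1
    exact h1.symm
  have hA' : (A : AddMonoid.End M) * ((n : ℕ) : AddMonoid.End M) = 1 := by
    rw [← hA]; exact (Nat.cast_commute n _).symm.eq
  set N : AddMonoid.End M := ∑ i ∈ range n, a ^ i with hN
  have hNa : N * (1 - a) = 0 := by
    rw [hN, geom_sum_mul_neg, han, sub_self]
  have haN : (1 - a) * N = 0 := by
    rw [hN, mul_neg_geom_sum, han, sub_self]
  have haN' : a * N = N := by
    have : N - a * N = 0 := by rw [← haN]; noncomm_ring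
    exact (sub_eq_zero.mp this).symm
  set Q : AddMonoid.End M := ∑ i ∈ range n, ∑ j ∈ range i, a ^ j with hQ
  have hnN : ((n : ℕ) : AddMonoid.End M) - N = (1 - a) * Q := by
    rw [hQ, hN, Finset.mul_sum]
    have : ((n : ℕ) : AddMonoid.End M) = ∑ _i ∈ range n, (1 : AddMonoid.End M) := by
      simp
    rw [this, ← Finset.sum_sub_distrib]
    refine Finset.sum_congr rfl fun i _ => ?_
    rw [mul_neg_geom_sum]
  refine ⟨(A : AddMonoid.End M) * N, (A : AddMonoid.End M) * Q, ?_, ?_, ?_, ?_, ?_, ?_⟩
  · intro c hc
    refine Commute.mul_right (Int.cast_commute A c).symm ?_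
    exact Commute.sum_right _ _ _ fun i _ => hc.pow_right i
  · intro c hc
    refine Commute.mul_right (Int.cast_commute A c).symm ?_
    refine Commute.sum_right _ _ _ fun i _ => ?_
    exact Commute.sum_right _ _ _ fun j _ => hc.pow_right j
  · rw [← mul_assoc, ← (Int.cast_commute A a).eq, mul_assoc, haN']
  · intro x hx
    have hpow : ∀ i : ℕ, (a ^ i) x = x := by
      intro i
      induction i with
      | zero => simp
      | succ k ih =>
        rw [pow_succ]
        show (a ^ k) (a x) = x
        rw [hx, ih]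
    have hNx : N x = ((n : ℕ) : AddMonoid.End M) x := by
      rw [hN]
      have : ∀ k : ℕ, (∑ i ∈ range k, a ^ i) x = k • x := by
        intro k
        induction k with
        | zero => simp
        | succ k ih =>
          rw [Finset.sum_range_succ]
          show (∑ i ∈ range k, a ^ i) x + (a ^ k) x = (k + 1) • x
          rw [ih, hpow, succ_nsmul]
      rw [this]
      rfl
    show (A : AddMonoid.End M) (N x) = x
    rw [hNx]
    have := congrArg (fun f : AddMonoid.End M => f x) hA'
    simpa using this
  · rw [mul_assoc, hNa, mul_zero]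
  · have : (1 : AddMonoid.End M) - (A : AddMonoid.End M) * N =
        (A : AddMonoid.End M) * (((n : ℕ) : AddMonoid.End M) - N) := by
      rw [mul_sub, hA']
    rw [this, hnN, ← mul_assoc, ← mul_assoc, (Int.cast_commute A (1 - a)).eq]

/-- Counting the solutions of `(1 - b) v = (1 - a) w` for commuting endomorphisms of orders prime
to the order of the group. -/
theorem card_sol_add {M : Type*} [AddCommGroup M] [Finite M] (a b : AddMonoid.End M)
    (hab : Commute a b) (n k : ℕ) (han : a ^ n = 1) (hbk : b ^ k = 1)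
    (hn : Nat.Coprime n (Nat.card M)) (hk : Nat.Coprime k (Nat.card M)) :
    Nat.card {p : M × M // (1 - b) p.1 = (1 - a) p.2} =
      Nat.card M * Nat.card {x : M // a x = x ∧ b x = x} := by
  classical
  obtain ⟨ea, qa, hcea, hcqa, haea, hfixa, hea0, h1ea⟩ := exists_proj a n han hn
  obtain ⟨eb, qb, hceb, hcqb, hbeb, hfixb, heb0, h1eb⟩ := exists_proj b k hbk hk
  have hbea : Commute b ea := hcea b hab.symm
  have heaeb : Commute ea eb := hceb ea hbea.symm
  let Ψ : M × M →+ M :=
    ((1 - b : AddMonoid.End M).comp (AddMonoidHom.fst M M)) -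
      ((1 - a : AddMonoid.End M).comp (AddMonoidHom.snd M M))
  let E : M →+ M := (show M →+ M from (ea * eb : AddMonoid.End M))
  have hE : ∀ x : M, E x = ea (eb x) := fun _ => rfl
  have hΨ : ∀ p : M × M, Ψ p = (1 - b) p.1 - (1 - a) p.2 := fun p => rfl
  have hker : ∀ p : M × M, p ∈ Ψ.ker ↔ (1 - b) p.1 = (1 - a) p.2 := by
    intro p
    rw [AddMonoidHom.mem_ker, hΨ, sub_eq_zero]
  have hEb : ea * eb * (1 - b) = 0 := by
    rw [mul_assoc, heb0, mul_zero]
  have hEa : ea * eb * (1 - a) = 0 := by
    rw [heaeb.eq, mul_assoc, hea0, mul_zero]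
  have hdecomp : (1 : AddMonoid.End M) = (1 - b) * qb + (1 - a) * (qa * eb) + ea * eb := by
    have : (1 : AddMonoid.End M) = (1 - eb) + (1 - ea) * eb + ea * eb := by noncomm_ring
    rw [h1eb, h1ea, mul_assoc] at this
    exact this
  have hrange : Ψ.range = E.ker := by
    ext x
    constructor
    · rintro ⟨p, rfl⟩
      rw [AddMonoidHom.mem_ker, hΨ, map_sub]
      have h1 : E ((1 - b) p.1) = (ea * eb * (1 - b)) p.1 := rfl
      have h2 : E ((1 - a) p.2) = (ea * eb * (1 - a)) p.2 := rfl
      rw [h1, h2, hEb, hEa]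
      simp
    · intro hx
      rw [AddMonoidHom.mem_ker, hE] at hx
      refine ⟨(qb x, - (qa (eb x))), ?_⟩
      rw [hΨ]
      have := congrArg (fun f : AddMonoid.End M => f x) hdecomp
      have h3 : ((1 - b) * qb + (1 - a) * (qa * eb) + ea * eb) x =
          (1 - b) (qb x) + (1 - a) (qa (eb x)) + ea (eb x) := rfl
      rw [h3, hx, add_zero] at this
      simp only [map_neg, sub_neg_eq_add]
      exact this.symm
  have hErange : ∀ x : M, x ∈ E.range ↔ (a x = x ∧ b x = x) := by
    intro x
    constructor
    · rintro ⟨y, rfl⟩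
      constructor
      · show (a * (ea * eb)) y = (ea * eb) y
        rw [← mul_assoc, haea]
      · show (b * (ea * eb)) y = (ea * eb) y
        rw [← mul_assoc, hbea.eq, mul_assoc, hbeb]
    · rintro ⟨hax, hbx⟩
      refine ⟨x, ?_⟩
      rw [hE, hfixb x hbx, hfixa x hax]
  have h1 : Nat.card Ψ.ker * Nat.card Ψ.range = Nat.card M * Nat.card M := by
    rw [← AddSubgroup.index_ker, AddSubgroup.card_mul_index, Nat.card_prod]
  have h2 : Nat.card E.ker * Nat.card E.range = Nat.card M := by
    rw [← AddSubgroup.index_ker, AddSubgroup.card_mul_index]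
  have h3 : Nat.card {p : M × M // (1 - b) p.1 = (1 - a) p.2} = Nat.card Ψ.ker :=
    Nat.card_congr (Equiv.subtypeEquivRight fun p => (hker p).symm)
  have h4 : Nat.card {x : M // a x = x ∧ b x = x} = Nat.card E.range :=
    Nat.card_congr (Equiv.subtypeEquivRight fun x => (hErange x).symm)
  rw [h3, h4]
  rw [hrange] at h1
  have hpos : 0 < Nat.card E.ker := Nat.card_pos
  apply Nat.eq_of_mul_eq_mul_right hpos
  rw [h1, mul_assoc, mul_comm (Nat.card E.range), h2]

/-- Multiplicative version of `card_sol_add` for two commuting automorphisms. -/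
theorem card_sol_mul {V : Type*} [CommGroup V] [Finite V] (α β : MulAut V) (hc : Commute α β)
    (hα : (orderOf α).Coprime (Nat.card V)) (hβ : (orderOf β).Coprime (Nat.card V)) :
    Nat.card {p : V × V // p.1 * α p.2 = p.2 * β p.1} =
      Nat.card V * Nat.card {v : V // α v = v ∧ β v = v} := by
  classical
  let a : AddMonoid.End (Additive V) := MonoidHom.toAdditive α.toMonoidHom
  let b : AddMonoid.End (Additive V) := MonoidHom.toAdditive β.toMonoidHom
  have ha : ∀ x : Additive V, a x = Additive.ofMul (α x.toMul) := fun _ => rfl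
  have hb : ∀ x : Additive V, b x = Additive.ofMul (β x.toMul) := fun _ => rfl
  have hapow : ∀ (i : ℕ) (x : Additive V), (a ^ i) x = Additive.ofMul ((α ^ i) x.toMul) := by
    intro i
    induction i with
    | zero => intro x; simp
    | succ i ih =>
      intro x
      rw [pow_succ, pow_succ]
      show (a ^ i) (a x) = _
      rw [ih, ha]
      rfl
  have hbpow : ∀ (i : ℕ) (x : Additive V), (b ^ i) x = Additive.ofMul ((β ^ i) x.toMul) := by
    intro i
    induction i with
    | zero => intro x; simp
    | succ i ih =>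
      intro x
      rw [pow_succ, pow_succ]
      show (b ^ i) (b x) = _
      rw [ih, hb]
      rfl
  have han : a ^ orderOf α = 1 := by
    ext x
    rw [hapow, pow_orderOf_eq_one]
    rfl
  have hbn : b ^ orderOf β = 1 := by
    ext x
    rw [hbpow, pow_orderOf_eq_one]
    rfl
  have hab : Commute a b := by
    ext x
    show a (b x) = b (a x)
    rw [ha, hb, ha, hb]
    have := congrArg (fun f : MulAut V => f x.toMul) hc.eq
    exact congrArg Additive.ofMul this
  have hcardM : Nat.card (Additive V) = Nat.card V := Nat.card_congr Additive.toMul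
  have key := card_sol_add a b hab (orderOf α) (orderOf β) han hbn (by rwa [hcardM]) (by rwa [hcardM])
  rw [hcardM] at key
  have e1 : Nat.card {p : V × V // p.1 * α p.2 = p.2 * β p.1} =
      Nat.card {p : Additive V × Additive V // (1 - b) p.1 = (1 - a) p.2} := by
    refine Nat.card_congr ?_
    refine Equiv.subtypeEquiv (Equiv.prodCongr Additive.ofMul Additive.ofMul) ?_
    intro p
    show p.1 * α p.2 = p.2 * β p.1 ↔
      Additive.ofMul p.1 - b (Additive.ofMul p.1) = Additive.ofMul p.2 - a (Additive.ofMul p.2)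
    rw [ha, hb]
    show p.1 * α p.2 = p.2 * β p.1 ↔ p.1 / β p.1 = p.2 / α p.2
    rw [div_eq_div_iff_mul_eq_mul]
  have e2 : Nat.card {v : V // α v = v ∧ β v = v} =
      Nat.card {x : Additive V // a x = x ∧ b x = x} := by
    refine Nat.card_congr ?_
    exact Equiv.subtypeEquiv Additive.ofMul (fun v => Iff.rfl)
  rw [e1, e2, key]

end Cfsg.Agent.Helper82
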