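import Mathlib
import Cfsg.Agent.Lib.Helper97.FXDefs
import Cfsg.Agent.Lib.Helper97.FXDefs2
import Cfsg.Agent.Lib.Helper48.SympRep
import Cfsg.Agent.Lib.Helper33.FXSCHUR

/-!
# FX (BSYMP) symp_of_minimal (helper82, second seat, FX server wave 2, S3818)
-/

set_option autoImplicit false

namespace Cfsg.Agent.Helper82.FX

open Cfsg.Agent.Helper97.FX Cfsg.Agent.Helper48.SympRep
open scoped TensorProduct

universe u

section RT
variable {K : Type*} [Field K] [IsAlgClosed K] {G : Type*} [Group G] [Finite G]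
variable {V : Type u} [AddCommGroup V] [Module K V] [FiniteDimensional K V] [Nontrivial V]

/-- a central element acts as a scalar -/
theorem h82_scalar_of_central (ρ : G →* Module.End K V) (hirr : Irr ρ) {c : G}
    (hc : c ∈ Subgroup.center G) : ∃ l : K, ρ c = l • 1 := by
  apply Cfsg.Agent.Helper33.FX.schur_scalar ρ hirr (ρ c)
  intro g
  rw [← map_mul, ← map_mul]
  congr 1
  exact (Subgroup.mem_center_iff.mp hc g).symm

omit [Finite G] [IsAlgClosed K] [FiniteDimensional K V] [Nontrivial V] in
/-- the derived subgroup of a nontrivial solvable normal subgroup is a proper normal subgroup -/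
theorem h82_commutator_lt [Group.IsSolvable G] (N : Subgroup G) (hne : N ≠ ⊥) :
    ⁅N, N⁆ < N := by
  have hnt : Nontrivial N := (Subgroup.nontrivial_iff_ne_bot N).mpr hne
  have h1 : _root_.commutator N < ⊤ := Group.IsSolvable.commutator_lt_top_of_nontrivial N
  have h2 : (_root_.commutator N).map N.subtype = ⁅N, N⁆ := Subgroup.map_subtype_commutator N
  have hle : ⁅N, N⁆ ≤ N := by
    rw [← h2]
    exact Subgroup.map_subtype_le _
  refine lt_of_le_of_ne hle ?_
  intro heq
  apply h1.ne
  apply Subgroup.map_injective N.subtype_injective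
  rw [h2, heq]
  ext x
  constructor
  · intro hx
    exact ⟨⟨x, hx⟩, Subgroup.mem_top _, rfl⟩
  · rintro ⟨y, -, rfl⟩
    exact y.2

theorem symp_of_minimal [Group.IsSolvable G] (ρ : G →* Module.End K V) (hirr : Irr ρ)
    (hf : Function.Injective ρ) (N : Subgroup G) [N.Normal] [Fintype N]
    (hmin : ∀ M : Subgroup G, M.Normal → M < N → M ≤ Subgroup.center G)
    (hnab : ¬ ∀ a ∈ N, ∀ b ∈ N, a * b = b * a) : Symp (ρ.comp N.subtype) := by
  have hNne : N ≠ ⊥ := by
    intro h
    apply hnab
    intro a ha b hb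
    rw [h, Subgroup.mem_bot] at ha hb
    rw [ha, hb]
  have hcomm_lt : ⁅N, N⁆ < N := h82_commutator_lt N hNne
  have hcomm_normal : (⁅N, N⁆ : Subgroup G).Normal := Subgroup.commutator_normal N N
  have hcomm_center : ⁅N, N⁆ ≤ Subgroup.center G := hmin _ hcomm_normal hcomm_lt
  constructor
  · -- comm_scalar
    intro u w
    have hc : (u : G) * w * (u : G)⁻¹ * (w : G)⁻¹ ∈ ⁅N, N⁆ :=
      Subgroup.commutator_mem_commutator u.2 w.2
    obtain ⟨l, hl⟩ := h82_scalar_of_central ρ hirr (hcomm_center hc)
    refine ⟨l, ?_⟩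
    show ρ (u : G) * ρ (w : G) = l • (ρ (w : G) * ρ (u : G))
    have h1 : (u : G) * w = ((u : G) * w * (u : G)⁻¹ * (w : G)⁻¹) * (w * u) := by group
    rw [← map_mul, h1, map_mul, hl, map_mul, smul_mul_assoc, one_mul]
  · -- nondeg
    intro u hu
    have hu' : ∀ w ∈ N, (u : G) * w = w * u := by
      intro w hw
      apply hf
      rw [map_mul, map_mul]
      exact hu ⟨w, hw⟩
    set Z : Subgroup G := N ⊓ Subgroup.centralizer (N : Set G) with hZ
    have hZn : Z.Normal := inferInstance
    have hZlt : Z < N := by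
      refine lt_of_le_of_ne inf_le_left ?_
      intro heq
      apply hnab
      intro a ha b hb
      have ha' : a ∈ Z := heq ▸ ha
      have := Subgroup.mem_centralizer_iff.mp ha'.2 b hb
      exact this.symm
    have huZ : (u : G) ∈ Z := by
      refine ⟨u.2, ?_⟩
      apply Subgroup.mem_centralizer_iff.mpr
      intro w hw
      exact (hu' w hw).symm
    obtain ⟨l, hl⟩ := h82_scalar_of_central ρ hirr (hmin Z hZn hZlt huZ)
    exact ⟨l, hl⟩

end RT

end Cfsg.Agent.Helper82.FX
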