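import Mathlib
import Cfsg.Agent.Lib.Helper97.FXDefs
import Cfsg.Agent.Lib.Helper86.ESREC

/-!
# FX (LOW) lower_bound, core with (GENQUAD) as a hypothesis (helper82, FX server, S3818)
-/

set_option autoImplicit false

namespace Cfsg.Agent.Helper82.FX

open Cfsg.Agent.Helper97.FX

universe u

section LA
variable {K : Type*} [Field K] {V : Type u} [AddCommGroup V] [Module K V] [FiniteDimensional K V]

omit [FiniteDimensional K V] in
theorem h82_eigenspace_one (T : Module.End K V) :
    Module.End.eigenspace T 1 = LinearMap.ker (T - 1) := by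
  rw [Module.End.eigenspace_def, one_smul]

theorem h82_geom_ne_zero {p : ℕ} (hp : p.Prime) :
    (∑ i ∈ Finset.range p, (Polynomial.X : Polynomial K) ^ i) ≠ 0 := by
  intro h0
  have h1 := geom_sum_mul (Polynomial.X : Polynomial K) p
  rw [h0, zero_mul] at h1
  have h2 : ((Polynomial.X : Polynomial K) ^ p - 1).natDegree = p := by
    have := Polynomial.natDegree_X_pow_sub_C (R := K) (n := p) (r := 1)
    simpa using this
  rw [← h1] at h2
  simp at h2
  exact hp.ne_zero h2.symm

theorem h82_geom_natDegree {p : ℕ} (hp : p.Prime) :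
    (∑ i ∈ Finset.range p, (Polynomial.X : Polynomial K) ^ i).natDegree = p - 1 := by
  have h1 := geom_sum_mul (Polynomial.X : Polynomial K) p
  have h2 : ((Polynomial.X : Polynomial K) ^ p - 1).natDegree = p := by
    have := Polynomial.natDegree_X_pow_sub_C (R := K) (n := p) (r := 1)
    simpa using this
  have h3 : ((Polynomial.X : Polynomial K) - 1) ≠ 0 := by
    have := Polynomial.X_sub_C_ne_zero (1 : K)
    simpa using this
  have h4 : ((Polynomial.X : Polynomial K) - 1).natDegree = 1 := by
    have := Polynomial.natDegree_X_sub_C (1 : K)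
    simpa using this
  rw [← h1, Polynomial.natDegree_mul (h82_geom_ne_zero hp) h3, h4] at h2
  omega

/-- (LOW) with (GENQUAD) as a hypothesis -/
theorem h82_lower_core
    (hGQ : ∀ (d : ℕ) (V : Type u) [AddCommGroup V] [Module K V]
      [FiniteDimensional K V] (T : Module.End K V) (q : Polynomial K), q ≠ 0 → q.natDegree = d →
      Polynomial.aeval T q = 0 →
      Module.finrank K V * Module.finrank K V ≤
        d * Module.finrank K (Subalgebra.centralizer K ({T} : Set (Module.End K V))))
    (T : Module.End K V) {p : ℕ} (hp : p.Prime) (hT : T ^ p = 1) :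
    (p - 1) * (fixDim T * fixDim T) +
        (Module.finrank K V - fixDim T) * (Module.finrank K V - fixDim T) ≤
      (p - 1) * Module.finrank K (Subalgebra.centralizer K ({T} : Set (Module.End K V))) := by
  classical
  set W : Submodule K V := Module.End.eigenspace T 1 with hW
  have hWker : W = LinearMap.ker (T - 1) := h82_eigenspace_one T
  have hfix : fixDim T = Module.finrank K W := by
    rw [fixDim_def, hWker]
  -- T preserves W
  have hinv : W ≤ W.comap T := by
    intro w hw
    rw [Submodule.mem_comap]
    have h1 : T w = w := by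
      have := Module.End.mem_eigenspace_iff.mp hw
      simpa using this
    rw [h1]; exact hw
  set T' : Module.End K (V ⧸ W) := W.mapQ W T hinv with hT'def
  have hT' : T' ∘ₗ W.mkQ = W.mkQ ∘ₗ T := Submodule.mapQ_mkQ W W T
  have hrec := Cfsg.Agent.Helper86.ES.rec_bound T 1 T' hT'
  -- powers
  have hpow : ∀ (i : ℕ) (v : V), (T' ^ i) (W.mkQ v) = W.mkQ ((T ^ i) v) := by
    intro i
    induction i with
    | zero => intro v; simp
    | succ i ih =>
      intro v
      rw [pow_succ, pow_succ, Module.End.mul_apply, Module.End.mul_apply]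
      have h1 : T' (W.mkQ v) = W.mkQ (T v) := by
        have := LinearMap.congr_fun hT' v
        simpa using this
      rw [h1, ih]
  -- the geometric sum kills T'
  have hkill : Polynomial.aeval T' (∑ i ∈ Finset.range p, (Polynomial.X : Polynomial K) ^ i) = 0 := by
    apply LinearMap.ext
    intro x
    obtain ⟨v, rfl⟩ := W.mkQ_surjective x
    rw [map_sum]
    simp only [map_pow, Polynomial.aeval_X, LinearMap.sum_apply, LinearMap.zero_apply]
    have h1 : ∀ i ∈ Finset.range p, (T' ^ i) (W.mkQ v) = W.mkQ ((T ^ i) v) := fun i _ => hpow i v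
    rw [Finset.sum_congr rfl h1, ← map_sum]
    rw [Submodule.mkQ_apply, Submodule.Quotient.mk_eq_zero, hWker, LinearMap.mem_ker]
    have h2 : (T - 1) * (∑ i ∈ Finset.range p, T ^ i) = 0 := by
      rw [mul_geom_sum, hT, sub_self]
    have h3 := LinearMap.congr_fun h2 v
    simpa [LinearMap.sum_apply] using h3
  have hgq := hGQ (p - 1) (V ⧸ W) T' _ (h82_geom_ne_zero hp) (h82_geom_natDegree hp) hkill
  have hquot : Module.finrank K (V ⧸ W) = Module.finrank K V - fixDim T := by
    rw [hfix]
    have := Submodule.finrank_quotient_add_finrank W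
    omega
  rw [hquot] at hgq
  rw [← hfix] at hrec
  calc (p - 1) * (fixDim T * fixDim T) +
        (Module.finrank K V - fixDim T) * (Module.finrank K V - fixDim T)
      ≤ (p - 1) * (fixDim T * fixDim T) + (p - 1) * Module.finrank K
          (Subalgebra.centralizer K ({T'} : Set (Module.End K (V ⧸ W)))) :=
        Nat.add_le_add_left hgq _
    _ = (p - 1) * (fixDim T * fixDim T + Module.finrank K
          (Subalgebra.centralizer K ({T'} : Set (Module.End K (V ⧸ W))))) := by ring
    _ ≤ _ := Nat.mul_le_mul_left _ hrec

end LA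

end Cfsg.Agent.Helper82.FX
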