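import Mathlib
import Cfsg.Agent.Lib.Helper97.FXDefs
import Cfsg.Agent.Lib.Helper97.FXDefs2
import Cfsg.Agent.Lib.Helper48.SympRep

/-!
# FX (MINSUB) exists_minimal_normal_le (helper82, second seat, FX server wave 2, S3818)
-/

set_option autoImplicit false

namespace Cfsg.Agent.Helper82.FX

open Cfsg.Agent.Helper97.FX Cfsg.Agent.Helper48.SympRep
open scoped TensorProduct

universe u

section DS
variable {K : Type*} [Field K] {G : Type*} [Group G] [Finite G]
variable {V : Type u} [AddCommGroup V] [Module K V] [FiniteDimensional K V]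

theorem exists_minimal_normal_le (N : Subgroup G) (hN : N.Normal) (hne : N ≠ ⊥) :
    ∃ N₀ : Subgroup G, N₀.Normal ∧ N₀ ≠ ⊥ ∧ N₀ ≤ N ∧
      ∀ M : Subgroup G, M.Normal → M ≤ N₀ → M = ⊥ ∨ M = N₀ := by
  classical
  have hfin : Finite (Subgroup G) := inferInstance
  let S : Set (Subgroup G) := {M | M.Normal ∧ M ≠ ⊥ ∧ M ≤ N}
  have hSne : S.Nonempty := ⟨N, hN, hne, le_refl N⟩
  obtain ⟨N₀, hN₀S, hN₀min⟩ := (Set.toFinite S).exists_minimal hSne
  refine ⟨N₀, hN₀S.1, hN₀S.2.1, hN₀S.2.2, ?_⟩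
  intro M hM hMle
  by_cases hMb : M = ⊥
  · exact Or.inl hMb
  · right
    have hMS : M ∈ S := ⟨hM, hMb, le_trans hMle hN₀S.2.2⟩
    exact le_antisymm hMle (hN₀min hMS hMle)

end DS

end Cfsg.Agent.Helper82.FX
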