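import Mathlib

/-!
# GS4 lemma server (helper87, S2608), piece (V) `exists_complement`  (helper82)

The `t`-invariant complement `V = [K, t]` of `⟨c⟩` in `K`.
-/

set_option autoImplicit false

namespace Cfsg.Agent.Helper82.GS4

section
variable {G : Type*} [Group G]

/-- conjugation by `t` on the normal subgroup `K` -/
def h82_tau (K : Subgroup G) [K.Normal] (t : G) : ↥K →* ↥K where
  toFun k := ⟨t * k * t⁻¹, Subgroup.Normal.conj_mem inferInstance (k : G) k.2 t⟩
  map_one' := by ext; simp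
  map_mul' a b := by ext; simp [mul_assoc]

@[simp] theorem h82_tau_coe (K : Subgroup G) [K.Normal] (t : G) (k : ↥K) :
    ((h82_tau K t k : ↥K) : G) = t * k * t⁻¹ := rfl

/-- `κ k = k⁻¹ * (t k t⁻¹)`, a hom when `K` is abelian -/
def h82_kappa (K : Subgroup G) [K.Normal] (hab : ∀ a ∈ K, ∀ b ∈ K, a * b = b * a) (t : G) :
    ↥K →* ↥K :=
  MonoidHom.mk' (fun k => k⁻¹ * h82_tau K t k) (by
    intro a b
    have hc : ∀ x y : ↥K, x * y = y * x := fun x y => Subtype.ext (hab x x.2 y y.2)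
    rw [map_mul, mul_inv_rev]
    calc b⁻¹ * a⁻¹ * (h82_tau K t a * h82_tau K t b)
        = (b⁻¹ * (a⁻¹ * h82_tau K t a)) * h82_tau K t b := by simp only [mul_assoc]
      _ = ((a⁻¹ * h82_tau K t a) * b⁻¹) * h82_tau K t b := by rw [hc b⁻¹ _]
      _ = a⁻¹ * h82_tau K t a * (b⁻¹ * h82_tau K t b) := by simp only [mul_assoc])

theorem h82_kappa_apply (K : Subgroup G) [K.Normal] (hab : ∀ a ∈ K, ∀ b ∈ K, a * b = b * a) (t : G)
    (k : ↥K) : h82_kappa K hab t k = k⁻¹ * h82_tau K t k := rfl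

theorem h82_tau_eq (K : Subgroup G) [K.Normal] (hab : ∀ a ∈ K, ∀ b ∈ K, a * b = b * a) (t : G)
    (k : ↥K) : h82_tau K t k = k * h82_kappa K hab t k := by
  rw [h82_kappa_apply, mul_inv_cancel_left]

theorem h82_tau_cube (K : Subgroup G) [K.Normal] (t : G) (ht3 : t ^ 3 = 1) (k : ↥K) :
    h82_tau K t (h82_tau K t (h82_tau K t k)) = k := by
  apply Subtype.ext
  simp only [h82_tau_coe]
  have h3 : t * t * t = 1 := by rw [← ht3, pow_succ, pow_two]
  have h3' : t⁻¹ * t⁻¹ * t⁻¹ = 1 := by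
    rw [← mul_inv_rev, ← mul_inv_rev, ← mul_assoc, h3, inv_one]
  calc t * (t * (t * (k : G) * t⁻¹) * t⁻¹) * t⁻¹
      = (t * t * t) * (k : G) * (t⁻¹ * t⁻¹ * t⁻¹) := by group
    _ = k := by rw [h3, h3', one_mul, mul_one]

/-- if `κ k = d` and `τ d = d` then `d³ = 1` -/
theorem h82_cube_of_fixed (K : Subgroup G) [K.Normal] (hab : ∀ a ∈ K, ∀ b ∈ K, a * b = b * a) (t : G)
    (ht3 : t ^ 3 = 1) (k d : ↥K) (hk : h82_kappa K hab t k = d) (hd : h82_tau K t d = d) :
    d * d * d = 1 := by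
  have h1 : h82_tau K t k = k * d := by rw [h82_tau_eq K hab t k, hk]
  have h2 : h82_tau K t (h82_tau K t k) = k * d * d := by rw [h1, map_mul, h1, hd]
  have h3 : h82_tau K t (h82_tau K t (h82_tau K t k)) = k * d * d * d := by
    rw [h2, map_mul, map_mul, h1, hd]
  rw [h82_tau_cube K t ht3 k] at h3
  have : k * 1 = k * (d * d * d) := by rw [mul_one]; simpa [mul_assoc] using h3
  exact (mul_left_cancel this).symm

theorem h82_kappa_eq_one_iff (K : Subgroup G) [K.Normal] (hab : ∀ a ∈ K, ∀ b ∈ K, a * b = b * a) (t : G)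
    (k : ↥K) : h82_kappa K hab t k = 1 ↔ t * (k : G) = k * t := by
  rw [h82_kappa_apply, inv_mul_eq_one]
  constructor
  · intro h
    have := congrArg (fun x : ↥K => (x : G)) h
    simp only [h82_tau_coe] at this
    calc t * (k : G) = (t * k * t⁻¹) * t := by group
      _ = k * t := by rw [← this]
  · intro h
    apply Subtype.ext
    simp only [h82_tau_coe]
    rw [h]; group

theorem h82_kappa_tau (K : Subgroup G) [K.Normal] (hab : ∀ a ∈ K, ∀ b ∈ K, a * b = b * a) (t : G)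
    (k : ↥K) : h82_tau K t (h82_kappa K hab t k) = h82_kappa K hab t (h82_tau K t k) := by
  rw [h82_kappa_apply, h82_kappa_apply, map_mul, map_inv]

/-- (V) the `t`-invariant complement `V = [K, t]` of `⟨c⟩` in `K`. -/
theorem exists_complement {G : Type*} [Group G] [Finite G] (f : ℕ) (hf : 1 ≤ f) (K : Subgroup G)
    [K.Normal] (hK : Nat.card K = 4 * f) (hab : ∀ a ∈ K, ∀ b ∈ K, a * b = b * a)
    (c : G) (hcK : c ∈ K) (hcz : ∀ g : G, c * g = g * c) (hcf : c ^ f = 1)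
    (hcord : ∀ j : ℕ, c ^ j = 1 → f ∣ j)
    (hdec : ∀ k ∈ K, ∃ v ∈ K, ∃ i : ℕ, k = v * c ^ i ∧ v ^ 4 = 1)
    (t : G) (ht3 : t ^ 3 = 1)
    (hconj : ∀ g : G, ∃ k ∈ K, g * t * g⁻¹ = k * t ∨ g * t * g⁻¹ = k * t⁻¹)
    (z : G) (hzK : z ∈ K) (hz2 : z * z = 1) (htz : t * z ≠ z * t) :
    ∃ V : Subgroup G, V.Normal ∧ V ≤ K ∧ Nat.card V = 4 ∧
      (∀ v ∈ V, ∀ j : ℕ, v = c ^ j → v = 1) ∧ (∀ v ∈ V, t * v = v * t → v = 1) ∧
      (∀ k ∈ K, ∃ v ∈ V, ∃ j : ℕ, k = v * c ^ j) := by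
  classical
  set τ := h82_tau K t with hτ
  set κ := h82_kappa K hab t with hκ
  set cK : ↥K := ⟨c, hcK⟩ with hcKdef
  set zK : ↥K := ⟨z, hzK⟩ with hzKdef
  -- `c` is fixed
  have hκc : κ cK = 1 := by
    rw [hκ, h82_kappa_eq_one_iff]
    exact (hcz t).symm
  have hκcpow : ∀ i : ℕ, κ (cK ^ i) = 1 := by
    intro i; rw [map_pow, hκc, one_pow]
  -- order of `cK`
  have hord : orderOf cK = f := by
    apply Nat.dvd_antisymm
    · apply orderOf_dvd_of_pow_eq_one
      apply Subtype.ext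
      simpa using hcf
    · apply hcord
      have h0 := pow_orderOf_eq_one cK
      have h1 : ((cK ^ orderOf cK : ↥K) : G) = ((1 : ↥K) : G) := congrArg (fun x : ↥K => (x : G)) h0
      rw [Subgroup.coe_pow, Subgroup.coe_one] at h1
      exact h1
  have hzle : Subgroup.zpowers cK ≤ κ.ker := by
    rw [Subgroup.zpowers_le]
    exact hκc
  have hfdvd : f ∣ Nat.card κ.ker := by
    have := Subgroup.card_dvd_of_le hzle
    rwa [Nat.card_zpowers, hord] at this
  have hprod : Nat.card κ.ker * Nat.card κ.range = 4 * f := by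
    rw [← hK, ← Subgroup.index_ker, Subgroup.card_mul_index]
  -- `w = κ z ≠ 1`
  have hw1 : κ zK ≠ 1 := by
    intro h
    rw [hκ, h82_kappa_eq_one_iff] at h
    exact htz h
  have hww : κ zK * κ zK = 1 := by
    rw [← map_mul]
    have : zK * zK = 1 := Subtype.ext hz2
    rw [this, map_one]
  -- the range has 4 elements
  have hR4 : Nat.card κ.range = 4 := by
    obtain ⟨m, hm⟩ := hfdvd
    have hfpos : 0 < f := hf
    have hmR : m * Nat.card κ.range = 4 := by
      rw [hm] at hprod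
      have : f * (m * Nat.card κ.range) = f * 4 := by rw [← mul_assoc, hprod, mul_comm]
      exact Nat.eq_of_mul_eq_mul_left hfpos this
    have hdvd : Nat.card κ.range ∣ 2 ^ 2 := ⟨m, by rw [mul_comm, hmR]; norm_num⟩
    obtain ⟨e, he, hRe⟩ := (Nat.dvd_prime_pow Nat.prime_two).1 hdvd
    interval_cases e
    · -- card 1
      exfalso
      have hbot : κ.range = ⊥ := Subgroup.eq_bot_of_card_eq _ (by simpa using hRe)
      have : κ zK ∈ κ.range := ⟨zK, rfl⟩
      rw [hbot, Subgroup.mem_bot] at this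
      exact hw1 this
    · -- card 2
      exfalso
      have h2 : Nat.card κ.range = 2 := by simpa using hRe
      obtain ⟨y, hy, hyu⟩ := (Nat.card_eq_two_iff' (1 : κ.range)).1 h2
      have hwR : κ zK ∈ κ.range := ⟨zK, rfl⟩
      have hτwR : τ (κ zK) ∈ κ.range := ⟨τ zK, (h82_kappa_tau K hab t zK).symm⟩
      have e1 : (⟨κ zK, hwR⟩ : κ.range) = y := hyu _ (by
        intro h; apply hw1; exact congrArg Subtype.val h)
      have hτw1 : τ (κ zK) ≠ 1 := by
        intro h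
        apply hw1
        have hinj : Function.Injective τ := by
          intro a b hab'
          have := congrArg (fun x : ↥K => (x : G)) hab'
          simp only [hτ, h82_tau_coe] at this
          apply Subtype.ext
          have h2 := mul_right_cancel this
          exact mul_left_cancel h2
        apply hinj
        rw [h, map_one]
      have e2 : (⟨τ (κ zK), hτwR⟩ : κ.range) = y := hyu _ (by
        intro h; apply hτw1; exact congrArg Subtype.val h)
      have hfix : τ (κ zK) = κ zK := by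
        have := e2.trans e1.symm
        exact congrArg Subtype.val this
      have hcube := h82_cube_of_fixed K hab t ht3 zK (κ zK) rfl hfix
      apply hw1
      calc κ zK = κ zK * κ zK * κ zK * (κ zK * κ zK)⁻¹ := by group
        _ = 1 := by rw [hcube, hww]; simp
    · simpa using hRe
  have hkercard : Nat.card κ.ker = f := by
    rw [hR4] at hprod
    have : Nat.card κ.ker * 4 = f * 4 := by rw [hprod, mul_comm]
    exact Nat.eq_of_mul_eq_mul_right (by norm_num) this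
  have hkereq : Subgroup.zpowers cK = κ.ker := by
    apply Subgroup.eq_of_le_of_card_ge hzle
    rw [Nat.card_zpowers, hord, hkercard]
  -- elements of the kernel are natural powers of `c`
  have hkerpow : ∀ x : ↥K, κ x = 1 → ∃ n : ℕ, x = cK ^ n := by
    intro x hx
    have hx' : x ∈ Subgroup.zpowers cK := by rw [hkereq]; exact hx
    have := (mem_powers_iff_mem_zpowers (x := cK) (y := x)).2 hx'
    obtain ⟨n, hn⟩ := Submonoid.mem_powers_iff _ _ |>.1 this
    exact ⟨n, hn.symm⟩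
  -- membership in `V`
  have hVmem : ∀ v : G, v ∈ κ.range.map K.subtype ↔ ∃ k : ↥K, ((κ k : ↥K) : G) = v := by
    intro v
    rw [Subgroup.mem_map]
    constructor
    · rintro ⟨x, ⟨k, hk⟩, hx⟩
      exact ⟨k, by rw [hk]; exact hx⟩
    · rintro ⟨k, hk⟩
      exact ⟨κ k, ⟨k, rfl⟩, hk⟩
  -- `V ∩ ⟨c⟩ = 1`
  have hF : ∀ (k : ↥K) (j : ℕ), κ k = cK ^ j → cK ^ j = 1 := by
    intro k j hkj
    obtain ⟨v', hv'K, i, hki, hv4⟩ := hdec k k.2
    have hk : k = (⟨v', hv'K⟩ : ↥K) * cK ^ i := by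
      apply Subtype.ext
      rw [Subgroup.coe_mul, Subgroup.coe_pow]
      exact hki
    have hv4' : (⟨v', hv'K⟩ : ↥K) ^ 4 = 1 := by
      apply Subtype.ext
      rw [Subgroup.coe_pow, Subgroup.coe_one]
      exact hv4
    have h4 : (cK ^ j) ^ 4 = 1 := by
      rw [← hkj, hk, map_mul, hκcpow, mul_one, ← map_pow, hv4', map_one]
    have hfix : τ (cK ^ j) = cK ^ j := by
      rw [hτ, h82_tau_eq K hab t (cK ^ j)]
      have := hκcpow j
      rw [hκ] at this
      rw [this, mul_one]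
    have h3 := h82_cube_of_fixed K hab t ht3 k (cK ^ j) hkj hfix
    calc cK ^ j = (cK ^ j) ^ 4 * (cK ^ j * cK ^ j * cK ^ j)⁻¹ := by group
      _ = 1 := by rw [h4, h3]; simp
  -- `κ` is injective on its range
  have hG : ∀ k : ↥K, κ (κ k) = 1 → κ k = 1 := by
    intro k hk
    obtain ⟨n, hn⟩ := hkerpow (κ k) hk
    rw [hn]
    exact hF k n hn
  -- the subgroup `V`
  refine ⟨κ.range.map K.subtype, ?_, ?_, ?_, ?_, ?_, ?_⟩
  · -- normal
    constructor
    intro v hv g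
    obtain ⟨k, hk⟩ := (hVmem v).1 hv
    have hkv : v = (k : G)⁻¹ * (t * k * t⁻¹) := by rw [← hk]; rfl
    have hk'K : g * (k : G) * g⁻¹ ∈ K := Subgroup.Normal.conj_mem inferInstance (k : G) k.2 g
    have e : g * v * g⁻¹ = (g * k * g⁻¹)⁻¹ * ((g * t * g⁻¹) * (g * k * g⁻¹) * (g * t * g⁻¹)⁻¹) := by
      rw [hkv]; group
    obtain ⟨k₀, hk₀, h | h⟩ := hconj g
    · have hconjK : t * (g * (k : G) * g⁻¹) * t⁻¹ ∈ K :=
        Subgroup.Normal.conj_mem inferInstance _ hk'K t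
      have e2 : (k₀ * t) * (g * k * g⁻¹) * (k₀ * t)⁻¹ = t * (g * (k : G) * g⁻¹) * t⁻¹ := by
        calc (k₀ * t) * (g * k * g⁻¹) * (k₀ * t)⁻¹
            = k₀ * (t * (g * (k : G) * g⁻¹) * t⁻¹) * k₀⁻¹ := by group
          _ = (t * (g * (k : G) * g⁻¹) * t⁻¹) * k₀ * k₀⁻¹ := by rw [hab k₀ hk₀ _ hconjK]
          _ = t * (g * (k : G) * g⁻¹) * t⁻¹ := by group
      rw [(hVmem _)]
      refine ⟨⟨g * k * g⁻¹, hk'K⟩, ?_⟩
      rw [e, h, e2]
      rfl
    · have hconjK : t⁻¹ * (g * (k : G) * g⁻¹) * t ∈ K := by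
        have := Subgroup.Normal.conj_mem (inferInstance : K.Normal) _ hk'K t⁻¹
        simpa using this
      have e2 : (k₀ * t⁻¹) * (g * k * g⁻¹) * (k₀ * t⁻¹)⁻¹ = t⁻¹ * (g * (k : G) * g⁻¹) * t := by
        calc (k₀ * t⁻¹) * (g * k * g⁻¹) * (k₀ * t⁻¹)⁻¹
            = k₀ * (t⁻¹ * (g * (k : G) * g⁻¹) * t) * k₀⁻¹ := by group
          _ = (t⁻¹ * (g * (k : G) * g⁻¹) * t) * k₀ * k₀⁻¹ := by rw [hab k₀ hk₀ _ hconjK]
          _ = t⁻¹ * (g * (k : G) * g⁻¹) * t := by group
      have hmem : ((κ ⟨t⁻¹ * (g * (k : G) * g⁻¹) * t, hconjK⟩ : ↥K) : G) ∈ κ.range.map K.subtype :=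
        (hVmem _).2 ⟨_, rfl⟩
      have hinv := Subgroup.inv_mem _ hmem
      have e3 : g * v * g⁻¹ = ((κ ⟨t⁻¹ * (g * (k : G) * g⁻¹) * t, hconjK⟩ : ↥K) : G)⁻¹ := by
        rw [e, h, e2]
        show _ = ((⟨t⁻¹ * (g * (k : G) * g⁻¹) * t, hconjK⟩ : ↥K)⁻¹ *
          h82_tau K t ⟨t⁻¹ * (g * (k : G) * g⁻¹) * t, hconjK⟩ : ↥K).1⁻¹
        simp only [Subgroup.coe_mul, Subgroup.coe_inv, h82_tau_coe]
        group
      rw [e3]
      exact hinv
  · exact Subgroup.map_subtype_le _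
  · rw [Subgroup.card_subtype, hR4]
  · intro v hv j hvj
    obtain ⟨k, hk⟩ := (hVmem v).1 hv
    have hkj : κ k = cK ^ j := by
      apply Subtype.ext
      rw [Subgroup.coe_pow, hk, hvj]
    have := hF k j hkj
    have h1 : ((cK ^ j : ↥K) : G) = ((1 : ↥K) : G) := congrArg (fun x : ↥K => (x : G)) this
    rw [Subgroup.coe_pow, Subgroup.coe_one] at h1
    rw [hvj]
    exact h1
  · intro v hv htv
    obtain ⟨k, hk⟩ := (hVmem v).1 hv
    have h1 : κ (κ k) = 1 := by
      rw [hκ, h82_kappa_eq_one_iff, ← hκ, hk]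
      exact htv
    have := hG k h1
    rw [← hk, this]
    rfl
  · intro k hk
    let g : κ.range → κ.range := fun x => ⟨κ x, ⟨x, rfl⟩⟩
    have hginj : Function.Injective g := by
      rintro ⟨x, a, rfl⟩ ⟨y, b, rfl⟩ hxy
      have hxy' : κ (κ a) = κ (κ b) := congrArg Subtype.val hxy
      have h1 : κ (κ (a * b⁻¹)) = 1 := by
        rw [map_mul, map_mul, map_inv, map_inv, hxy', mul_inv_cancel]
      have h2 := hG _ h1
      rw [map_mul, map_inv, mul_inv_eq_one] at h2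
      exact Subtype.ext h2
    have hgsurj : Function.Surjective g := Finite.injective_iff_surjective.1 hginj
    obtain ⟨⟨x, hx⟩, hgx⟩ := hgsurj ⟨κ ⟨k, hk⟩, ⟨_, rfl⟩⟩
    have hgx' : κ x = κ ⟨k, hk⟩ := congrArg Subtype.val hgx
    have h1 : κ (x⁻¹ * ⟨k, hk⟩) = 1 := by
      rw [map_mul, map_inv, hgx', inv_mul_cancel]
    obtain ⟨n, hn⟩ := hkerpow _ h1
    refine ⟨(x : G), ?_, n, ?_⟩
    · obtain ⟨a, ha⟩ := hx
      exact (hVmem _).2 ⟨a, by rw [ha]⟩
    · have h2 : (⟨k, hk⟩ : ↥K) = x * cK ^ n := by rw [← hn]; group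
      have h3 := congrArg (fun y : ↥K => (y : G)) h2
      simpa using h3

end

end Cfsg.Agent.Helper82.GS4
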