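import Mathlib

set_option autoImplicit false

namespace Cfsg.Agent.Helper82

open Polynomial

/-- A sum of `t` roots of unity of `p`-power order can vanish only if `p ∣ t`. -/
theorem sum_prime_pow_roots_ne_zero {ι : Type*} (s : Finset ι) (ε : ι → ℂ) (p a : ℕ)
    (hp : p.Prime) (h : ∀ i ∈ s, ε i ^ (p ^ a) = 1) (hs : ¬ p ∣ s.card) :
    ∑ i ∈ s, ε i ≠ 0 := by
  classical
  rcases Nat.eq_zero_or_pos a with ha | ha
  · subst ha
    have h1 : ∀ i ∈ s, ε i = 1 := fun i hi => by simpa using h i hi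
    rw [Finset.sum_congr rfl h1]
    simp only [Finset.sum_const, nsmul_eq_mul, mul_one]
    intro h0
    have : s.card = 0 := by exact_mod_cast h0
    exact hs (this ▸ dvd_zero p)
  have hn : 0 < p ^ a := pow_pos hp.pos a
  have hne : p ^ a ≠ 0 := hn.ne'
  set ζ : ℂ := Complex.exp (2 * Real.pi * Complex.I / ((p ^ a : ℕ) : ℂ)) with hζdef
  have hζ : IsPrimitiveRoot ζ (p ^ a) := Complex.isPrimitiveRoot_exp _ hne
  have hex : ∀ i ∈ s, ∃ k : ℕ, k < p ^ a ∧ ζ ^ k = ε i := by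
    intro i hi
    have : NeZero (p ^ a) := ⟨hne⟩
    exact hζ.eq_pow_of_pow_eq_one (h i hi)
  choose! k hk1 hk2 using hex
  intro hsum
  set f : ℤ[X] := ∑ i ∈ s, (X : ℤ[X]) ^ k i with hf
  have hfζ : aeval ζ f = 0 := by
    rw [hf, map_sum]
    simp only [map_pow, aeval_X]
    rw [Finset.sum_congr rfl (fun i hi => hk2 i hi)]
    exact hsum
  have hint : IsIntegral ℤ ζ := hζ.isIntegral hn
  have hdvd : cyclotomic (p ^ a) ℤ ∣ f := by
    rw [cyclotomic_eq_minpoly hζ hn]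
    exact minpoly.isIntegrallyClosed_dvd hint hfζ
  obtain ⟨g, hg⟩ := hdvd
  have heval : eval 1 f = (p : ℤ) * eval 1 g := by
    rw [hg, eval_mul]
    congr 1
    obtain ⟨b, rfl⟩ : ∃ b, a = b + 1 := ⟨a - 1, by omega⟩
    have : Fact p.Prime := ⟨hp⟩
    exact eval_one_cyclotomic_prime_pow (R := ℤ) b
  have hcard : eval 1 f = (s.card : ℤ) := by
    rw [hf, eval_finsetSum]
    simp
  rw [hcard] at heval
  apply hs
  have : (p : ℤ) ∣ (s.card : ℤ) := ⟨_, heval⟩
  exact_mod_cast this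

end Cfsg.Agent.Helper82
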