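import Mathlib
import Cfsg.Agent.Lib.Helper81.CharClifford
import Cfsg.Agent.Lib.Helper15.LinearChar
import Cfsg.Agent.Lib.Helper82.RootSums
import Cfsg.Agent.S0187

set_option autoImplicit false
set_option linter.style.haveILetI false
set_option warn.classDefReducibility false

namespace Cfsg.Agent.Helper82

open Cfsg Cfsg.Agent.Helper81

universe u

/-- The (left) action of `X` on functions on a normal subgroup, `g • ψ = ψ ∘ conj g⁻¹`. -/
def conjFunAction {X : Type u} [Group X] (V : Subgroup X) (hN : V.Normal) :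
    MulAction X (V → ℂ) where
  smul g ψ := conjFun V hN ψ g⁻¹
  one_smul ψ := by
    show conjFun V hN ψ 1⁻¹ = ψ
    rw [inv_one, conjFun_one]
  mul_smul g h ψ := by
    show conjFun V hN ψ (g * h)⁻¹ = conjFun V hN (conjFun V hN ψ h⁻¹) g⁻¹
    rw [conjFun_mul, mul_inv_rev]

theorem conjSet_ncard_dvd {X : Type u} [Group X] [Fintype X] (V : Subgroup X) (hN : V.Normal)
    (hab : ∀ a ∈ V, ∀ b ∈ V, a * b = b * a) (θ : V → ℂ) :
    (conjSet V hN θ).ncard ∣ V.index := by
  letI := conjFunAction V hN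
  have hsmul : ∀ (g : X) (ψ : V → ℂ), g • ψ = conjFun V hN ψ g⁻¹ := fun _ _ => rfl
  have h1 : conjSet V hN θ = MulAction.orbit X θ := by
    ext ψ
    simp only [conjSet, Set.mem_ofPred_eq, MulAction.mem_orbit_iff]
    constructor
    · rintro ⟨g, rfl⟩
      exact ⟨g⁻¹, by rw [hsmul, inv_inv]⟩
    · rintro ⟨g, rfl⟩
      exact ⟨g⁻¹, hsmul g θ⟩
  rw [h1, ← MulAction.index_stabilizer]
  apply Subgroup.index_dvd_of_le
  intro g hg
  rw [MulAction.mem_stabilizer_iff, hsmul]
  ext n
  rw [conjFun_apply]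
  congr 1
  apply Subtype.ext
  show g⁻¹ * n * g⁻¹⁻¹ = n
  have := hab g⁻¹ (V.inv_mem hg) n n.2
  rw [this]; group

/-- An irreducible character does not vanish on a normal abelian Hall `p`-subgroup. -/
theorem irr_ne_zero_of_mem_normal_abelian_hall {X : Type u} [Group X] [Fintype X] (p : ℕ)
    (hp : p.Prime) (V : Subgroup X) (hN : V.Normal) (hVp : IsPGroup p V) (hidx : ¬ p ∣ V.index)
    (hab : ∀ a ∈ V, ∀ b ∈ V, a * b = b * a) {χ : X → ℂ} (hχ : IsIrrCharacter X χ)
    (u : X) (hu : u ∈ V) : χ u ≠ 0 := by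
  classical
  haveI : Fintype V := Fintype.ofFinite V
  haveI : Fintype (IrrCharacter V) := @Fintype.ofFinite _ irr_finite
  have hres : IsCharacter V (fun n : V => χ n) :=
    isCharacter_restrict V (IsIrrCharacter.isCharacter hχ)
  obtain ⟨m, hm⟩ := exists_nat_decomp hres
  have h1 : χ 1 ≠ 0 := by
    obtain ⟨n, ρ, hirr, rfl⟩ := hχ
    haveI := hirr
    rw [Representation.char_one]
    haveI := nontrivial_of_isIrreducible ρ
    have : 0 < Module.finrank ℂ (Fin n → ℂ) := Module.finrank_pos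
    exact_mod_cast this.ne'
  -- a constituent
  obtain ⟨θ, hθ⟩ : ∃ θ : IrrCharacter V, m θ ≠ 0 := by
    by_contra hcon
    push Not at hcon
    apply h1
    have := congrFun hm 1
    simp only [hcon, Nat.cast_zero, zero_smul, Finset.sum_const_zero, Pi.zero_apply] at this
    exact this
  have hinner : classInner (fun n : V => χ n) (θ : V → ℂ) = (m θ : ℂ) := by
    rw [hm]
    exact classInner_nat_decomp (fun χ' => (m χ' : ℂ)) θ
  have hne : classInner (fun n : V => χ n) (θ : V → ℂ) ≠ 0 := by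
    rw [hinner]; exact_mod_cast hθ
  have hcl := clifford V hN hχ θ.2 hne
  have hS := conjSet_finite V hN (θ : V → ℂ)
  rw [finsum_mem_eq_finite_toFinset_sum _ hS] at hcl
  have hval := congrFun hcl ⟨u, hu⟩
  simp only [Pi.smul_apply, Finset.sum_apply, smul_eq_mul] at hval
  rw [hval]
  apply mul_ne_zero hne
  haveI : Fact p.Prime := ⟨hp⟩
  obtain ⟨a, ha⟩ := hVp.exists_card_eq
  apply sum_prime_pow_roots_ne_zero _ _ p a hp
  · intro ψ hψ
    rw [Set.Finite.mem_toFinset] at hψ
    obtain ⟨g, rfl⟩ := hψ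
    have hirr : IsIrrCharacter V (conjFun V hN (θ : V → ℂ) g) :=
      conjFun_isIrrCharacter V hN θ.2 g
    have hcommV : ∀ a b : V, a * b = b * a := fun a b =>
      Subtype.ext (hab a a.2 b b.2)
    have hone : conjFun V hN (θ : V → ℂ) g 1 = 1 :=
      (Cfsg.Agent.S0187.result.mp hcommV) ⟨_, hirr⟩
    have hlin : IsCharacter V (conjFun V hN (θ : V → ℂ) g) ∧
        conjFun V hN (θ : V → ℂ) g 1 = 1 := ⟨IsIrrCharacter.isCharacter hirr, hone⟩
    have hpow := map_pow (Cfsg.Agent.Helper15.linearCharHom _ hlin) (⟨u, hu⟩ : V) (p ^ a)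
    have hu1 : (⟨u, hu⟩ : V) ^ (p ^ a) = 1 := by
      rw [← ha]; exact pow_card_eq_one'
    rw [hu1, map_one] at hpow
    exact hpow.symm
  · intro hdvd
    apply hidx
    have h2 := conjSet_ncard_dvd V hN hab (θ : V → ℂ)
    rw [Set.ncard_eq_toFinset_card _ hS] at h2
    exact hdvd.trans h2

end Cfsg.Agent.Helper82
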