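import Mathlib
import Cfsg.Agent.Lib.Helper7.M11UDefs

/-!
# M11UG2 sub-server (helper1) for helper7's M11U (G2), S0420: piece (b2)

A subgroup `S ≤ C(t)` of order 16 is transitive on the Sylow 3-subgroups normalised but not inverted
by `t`.
-/

set_option autoImplicit false
set_option linter.unusedSectionVars false
set_option linter.unusedVariables false

namespace Cfsg.Agent.Helper82.M11U

open Subgroup Cfsg.Agent.Helper7.M11U
open scoped Pointwise

variable {G : Type*} [Group G] [Finite G] {t : G} {R R2 R3 : Sylow 3 G}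

/-- an inverted subgroup is normalised -/
theorem g2b2_normalizer_of_inverts (ht : orderOf t = 2) (H : Subgroup G) (hI : Inverts t H) :
    t ∈ normalizer ((H : Subgroup G) : Set G) := by
  have ht2 : t * t = 1 := by rw [← pow_two, ← ht, pow_orderOf_eq_one]
  have htinv : t⁻¹ = t := inv_eq_of_mul_eq_one_right ht2
  rw [mem_normalizer_iff]
  intro h
  constructor
  · intro hh
    rw [hI h hh]
    exact inv_mem hh
  · intro hh
    have h1 := hI _ hh
    have h2 : t * (t * h * t⁻¹) * t⁻¹ = h := by
      rw [htinv]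
      calc t * (t * h * t) * t = (t * t) * h * (t * t) := by simp only [mul_assoc]
        _ = h := by rw [ht2, one_mul, mul_one]
    rw [h2] at h1
    rw [h1]
    exact inv_mem hh

/-- the set `𝓔` of Sylow 3-subgroups normalised but not inverted by `t` -/
def g2b2Set (t : G) : Set (Sylow 3 G) :=
  {E | t ∈ normalizer ((E : Subgroup G) : Set G) ∧ ¬ Inverts t (E : Subgroup G)}

theorem g2b2_ncard (L : Loc G) (ht : orderOf t = 2) : (g2b2Set t).ncard = 4 := by
  have h7 : ({E : Sylow 3 G | t ∈ normalizer ((E : Subgroup G) : Set G)}).ncard = 7 := L.seven t ht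
  have h3 : ({E : Sylow 3 G | Inverts t (E : Subgroup G)}).ncard = 3 := L.three t ht
  have hsub : {E : Sylow 3 G | Inverts t (E : Subgroup G)} ⊆
      {E : Sylow 3 G | t ∈ normalizer ((E : Subgroup G) : Set G)} :=
    fun E hE => g2b2_normalizer_of_inverts ht _ hE
  have heq : g2b2Set t = {E : Sylow 3 G | t ∈ normalizer ((E : Subgroup G) : Set G)} \
      {E : Sylow 3 G | Inverts t (E : Subgroup G)} := rfl
  rw [heq, Set.ncard_sdiff hsub (Set.toFinite _), h7, h3]

/-- `C(t)` preserves `𝓔` -/
theorem g2b2_smul_mem {c : G} (hc : c * t = t * c) {E : Sylow 3 G} (hE : E ∈ g2b2Set t) :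
    c • E ∈ g2b2Set t := by
  have : Fact (Nat.Prime 3) := ⟨by norm_num⟩
  obtain ⟨hN, hI⟩ := hE
  refine ⟨?_, ?_⟩
  · have hN' : t • E = E := Sylow.smul_eq_iff_mem_normalizer.mpr hN
    have h2 : t • (c • E) = c • E := by
      rw [← mul_smul, ← hc, mul_smul, hN']
    exact Sylow.smul_eq_iff_mem_normalizer.mp h2
  · intro hinv
    apply hI
    intro x hx
    have hx' : c * x * c⁻¹ ∈ ((c • E : Sylow 3 G) : Subgroup G) := by
      rw [Sylow.coe_subgroup_smul]
      have := Subgroup.smul_mem_pointwise_smul _ (MulAut.conj c) _ hx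
      simpa [MulAut.smul_def] using this
    have h1 := hinv _ hx'
    have hc' : c⁻¹ * t = t * c⁻¹ := by
      have : t = c⁻¹ * (c * t) := by group
      calc c⁻¹ * t = c⁻¹ * t * (c * c⁻¹) := by group
        _ = c⁻¹ * (t * c) * c⁻¹ := by group
        _ = c⁻¹ * (c * t) * c⁻¹ := by rw [hc]
        _ = t * c⁻¹ := by group
    calc t * x * t⁻¹ = c⁻¹ * (c * t) * x * t⁻¹ := by group
      _ = c⁻¹ * (t * c) * x * t⁻¹ * (c⁻¹ * c) := by rw [hc]; group
      _ = c⁻¹ * (t * (c * x * c⁻¹) * (c * t⁻¹ * c⁻¹)) * c := by group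
      _ = c⁻¹ * (t * (c * x * c⁻¹) * t⁻¹) * c := by
          have : c * t⁻¹ * c⁻¹ = t⁻¹ := by
            have h2 : c * t * c⁻¹ = t := by rw [hc]; group
            calc c * t⁻¹ * c⁻¹ = (c * t * c⁻¹)⁻¹ := by group
              _ = t⁻¹ := by rw [h2]
          rw [this]
      _ = c⁻¹ * (c * x * c⁻¹)⁻¹ * c := by rw [h1]
      _ = x⁻¹ := by group

/-- (G2b2) a subgroup `S ≤ C(t)` of order 16 is transitive on them as well. -/
theorem g2b2 (B : Base G) (L : Loc G) (ht : orderOf t = 2)
    (htr : ∀ E E' : Sylow 3 G, t ∈ normalizer ((E : Subgroup G) : Set G) → ¬ Inverts t (E : Subgroup G) →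
      t ∈ normalizer ((E' : Subgroup G) : Set G) → ¬ Inverts t (E' : Subgroup G) →
      ∃ c : G, c * t = t * c ∧ c • E = E')
    (S : Subgroup G) (hSt : ∀ s ∈ S, s * t = t * s) (hS : Nat.card S = 16) :
    ∀ E E' : Sylow 3 G, t ∈ normalizer ((E : Subgroup G) : Set G) → ¬ Inverts t (E : Subgroup G) →
      t ∈ normalizer ((E' : Subgroup G) : Set G) → ¬ Inverts t (E' : Subgroup G) →
      ∃ s ∈ S, s • E = E' := by
  intro E E' hN hI hN' hI'
  have hE : E ∈ g2b2Set t := ⟨hN, hI⟩
  have hE' : E' ∈ g2b2Set t := ⟨hN', hI'⟩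
  have h4 := g2b2_ncard L ht
  -- membership in the centraliser
  have hmemC : ∀ c : G, c ∈ centralizer ({t} : Set G) ↔ c * t = t * c := by
    intro c
    rw [mem_centralizer_iff]
    constructor
    · intro h; exact (h t rfl).symm
    · intro h x hx
      rw [Set.mem_singleton_iff.mp hx]; exact h.symm
  -- the orbit of `E` under `C(t)` is `𝓔`
  have horbC : MulAction.orbit (centralizer ({t} : Set G)) E = g2b2Set t := by
    ext X
    rw [MulAction.mem_orbit_iff]
    constructor
    · rintro ⟨c, rfl⟩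
      exact g2b2_smul_mem ((hmemC c.1).mp c.2) hE
    · intro hX
      obtain ⟨c, hc, hcE⟩ := htr E X hN hI hX.1 hX.2
      exact ⟨⟨c, (hmemC c).mpr hc⟩, hcE⟩
  -- the orbit of `E` under `S` is inside `𝓔`
  have horbS : MulAction.orbit S E ⊆ g2b2Set t := by
    intro X hX
    rw [MulAction.mem_orbit_iff] at hX
    obtain ⟨s, rfl⟩ := hX
    exact g2b2_smul_mem (hSt s.1 s.2) hE
  -- stabiliser of `E` in `C(t)` has order 12
  have hiC := MulAction.index_stabilizer (centralizer ({t} : Set G)) E
  rw [horbC, h4] at hiC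
  have hcC := Subgroup.card_mul_index (MulAction.stabilizer (centralizer ({t} : Set G)) E)
  rw [hiC, B.h48 t ht] at hcC
  -- stabiliser of `E` in `S`
  have hiS := MulAction.index_stabilizer S E
  have hcS := Subgroup.card_mul_index (MulAction.stabilizer S E)
  rw [hS] at hcS
  have hle : (MulAction.orbit S E).ncard ≤ 4 := by
    rw [← h4]
    exact Set.ncard_le_ncard horbS (Set.toFinite _)
  -- embedding of stabilisers
  have hdvd : Nat.card (MulAction.stabilizer S E) ∣
      Nat.card (MulAction.stabilizer (centralizer ({t} : Set G)) E) := by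
    let f : MulAction.stabilizer S E →* MulAction.stabilizer (centralizer ({t} : Set G)) E :=
      { toFun := fun x => ⟨⟨x.1.1, (hmemC x.1.1).mpr (hSt x.1.1 x.1.2)⟩, by
          have := x.2
          rw [MulAction.mem_stabilizer_iff] at this ⊢
          exact this⟩
        map_one' := rfl
        map_mul' := fun _ _ => rfl }
    refine Subgroup.card_dvd_of_injective f ?_
    intro x y hxy
    have h1 : (f x).1.1 = (f y).1.1 := by rw [hxy]
    exact Subtype.ext (Subtype.ext h1)
  -- arithmetic
  have h12 : Nat.card (MulAction.stabilizer (centralizer ({t} : Set G)) E) = 12 := by omega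
  rw [h12] at hdvd
  have hge : 4 ≤ (MulAction.orbit S E).ncard := by
    rw [← hiS]
    have ha : Nat.card (MulAction.stabilizer S E) ≤ 12 := Nat.le_of_dvd (by norm_num) hdvd
    have hi : (MulAction.stabilizer S E).index ≤ 16 := by
      have hpos : 0 < Nat.card (MulAction.stabilizer S E) := Nat.card_pos
      nlinarith
    generalize Nat.card (MulAction.stabilizer S E) = a at *
    generalize (MulAction.stabilizer S E).index = i at *
    interval_cases a <;> omega
  have horbEq : MulAction.orbit S E = g2b2Set t :=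
    Set.eq_of_subset_of_ncard_le horbS (by rw [h4]; exact hge) (Set.toFinite _)
  rw [← horbEq, MulAction.mem_orbit_iff] at hE'
  obtain ⟨s, hs⟩ := hE'
  exact ⟨s.1, s.2, hs⟩

end Cfsg.Agent.Helper82.M11U
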