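import Mathlib
import Cfsg.Agent.Lib.Helper17.Simple
import Cfsg.Agent.Lib.Helper17.PrimeSylow
import Cfsg.Agent.Lib.Helper17.Counting
import Cfsg.Agent.Lib.Helper17.SylowCount

/-!
# O2520 server (helper55, S0984): the last step of (S3C), the element count `2624 > 2520`

`720` elements of order `7`, `504` of order `5`, three classes of elements of order `3` of sizes at
least `140, 140, 70`, and over each of them three times as many elements of order `6`.
-/

set_option autoImplicit false

namespace Cfsg.Agent.Helper82.O2520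

open Cfsg.Agent.Helper17

universe u

variable {G : Type u} [Group G]

/-- three pairwise disjoint subsets of a finite set -/
theorem h82_three_le {α : Type*} [DecidableEq α] (A B C D : Finset α) (hA : A ⊆ D) (hB : B ⊆ D)
    (hC : C ⊆ D) (hAB : Disjoint A B) (hAC : Disjoint A C) (hBC : Disjoint B C) :
    A.card + B.card + C.card ≤ D.card := by
  have h1 : (A ∪ B ∪ C).card = A.card + B.card + C.card := by
    rw [Finset.card_union_of_disjoint (Finset.disjoint_union_left.2 ⟨hAC, hBC⟩),
      Finset.card_union_of_disjoint hAB]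
  rw [← h1]
  exact Finset.card_le_card (Finset.union_subset (Finset.union_subset hA hB) hC)

/-- three pairwise exclusive predicates, each implying `q` -/
theorem h82_three_pred_le {α : Type*} [Finite α] (p1 p2 p3 q : α → Prop)
    (h1 : ∀ a, p1 a → q a) (h2 : ∀ a, p2 a → q a) (h3 : ∀ a, p3 a → q a)
    (h12 : ∀ a, p1 a → p2 a → False) (h13 : ∀ a, p1 a → p3 a → False)
    (h23 : ∀ a, p2 a → p3 a → False) :
    Nat.card {a // p1 a} + Nat.card {a // p2 a} + Nat.card {a // p3 a} ≤ Nat.card {a // q a} := by
  classical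
  have := Fintype.ofFinite α
  simp only [Nat.card_eq_fintype_card, Fintype.card_subtype]
  apply h82_three_le
  · intro a ha
    simp only [Finset.mem_filter, Finset.mem_univ, true_and] at ha ⊢
    exact h1 a ha
  · intro a ha
    simp only [Finset.mem_filter, Finset.mem_univ, true_and] at ha ⊢
    exact h2 a ha
  · intro a ha
    simp only [Finset.mem_filter, Finset.mem_univ, true_and] at ha ⊢
    exact h3 a ha
  · rw [Finset.disjoint_left]
    intro a ha hb
    simp only [Finset.mem_filter, Finset.mem_univ, true_and] at ha hb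
    exact h12 a ha hb
  · rw [Finset.disjoint_left]
    intro a ha hb
    simp only [Finset.mem_filter, Finset.mem_univ, true_and] at ha hb
    exact h13 a ha hb
  · rw [Finset.disjoint_left]
    intro a ha hb
    simp only [Finset.mem_filter, Finset.mem_univ, true_and] at ha hb
    exact h23 a ha hb

/-- the product of a commuting involution and an element of order `3` -/
theorem h82_order_six {j z : G} (hj : orderOf j = 2) (hz : orderOf z = 3) (hc : j * z = z * j) :
    orderOf (j * z) = 6 ∧ (j * z) ^ 4 = z ∧ (j * z) ^ 3 = j := by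
  have hcomm : Commute j z := hc
  have hj2 : j ^ 2 = 1 := by rw [← hj]; exact pow_orderOf_eq_one j
  have hz3 : z ^ 3 = 1 := by rw [← hz]; exact pow_orderOf_eq_one z
  refine ⟨?_, ?_, ?_⟩
  · rw [hcomm.orderOf_mul_eq_mul_orderOf_of_coprime (by rw [hj, hz]; norm_num), hj, hz]
  · rw [hcomm.mul_pow]
    have : j ^ 4 = 1 := by
      have : j ^ 4 = (j ^ 2) ^ 2 := by rw [← pow_mul]
      rw [this, hj2, one_pow]
    rw [this, one_mul, pow_succ, hz3, one_mul]
  · rw [hcomm.mul_pow, hz3, mul_one, pow_succ, hj2, one_mul]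

/-- over a class of elements of order `3` with at least three commuting involutions each, there are
three times as many elements of order `6` -/
theorem h82_order6_lower [Finite G] (x : G) (hx : orderOf x = 3)
    (hi : 3 ≤ Nat.card {j : G // orderOf j = 2 ∧ j * x = x * j}) :
    3 * Nat.card {z : G // IsConj x z} ≤
      Nat.card {g : G // orderOf g = 6 ∧ IsConj x (g ^ 4)} := by
  classical
  have hfinJ : Finite {j : G // orderOf j = 2 ∧ j * x = x * j} := inferInstance
  have := Fintype.ofFinite {j : G // orderOf j = 2 ∧ j * x = x * j}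
  obtain ⟨e⟩ : Nonempty (Fin 3 ↪ {j : G // orderOf j = 2 ∧ j * x = x * j}) := by
    apply Function.Embedding.nonempty_of_card_le
    rw [Fintype.card_fin, ← Nat.card_eq_fintype_card]
    exact hi
  -- conjugators
  have hex : ∀ z : {z : G // IsConj x z}, ∃ c : G, c * x * c⁻¹ = z.1 := fun z => isConj_iff.1 z.2
  choose cz hcz using hex
  -- the conjugated involutions
  have key : ∀ (z : {z : G // IsConj x z}) (t : Fin 3),
      orderOf (cz z * (e t).1 * (cz z)⁻¹) = 2 ∧
        (cz z * (e t).1 * (cz z)⁻¹) * z.1 = z.1 * (cz z * (e t).1 * (cz z)⁻¹) := by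
    intro z t
    refine ⟨?_, ?_⟩
    · have : orderOf (cz z * (e t).1 * (cz z)⁻¹) = orderOf (e t).1 :=
        orderOf_injective (MulAut.conj (cz z)).toMonoidHom (MulAut.conj (cz z)).injective _
      rw [this]
      exact (e t).2.1
    · rw [← hcz z]
      have h := (e t).2.2
      calc cz z * (e t).1 * (cz z)⁻¹ * (cz z * x * (cz z)⁻¹)
          = cz z * ((e t).1 * x) * (cz z)⁻¹ := by group
        _ = cz z * (x * (e t).1) * (cz z)⁻¹ := by rw [h]
        _ = cz z * x * (cz z)⁻¹ * (cz z * (e t).1 * (cz z)⁻¹) := by group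
  have hz3 : ∀ z : {z : G // IsConj x z}, orderOf z.1 = 3 := by
    intro z
    rw [← hcz z]
    have : orderOf (cz z * x * (cz z)⁻¹) = orderOf x :=
      orderOf_injective (MulAut.conj (cz z)).toMonoidHom (MulAut.conj (cz z)).injective _
    rw [this, hx]
  let F : {z : G // IsConj x z} × Fin 3 → {g : G // orderOf g = 6 ∧ IsConj x (g ^ 4)} :=
    fun zt => ⟨(cz zt.1 * (e zt.2).1 * (cz zt.1)⁻¹) * zt.1.1, by
      obtain ⟨h6, h4, -⟩ := h82_order_six (key zt.1 zt.2).1 (hz3 zt.1) (key zt.1 zt.2).2
      refine ⟨h6, ?_⟩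
      rw [h4]
      exact zt.1.2⟩
  have hF : Function.Injective F := by
    rintro ⟨z, t⟩ ⟨z', t'⟩ h
    have hval : (cz z * (e t).1 * (cz z)⁻¹) * z.1 = (cz z' * (e t').1 * (cz z')⁻¹) * z'.1 :=
      congrArg Subtype.val h
    obtain ⟨-, h4, h3⟩ := h82_order_six (key z t).1 (hz3 z) (key z t).2
    obtain ⟨-, h4', h3'⟩ := h82_order_six (key z' t').1 (hz3 z') (key z' t').2
    have hzz : z.1 = z'.1 := by rw [← h4, ← h4', hval]
    have hzz' : z = z' := Subtype.ext hzz
    subst hzz'
    have hjj : cz z * (e t).1 * (cz z)⁻¹ = cz z * (e t').1 * (cz z)⁻¹ := by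
      rw [← h3, ← h3', hval]
    have hee : (e t).1 = (e t').1 := by
      have := congrArg (fun y => (cz z)⁻¹ * y * cz z) hjj
      simpa [mul_assoc] using this
    have : t = t' := e.injective (Subtype.ext hee)
    rw [this]
  have hcard := Nat.card_le_card_of_injective F hF
  rw [Nat.card_prod, Nat.card_eq_fintype_card (α := Fin 3), Fintype.card_fin] at hcard
  omega

/-- a class is large when the centralizer is small -/
theorem h82_class_ge [Finite G] (x : G) (n c : ℕ) (hG : Nat.card G = n * c)
    (hc : Nat.card (Subgroup.centralizer ({x} : Set G)) ≤ c) (hc0 : 0 < c) :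
    n ≤ Nat.card {z : G // IsConj x z} := by
  have h := SylowCount.card_conj_mul_card_centralizer x
  rw [hG] at h
  by_contra hlt'
  have hlt := Nat.lt_of_not_le hlt'
  have h1 : Nat.card {z : G // IsConj x z} * Nat.card (Subgroup.centralizer ({x} : Set G)) ≤
      Nat.card {z : G // IsConj x z} * c := Nat.mul_le_mul_left _ hc
  have h2 : Nat.card {z : G // IsConj x z} * c < n * c := Nat.mul_lt_mul_of_pos_right hlt hc0
  omega

/-- (S3C-COUNT) the element count `2624 > 2520` -/
theorem count_kill [Finite G] (hG : Nat.card G = 2520)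
    (h7 : Nat.card (Sylow 7 G) = 120) (h5 : Nat.card (Sylow 5 G) = 126)
    (x1 x2 x3 : G) (h1 : orderOf x1 = 3) (h2 : orderOf x2 = 3) (h3 : orderOf x3 = 3)
    (h12 : ¬ IsConj x1 x2) (h13 : ¬ IsConj x1 x3) (h23 : ¬ IsConj x2 x3)
    (c1 : Nat.card (Subgroup.centralizer ({x1} : Set G)) ≤ 18)
    (c2 : Nat.card (Subgroup.centralizer ({x2} : Set G)) ≤ 18)
    (c3 : Nat.card (Subgroup.centralizer ({x3} : Set G)) ≤ 36)
    (i1 : 3 ≤ Nat.card {j : G // orderOf j = 2 ∧ j * x1 = x1 * j})
    (i2 : 3 ≤ Nat.card {j : G // orderOf j = 2 ∧ j * x2 = x2 * j})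
    (i3 : 3 ≤ Nat.card {j : G // orderOf j = 2 ∧ j * x3 = x3 * j}) : False := by
  have f7 : Fact (Nat.Prime 7) := ⟨by norm_num⟩
  have f5 : Fact (Nat.Prime 5) := ⟨by norm_num⟩
  -- elements of order 7 and 5
  have n7 : Nat.card {g : G // orderOf g = 7} = 720 := by
    rw [card_orderOf_eq_prime (p := 7) (fun P => by
      have := sylow_card_eq P (k := 1) (m := 360) (by rw [hG]; norm_num) (by norm_num)
      simpa using this), h7]
  have n5 : Nat.card {g : G // orderOf g = 5} = 504 := by
    rw [card_orderOf_eq_prime (p := 5) (fun P => by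
      have := sylow_card_eq P (k := 1) (m := 504) (by rw [hG]; norm_num) (by norm_num)
      simpa using this), h5]
  -- the classes
  have b1 := h82_class_ge x1 140 18 (by rw [hG]) c1 (by norm_num)
  have b2 := h82_class_ge x2 140 18 (by rw [hG]) c2 (by norm_num)
  have b3 := h82_class_ge x3 70 36 (by rw [hG]) c3 (by norm_num)
  have ord3 : ∀ x : G, orderOf x = 3 → ∀ z, IsConj x z → orderOf z = 3 := by
    intro x hx z hz
    obtain ⟨c, rfl⟩ := isConj_iff.1 hz
    have : orderOf (c * x * c⁻¹) = orderOf x :=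
      orderOf_injective (MulAut.conj c).toMonoidHom (MulAut.conj c).injective _
    rw [this, hx]
  have n3 := h82_three_pred_le (α := G) (fun z => IsConj x1 z) (fun z => IsConj x2 z)
    (fun z => IsConj x3 z) (fun z => orderOf z = 3) (ord3 x1 h1) (ord3 x2 h2) (ord3 x3 h3)
    (fun a ha hb => h12 (ha.trans hb.symm)) (fun a ha hb => h13 (ha.trans hb.symm))
    (fun a ha hb => h23 (ha.trans hb.symm))
  -- the elements of order 6
  have s1 := h82_order6_lower x1 h1 i1
  have s2 := h82_order6_lower x2 h2 i2
  have s3 := h82_order6_lower x3 h3 i3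
  have n6 := h82_three_pred_le (α := G) (fun g => orderOf g = 6 ∧ IsConj x1 (g ^ 4))
    (fun g => orderOf g = 6 ∧ IsConj x2 (g ^ 4)) (fun g => orderOf g = 6 ∧ IsConj x3 (g ^ 4))
    (fun g => orderOf g = 6) (fun _ h => h.1) (fun _ h => h.1) (fun _ h => h.1)
    (fun a ha hb => h12 (ha.2.trans hb.2.symm)) (fun a ha hb => h13 (ha.2.trans hb.2.symm))
    (fun a ha hb => h23 (ha.2.trans hb.2.symm))
  -- total
  have htot := sum_card_orderOf_le (G := G) {7, 5, 3, 6}
  rw [Finset.sum_insert (by decide), Finset.sum_insert (by decide), Finset.sum_insert (by decide),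
    Finset.sum_singleton, hG, n7, n5] at htot
  omega

end Cfsg.Agent.Helper82.O2520
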