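import Mathlib
import Cfsg.Agent.Lib.Helper82.O2520Count

/-!
# O2520 server (helper55, S0984): the element count of (S3C) in the case `|C(y)| = 9`
-/

set_option autoImplicit false

namespace Cfsg.Agent.Helper82.O2520

open Cfsg.Agent.Helper17

universe u

variable {G : Type u} [Group G]

/-- (S3C-COUNT, the case `|C(x3)| = 9`) the element count `2624 > 2520` with classes of sizes at least
`140, 140, 280` and elements of order `6` over the first two only -/
theorem count_kill9 [Finite G] (hG : Nat.card G = 2520)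
    (h7 : Nat.card (Sylow 7 G) = 120) (h5 : Nat.card (Sylow 5 G) = 126)
    (x1 x2 x3 : G) (h1 : orderOf x1 = 3) (h2 : orderOf x2 = 3) (h3 : orderOf x3 = 3)
    (h12 : ¬ IsConj x1 x2) (h13 : ¬ IsConj x1 x3) (h23 : ¬ IsConj x2 x3)
    (c1 : Nat.card (Subgroup.centralizer ({x1} : Set G)) ≤ 18)
    (c2 : Nat.card (Subgroup.centralizer ({x2} : Set G)) ≤ 18)
    (c3 : Nat.card (Subgroup.centralizer ({x3} : Set G)) ≤ 9)
    (i1 : 3 ≤ Nat.card {j : G // orderOf j = 2 ∧ j * x1 = x1 * j})
    (i2 : 3 ≤ Nat.card {j : G // orderOf j = 2 ∧ j * x2 = x2 * j}) : False := by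
  have f7 : Fact (Nat.Prime 7) := ⟨by norm_num⟩
  have f5 : Fact (Nat.Prime 5) := ⟨by norm_num⟩
  have n7 : Nat.card {g : G // orderOf g = 7} = 720 := by
    rw [card_orderOf_eq_prime (p := 7) (fun P => by
      have := sylow_card_eq P (k := 1) (m := 360) (by rw [hG]; norm_num) (by norm_num)
      simpa using this), h7]
  have n5 : Nat.card {g : G // orderOf g = 5} = 504 := by
    rw [card_orderOf_eq_prime (p := 5) (fun P => by
      have := sylow_card_eq P (k := 1) (m := 504) (by rw [hG]; norm_num) (by norm_num)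
      simpa using this), h5]
  have b1 := h82_class_ge x1 140 18 (by rw [hG]) c1 (by norm_num)
  have b2 := h82_class_ge x2 140 18 (by rw [hG]) c2 (by norm_num)
  have b3 := h82_class_ge x3 280 9 (by rw [hG]) c3 (by norm_num)
  have ord3 : ∀ x : G, orderOf x = 3 → ∀ z, IsConj x z → orderOf z = 3 := by
    intro x hx z hz
    obtain ⟨c, rfl⟩ := isConj_iff.1 hz
    have : orderOf (c * x * c⁻¹) = orderOf x :=
      orderOf_injective (MulAut.conj c).toMonoidHom (MulAut.conj c).injective _
    rw [this, hx]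
  have n3 := h82_three_pred_le (α := G) (fun z => IsConj x1 z) (fun z => IsConj x2 z)
    (fun z => IsConj x3 z) (fun z => orderOf z = 3) (ord3 x1 h1) (ord3 x2 h2) (ord3 x3 h3)
    (fun a ha hb => h12 (ha.trans hb.symm)) (fun a ha hb => h13 (ha.trans hb.symm))
    (fun a ha hb => h23 (ha.trans hb.symm))
  have s1 := h82_order6_lower x1 h1 i1
  have s2 := h82_order6_lower x2 h2 i2
  have n6 := h82_three_pred_le (α := G) (fun g => orderOf g = 6 ∧ IsConj x1 (g ^ 4))
    (fun g => orderOf g = 6 ∧ IsConj x2 (g ^ 4)) (fun _ => False)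
    (fun g => orderOf g = 6) (fun _ h => h.1) (fun _ h => h.1) (fun _ h => h.elim)
    (fun a ha hb => h12 (ha.2.trans hb.2.symm)) (fun _ _ hb => hb) (fun _ _ hb => hb)
  have hF : Nat.card {a : G // False} = 0 := by
    rw [Nat.card_eq_zero]
    left
    exact ⟨fun a => a.2⟩
  rw [hF] at n6
  have htot := sum_card_orderOf_le (G := G) {7, 5, 3, 6}
  rw [Finset.sum_insert (by decide), Finset.sum_insert (by decide), Finset.sum_insert (by decide),
    Finset.sum_singleton, hG, n7, n5] at htot
  omega

end Cfsg.Agent.Helper82.O2520
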