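import Mathlib
import Cfsg.Prelude.Def_Blocks
import Cfsg.Agent.Lib.Helper55.O2520Defs

/-!
# O2520 / S3C sub-split (helper86): piece (K7) `three_involutions_of_card36`

Short route (helper67): an involution `j` of `C(y)` does not centralise `P = C(P)`; if `p ∈ P` does
not commute with `j` then `j`, `p j p⁻¹`, `p² j p⁻²` are three distinct involutions commuting with `y`.
-/

set_option autoImplicit false

namespace Cfsg.Agent.Helper82.O2520

open Cfsg Cfsg.Agent.Helper55.O2520
open scoped Classical

universe u

/-- generic core: an involution commuting with `y`, and `p` of odd order `n` commuting with `y` but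
not with the involution, give three involutions commuting with `y` -/
theorem h82_three_involutions {G : Type u} [Group G] [Finite G] (y j p : G) (n : ℕ)
    (hj : orderOf j = 2) (hjy : j * y = y * j) (hpy : p * y = y * p) (hpn : p ^ (2 * n + 1) = 1)
    (hpj : p * j ≠ j * p) :
    3 ≤ Nat.card {j : G // orderOf j = 2 ∧ j * y = y * j} := by
  have hord : ∀ c : G, orderOf (c * j * c⁻¹) = 2 := by
    intro c
    have : orderOf (c * j * c⁻¹) = orderOf j :=
      orderOf_injective (MulAut.conj c).toMonoidHom (MulAut.conj c).injective _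
    rw [this, hj]
  have hcomm : ∀ c : G, c * y = y * c → (c * j * c⁻¹) * y = y * (c * j * c⁻¹) := by
    intro c hc
    have hc' : c⁻¹ * y = y * c⁻¹ := by
      have := congrArg (fun t => c⁻¹ * t * c⁻¹) hc
      simp only [mul_assoc, inv_mul_cancel_left, mul_inv_cancel, mul_one] at this
      exact this.symm
    calc c * j * c⁻¹ * y = c * j * (c⁻¹ * y) := by group
      _ = c * j * (y * c⁻¹) := by rw [hc']
      _ = c * (j * y) * c⁻¹ := by group
      _ = c * (y * j) * c⁻¹ := by rw [hjy]
      _ = (c * y) * j * c⁻¹ := by group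
      _ = (y * c) * j * c⁻¹ := by rw [hc]
      _ = y * (c * j * c⁻¹) := by group
  have hp2y : p ^ 2 * y = y * p ^ 2 := by
    have : Commute p y := hpy
    exact (this.pow_left 2)
  -- `p ^ 2` does not commute with `j` either
  have hp2j : p ^ 2 * j ≠ j * p ^ 2 := by
    intro h
    have hc : Commute (p ^ 2) j := h
    have h1 : Commute ((p ^ 2) ^ (n + 1)) j := hc.pow_left (n + 1)
    have h2 : (p ^ 2) ^ (n + 1) = p := by
      rw [← pow_mul]
      have : 2 * (n + 1) = (2 * n + 1) + 1 := by ring
      rw [this, pow_succ, hpn, one_mul]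
    rw [h2] at h1
    exact hpj h1
  -- the three involutions
  have d01 : j ≠ p * j * p⁻¹ := by
    intro h
    apply hpj
    have := congrArg (fun t => t * p) h
    simp only [inv_mul_cancel_right] at this
    exact this.symm
  have d02 : j ≠ p ^ 2 * j * (p ^ 2)⁻¹ := by
    intro h
    apply hp2j
    have := congrArg (fun t => t * p ^ 2) h
    simp only [inv_mul_cancel_right] at this
    exact this.symm
  have d12 : p * j * p⁻¹ ≠ p ^ 2 * j * (p ^ 2)⁻¹ := by
    intro h
    apply d01
    have := congrArg (fun t => p⁻¹ * t * p) h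
    have e1 : p⁻¹ * (p * j * p⁻¹) * p = j := by group
    have e2 : p⁻¹ * (p ^ 2 * j * (p ^ 2)⁻¹) * p = p * j * p⁻¹ := by group
    simp only [e1, e2] at this
    exact this
  let a0 : {j : G // orderOf j = 2 ∧ j * y = y * j} := ⟨j, hj, hjy⟩
  let a1 : {j : G // orderOf j = 2 ∧ j * y = y * j} := ⟨p * j * p⁻¹, hord p, hcomm p hpy⟩
  let a2 : {j : G // orderOf j = 2 ∧ j * y = y * j} :=
    ⟨p ^ 2 * j * (p ^ 2)⁻¹, hord (p ^ 2), hcomm (p ^ 2) hp2y⟩
  have h01 : a0 ≠ a1 := fun h => d01 (congrArg Subtype.val h)
  have h02 : a0 ≠ a2 := fun h => d02 (congrArg Subtype.val h)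
  have h12 : a1 ≠ a2 := fun h => d12 (congrArg Subtype.val h)
  have hcard : ({a0, a1, a2} : Finset {j : G // orderOf j = 2 ∧ j * y = y * j}).card = 3 := by
    rw [Finset.card_insert_of_notMem, Finset.card_insert_of_notMem, Finset.card_singleton]
    · simpa using h12
    · simp only [Finset.mem_insert, Finset.mem_singleton, not_or]
      exact ⟨h01, h02⟩
  have := Fintype.ofFinite {j : G // orderOf j = 2 ∧ j * y = y * j}
  rw [Nat.card_eq_fintype_card, ← hcard]
  exact Finset.card_le_univ _

/-- (K7) -/
theorem three_involutions_of_card36 {G : Type u} [Group G] [Finite G] (P : Sylow 3 G)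
    (hP : Nat.card (P : Subgroup G) = 9)
    (hC : Subgroup.centralizer ((P : Subgroup G) : Set G) = (P : Subgroup G))
    (y : G) (hyP : y ∈ (P : Subgroup G))
    (hNy : ∀ n ∈ Subgroup.normalizer ((P : Subgroup G) : Set G), n * y = y * n → n ∈ (P : Subgroup G))
    (hM : Nat.card (Subgroup.centralizer ({y} : Set G)) = 36) :
    3 ≤ Nat.card {j : G // orderOf j = 2 ∧ j * y = y * j} := by
  have h2 : Fact (Nat.Prime 2) := ⟨Nat.prime_two⟩
  -- an involution of `C(y)`
  obtain ⟨j', hj'⟩ := exists_prime_orderOf_dvd_card' (G := ↥(Subgroup.centralizer ({y} : Set G))) 2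
    (by rw [hM]; norm_num)
  have hj : orderOf (j' : G) = 2 := by rw [Subgroup.orderOf_coe]; exact hj'
  have hjy : (j' : G) * y = y * (j' : G) := by
    have := j'.2
    rw [Subgroup.mem_centralizer_iff] at this
    exact (this y (Set.mem_singleton y)).symm
  -- `j ∉ P`
  have hjP : (j' : G) ∉ (P : Subgroup G) := by
    intro h
    have h1 : orderOf (⟨(j' : G), h⟩ : (P : Subgroup G)) ∣ 9 := by
      rw [← hP]; exact orderOf_dvd_natCard _
    rw [Subgroup.orderOf_mk, hj] at h1
    norm_num at h1
  -- some `p ∈ P` does not commute with `j`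
  have hnc : ¬ ∀ p ∈ (P : Subgroup G), p * (j' : G) = (j' : G) * p := by
    intro h
    apply hjP
    rw [← hC, Subgroup.mem_centralizer_iff]
    exact h
  push Not at hnc
  obtain ⟨p, hpP, hpj⟩ := hnc
  -- `P` is abelian
  have hpy : p * y = y * p := by
    have hyC : y ∈ Subgroup.centralizer ((P : Subgroup G) : Set G) := by rw [hC]; exact hyP
    rw [Subgroup.mem_centralizer_iff] at hyC
    exact hyC p hpP
  have hp9 : p ^ (2 * 4 + 1) = 1 := by
    have h1 : (⟨p, hpP⟩ : (P : Subgroup G)) ^ 9 = 1 := by
      rw [← hP]; exact pow_card_eq_one'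
    have := congrArg Subtype.val h1
    simpa using this
  exact h82_three_involutions y (j' : G) p 4 hj hjy hpy hp9 hpj

end Cfsg.Agent.Helper82.O2520
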