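import Mathlib
import Cfsg.Agent.Lib.Helper82.SVIso
import Cfsg.Agent.Lib.Helper75.FixKill2

/-!
# No nonabelian simple group of order 5460 (exercise order for S0983, helper17's sieve)

`n_13 = 105`, `|N(P)| = 52`, `|C(P)| ∈ {13, 26}`. `13`: cyclic Sylow 2-subgroup. `26`: an involution
`t ∈ C(P)` fixes exactly one Sylow 13-subgroup (`53` fixed points would give `53 ∣ |C(t)|`), so it is
isolated in a Sylow 2-subgroup (of order 4); Glauberman's Z*-theorem.
-/

set_option autoImplicit false

namespace Cfsg.Agent.Helper82.SV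

open Nat MulAction Cfsg.Agent.Helper17 Cfsg.Agent.Helper17.Sieve Cfsg.Agent.Helper75.FixKill
  Cfsg.Agent.Helper87.SV

set_option maxRecDepth 100000 in
theorem h82_5460_adm13 : ∀ d ∈ List.range (420 + 1), d ∣ 420 → d % 13 = 1 →
    ¬ Bad (13 ^ 1 * 420) 13 1 420 d → d = 105 := by
  decide +kernel

/-- no nonabelian simple group of order 5460 -/
theorem no_5460.{u} : NoSimple.{u} 5460 := by
  intro G _ _ _ hna hn0
  have h13 : Fact (Nat.Prime 13) := ⟨by norm_num⟩
  have h2p : Fact (Nat.Prime 2) := ⟨by norm_num⟩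
  have hn13 : Nat.card G = 13 ^ 1 * 420 := by rw [hn0]; norm_num
  have hn2 : Nat.card G = 2 ^ 2 * 1365 := by rw [hn0]; norm_num
  obtain ⟨hP13, hr13, hd13, hm13, hb13, hone13, he13⟩ :=
    h87_data hna 13 420 (by norm_num) hn13 (by norm_num)
  have hc13 : Nat.card (Sylow 13 G) = 105 := h82_5460_adm13 _ hr13 hd13 hm13 hb13
  obtain ⟨P⟩ : Nonempty (Sylow 13 G) := inferInstance
  have hP : Nat.card (P : Subgroup G) = 13 := hP13 P
  obtain ⟨e, hea, heb, hec⟩ := he13 P
  rw [hc13] at hec
  have hele : e ≤ 12 := Nat.le_of_dvd (by norm_num) hea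
  have hNcard : Nat.card ↥(Subgroup.normalizer ((P : Subgroup G) : Set G)) = 52 := by
    rw [h87_card_normalizer P, hn0, hc13]
  have hC : Nat.card (Subgroup.centralizer ((P : Subgroup G) : Set G)) = 13 ∨
      Nat.card (Subgroup.centralizer ((P : Subgroup G) : Set G)) = 26 := by
    generalize Nat.card (Subgroup.centralizer ((P : Subgroup G) : Set G)) = c at hec
    have hea' : e ∣ 12 := hea
    interval_cases e <;> omega
  rcases hC with hC | hC
  · -- cyclic Sylow 2-subgroup
    exact cyclic_absurd P hP 5460 2 hn0 (by norm_num) (by rw [hNcard]; norm_num) (by norm_num)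
      (by rw [hC]; norm_num) (by norm_num)
  · -- an involution in `C(P)`
    obtain ⟨t', ht'⟩ := exists_prime_orderOf_dvd_card'
      (G := ↥(Subgroup.centralizer ((P : Subgroup G) : Set G))) 2 (by rw [hC]; norm_num)
    have ht : orderOf (t' : G) = 2 := by rw [Subgroup.orderOf_coe]; exact ht'
    have htC : (t' : G) ∈ Subgroup.centralizer ((P : Subgroup G) : Set G) := t'.2
    set t : G := (t' : G) with htdef
    have ht1 : t ≠ 1 := Cfsg.Agent.S1017.ne_one_of_orderOf_prime t (by norm_num) ht
    have hf : Nat.card (fixedBy (Sylow 13 G) t) = 1 := by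
      have h1 := Cfsg.Agent.S1017.card_fixedBy_sylow_modEq P hP t htC
      have h4 := Cfsg.Agent.S1017.card_fixedBy_mod_four (G := G) (by rw [hn0]; norm_num)
        (α := Sylow 13 G) t ht
      have hle := Cfsg.Agent.S1017.card_fixedBy_le (α := Sylow 13 G) t
      have hne := Cfsg.Agent.S1017.card_fixedBy_ne (α := Sylow 13 G)
        (Cfsg.Agent.S1017.sylow_action_nontrivial hone13) t ht1
      rw [hc13] at h4 hle hne
      unfold Nat.ModEq at h1 h4
      have hcases : Nat.card (fixedBy (Sylow 13 G) t) = 1 ∨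
          Nat.card (fixedBy (Sylow 13 G) t) = 53 := by omega
      rcases hcases with h | h
      · exact h
      · exfalso
        have hbig : Nat.card (Sylow 13 G) - 1 < 13 * (Nat.card (fixedBy (Sylow 13 G) t) - 1) := by
          rw [hc13, h]; norm_num
        have hcard := Cfsg.Agent.S1017.card_centralizer_eq P hP t htC hbig
        have hdvd : Nat.card (Subgroup.centralizer ({t} : Set G)) ∣ 5460 := by
          rw [← hn0]; exact Subgroup.card_subgroup_dvd_card _
        rw [hcard, h] at hdvd
        have h53 : 53 ∣ 5460 := Dvd.dvd.trans (Dvd.intro _ rfl) hdvd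
        omega
    exact h82_isolated_core hna (by rw [hn0]; decide) P t ht htC hf
      (fun S => sylow_card_eq S hn2 (by norm_num)) (by rw [hC]; norm_num)

end Cfsg.Agent.Helper82.SV
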