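import Mathlib
import Cfsg.Agent.Lib.Helper82.SV5460

/-!
# O6232 server (helper17, S0983): (N5460) no simple group of order 5460
-/

set_option autoImplicit false

namespace Cfsg.Agent.Helper82.O6232

universe u

theorem no_5460 {G : Type u} [Group G] [Finite G] [IsSimpleGroup G] : Nat.card G ≠ 5460 := by
  intro h
  by_cases hc : IsMulCommutative G
  · have hp : (Nat.card G).Prime := by
      let _ : CommGroup G := { ‹Group G› with mul_comm := hc.is_comm.comm }
      exact IsSimpleGroup.prime_card
    rw [h] at hp
    norm_num at hp
  · exact Cfsg.Agent.Helper82.SV.no_5460 G hc h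

end Cfsg.Agent.Helper82.O6232
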