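import Mathlib
import Cfsg.Agent.Lib.Helper82.SVIso

/-!
# No nonabelian simple group of order 5940 (exercise order for S0983, helper17's sieve)

`n_11 = 45`, `|N(P)| = 132`, `|C(P)| = 66`: an involution `t ∈ C(P)` fixes exactly one Sylow
11-subgroup, so it is isolated in a Sylow 2-subgroup (of order 4); Glauberman's Z*-theorem.
-/

set_option autoImplicit false

namespace Cfsg.Agent.Helper82.SV

open Nat MulAction Cfsg.Agent.Helper17 Cfsg.Agent.Helper17.Sieve Cfsg.Agent.Helper75.FixKill
  Cfsg.Agent.Helper87.SV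

set_option maxRecDepth 100000 in
theorem h82_5940_adm11 : ∀ d ∈ List.range (540 + 1), d ∣ 540 → d % 11 = 1 →
    ¬ Bad (11 ^ 1 * 540) 11 1 540 d → d = 45 := by
  decide +kernel

/-- no nonabelian simple group of order 5940 -/
theorem no_5940.{u} : NoSimple.{u} 5940 := by
  intro G _ _ _ hna hn0
  have h11 : Fact (Nat.Prime 11) := ⟨by norm_num⟩
  have h2p : Fact (Nat.Prime 2) := ⟨by norm_num⟩
  have hn11 : Nat.card G = 11 ^ 1 * 540 := by rw [hn0]; norm_num
  have hn2 : Nat.card G = 2 ^ 2 * 1485 := by rw [hn0]; norm_num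
  obtain ⟨hP11, hr11, hd11, hm11, hb11, hone11, he11⟩ :=
    h87_data hna 11 540 (by norm_num) hn11 (by norm_num)
  have hc11 : Nat.card (Sylow 11 G) = 45 := h82_5940_adm11 _ hr11 hd11 hm11 hb11
  obtain ⟨P⟩ : Nonempty (Sylow 11 G) := inferInstance
  have hP : Nat.card (P : Subgroup G) = 11 := hP11 P
  obtain ⟨e, hea, heb, hec⟩ := he11 P
  rw [hc11] at hec
  have hele : e ≤ 10 := Nat.le_of_dvd (by norm_num) hea
  have hC : Nat.card (Subgroup.centralizer ((P : Subgroup G) : Set G)) = 66 := by
    generalize Nat.card (Subgroup.centralizer ((P : Subgroup G) : Set G)) = c at hec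
    have hea' : e ∣ 10 := hea
    interval_cases e <;> omega
  -- an involution in `C(P)`
  obtain ⟨t', ht'⟩ := exists_prime_orderOf_dvd_card'
    (G := ↥(Subgroup.centralizer ((P : Subgroup G) : Set G))) 2 (by rw [hC]; norm_num)
  have ht : orderOf (t' : G) = 2 := by rw [Subgroup.orderOf_coe]; exact ht'
  have htC : (t' : G) ∈ Subgroup.centralizer ((P : Subgroup G) : Set G) := t'.2
  set t : G := (t' : G) with htdef
  have ht1 : t ≠ 1 := Cfsg.Agent.S1017.ne_one_of_orderOf_prime t (by norm_num) ht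
  -- `t` fixes exactly one Sylow 11-subgroup
  have hf : Nat.card (fixedBy (Sylow 11 G) t) = 1 := by
    have h1 := Cfsg.Agent.S1017.card_fixedBy_sylow_modEq P hP t htC
    have h4 := Cfsg.Agent.S1017.card_fixedBy_mod_four (G := G) (by rw [hn0]; norm_num)
      (α := Sylow 11 G) t ht
    have hle := Cfsg.Agent.S1017.card_fixedBy_le (α := Sylow 11 G) t
    have hne := Cfsg.Agent.S1017.card_fixedBy_ne (α := Sylow 11 G)
      (Cfsg.Agent.S1017.sylow_action_nontrivial hone11) t ht1
    rw [hc11] at h4 hle hne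
    unfold Nat.ModEq at h1 h4
    omega
  exact h82_isolated_core hna (by rw [hn0]; decide) P t ht htC hf
    (fun S => sylow_card_eq S hn2 (by norm_num)) (by rw [hC]; norm_num)

end Cfsg.Agent.Helper82.SV
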