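import Mathlib
import Cfsg.Agent.Lib.Helper75.SVOrdersA
import Cfsg.Agent.Lib.Helper41.O6232N4760
import Cfsg.Agent.Lib.Helper45.SV3960
import Cfsg.Agent.Lib.Helper24.O6232N4212
import Cfsg.Agent.Lib.Helper5.O6232N4536
import Cfsg.Agent.Lib.Helper87.O6232N4620
import Cfsg.Agent.Lib.Helper77.O6232N4680
import Cfsg.Agent.Lib.Helper89.SV4800
import Cfsg.Agent.Lib.Helper87.O6232N4960
import Cfsg.Agent.Lib.Helper41.O6232N5104
import Cfsg.Agent.Lib.Helper65.SV5148
import Cfsg.Agent.Lib.Helper85.O6232N5376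
import Cfsg.Agent.Lib.Helper60.O6232N5400
import Cfsg.Agent.Lib.Helper82.O6232N5460
import Cfsg.Agent.Lib.Helper82.O6232N5940
import Cfsg.Agent.Lib.Helper74.SV5600
import Cfsg.Agent.Lib.Helper10.O6232N5724
import Cfsg.Agent.Lib.Helper11.O6232N5880

/-!
# O983 server (helper55, S0983): bridge file.  Every order piece `no_NNNN` of
`tools/o983_sigs_helper55.lean.txt` except the four Sylow-intersection orders 3840 4500 5292 6000,
in the server's shape, as one-line wrappers of the files delivered to helper17's O6232 server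
(same row S0983), all on main.
-/

set_option autoImplicit false

namespace Cfsg.Agent.Helper82.O983

universe u

/-- from the `NoSimple` shape to the plain shape: a commutative simple group has prime order -/
theorem h82_of_noSimple {G : Type u} [Group G] [Finite G] [IsSimpleGroup G] {n : ℕ}
    (hn : ¬ n.Prime) (h : Cfsg.Agent.Helper17.Sieve.NoSimple.{u} n) :
    Nat.card G ≠ n := by
  intro hc
  by_cases hcomm : IsMulCommutative G
  · have hp : (Nat.card G).Prime := by
      let _ : CommGroup G := { ‹Group G› with mul_comm := hcomm.is_comm.comm }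
      exact IsSimpleGroup.prime_card
    rw [hc] at hp
    exact hn hp
  · exact h G hcomm hc

section
variable {G : Type*} [Group G] [Finite G] [IsSimpleGroup G]

theorem no_3696 : Nat.card G ≠ 3696 :=
  h82_of_noSimple (by norm_num) Cfsg.Agent.Helper75.SV.no_3696

theorem no_3780 : Nat.card G ≠ 3780 :=
  h82_of_noSimple (by norm_num) Cfsg.Agent.Helper75.SV.no_3780

theorem no_3960 : Nat.card G ≠ 3960 :=
  h82_of_noSimple (by norm_num) Cfsg.Agent.Helper45.SV.no_3960

theorem no_4160 : Nat.card G ≠ 4160 :=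
  h82_of_noSimple (by norm_num) Cfsg.Agent.Helper75.SV.no_4160

theorem no_4200 : Nat.card G ≠ 4200 :=
  h82_of_noSimple (by norm_num) Cfsg.Agent.Helper75.SV.no_4200

theorem no_4212 : Nat.card G ≠ 4212 := Cfsg.Agent.Helper24.O6232.no_4212

theorem no_4400 : Nat.card G ≠ 4400 :=
  h82_of_noSimple (by norm_num) Cfsg.Agent.Helper75.SV.no_4400

theorem no_4480 : Nat.card G ≠ 4480 :=
  h82_of_noSimple (by norm_num) Cfsg.Agent.Helper75.SV.no_4480

theorem no_4536 : Nat.card G ≠ 4536 := Cfsg.Agent.Helper5.O6232.no_4536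

theorem no_4620 : Nat.card G ≠ 4620 := Cfsg.Agent.Helper87.O6232.no_4620

theorem no_4680 : Nat.card G ≠ 4680 := Cfsg.Agent.Helper77.O6232.no_4680

theorem no_4760 : Nat.card G ≠ 4760 := Cfsg.Agent.Helper41.O6232.no_4760

theorem no_4800 : Nat.card G ≠ 4800 :=
  h82_of_noSimple (by norm_num) Cfsg.Agent.Helper89.SV.no_4800

theorem no_4928 : Nat.card G ≠ 4928 :=
  h82_of_noSimple (by norm_num) Cfsg.Agent.Helper75.SV.no_4928

theorem no_4960 : Nat.card G ≠ 4960 := Cfsg.Agent.Helper87.O6232.no_4960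

theorem no_5104 : Nat.card G ≠ 5104 := Cfsg.Agent.Helper41.O6232.no_5104

theorem no_5148 : Nat.card G ≠ 5148 :=
  h82_of_noSimple (by norm_num) Cfsg.Agent.Helper65.SV.no_5148

theorem no_5200 : Nat.card G ≠ 5200 :=
  h82_of_noSimple (by norm_num) Cfsg.Agent.Helper75.SV.no_5200

theorem no_5236 : Nat.card G ≠ 5236 :=
  h82_of_noSimple (by norm_num) Cfsg.Agent.Helper75.SV.no_5236

theorem no_5376 : Nat.card G ≠ 5376 := Cfsg.Agent.Helper85.O6232.no_5376

theorem no_5400 : Nat.card G ≠ 5400 := Cfsg.Agent.Helper60.O6232.no_5400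

theorem no_5460 : Nat.card G ≠ 5460 := Cfsg.Agent.Helper82.O6232.no_5460

theorem no_5600 : Nat.card G ≠ 5600 :=
  h82_of_noSimple (by norm_num) Cfsg.Agent.Helper74.SV.no_5600

theorem no_5724 : Nat.card G ≠ 5724 := Cfsg.Agent.Helper10.O6232.no_5724

theorem no_5852 : Nat.card G ≠ 5852 :=
  h82_of_noSimple (by norm_num) Cfsg.Agent.Helper75.SV.no_5852

theorem no_5880 : Nat.card G ≠ 5880 := Cfsg.Agent.Helper11.O6232.no_5880

theorem no_5940 : Nat.card G ≠ 5940 := Cfsg.Agent.Helper82.O6232.no_5940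

theorem no_6160 : Nat.card G ≠ 6160 :=
  h82_of_noSimple (by norm_num) Cfsg.Agent.Helper75.SV.no_6160

end

end Cfsg.Agent.Helper82.O983
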