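import Mathlib
import Cfsg.Agent.Lib.Helper17.Simple
import Cfsg.Agent.Lib.Helper17.SieveInter

/-!
# O983 server (helper55, S0983): the Sylow-intersection orders 3840, 4500, 5292, 6000
(and 4480 again), by `Helper17.Sieve.inter_kill`.
-/

set_option autoImplicit false

namespace Cfsg.Agent.Helper82.O983

open Nat Cfsg.Agent.Helper17 Cfsg.Agent.Helper17.Sieve

/-- generic form of the intersection argument: every admissible Sylow count `d` is either too
small for the factorial bound or is not `1` modulo `p ^ 2` -/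
theorem h82_inter_generic {G : Type*} [Group G] [Finite G] [IsSimpleGroup G]
    (p k m B : ℕ) [hp : Fact p.Prime] (hk : 2 ≤ k) (hn : Nat.card G = p ^ k * m) (hpm : ¬ p ∣ m)
    (hm1 : m ≠ 1) (hprime : ¬ (p ^ k * m).Prime)
    (hB : ∀ a b, a * b = m → p ≤ a → b ≤ B) (hfact : ¬ 2 * (p ^ k * m) ∣ B !)
    (hd : ∀ d, d ∣ m → d % p = 1 → d ≠ 1 → 2 * (p ^ k * m) ∣ d ! → ¬ d ≡ 1 [MOD p ^ 2]) :
    False := by
  have hG : ¬ IsMulCommutative G := not_comm_of_not_prime (by rw [hn]; exact hprime)
  obtain ⟨hdvd, hmod⟩ := sylow_count (G := G) hn hpm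
  have hne1 := sylow_count_ne_one (G := G) hn hpm (by omega) hm1
  have hf := sylow_count_factorial (p := p) hG hne1
  rw [hn] at hf
  exact inter_kill hG p k m B hk hn hpm (hd _ hdvd hmod hne1 hf) hB hfact

section
variable {G : Type*} [Group G] [Finite G] [IsSimpleGroup G]

theorem no_3840 : Nat.card G ≠ 3840 := by
  intro hcard
  have : Fact (Nat.Prime 2) := ⟨Nat.prime_two⟩
  refine h82_inter_generic (G := G) 2 8 15 5 (by norm_num) (by rw [hcard]; norm_num) (by norm_num)
    (by norm_num) (by norm_num) ?_ (by decide) ?_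
  · intro a b hab ha
    have ha' : a ≤ 15 := Nat.le_of_dvd (by norm_num) (Dvd.intro _ hab)
    interval_cases a <;> omega
  · intro d hdvd hmod hne hf
    have hle : d ≤ 15 := Nat.le_of_dvd (by norm_num) hdvd
    interval_cases d <;> first | omega | (revert hf; decide)

theorem no_4500 : Nat.card G ≠ 4500 := by
  intro hcard
  have : Fact (Nat.Prime 5) := ⟨by norm_num⟩
  refine h82_inter_generic (G := G) 5 3 36 6 (by norm_num) (by rw [hcard]; norm_num) (by norm_num)
    (by norm_num) (by norm_num) ?_ (by decide) ?_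
  · intro a b hab ha
    have ha' : a ≤ 36 := Nat.le_of_dvd (by norm_num) (Dvd.intro _ hab)
    interval_cases a <;> omega
  · intro d hdvd hmod hne hf
    have hle : d ≤ 36 := Nat.le_of_dvd (by norm_num) hdvd
    interval_cases d <;> first | omega | (revert hf; decide)

theorem no_5292 : Nat.card G ≠ 5292 := by
  intro hcard
  have : Fact (Nat.Prime 7) := ⟨by norm_num⟩
  refine h82_inter_generic (G := G) 7 2 108 12 (by norm_num) (by rw [hcard]; norm_num) (by norm_num)
    (by norm_num) (by norm_num) ?_ (by decide) ?_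
  · intro a b hab ha
    have ha' : a ≤ 108 := Nat.le_of_dvd (by norm_num) (Dvd.intro _ hab)
    interval_cases a <;> omega
  · intro d hdvd hmod hne _
    have hle : d ≤ 108 := Nat.le_of_dvd (by norm_num) hdvd
    interval_cases d <;> first | omega | decide

theorem no_6000 : Nat.card G ≠ 6000 := by
  intro hcard
  have : Fact (Nat.Prime 5) := ⟨by norm_num⟩
  refine h82_inter_generic (G := G) 5 3 48 8 (by norm_num) (by rw [hcard]; norm_num) (by norm_num)
    (by norm_num) (by norm_num) ?_ (by decide) ?_
  · intro a b hab ha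
    have ha' : a ≤ 48 := Nat.le_of_dvd (by norm_num) (Dvd.intro _ hab)
    interval_cases a <;> omega
  · intro d hdvd hmod hne hf
    have hle : d ≤ 48 := Nat.le_of_dvd (by norm_num) hdvd
    interval_cases d <;> first | omega | (revert hf; decide)

end

end Cfsg.Agent.Helper82.O983
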