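import Mathlib

/-!
# ONS server (helper37, S1699): (SYL)
-/

set_option autoImplicit false

namespace Cfsg.Agent.Helper82.ONS
universe u

open scoped Pointwise

theorem exists_invariant_sylow {G : Type u} [Group G] [Finite G] (N : Subgroup G) [N.Normal] (s : G)
    (hs : s ^ 19 = 1) (hN : ¬ 19 ∣ Nat.card N) (r : ℕ) [Fact r.Prime] :
    ∃ P : Sylow r N, ∀ x ∈ (P : Subgroup N).map N.subtype,
      s * x * s⁻¹ ∈ (P : Subgroup N).map N.subtype := by
  classical
  have : Fintype (Sylow r N) := Fintype.ofFinite _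
  have : Fact (Nat.Prime 19) := ⟨by norm_num⟩
  let c : MulAut N := MulAut.conjNormal s
  let σ : Equiv.Perm (Sylow r N) := MulAction.toPermHom (MulAut N) (Sylow r N) c
  have hσ : σ ^ 19 ^ 1 = 1 := by
    show (MulAction.toPermHom (MulAut N) (Sylow r N) c) ^ 19 ^ 1 = 1
    rw [pow_one, ← map_pow]
    have hc : c ^ 19 = 1 := by
      show (MulAut.conjNormal s : MulAut N) ^ 19 = 1
      rw [← map_pow, hs, map_one]
    rw [hc, map_one]
  have hcard : ¬ 19 ∣ Fintype.card (Sylow r N) := by
    intro hd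
    apply hN
    rw [← Nat.card_eq_fintype_card] at hd
    have P0 : Sylow r N := default
    exact hd.trans ((Sylow.card_dvd_index P0).trans (Subgroup.index_dvd_card _))
  obtain ⟨P, hP⟩ := Equiv.Perm.exists_fixed_point_of_prime (p := 19) (n := 1) hcard hσ
  refine ⟨P, ?_⟩
  have hP' : c • P = P := hP
  rintro x ⟨y, hy, rfl⟩
  refine ⟨c y, ?_, ?_⟩
  · have h1 : c • y ∈ c • (P : Subgroup N) := Subgroup.smul_mem_pointwise_smul y c _ hy
    have h2 : ((c • P : Sylow r N) : Subgroup N) = c • (P : Subgroup N) := Sylow.pointwise_smul_def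
    rw [← h2, hP'] at h1
    exact h1
  · show ((c y : N) : G) = s * (y : G) * s⁻¹
    exact MulAut.conjNormal_apply s y

end Cfsg.Agent.Helper82.ONS
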