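import Mathlib
import Cfsg.Prelude.Def_FusionSystem
import Cfsg.Agent.Lib.Helper87.Om7Defs

/-!
# OM7 lemma server (helper87) for S2647: piece (API1), the frame and the action
-/

set_option autoImplicit false
set_option linter.unusedSectionVars false
set_option linter.unusedVariables false

namespace Cfsg.Agent.Helper82.Om7

open Matrix QuadraticMap Cfsg.Agent.Helper36.QuadInv Cfsg.Agent.Helper36.OmegaTrans
  Cfsg.Agent.Helper43 Cfsg.Agent.Helper87.Om7

variable {F : Type*} [Field F] [Fintype F] [DecidableEq F] {ι : Type} [Fintype ι] [DecidableEq ι]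
variable {Q : QuadraticForm F (ι → F)} {c : F} {f : Fin 7 → ι → F}

/-! ## (API1) the frame and the action -/

theorem frame_Q_ne (hF : Frame Q c f) (i : Fin 7) : Q (f i) ≠ 0 := by
  rw [hF.norm]; exact hF.c0

theorem frame_Q_sub (hF : Frame Q c f) {a b : Fin 7} (hab : a ≠ b) : Q (f a - f b) = 2 * c := by
  rw [sub_eq_add_neg, QuadraticMap.map_add Q, QuadraticMap.map_neg Q,
    QuadraticMap.polar_neg_right, hF.orth a b hab, hF.norm, hF.norm]
  ring

theorem frame_Q_sub_ne (hF : Frame Q c f) {a b : Fin 7} (hab : a ≠ b) : Q (f a - f b) ≠ 0 := by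
  rw [frame_Q_sub hF hab]; exact mul_ne_zero hF.two hF.c0

theorem frame_polar_self (hF : Frame Q c f) (i : Fin 7) : polar Q (f i) (f i) = 2 * c := by
  rw [QuadraticMap.polar_self, hF.norm]
  simp

/-- `polar Q (f j)` of a combination of the frame -/
theorem api1_polar_sum (hF : Frame Q c f) (a : Fin 7 → F) (j : Fin 7) :
    polar Q (f j) (∑ i, a i • f i) = a j * (2 * c) := by
  have h1 : polar Q (f j) (∑ i, a i • f i) = polarBilin Q (f j) (∑ i, a i • f i) := rfl
  rw [h1, map_sum, Finset.sum_eq_single j]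
  · rw [map_smul, smul_eq_mul]
    show a j * polar Q (f j) (f j) = _
    rw [frame_polar_self hF]
  · intro i _ hij
    rw [map_smul, smul_eq_mul]
    show a i * polar Q (f j) (f i) = 0
    rw [hF.orth j i (Ne.symm hij), mul_zero]
  · intro h; exact absurd (Finset.mem_univ j) h

theorem api1_linearIndependent (hF : Frame Q c f) : LinearIndependent F f := by
  rw [Fintype.linearIndependent_iff]
  intro a ha j
  have h1 := api1_polar_sum hF a j
  rw [ha] at h1
  have h2 : polar Q (f j) 0 = 0 := by
    show polarBilin Q (f j) 0 = 0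
    rw [map_zero]
  rw [h2] at h1
  have h3 : (2 * c : F) ≠ 0 := mul_ne_zero hF.two hF.c0
  rcases mul_eq_zero.mp h1.symm with h | h
  · exact h
  · exact absurd h h3

/-- coordinates in the frame -/
theorem frame_repr (hF : Frame Q c f) (v : ι → F) :
    v = ∑ i, ((2 * c)⁻¹ * polar Q (f i) v) • f i := by
  have hli := api1_linearIndependent hF
  have hcard : Fintype.card (Fin 7) = Module.finrank F (ι → F) := by
    rw [Module.finrank_fintype_fun_eq_card, hF.card]; rfl
  let b := basisOfLinearIndependentOfCardEqFinrank hli hcard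
  have hb : ∀ i, b i = f i := fun i => by
    simp [b]
  have hv : v = ∑ i, b.repr v i • f i := by
    conv_lhs => rw [← b.sum_repr v]
    exact Finset.sum_congr rfl (fun i _ => by rw [hb])
  have h3 : (2 * c : F) ≠ 0 := mul_ne_zero hF.two hF.c0
  have hcoef : ∀ j, (2 * c)⁻¹ * polar Q (f j) v = b.repr v j := by
    intro j
    conv_lhs => rw [hv]
    rw [api1_polar_sum hF, mul_comm ((b.repr v) j), ← mul_assoc, inv_mul_cancel₀ h3, one_mul]
  conv_lhs => rw [hv]
  exact Finset.sum_congr rfl (fun i _ => by rw [hcoef])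

theorem frame_coord_ext (hF : Frame Q c f) (v w : ι → F)
    (h : ∀ i, polar Q (f i) v = polar Q (f i) w) : v = w := by
  rw [frame_repr hF v, frame_repr hF w]
  exact Finset.sum_congr rfl (fun i _ => by rw [h i])

/-- an isometry is determined by its values on the frame -/
theorem frame_ext (hF : Frame Q c f) (g h : OG F ⇑Q)
    (H : ∀ i, actHom (⇑Q) g (f i) = actHom (⇑Q) h (f i)) : g = h := by
  apply act_ext
  intro v
  rw [frame_repr hF v, map_sum, map_sum]
  exact Finset.sum_congr rfl (fun i _ => by rw [map_smul, map_smul, H i])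

theorem frame_injective (hF : Frame Q c f) (i j : Fin 7) (h : f i = f j ∨ f i = - f j) :
    i = j := by
  by_contra hne
  have h0 := hF.orth i j hne
  have h3 : (2 * c : F) ≠ 0 := mul_ne_zero hF.two hF.c0
  rcases h with h | h
  · rw [h, frame_polar_self hF] at h0
    exact h3 h0
  · rw [h, QuadraticMap.polar_neg_left, frame_polar_self hF, neg_eq_zero] at h0
    exact h3 h0

theorem polar_act (g : OG F ⇑Q) (u v : ι → F) :
    polar Q (actHom (⇑Q) g u) (actHom (⇑Q) g v) = polar Q u v := by
  have h1 := Q_act (Q := (⇑Q : (ι → F) → F)) g (u + v)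
  have h2 := Q_act (Q := (⇑Q : (ι → F) → F)) g u
  have h3 := Q_act (Q := (⇑Q : (ι → F) → F)) g v
  rw [map_add] at h1
  unfold QuadraticMap.polar
  rw [h1, h2, h3]

theorem act_reflIso' {v : ι → F} (hv : Q v ≠ 0) (x : ι → F) :
    actHom (⇑Q) (reflIso' Q v) x = x - ((Q v)⁻¹ * polar Q v x) • v := by
  rw [reflIso'_of_ne Q hv]
  exact act_reflIso Q hv x

end Cfsg.Agent.Helper82.Om7
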