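import Mathlib
import Cfsg.Agent.Lib.Helper2.SR0
import Cfsg.Agent.Lib.Helper82.SRK
import Cfsg.Agent.Lib.Helper85.SRK3
import Cfsg.Agent.Lib.Helper42.SRK6

/-!
# SR project (S2281, server helper2): pieces (K4) (K5) (K7) of block K
(K3 `pingpong` from helper85's `SRK3`, K6 core from helper42's `SRK6`.)
-/

set_option autoImplicit false

namespace Cfsg.Agent.Helper82.SR

open Matrix Cfsg Cfsg.Agent.Helper13 Cfsg.Agent.Helper84.SpRoot Cfsg.Agent.Helper5.SpAut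
open Cfsg.Agent.Helper2.SR

section K
variable {F : Type*} [Field F] {n : ℕ}
  {H : Subgroup (Matrix.symplecticGroup (Fin n) F)} {u l : Matrix.symplecticGroup (Fin n) F}
  {e0 e1 p : Fin n ⊕ Fin n → F} {κ γ : F}

/-- (K4) from K3 and A7 with `y = e1` -/
theorem lin_e1 (hyp : Hyp H u l e0 e1 p κ γ) : ∀ a : F, a • e1 ∈ QQ H e0 :=
  h82_lin_e1_core hyp (Cfsg.Agent.Helper85.SR.pingpong hyp)

/-- core of (K5): `{w | ∀ a, a • w ∈ QQ}` is a `u`-stable subspace containing `p`; `hyp.cyc` -/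
theorem h82_QQ_full_core (hyp : Hyp H u l e0 e1 p κ γ) (hK3 : ∀ a : F, a • p ∈ QQ H e0) :
    ∀ w : Fin n ⊕ Fin n → F, Cfsg.sympForm n F w e0 = 0 → w ∈ QQ H e0 := by
  intro w hw
  let S : Submodule F (Fin n ⊕ Fin n → F) :=
    { carrier := {x | ∀ a : F, a • x ∈ QQ H e0}
      zero_mem' := by
        intro a
        rw [smul_zero]
        exact (Cfsg.Agent.Helper13.SpMid.QQ H e0).zero_mem
      add_mem' := by
        intro x y hx hy a
        rw [smul_add]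
        exact (Cfsg.Agent.Helper13.SpMid.QQ H e0).add_mem (hx a) (hy a)
      smul_mem' := by
        intro b x hx a
        rw [smul_smul]
        exact hx (a * b) }
  have hpS : p ∈ S := hK3
  have hstab : ∀ x ∈ S, u.val *ᵥ x ∈ S := by
    intro x hx a
    have := QQ_stab (hx a) hyp.hu hyp.ue0
    rwa [Matrix.mulVec_smul] at this
  have hwS : w ∈ S := hyp.cyc S hpS hstab w hw
  have := hwS 1
  rwa [one_smul] at this

/-- (K5) `{w | ∀ a, a • w ∈ QQ}` is a `u`-stable subspace containing `p`; `hyp.cyc` -/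
theorem QQ_full (hyp : Hyp H u l e0 e1 p κ γ) :
    ∀ w : Fin n ⊕ Fin n → F, Cfsg.sympForm n F w e0 = 0 → w ∈ QQ H e0 :=
  h82_QQ_full_core hyp (Cfsg.Agent.Helper85.SR.pingpong hyp)

/-- core of (K7): `l⁻¹ (e1 + a • e0) = e0 + a • p`, then `eich e0 w c` with
`w = (a γ)⁻¹ • e1` removes `e0` -/
theorem h82_orb_smul_p_core (hyp : Hyp H u l e0 e1 p κ γ)
    (hK4 : ∀ a : F, a • e1 ∈ QQ H e0) (hK6 : ∀ a : F, e1 + a • e0 ∈ Orb H e0) :
    ∀ a : F, a ≠ 0 → a • p ∈ Orb H e0 := by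
  intro a ha
  obtain ⟨g, hg, hge⟩ := hK6 a
  obtain ⟨hw0, c, hc⟩ := hK4 ((a * γ)⁻¹)
  have hγ0 := hyp.γ0
  have hl1 : (l⁻¹).val *ᵥ e1 = e0 := by rw [← hyp.le0, inv_mulVec_mulVec]
  have hl0 : (l⁻¹).val *ᵥ e0 = p := by rw [← hyp.lp, inv_mulVec_mulVec]
  have hpe1 : Cfsg.sympForm n F p e1 = -γ := by rw [sympForm_swap, hyp.e1p]
  refine ⟨eich e0 ((a * γ)⁻¹ • e1) c * (l⁻¹ * g),
    H.mul_mem hc (H.mul_mem (H.inv_mem hyp.hl) hg), ?_⟩
  rw [mul_act, mul_act, hge, Matrix.mulVec_add, Matrix.mulVec_smul, hl1, hl0, eich_act hw0]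
  simp only [sympForm_add_left, sympForm_smul_left, sympForm_smul_right, sympForm_self, hyp.pe0,
    hpe1, orth_symm hyp.e1e0]
  have h1 : (a * γ)⁻¹ * (0 + a * -γ) = -1 := by
    have : a * γ ≠ 0 := mul_ne_zero ha hγ0
    field_simp
    ring
  rw [h1]
  module

/-- (K7) `l⁻¹ (e1 + a • e0) = e0 + a • p`, then `eich e0 w c` with `w = (a γ)⁻¹ • e1` removes `e0` -/
theorem orb_smul_p (hyp : Hyp H u l e0 e1 p κ γ) : ∀ a : F, a ≠ 0 → a • p ∈ Orb H e0 :=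
  h82_orb_smul_p_core hyp (lin_e1 hyp)
    (Cfsg.Agent.Helper42.SR.orb_e1_add_of hyp (Cfsg.Agent.Helper85.SR.pingpong hyp))

end K

end Cfsg.Agent.Helper82.SR
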