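import Mathlib
import Cfsg.Agent.Lib.Helper82.CoprimeCount

set_option autoImplicit false

namespace Cfsg.Agent.Helper82

open Finset

theorem card_conjClasses_congr {A B : Type*} [Group A] [Group B] (e : A ≃* B) :
    Nat.card (ConjClasses A) = Nat.card (ConjClasses B) := by
  refine Nat.card_congr ⟨ConjClasses.map e.toMonoidHom, ConjClasses.map e.symm.toMonoidHom, ?_, ?_⟩
  · intro c
    obtain ⟨a, rfl⟩ := ConjClasses.mk_surjective c
    show ConjClasses.mk (e.symm (e a)) = ConjClasses.mk a
    simp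
  · intro c
    obtain ⟨a, rfl⟩ := ConjClasses.mk_surjective c
    show ConjClasses.mk (e (e.symm a)) = ConjClasses.mk a
    simp

/-- The stabiliser of a point under an action by automorphisms. -/
def stab {N K : Type*} [Group N] [Group K] (φ : K →* MulAut N) (v : N) : Subgroup K where
  carrier := {g | φ g v = v}
  mul_mem' := by
    intro a b ha hb
    simp only [Set.mem_ofPred_eq, map_mul, MulAut.mul_apply] at *
    rw [hb, ha]
  one_mem' := by simp
  inv_mem' := by
    intro a ha
    simp only [Set.mem_ofPred_eq, map_inv] at *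
    rw [MulAut.inv_apply, MulEquiv.symm_apply_eq, ha]

theorem mem_stab {N K : Type*} [Group N] [Group K] (φ : K →* MulAut N) (v : N) (g : K) :
    g ∈ stab φ v ↔ φ g v = v := Iff.rfl

/-- Commuting pairs in a semidirect product, fibred over commuting pairs of the complement. -/
def commPairsEquiv {N K : Type*} [Group N] [Group K] (φ : K →* MulAut N) :
    {p : (N ⋊[φ] K) × (N ⋊[φ] K) // Commute p.1 p.2} ≃
      Σ gh : {q : K × K // Commute q.1 q.2},
        {p : N × N // p.1 * φ gh.1.1 p.2 = p.2 * φ gh.1.2 p.1} where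
  toFun p := ⟨⟨(p.1.1.right, p.1.2.right), by
      have := congrArg SemidirectProduct.right p.2.eq
      exact this⟩,
    ⟨(p.1.1.left, p.1.2.left), by
      have := congrArg SemidirectProduct.left p.2.eq
      simpa using this⟩⟩
  invFun s := ⟨(⟨s.2.1.1, s.1.1.1⟩, ⟨s.2.1.2, s.1.1.2⟩), by
      show (⟨s.2.1.1, s.1.1.1⟩ : N ⋊[φ] K) * ⟨s.2.1.2, s.1.1.2⟩ =
        ⟨s.2.1.2, s.1.1.2⟩ * ⟨s.2.1.1, s.1.1.1⟩
      ext
      · simpa using s.2.2
      · simpa using s.1.2.eq⟩
  left_inv p := by
    rfl
  right_inv s := by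
    rfl

/-- Triples (commuting pair, common fixed point), counted in two ways. -/
def triplesEquiv {N K : Type*} [Group N] [Group K] (φ : K →* MulAut N) :
    (Σ gh : {q : K × K // Commute q.1 q.2}, {v : N // φ gh.1.1 v = v ∧ φ gh.1.2 v = v}) ≃
      Σ v : N, {q : ↥(stab φ v) × ↥(stab φ v) // Commute q.1 q.2} where
  toFun t := ⟨t.2.1, ⟨(⟨t.1.1.1, t.2.2.1⟩, ⟨t.1.1.2, t.2.2.2⟩), Subtype.ext t.1.2.eq⟩⟩
  invFun t := ⟨⟨(t.2.1.1.1, t.2.1.2.1), congrArg Subtype.val t.2.2.eq⟩,
    ⟨t.1, t.2.1.1.2, t.2.1.2.2⟩⟩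
  left_inv t := by rfl
  right_inv t := by rfl

theorem card_conjClasses_semidirect_mul {N K : Type*} [Group N] [Group K] [Fintype N] [Finite K]
    (φ : K →* MulAut N) (hcomm : ∀ a b : N, a * b = b * a)
    (hcop : (Nat.card N).Coprime (Nat.card K)) :
    Nat.card (ConjClasses (N ⋊[φ] K)) * Nat.card K =
      ∑ v : N, Nat.card (ConjClasses ↥(stab φ v)) * Nat.card ↥(stab φ v) := by
  classical
  have : Fintype K := Fintype.ofFinite K
  have hNpos : 0 < Nat.card N := Nat.card_pos
  -- the solution count for each commuting pair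
  have hsol : ∀ gh : {q : K × K // Commute q.1 q.2},
      Nat.card {p : N × N // p.1 * φ gh.1.1 p.2 = p.2 * φ gh.1.2 p.1} =
        Nat.card N * Nat.card {v : N // φ gh.1.1 v = v ∧ φ gh.1.2 v = v} := by
    intro gh
    let _ : CommGroup N := { (inferInstance : Group N) with mul_comm := hcomm }
    have hord : ∀ g : K, (orderOf (φ g)).Coprime (Nat.card N) := by
      intro g
      have h1 : orderOf (φ g) ∣ Nat.card K := (orderOf_map_dvd φ g).trans (orderOf_dvd_natCard g)
      exact (Nat.Coprime.coprime_dvd_left h1 hcop.symm)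
    exact card_sol_mul (φ gh.1.1) (φ gh.1.2) (gh.2.map φ) (hord _) (hord _)
  have h1 : Nat.card {p : (N ⋊[φ] K) × (N ⋊[φ] K) // Commute p.1 p.2} =
      Nat.card N * ∑ v : N, Nat.card {q : ↥(stab φ v) × ↥(stab φ v) // Commute q.1 q.2} := by
    rw [Nat.card_congr (commPairsEquiv φ), Nat.card_sigma]
    simp_rw [hsol]
    rw [← Finset.mul_sum, ← Nat.card_sigma, Nat.card_congr (triplesEquiv φ), Nat.card_sigma]
  rw [card_comm_eq_card_conjClasses_mul_card, SemidirectProduct.card] at h1
  simp_rw [card_comm_eq_card_conjClasses_mul_card] at h1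
  apply Nat.eq_of_mul_eq_mul_left hNpos
  rw [← h1]
  ring

theorem sum_stab_eq {N K : Type*} [Group N] [Group K] [Fintype N] [Finite K]
    (φ : K →* MulAut N) (S : Finset N)
    (hrep : ∀ v : N, ∃! s, s ∈ S ∧ ∃ g : K, φ g v = s) :
    ∑ v : N, Nat.card (ConjClasses ↥(stab φ v)) * Nat.card ↥(stab φ v) =
      Nat.card K * ∑ s ∈ S, Nat.card (ConjClasses ↥(stab φ s)) := by
  classical
  let _ : MulAction K N := MulAction.compHom N φ
  have hsmul : ∀ (g : K) (v : N), g • v = φ g v := fun _ _ => rfl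
  have hstab : ∀ v : N, stab φ v = MulAction.stabilizer K v := by
    intro v
    ext g
    rw [MulAction.mem_stabilizer_iff, mem_stab, hsmul]
  -- invariance of the summand
  have hinv : ∀ (g : K) (v : N),
      Nat.card (ConjClasses ↥(stab φ (φ g v))) * Nat.card ↥(stab φ (φ g v)) =
        Nat.card (ConjClasses ↥(stab φ v)) * Nat.card ↥(stab φ v) := by
    intro g v
    rw [hstab, hstab]
    have e : ↥(MulAction.stabilizer K v) ≃* ↥(MulAction.stabilizer K (φ g v)) :=
      MulAction.stabilizerEquivStabilizer (hsmul g v).symm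
    rw [card_conjClasses_congr e, Nat.card_congr e.toEquiv]
  choose rep hrepS hrepu using fun v => (hrep v)
  have hrep_mem : ∀ v, rep v ∈ S := fun v => (hrepS v).1
  have hrep_conj : ∀ v, ∃ g : K, φ g v = rep v := fun v => (hrepS v).2
  have hrep_eq : ∀ v s, s ∈ S → (∃ g : K, φ g v = s) → rep v = s :=
    fun v s hs hg => (hrepu v s ⟨hs, hg⟩).symm
  rw [← Finset.sum_fiberwise_of_maps_to (s := (Finset.univ : Finset N)) (t := S) (g := rep)
    (fun v _ => hrep_mem v), Finset.mul_sum]
  refine Finset.sum_congr rfl fun s hs => ?_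
  -- summand constant on the fibre
  have hconst : ∀ v ∈ Finset.univ.filter (fun v => rep v = s),
      Nat.card (ConjClasses ↥(stab φ v)) * Nat.card ↥(stab φ v) =
        Nat.card (ConjClasses ↥(stab φ s)) * Nat.card ↥(stab φ s) := by
    intro v hv
    rw [Finset.mem_filter] at hv
    obtain ⟨g, hg⟩ := hrep_conj v
    rw [← hv.2, ← hg, hinv]
  rw [Finset.sum_congr rfl hconst, Finset.sum_const, smul_eq_mul]
  -- the fibre is the orbit
  have hfib : (Finset.univ.filter (fun v => rep v = s)).card = (MulAction.orbit K s).ncard := by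
    rw [← Set.ncard_coe_finset]
    congr 1
    ext v
    simp only [Finset.coe_filter, Finset.mem_univ, true_and, Set.mem_ofPred_eq]
    constructor
    · intro hv
      obtain ⟨g, hg⟩ := hrep_conj v
      rw [hv] at hg
      refine ⟨g⁻¹, ?_⟩
      show φ g⁻¹ s = v
      rw [← hg, ← MulAut.mul_apply, ← map_mul, inv_mul_cancel, map_one]
      rfl
    · rintro ⟨g, hg⟩
      refine hrep_eq v s hs ⟨g⁻¹, ?_⟩
      have hg' : φ g s = v := hg
      rw [← hg', ← MulAut.mul_apply, ← map_mul, inv_mul_cancel, map_one]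
      rfl
  rw [hfib, ← MulAction.index_stabilizer, ← hstab]
  have := Subgroup.card_mul_index (stab φ s)
  rw [← this]
  ring

/-- Class number of a coprime semidirect product with abelian kernel. -/
theorem card_conjClasses_semidirect {N K : Type*} [Group N] [Group K] [Fintype N] [Finite K]
    (φ : K →* MulAut N) (hcomm : ∀ a b : N, a * b = b * a)
    (hcop : (Nat.card N).Coprime (Nat.card K)) (S : Finset N)
    (hrep : ∀ v : N, ∃! s, s ∈ S ∧ ∃ g : K, φ g v = s) :
    Nat.card (ConjClasses (N ⋊[φ] K)) = ∑ s ∈ S, Nat.card (ConjClasses ↥(stab φ s)) := by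
  have h1 := card_conjClasses_semidirect_mul φ hcomm hcop
  rw [sum_stab_eq φ S hrep, mul_comm] at h1
  exact Nat.eq_of_mul_eq_mul_left Nat.card_pos h1

end Cfsg.Agent.Helper82
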