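import Mathlib
import Cfsg.Agent.Lib.Helper82.ZassFeitAbel
import Cfsg.Agent.Lib.Helper82.TIFrobNorm

/-!
# Feit's bound for a (possibly non-abelian) T.I. Frobenius kernel: the coherent case
-/

set_option autoImplicit false
set_option linter.style.haveILetI false
set_option linter.unusedSectionVars false
set_option linter.unusedVariables false

namespace Cfsg.Agent.Helper82.ZassFeitCoh

open Cfsg Cfsg.Agent.Helper81 Cfsg.Agent.Helper82 Cfsg.Agent.Helper82.ZassFeitAbel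
open scoped ComplexConjugate

universe u

section indep

variable {G : Type u} [Group G] [Fintype G] (N : Subgroup G) [Fintype N]
  (K' : Subgroup N) [hKn : K'.Normal]
  (hC' : ∀ n ∈ K', n ≠ 1 → Subgroup.centralizer ({n} : Set N) ≤ K')

include hC' in
open Classical in
/-- The relevant characters are linearly independent on `K' ∖ {1}`. -/
theorem rel_indep
    (a : {χ : IrrCharacter N // ∃ k ∈ K', (χ : N → ℂ) k ≠ (χ : N → ℂ) 1} → ℂ)
    (h : ∀ k : N, k ∈ K' → k ≠ 1 → ∑ χ, a χ * (χ.1 : N → ℂ) k = 0) : ∀ χ, a χ = 0 := by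
  set F : N → ℂ := fun x => ∑ χ, a χ * (χ.1 : N → ℂ) x with hF
  have hF0 : ∀ x : N, x ≠ 1 → F x = 0 := by
    intro x hx
    by_cases hxK : x ∈ K'
    · exact h x hxK hx
    · simp only [hF]
      apply Finset.sum_eq_zero
      intro χ _
      rw [rel_vanish K' hC' χ.1.2 χ.2 hxK, mul_zero]
  have hinner : ∀ ψ : N → ℂ, classInner F ψ = (Nat.card N : ℂ)⁻¹ * (F 1 * conj (ψ 1)) := by
    intro ψ
    unfold classInner
    congr 1
    rw [Finset.sum_eq_single (1 : N)]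
    · intro x _ hx
      rw [hF0 x hx, zero_mul]
    · intro h
      exact absurd (Finset.mem_univ _) h
  have hFsum : F = ∑ χ, a χ • (χ.1 : N → ℂ) := by
    funext x
    simp only [hF, Finset.sum_apply, Pi.smul_apply, smul_eq_mul]
  have h1 : classInner F (fun _ => (1 : ℂ)) = 0 := by
    rw [hFsum, classInner_sum_left]
    apply Finset.sum_eq_zero
    intro χ _
    rw [classInner_smul_left, irr_orthonormal χ.1.2 isIrrCharacter_one, if_neg, mul_zero]
    intro hχ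
    obtain ⟨k, hk, hne⟩ := χ.2
    apply hne
    rw [hχ]
  have hN0 : (Nat.card N : ℂ)⁻¹ ≠ 0 := by
    apply inv_ne_zero
    exact_mod_cast (Nat.card_pos (α := N)).ne'
  have hF1 : F 1 = 0 := by
    have h2 := hinner (fun _ => 1)
    rw [h1, map_one, mul_one] at h2
    exact (mul_eq_zero.1 h2.symm).resolve_left hN0
  intro ξ
  have h2 : classInner F (ξ.1 : N → ℂ) = a ξ := by
    rw [hFsum, classInner_sum_left, Finset.sum_eq_single ξ]
    · rw [classInner_smul_left, irr_orthonormal ξ.1.2 ξ.1.2, if_pos rfl, mul_one]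
    · intro χ _ hne
      rw [classInner_smul_left, irr_orthonormal χ.1.2 ξ.1.2, if_neg, mul_zero]
      intro h'
      exact hne (Subtype.ext (Subtype.ext h'))
    · intro h
      exact absurd (Finset.mem_univ _) h
  rw [← h2, hinner, hF1, zero_mul, mul_zero]

open Classical in
/-- The squares of the degrees of the relevant characters. -/
theorem sum_rel_deg_sq :
    ∑ χ : {χ : IrrCharacter N // ∃ k ∈ K', (χ : N → ℂ) k ≠ (χ : N → ℂ) 1},
      (χ.1 : N → ℂ) 1 * (χ.1 : N → ℂ) 1 =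
        (K'.index : ℂ) * (Nat.card K' : ℂ) - (K'.index : ℂ) := by
  have hd2 : ∑ ζ : IrrCharacter N, (ζ : N → ℂ) 1 * (ζ : N → ℂ) 1 = (Nat.card N : ℂ) := by
    rw [← Cfsg.Agent.Helper79.sum_sq_degree]
    apply Finset.sum_congr rfl
    intro ζ _
    ring
  rw [sum_split N K', sum_sq_le_ker_complex K'] at hd2
  have hcard : (Nat.card N : ℂ) = (K'.index : ℂ) * (Nat.card K' : ℂ) := by
    rw [← Subgroup.index_mul_card K']
    push_cast
    ring
  rw [← hcard]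
  linear_combination hd2

end indep

section count

variable {G : Type u} [Group G] [Fintype G]

open Classical in
/-- There are at least as many conjugacy classes of `G` meeting `K ∖ {1}` as relevant characters
of `N`. -/
theorem card_rel_le (K N : Subgroup G) [Fintype N] (hKN : K ≤ N) [(K.subgroupOf N).Normal]
    (hTI : ∀ g : G, g ∉ N → ∀ k ∈ K, g * k * g⁻¹ ∈ K → k = 1)
    (hC' : ∀ n ∈ K.subgroupOf N, n ≠ 1 →
      Subgroup.centralizer ({n} : Set N) ≤ K.subgroupOf N) :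
    Fintype.card {χ : IrrCharacter N //
        ∃ k ∈ K.subgroupOf N, (χ : N → ℂ) k ≠ (χ : N → ℂ) 1} ≤
      ((Finset.univ.filter (fun k : G => k ∈ K ∧ k ≠ 1)).image ConjClasses.mk).card := by
  set s : Finset G := Finset.univ.filter (fun k : G => k ∈ K ∧ k ≠ 1) with hs
  set T : Finset (ConjClasses G) := s.image ConjClasses.mk with hT
  have hrep : ∀ C : T, ∃ k : G, k ∈ K ∧ k ≠ 1 ∧ ConjClasses.mk k = C.1 := by
    intro C
    obtain ⟨k, hk, hkC⟩ := Finset.mem_image.1 C.2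
    rw [hs, Finset.mem_filter] at hk
    exact ⟨k, hk.2.1, hk.2.2, hkC⟩
  choose rep hrepK hrep1 hrepC using hrep
  let Φ : ({χ : IrrCharacter N //
      ∃ k ∈ K.subgroupOf N, (χ : N → ℂ) k ≠ (χ : N → ℂ) 1} → ℂ) →ₗ[ℂ] (T → ℂ) :=
    { toFun := fun a C => ∑ χ, a χ * (χ.1 : N → ℂ) ⟨rep C, hKN (hrepK C)⟩
      map_add' := by
        intro a b
        funext C
        simp only [Pi.add_apply, add_mul, Finset.sum_add_distrib]
      map_smul' := by
        intro c a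
        funext C
        simp only [Pi.smul_apply, smul_eq_mul, RingHom.id_apply, Finset.mul_sum, mul_assoc] }
  have hinj : Function.Injective Φ := by
    rw [← LinearMap.ker_eq_bot, LinearMap.ker_eq_bot']
    intro a ha
    funext χ
    apply rel_indep N (K.subgroupOf N) hC' a _ χ
    intro k hk hk1
    have hkK : (k : G) ∈ K := Subgroup.mem_subgroupOf.1 hk
    have hk1' : (k : G) ≠ 1 := fun h => hk1 (Subtype.ext h)
    have hmem : ConjClasses.mk (k : G) ∈ T :=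
      Finset.mem_image.2 ⟨k, Finset.mem_filter.2 ⟨Finset.mem_univ _, hkK, hk1'⟩, rfl⟩
    have hC := congrFun ha ⟨_, hmem⟩
    have hconj := hrepC ⟨_, hmem⟩
    rw [ConjClasses.mk_eq_mk_iff_isConj, isConj_iff] at hconj
    obtain ⟨c, hc⟩ := hconj
    have hcN : c ∈ N := by
      by_contra hcN
      exact hrep1 _ (hTI c hcN _ (hrepK _) (by rw [hc]; exact hkK))
    have hkeq : k = (⟨c, hcN⟩ : N) * ⟨rep ⟨_, hmem⟩, hKN (hrepK _)⟩ * (⟨c, hcN⟩ : N)⁻¹ := by
      apply Subtype.ext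
      simp only [Subgroup.coe_mul, Subgroup.coe_inv]
      exact hc.symm
    have hval : ∀ χ : {χ : IrrCharacter N //
        ∃ k ∈ K.subgroupOf N, (χ : N → ℂ) k ≠ (χ : N → ℂ) 1},
        (χ.1 : N → ℂ) k = (χ.1 : N → ℂ) ⟨rep ⟨_, hmem⟩, hKN (hrepK _)⟩ := by
      intro χ
      exact (congrArg (χ.1 : N → ℂ) hkeq).trans
        (isClassFunction_of_isCharacter (IsIrrCharacter.isCharacter χ.1.2) _ _)
    rw [Finset.sum_congr rfl (fun χ _ => by rw [hval χ])]
    exact hC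
  have h1 := LinearMap.finrank_le_finrank_of_injective hinj
  rw [Module.finrank_fintype_fun_eq_card, Module.finrank_fintype_fun_eq_card,
    Fintype.card_coe] at h1
  exact h1

open Classical in
/-- There are at least `1 + t + b` conjugacy classes, where `t` bounds the number of classes
meeting `K ∖ {1}` from below and `b` is the number of classes not meeting `K`. -/
theorem class_count' (K : Subgroup G) (t : ℕ)
    (ht : t ≤ ((Finset.univ.filter (fun k : G => k ∈ K ∧ k ≠ 1)).image ConjClasses.mk).card) :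
    1 + t + Nat.card {C : ConjClasses G // ∀ g : G, ConjClasses.mk g = C → g ∉ K} ≤
      Nat.card (ConjClasses G) := by
  set s : Finset G := Finset.univ.filter (fun k : G => k ∈ K ∧ k ≠ 1) with hs
  set B : Finset (ConjClasses G) :=
    Finset.univ.filter (fun C : ConjClasses G => ∀ g : G, ConjClasses.mk g = C → g ∉ K) with hB
  have hBcard : Nat.card {C : ConjClasses G // ∀ g : G, ConjClasses.mk g = C → g ∉ K} = B.card := by
    rw [Nat.card_eq_fintype_card, Fintype.card_subtype]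
  have hd1 : Disjoint ({ConjClasses.mk (1 : G)} : Finset (ConjClasses G))
      (s.image ConjClasses.mk) := by
    rw [Finset.disjoint_singleton_left, Finset.mem_image]
    rintro ⟨k, hk, hmk⟩
    rw [hs, Finset.mem_filter] at hk
    rw [ConjClasses.mk_eq_mk_iff_isConj] at hmk
    have := isConj_one_right.1 hmk.symm
    exact hk.2.2 this
  have hd2 : Disjoint (({ConjClasses.mk (1 : G)} : Finset (ConjClasses G)) ∪
      (s.image ConjClasses.mk)) B := by
    rw [Finset.disjoint_left]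
    intro C hC hCB
    rw [hB, Finset.mem_filter] at hCB
    rw [Finset.mem_union, Finset.mem_singleton, Finset.mem_image] at hC
    rcases hC with rfl | ⟨k, hk, rfl⟩
    · exact hCB.2 1 rfl K.one_mem
    · rw [hs, Finset.mem_filter] at hk
      exact hCB.2 k rfl hk.2.1
  have hcard := Finset.card_le_univ ((({ConjClasses.mk (1 : G)} : Finset (ConjClasses G)) ∪
      (s.image ConjClasses.mk)) ∪ B)
  rw [Finset.card_union_of_disjoint hd2, Finset.card_union_of_disjoint hd1,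
    Finset.card_singleton] at hcard
  rw [hBcard, Nat.card_eq_fintype_card]
  omega

end count

section coh

variable {G : Type u} [Group G] [Fintype G] (N : Subgroup G) [Fintype N]
  (K' : Subgroup N) [hKn : K'.Normal]
  (hC' : ∀ n ∈ K', n ≠ 1 → Subgroup.centralizer ({n} : Set N) ≤ K')
  (hind : ∀ ϑ : N → ℂ, IsClassFunction N ϑ → (∀ x : N, x ∉ K' → ϑ x = 0) → ϑ 1 = 0 →
    ∀ x : N, Cfsg.indFun N ϑ x = ϑ x)
  [Fintype K']
  (hlin : ∀ ζ : IrrCharacter N, K' ≤ Cfsg.Agent.Helper79.irrKer ζ → (ζ : N → ℂ) 1 = 1)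
  (hInd : ∀ ζ : IrrCharacter N, K' ≤ Cfsg.Agent.Helper79.irrKer ζ →
    (ζ : N → ℂ) ≠ (fun _ => 1) → IsIrrCharacter G (indFun N (ζ : N → ℂ)) ∧
      ∀ k : N, k ∈ K' → k ≠ 1 → indFun N (ζ : N → ℂ) k = 1)
  (χ₀ : IrrCharacter G)
  (hperm : ∀ g : G, indFun N (fun _ : N => (1 : ℂ)) g = 1 + (χ₀ : G → ℂ) g)
  (hχ₀ : ∀ k : N, k ∈ K' → k ≠ 1 → (χ₀ : G → ℂ) k = 0)
  (S : Set (N → ℂ))
  (hS : S = {χ : N → ℂ | IsIrrCharacter N χ ∧ ∃ k ∈ K', χ k ≠ χ 1})
  (star : (N → ℂ) → (G → ℂ)) (hstar : IsLinearIsometryOn (zspan S) star)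
  (hext : ∀ α ∈ zspanOn S ({1}ᶜ : Set N), star α = indFun N α)
  (F : {χ : IrrCharacter N // ∃ k ∈ K', (χ : N → ℂ) k ≠ (χ : N → ℂ) 1} → IrrCharacter G)
  (hF : ∀ χ, star (χ.1 : N → ℂ) = (F χ : G → ℂ) ∨ star (χ.1 : N → ℂ) = -(F χ : G → ℂ))

include hS in
theorem rel_mem_S (χ : {χ : IrrCharacter N // ∃ k ∈ K', (χ : N → ℂ) k ≠ (χ : N → ℂ) 1}) :
    (χ.1 : N → ℂ) ∈ S := by
  rw [hS]
  exact ⟨χ.1.2, χ.2⟩

include hS hstar hF in
theorem F_inj : Function.Injective F := by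
  classical
  intro χ ξ hχξ
  by_contra hne
  have h1 : classInner (star (χ.1 : N → ℂ)) (star (ξ.1 : N → ℂ)) = 0 := by
    rw [hstar.2.2.1 _ (subset_zspan (rel_mem_S N K' S hS χ)) _
      (subset_zspan (rel_mem_S N K' S hS ξ)), irr_orthonormal χ.1.2 ξ.1.2, if_neg]
    intro h
    exact hne (Subtype.ext (Subtype.ext h))
  have h2 : classInner (F χ : G → ℂ) (F χ : G → ℂ) = 1 := by
    rw [irr_orthonormal (F χ).2 (F χ).2, if_pos rfl]
  rcases hF χ with h3 | h3 <;> rcases hF ξ with h4 | h4 <;> rw [h3, h4, ← hχξ] at h1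
  · rw [h2] at h1
    exact one_ne_zero h1
  · rw [classInner_neg_right, h2] at h1
    exact one_ne_zero (neg_eq_zero.1 h1)
  · rw [classInner_neg_left, h2] at h1
    exact one_ne_zero (neg_eq_zero.1 h1)
  · rw [classInner_neg_left, classInner_neg_right, neg_neg, h2] at h1
    exact one_ne_zero h1

include hF in
theorem F_sq (χ : {χ : IrrCharacter N // ∃ k ∈ K', (χ : N → ℂ) k ≠ (χ : N → ℂ) 1}) (g : G) :
    (F χ : G → ℂ) g * conj ((F χ : G → ℂ) g) =
      star (χ.1 : N → ℂ) g * conj (star (χ.1 : N → ℂ) g) := by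
  rcases hF χ with h | h
  · rw [h]
  · rw [h, Pi.neg_apply, map_neg]
    ring

include hC' hind hS hstar hext hF in
/-- A non-exceptional character is constant on `K' ∖ {1}`. -/
theorem nonexc_const_eq (htwo : ∃ χ ∈ S, ∃ ξ ∈ S, χ ≠ ξ)
    (ψ : IrrCharacter G) (hψ : ∀ χ, F χ ≠ ψ) (a b : N) (ha : a ∈ K') (hb : b ∈ K')
    (ha1 : a ≠ 1) (hb1 : b ≠ 1) : (ψ : G → ℂ) a = (ψ : G → ℂ) b := by
  by_contra hne
  have h := (tifn_exceptional_iff N K' hC' hind S hS star hstar hext htwo ψ.2).2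
    ⟨a, ha, b, hb, ha1, hb1, hne⟩
  obtain ⟨χ, hχ, hor⟩ := h
  have hχ' := hχ
  rw [hS] at hχ'
  have hpos : ∀ φ : IrrCharacter G, (ψ : G → ℂ) ≠ -(φ : G → ℂ) := by
    intro φ h'
    have h1 := congrFun h' 1
    rw [Pi.neg_apply, (Cfsg.Agent.Helper79.irr_one_eq ψ).1,
      (Cfsg.Agent.Helper79.irr_one_eq φ).1] at h1
    have h2 : ((charDegree (ψ : G → ℂ) + charDegree (φ : G → ℂ) : ℕ) : ℂ) = 0 := by
      push_cast
      linear_combination h1
    have h3 : charDegree (ψ : G → ℂ) + charDegree (φ : G → ℂ) = 0 := by exact_mod_cast h2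
    have := (Cfsg.Agent.Helper79.irr_one_eq ψ).2
    omega
  rcases hF ⟨⟨χ, hχ'.1⟩, hχ'.2⟩ with h1 | h1 <;> rcases hor with h2 | h2
  · exact hψ _ (Subtype.ext (h2.trans h1).symm)
  · exact hpos (F ⟨⟨χ, hχ'.1⟩, hχ'.2⟩) (by rw [h2, h1])
  · exact hpos (F ⟨⟨χ, hχ'.1⟩, hχ'.2⟩) (by rw [h2, h1])
  · exact hψ _ (Subtype.ext (by rw [h2, h1, neg_neg]))

include hC' hind hlin hS hstar hext hF in
open Classical in
/-- A non-exceptional character takes a constant integer value on `K' ∖ {1}`. -/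
theorem nonexc_const_int (htwo : ∃ χ ∈ S, ∃ ξ ∈ S, χ ≠ ξ)
    (k₀ : N) (hk₀ : k₀ ∈ K') (hk₀1 : k₀ ≠ 1)
    (ψ : IrrCharacter G) (hψ : ∀ χ, F χ ≠ ψ) :
    ∃ c : ℤ, ∀ k : N, k ∈ K' → k ≠ 1 → (ψ : G → ℂ) k = (c : ℂ) := by
  have hconst : ∀ k : N, k ∈ K' → k ≠ 1 → (ψ : G → ℂ) k = (ψ : G → ℂ) k₀ :=
    fun k hk hk1 => nonexc_const_eq N K' hC' hind S hS star hstar hext F hF htwo ψ hψ k k₀ hk hk₀
      hk1 hk₀1
  obtain ⟨m, -, -, hsum⟩ := sumK_restrict N K' hlin (IsIrrCharacter.isCharacter ψ.2)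
  have hs : ∑ k : K', (ψ : G → ℂ) ((k : N) : G) =
      (ψ : G → ℂ) 1 + ((Fintype.card K' - 1 : ℕ) : ℂ) * (ψ : G → ℂ) k₀ := by
    rw [← Finset.add_sum_erase Finset.univ _ (Finset.mem_univ (1 : K'))]
    rw [Finset.sum_congr rfl (fun (k : K') hk => hconst (k : N) k.2
      (fun h => (Finset.ne_of_mem_erase hk) (Subtype.ext h)))]
    rw [Finset.sum_const, Finset.card_erase_of_mem (Finset.mem_univ _), Finset.card_univ,
      nsmul_eq_mul]
    rfl
  have hH : 2 ≤ Fintype.card K' := by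
    have hne : (⟨k₀, hk₀⟩ : K') ≠ 1 := fun h => hk₀1 (congrArg Subtype.val h)
    exact Fintype.one_lt_card_iff_nontrivial.2 ⟨⟨_, _, hne⟩⟩
  have hsum' : (ψ : G → ℂ) 1 + ((Fintype.card K' - 1 : ℕ) : ℂ) * (ψ : G → ℂ) k₀ =
      (Fintype.card K' : ℂ) * ∑ ζ ∈ Finset.univ.filter
        (fun ζ : IrrCharacter N => K' ≤ Cfsg.Agent.Helper79.irrKer ζ), (m ζ : ℂ) := by
    rw [← hs, hsum, Nat.card_eq_fintype_card]
  have hne : ((Fintype.card K' - 1 : ℕ) : ℂ) ≠ 0 := by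
    have : Fintype.card K' - 1 ≠ 0 := by omega
    exact_mod_cast this
  have hq : (ψ : G → ℂ) k₀ = (((((Fintype.card K' : ℚ) * ((∑ ζ ∈ Finset.univ.filter
      (fun ζ : IrrCharacter N => K' ≤ Cfsg.Agent.Helper79.irrKer ζ), m ζ : ℕ) : ℚ) -
        (charDegree (ψ : G → ℂ) : ℚ)) / ((Fintype.card K' - 1 : ℕ) : ℚ) : ℚ)) : ℂ) := by
    rw [(Cfsg.Agent.Helper79.irr_one_eq ψ).1] at hsum'
    push_cast
    rw [eq_div_iff hne]
    linear_combination hsum'
  obtain ⟨z, hz⟩ := int_of_isIntegral_ratCast _ (by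
    rw [← hq]
    exact Cfsg.Agent.Helper79.irr_isIntegral ψ _)
  exact ⟨z, fun k hk hk1 => by rw [hconst k hk hk1, hq, hz]⟩

include hC' hlin hS hstar hF in
open Classical in
/-- Column orthogonality at `k ∈ K' ∖ {1}` in the coherent case. -/
theorem sum_nonexc_sq_coh {k : N} (hk : k ∈ K') (hk1 : k ≠ 1)
    (hcent : Nat.card (Subgroup.centralizer ({(k : G)} : Set G)) =
      Nat.card (Subgroup.centralizer ({k} : Set N))) (m : ℤ)
    (hm : ∀ χ : {χ : IrrCharacter N // ∃ k ∈ K', (χ : N → ℂ) k ≠ (χ : N → ℂ) 1},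
      star (χ.1 : N → ℂ) k - (χ.1 : N → ℂ) k =
        (m : ℂ) * (χ.1 : N → ℂ) 1 / (K'.index : ℂ)) :
    (K'.index : ℂ) * ∑ ψ ∈ Finset.univ.filter (fun ψ : IrrCharacter G => ∀ χ, F χ ≠ ψ),
      (ψ : G → ℂ) k * conj ((ψ : G → ℂ) k) =
        (K'.index : ℂ) ^ 2 + 2 * (m : ℂ) * (K'.index : ℂ) -
          (m : ℂ) ^ 2 * ((Nat.card K' : ℂ) - 1) := by
  have hinj := F_inj N K' S hS star hstar F hF
  have hE : (K'.index : ℂ) ≠ 0 := by
    exact_mod_cast Subgroup.index_ne_zero_of_finite (H := K')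
  have hG := Cfsg.Agent.Helper79.col_orth_self (k : G)
  rw [hcent, sum_split_G N K' F hinj] at hG
  have hN := Cfsg.Agent.Helper79.col_orth_self k
  rw [sum_split N K'] at hN
  have h1 : ∀ ζ ∈ Finset.univ.filter
      (fun ζ : IrrCharacter N => K' ≤ Cfsg.Agent.Helper79.irrKer ζ),
      (ζ : N → ℂ) k * conj ((ζ : N → ℂ) k) = (ζ : N → ℂ) 1 * (ζ : N → ℂ) 1 := by
    intro ζ hζ
    rw [Finset.mem_filter] at hζ
    rw [(Cfsg.Agent.Helper79.mem_irrKer ζ k).1 (hζ.2 hk), (Cfsg.Agent.Helper79.irr_one_eq ζ).1,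
      Complex.conj_natCast]
  rw [Finset.sum_congr rfl h1, sum_sq_le_ker_complex K'] at hN
  -- degree sums
  have hd1 := Cfsg.Agent.Helper79.sum_degree_mul k hk1
  rw [sum_split N K'] at hd1
  have h2 : ∀ ζ ∈ Finset.univ.filter
      (fun ζ : IrrCharacter N => K' ≤ Cfsg.Agent.Helper79.irrKer ζ),
      (ζ : N → ℂ) 1 * (ζ : N → ℂ) k = (ζ : N → ℂ) 1 * (ζ : N → ℂ) 1 := by
    intro ζ hζ
    rw [Finset.mem_filter] at hζ
    rw [(Cfsg.Agent.Helper79.mem_irrKer ζ k).1 (hζ.2 hk)]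
  rw [Finset.sum_congr rfl h2, sum_sq_le_ker_complex K'] at hd1
  have hd2 : ∑ ζ : IrrCharacter N, (ζ : N → ℂ) 1 * (ζ : N → ℂ) 1 = (Nat.card N : ℂ) := by
    rw [← Cfsg.Agent.Helper79.sum_sq_degree]
    apply Finset.sum_congr rfl
    intro ζ _
    ring
  rw [sum_split N K', sum_sq_le_ker_complex K'] at hd2
  have hcard : (Nat.card N : ℂ) = (K'.index : ℂ) * (Nat.card K' : ℂ) := by
    rw [← Subgroup.index_mul_card K']
    push_cast
    ring
  -- the exceptional characters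
  have hexp : ∀ χ : {χ : IrrCharacter N // ∃ k ∈ K', (χ : N → ℂ) k ≠ (χ : N → ℂ) 1},
      (F χ : G → ℂ) k * conj ((F χ : G → ℂ) k) =
        (χ.1 : N → ℂ) k * conj ((χ.1 : N → ℂ) k) +
        ((m : ℂ) / (K'.index : ℂ)) * ((χ.1 : N → ℂ) 1 * (χ.1 : N → ℂ) k +
          conj ((χ.1 : N → ℂ) 1 * (χ.1 : N → ℂ) k)) +
        ((m : ℂ) / (K'.index : ℂ)) ^ 2 * ((χ.1 : N → ℂ) 1 * (χ.1 : N → ℂ) 1) := by
    intro χ
    rw [F_sq N K' star F hF χ]
    have h3 : star (χ.1 : N → ℂ) k = (χ.1 : N → ℂ) k +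
        (m : ℂ) * (χ.1 : N → ℂ) 1 / (K'.index : ℂ) := by
      linear_combination hm χ
    rw [h3, (Cfsg.Agent.Helper79.irr_one_eq χ.1).1]
    simp only [map_add, map_mul, map_div₀, map_intCast, map_natCast]
    field_simp
    ring
  rw [Finset.sum_congr rfl (fun χ _ => hexp χ), Finset.sum_add_distrib, Finset.sum_add_distrib,
    ← Finset.mul_sum, ← Finset.mul_sum, Finset.sum_add_distrib, ← map_sum] at hG
  have hs1 : ∑ χ : {χ : IrrCharacter N // ∃ k ∈ K', (χ : N → ℂ) k ≠ (χ : N → ℂ) 1},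
      (χ.1 : N → ℂ) 1 * (χ.1 : N → ℂ) k = -(K'.index : ℂ) := by
    linear_combination hd1
  have hs2 : ∑ χ : {χ : IrrCharacter N // ∃ k ∈ K', (χ : N → ℂ) k ≠ (χ : N → ℂ) 1},
      (χ.1 : N → ℂ) 1 * (χ.1 : N → ℂ) 1 = (K'.index : ℂ) * (Nat.card K' : ℂ) - (K'.index : ℂ) := by
    rw [← hcard]
    linear_combination hd2
  rw [hs1, hs2, map_neg, Complex.conj_natCast] at hG
  have h4 : ∑ ψ ∈ Finset.univ.filter (fun ψ : IrrCharacter G => ∀ χ, F χ ≠ ψ),
      (ψ : G → ℂ) k * conj ((ψ : G → ℂ) k) =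
      (K'.index : ℂ) - ((m : ℂ) / (K'.index : ℂ)) * (-(K'.index : ℂ) + -(K'.index : ℂ)) -
        ((m : ℂ) / (K'.index : ℂ)) ^ 2 *
          ((K'.index : ℂ) * (Nat.card K' : ℂ) - (K'.index : ℂ)) := by
    linear_combination hG - hN
  rw [h4]
  field_simp
  ring

include hC' hind hlin hInd hperm hS hstar hext hF in
open Classical in
/-- The constant `m` of the coherent isometry vanishes, by counting the non-exceptional
characters. -/
theorem m_zero (htwo : ∃ χ ∈ S, ∃ ξ ∈ S, χ ≠ ξ)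
    (k₀ : N) (hk₀ : k₀ ∈ K') (hk₀1 : k₀ ≠ 1)
    (hcent : Nat.card (Subgroup.centralizer ({(k₀ : G)} : Set G)) =
      Nat.card (Subgroup.centralizer ({k₀} : Set N))) (m : ℤ)
    (hm : ∀ χ : {χ : IrrCharacter N // ∃ k ∈ K', (χ : N → ℂ) k ≠ (χ : N → ℂ) 1},
      ∀ k : N, k ∈ K' → k ≠ 1 → star (χ.1 : N → ℂ) k - (χ.1 : N → ℂ) k =
        (m : ℂ) * (χ.1 : N → ℂ) 1 / (K'.index : ℂ))
    (hcount : K'.index + 1 +
      Fintype.card {χ : IrrCharacter N // ∃ k ∈ K', (χ : N → ℂ) k ≠ (χ : N → ℂ) 1} ≤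
        Fintype.card (IrrCharacter G))
    (hbig : 2 * K'.index + 1 < Nat.card K') : m = 0 := by
  have hinj := F_inj N K' S hS star hstar F hF
  set nonexc := Finset.univ.filter (fun ψ : IrrCharacter G => ∀ χ, F χ ≠ ψ) with hnon
  have hsq := sum_nonexc_sq_coh N K' hC' hlin S hS star hstar F hF hk₀ hk₀1 hcent m
    (fun χ => hm χ k₀ hk₀ hk₀1)
  have hcard : nonexc.card +
      Fintype.card {χ : IrrCharacter N // ∃ k ∈ K', (χ : N → ℂ) k ≠ (χ : N → ℂ) 1} =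
        Fintype.card (IrrCharacter G) := by
    have h1 := Finset.card_filter_add_card_filter_not
      (s := (Finset.univ : Finset (IrrCharacter G))) (fun ψ : IrrCharacter G => ∀ χ, F χ ≠ ψ)
    have h2 : Finset.univ.filter (fun ψ : IrrCharacter G => ¬ ∀ χ, F χ ≠ ψ) =
        Finset.univ.image F := by
      ext ψ
      simp only [Finset.mem_filter, Finset.mem_univ, true_and, Finset.mem_image, not_forall,
        not_not]
    rw [h2, Finset.card_image_of_injective _ hinj, Finset.card_univ, Finset.card_univ] at h1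
    exact h1
  have hval : ∀ ψ : IrrCharacter G, ∃ z : ℤ, ψ ∈ nonexc →
      ((ψ : G → ℂ) k₀ * conj ((ψ : G → ℂ) k₀) = (z : ℂ) ∧ 0 ≤ z ∧ (ψ ≠ χ₀ → 1 ≤ z)) := by
    intro ψ
    by_cases hψ : ψ ∈ nonexc
    · rw [hnon, Finset.mem_filter] at hψ
      obtain ⟨a, ha⟩ := nonexc_const_int N K' hC' hind hlin S hS star hstar hext F hF htwo k₀ hk₀
        hk₀1 ψ hψ.2
      refine ⟨a ^ 2, fun _ => ⟨?_, sq_nonneg a, ?_⟩⟩
      · rw [ha k₀ hk₀ hk₀1, map_intCast]
        push_cast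
        ring
      · intro hne
        have ha0 : a ≠ 0 := by
          rintro rfl
          apply hne
          have hs : ∑ k : K', (ψ : G → ℂ) ((k : N) : G) = (ψ : G → ℂ) 1 := by
            rw [Finset.sum_eq_single (1 : K')]
            · rfl
            · intro k _ hk1
              rw [ha k k.2 (fun h => hk1 (Subtype.ext h))]
              simp
            · intro h
              exact absurd (Finset.mem_univ _) h
          have hne0 : ∑ k : K', (ψ : G → ℂ) ((k : N) : G) ≠ 0 := by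
            rw [hs, (Cfsg.Agent.Helper79.irr_one_eq ψ).1]
            exact_mod_cast (Cfsg.Agent.Helper79.irr_one_eq ψ).2.ne'
          rcases classify N K' hlin hInd χ₀ hperm ψ hne0 with h | h | ⟨ζ, hζ, hζ1, h⟩
          · exfalso
            have := ha k₀ hk₀ hk₀1
            rw [h] at this
            simp at this
          · exact h
          · exfalso
            have := ha k₀ hk₀ hk₀1
            rw [h, (hInd ζ hζ hζ1).2 k₀ hk₀ hk₀1] at this
            simp at this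
        rcases lt_or_gt_of_ne ha0 with h | h
        · nlinarith
        · nlinarith
    · exact ⟨0, fun h => absurd h hψ⟩
  choose z hz using hval
  have hsumZ : (K'.index : ℂ) * ((∑ ψ ∈ nonexc, z ψ : ℤ) : ℂ) =
      (K'.index : ℂ) ^ 2 + 2 * (m : ℂ) * (K'.index : ℂ) -
          (m : ℂ) ^ 2 * ((Nat.card K' : ℂ) - 1) := by
    rw [← hsq]
    congr 1
    push_cast
    apply Finset.sum_congr rfl
    intro ψ hψ
    exact ((hz ψ hψ).1).symm
  have hge : ((nonexc.card : ℤ) - 1) ≤ ∑ ψ ∈ nonexc, z ψ := by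
    calc ((nonexc.card : ℤ) - 1) ≤ ((nonexc.erase χ₀).card : ℤ) := by
          have := Finset.pred_card_le_card_erase (s := nonexc) (a := χ₀)
          omega
      _ = ∑ ψ ∈ nonexc.erase χ₀, (1 : ℤ) := by simp
      _ ≤ ∑ ψ ∈ nonexc.erase χ₀, z ψ := Finset.sum_le_sum (fun ψ hψ =>
          (hz ψ (Finset.mem_of_mem_erase hψ)).2.2 (Finset.ne_of_mem_erase hψ))
      _ ≤ ∑ ψ ∈ nonexc, z ψ := Finset.sum_le_sum_of_subset_of_nonneg (Finset.erase_subset _ _)
          (fun ψ hψ _ => (hz ψ hψ).2.1)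
  have hn : (K'.index : ℤ) + 1 ≤ (nonexc.card : ℤ) := by
    have : K'.index + 1 ≤ nonexc.card := by omega
    exact_mod_cast this
  have hkey : (K'.index : ℤ) * (∑ ψ ∈ nonexc, z ψ) =
      (K'.index : ℤ) ^ 2 + 2 * m * (K'.index : ℤ) - m ^ 2 * ((Nat.card K' : ℤ) - 1) := by
    have h' : (((K'.index : ℤ) * (∑ ψ ∈ nonexc, z ψ) : ℤ) : ℂ) =
        (((K'.index : ℤ) ^ 2 + 2 * m * (K'.index : ℤ) -
          m ^ 2 * ((Nat.card K' : ℤ) - 1) : ℤ) : ℂ) := by
      push_cast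
      push_cast at hsumZ
      exact hsumZ
    exact_mod_cast h'
  have he : (1 : ℤ) ≤ (K'.index : ℤ) := by
    have : K'.index ≠ 0 := Subgroup.index_ne_zero_of_finite
    have h1 : 1 ≤ K'.index := Nat.one_le_iff_ne_zero.2 this
    exact_mod_cast h1
  have hh : 2 * (K'.index : ℤ) + 1 < (Nat.card K' : ℤ) := by exact_mod_cast hbig
  have hS' : (K'.index : ℤ) ≤ ∑ ψ ∈ nonexc, z ψ := by linarith
  have h1 : (K'.index : ℤ) * (K'.index : ℤ) ≤ (K'.index : ℤ) * (∑ ψ ∈ nonexc, z ψ) :=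
    mul_le_mul_of_nonneg_left hS' (by linarith)
  have h2 : m ^ 2 * ((Nat.card K' : ℤ) - 1) ≤ 2 * m * (K'.index : ℤ) := by nlinarith
  by_contra hm0
  rcases lt_or_gt_of_ne hm0 with h0 | h0
  · have h3 : 0 < m ^ 2 := by positivity
    nlinarith
  · have h3 : m * ((Nat.card K' : ℤ) - 1) ≤ 2 * (K'.index : ℤ) := by
      have h4 : m * (m * ((Nat.card K' : ℤ) - 1)) ≤ m * (2 * (K'.index : ℤ)) := by nlinarith
      exact le_of_mul_le_mul_left h4 h0
    nlinarith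

include hC' hlin hInd hperm hχ₀ hF in
open Classical in
/-- If the coherent isometry agrees with the identity on `K' ∖ {1}`, an exceptional character of
degree-`e` type restricts irreducibly. -/
theorem exc_restrict_coh
    (χ₁ χ₂ : {χ : IrrCharacter N // ∃ k ∈ K', (χ : N → ℂ) k ≠ (χ : N → ℂ) 1}) (hne : χ₂ ≠ χ₁)
    (hm0 : ∀ k : N, k ∈ K' → k ≠ 1 → star (χ₁.1 : N → ℂ) k = (χ₁.1 : N → ℂ) k) :
    ∀ x : N, (F χ₁ : G → ℂ) x = (χ₁.1 : N → ℂ) x := by
  obtain ⟨ε, hε, hFε⟩ : ∃ ε : ℂ, (ε = 1 ∨ ε = -1) ∧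
      ∀ g : G, (F χ₁ : G → ℂ) g = ε * star (χ₁.1 : N → ℂ) g := by
    rcases hF χ₁ with h | h
    · exact ⟨1, Or.inl rfl, fun g => by rw [h, one_mul]⟩
    · exact ⟨-1, Or.inr rfl, fun g => by rw [h, Pi.neg_apply]; ring⟩
  have hε0 : ε ≠ 0 := by
    rcases hε with h | h <;> rw [h] <;> norm_num
  -- the sum over `K'` vanishes
  have hsum0 : ∑ k : K', (F χ₁ : G → ℂ) ((k : N) : G) = 0 := by
    by_contra hsum
    have hconst : ∃ v : ℂ, ∀ k : N, k ∈ K' → k ≠ 1 → (F χ₁ : G → ℂ) k = v := by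
      rcases classify N K' hlin hInd χ₀ hperm (F χ₁) hsum with h | h | ⟨ζ, hζ, hζ1, h⟩
      · exact ⟨1, fun k _ _ => by rw [h]⟩
      · exact ⟨0, fun k hk hk1 => by rw [h]; exact hχ₀ k hk hk1⟩
      · exact ⟨1, fun k hk hk1 => by rw [h]; exact (hInd ζ hζ hζ1).2 k hk hk1⟩
    obtain ⟨v, hv⟩ := hconst
    obtain ⟨a, ha, b, hb, ha1, hb1, hab'⟩ := rel_nonconst K' hC' χ₁.1.2 χ₁.2 χ₂.1.2 χ₂.2
      (fun h => hne (Subtype.ext (Subtype.ext h)).symm)
    have h1 := hv a ha ha1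
    have h2 := hv b hb hb1
    rw [hFε, hm0 a ha ha1] at h1
    rw [hFε, hm0 b hb hb1] at h2
    have h3 : ε * ((χ₁.1 : N → ℂ) a - (χ₁.1 : N → ℂ) b) = 0 := by linear_combination h1 - h2
    rcases mul_eq_zero.1 h3 with h | h
    · exact hε0 h
    · exact hab' (sub_eq_zero.1 h)
  obtain ⟨m, hm, hdec, hsum⟩ := sumK_restrict N K' hlin (IsIrrCharacter.isCharacter (F χ₁).2)
  rw [hsum0] at hsum
  have hK0 : (Nat.card K' : ℂ) ≠ 0 := by exact_mod_cast (Nat.card_pos (α := K')).ne'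
  have hs0 : ∑ ζ ∈ Finset.univ.filter
      (fun ζ : IrrCharacter N => K' ≤ Cfsg.Agent.Helper79.irrKer ζ), (m ζ : ℂ) = 0 :=
    (mul_eq_zero.1 hsum.symm).resolve_left hK0
  have hm0' : ∀ ζ : IrrCharacter N, K' ≤ Cfsg.Agent.Helper79.irrKer ζ → m ζ = 0 := by
    intro ζ hζ
    have h1 : ∑ ζ ∈ Finset.univ.filter
        (fun ζ : IrrCharacter N => K' ≤ Cfsg.Agent.Helper79.irrKer ζ), m ζ = 0 := by
      exact_mod_cast hs0
    exact Finset.sum_eq_zero_iff.1 h1 ζ (Finset.mem_filter.2 ⟨Finset.mem_univ _, hζ⟩)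
  have hx : ∀ x : N, (F χ₁ : G → ℂ) x =
      ∑ ξ : {χ : IrrCharacter N // ∃ k ∈ K', (χ : N → ℂ) k ≠ (χ : N → ℂ) 1},
        (m ξ.1 : ℂ) * (ξ.1 : N → ℂ) x := by
    intro x
    have h1 := congrFun hdec x
    simp only [Finset.sum_apply, Pi.smul_apply, smul_eq_mul] at h1
    rw [h1, sum_split N K' (fun ζ => (m ζ : ℂ) * (ζ : N → ℂ) x)]
    rw [Finset.sum_eq_zero (fun ζ hζ => by
      rw [hm0' ζ (Finset.mem_filter.1 hζ).2, Nat.cast_zero, zero_mul]), zero_add]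
  have hzero := rel_indep N K' hC'
    (fun ξ => (m ξ.1 : ℂ) - ε * (if ξ = χ₁ then 1 else 0)) (by
      intro k hk hk1
      have h1 := hx k
      rw [hFε, hm0 k hk hk1] at h1
      simp only [sub_mul, Finset.sum_sub_distrib, mul_assoc, ite_mul, one_mul, zero_mul,
        ← Finset.mul_sum, Finset.sum_ite_eq', Finset.mem_univ, if_true]
      linear_combination -h1)
  have h1 := hzero χ₁
  simp only [if_true] at h1
  have hε1 : ε = 1 := by
    rcases hε with h | h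
    · exact h
    · exfalso
      rw [h] at h1
      have h2 : ((m χ₁.1 + 1 : ℕ) : ℂ) = 0 := by
        push_cast
        linear_combination h1
      exact Nat.succ_ne_zero (m χ₁.1) (by exact_mod_cast h2)
  intro x
  rw [hx x, Finset.sum_eq_single χ₁]
  · have h2 : (m χ₁.1 : ℂ) = 1 := by
      rw [hε1] at h1
      linear_combination h1
    rw [h2, one_mul]
  · intro ξ _ hξ
    have h2 := hzero ξ
    simp only [if_neg hξ, mul_zero, sub_zero] at h2
    rw [h2, zero_mul]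
  · intro h
    exact absurd (Finset.mem_univ _) h

end coh

section tensor

variable {G : Type u} [Group G] [Fintype G] (N : Subgroup G) [Fintype N]
  (K' : Subgroup N) [hKn : K'.Normal]
  (hC' : ∀ n ∈ K', n ≠ 1 → Subgroup.centralizer ({n} : Set N) ≤ K')
  [Fintype K']
  (hlin : ∀ ζ : IrrCharacter N, K' ≤ Cfsg.Agent.Helper79.irrKer ζ → (ζ : N → ℂ) 1 = 1)
  (hInd : ∀ ζ : IrrCharacter N, K' ≤ Cfsg.Agent.Helper79.irrKer ζ →
    (ζ : N → ℂ) ≠ (fun _ => 1) → IsIrrCharacter G (indFun N (ζ : N → ℂ)) ∧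
      ∀ k : N, k ∈ K' → k ≠ 1 → indFun N (ζ : N → ℂ) k = 1)

include hC' hlin hInd in
open Classical in
/-- The tensor-square bound with the degree of `Λ` as a hypothesis (no commutativity needed). -/
theorem tensor_bound' {Λ : G → ℂ} (hΛ : IsIrrCharacter G Λ)
    (χ₁ : {χ : IrrCharacter N // ∃ k ∈ K', (χ : N → ℂ) k ≠ (χ : N → ℂ) 1})
    (hres : ∀ x : N, Λ x = (χ₁.1 : N → ℂ) x) (hΛ1 : Λ 1 = (K'.index : ℂ))
    (hidx : N.index = Nat.card K' + 1) :
    2 + (K'.index - 1) * N.index ≤ 2 * (K'.index * K'.index) := by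
  have hΦchar : IsCharacter G (fun g => Λ g * conj (Λ g)) := tensor_isCharacter hΛ
  obtain ⟨m, hm⟩ := exists_nat_decomp hΦchar
  have hmin : ∀ ψ : IrrCharacter G,
      classInner (fun g => Λ g * conj (Λ g)) (ψ : G → ℂ) = (m ψ : ℂ) := by
    intro ψ
    rw [hm]
    exact classInner_nat_decomp (fun ψ => (m ψ : ℂ)) ψ
  have hsumdeg : K'.index * K'.index = ∑ ψ : IrrCharacter G, m ψ * charDegree (ψ : G → ℂ) := by
    have h1 := congrFun hm 1
    simp only [Finset.sum_apply, Pi.smul_apply, smul_eq_mul] at h1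
    rw [hΛ1, Complex.conj_natCast, Finset.sum_congr rfl (fun ψ _ => by
      rw [(Cfsg.Agent.Helper79.irr_one_eq ψ).1])] at h1
    exact_mod_cast h1
  set triv : IrrCharacter N := ⟨fun _ => 1, isIrrCharacter_one⟩ with htriv
  have htriv_mem : triv ∈ Finset.univ.filter
      (fun ζ : IrrCharacter N => K' ≤ Cfsg.Agent.Helper79.irrKer ζ) := by
    rw [Finset.mem_filter]
    exact ⟨Finset.mem_univ _, fun k _ => (Cfsg.Agent.Helper79.mem_irrKer triv k).2 rfl⟩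
  set Z := (Finset.univ.filter
      (fun ζ : IrrCharacter N => K' ≤ Cfsg.Agent.Helper79.irrKer ζ)).erase triv with hZ
  have hZcard : Z.card = K'.index - 1 := by
    rw [hZ, Finset.card_erase_of_mem htriv_mem, nonrel_card N K' hlin]
  have hZmem : ∀ ζ ∈ Z, K' ≤ Cfsg.Agent.Helper79.irrKer ζ ∧ (ζ : N → ℂ) ≠ (fun _ => 1) := by
    intro ζ hζ
    rw [hZ, Finset.mem_erase, Finset.mem_filter] at hζ
    exact ⟨hζ.2.2, fun h => hζ.1 (Subtype.ext h)⟩
  let I : IrrCharacter N → IrrCharacter G := fun ζ =>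
    if h : K' ≤ Cfsg.Agent.Helper79.irrKer ζ ∧ (ζ : N → ℂ) ≠ (fun _ => 1) then
      ⟨indFun N (ζ : N → ℂ), (hInd ζ h.1 h.2).1⟩ else ⟨fun _ => 1, isIrrCharacter_one⟩
  have hI : ∀ ζ ∈ Z, (I ζ : G → ℂ) = indFun N (ζ : N → ℂ) := by
    intro ζ hζ
    simp only [I, dif_pos (hZmem ζ hζ)]
  have hZT : Z.card ≤ 2 * (Z.image I).card := by
    apply Finset.card_le_mul_card_image Z 2
    intro ψ hψ
    refine le_trans (Finset.card_le_card ?_) (ind_fiber N K' hlin hInd hidx ψ)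
    intro ζ hζ
    rw [Finset.mem_filter] at hζ
    obtain ⟨h1, h2⟩ := hZmem ζ hζ.1
    rw [Finset.mem_filter]
    refine ⟨Finset.mem_filter.2 ⟨Finset.mem_univ _, h1⟩, h2, ?_⟩
    rw [← hI ζ hζ.1, hζ.2]
  have hTm : ∀ ψ ∈ Z.image I, m ψ = 1 ∧ charDegree (ψ : G → ℂ) = N.index := by
    intro ψ hψ
    rw [Finset.mem_image] at hψ
    obtain ⟨ζ, hζ, rfl⟩ := hψ
    obtain ⟨h1, h2⟩ := hZmem ζ hζ
    constructor
    · have h3 := hmin (I ζ)
      rw [hI ζ hζ, tensor_inner_ind N K' hC' hlin hΛ χ₁ hres ζ h1] at h3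
      exact_mod_cast h3.symm
    · have h3 := (Cfsg.Agent.Helper79.irr_one_eq (I ζ)).1
      have h4 : (I ζ : G → ℂ) 1 = (N.index : ℂ) := by
        rw [hI ζ hζ, indFun_one, hlin ζ h1, mul_one]
      rw [h4] at h3
      exact_mod_cast h3.symm
  set trivG : IrrCharacter G := ⟨fun _ => 1, isIrrCharacter_one⟩ with htrivG
  have htrivG1 : m trivG = 1 ∧ charDegree (trivG : G → ℂ) = 1 := by
    constructor
    · have h3 := hmin trivG
      rw [show (trivG : G → ℂ) = fun _ => 1 from rfl, tensor_inner_one hΛ] at h3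
      exact_mod_cast h3.symm
    · have h3 := (Cfsg.Agent.Helper79.irr_one_eq trivG).1
      have h4 : (trivG : G → ℂ) 1 = 1 := rfl
      rw [h4] at h3
      exact_mod_cast h3.symm
  have hnotin : trivG ∉ Z.image I := by
    intro h
    have h3 := (hTm trivG h).2
    rw [htrivG1.2, hidx] at h3
    have h4 := Nat.card_pos (α := K')
    omega
  have hle : ∑ ψ ∈ insert trivG (Z.image I), m ψ * charDegree (ψ : G → ℂ) ≤
      ∑ ψ : IrrCharacter G, m ψ * charDegree (ψ : G → ℂ) :=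
    Finset.sum_le_sum_of_subset (Finset.subset_univ _)
  rw [Finset.sum_insert hnotin, htrivG1.1, htrivG1.2, Finset.sum_congr rfl (fun ψ hψ => by
    rw [(hTm ψ hψ).1, (hTm ψ hψ).2]), Finset.sum_const, smul_eq_mul, ← hsumdeg] at hle
  rw [hZcard] at hZT
  have h1 := Nat.mul_le_mul_right N.index hZT
  nlinarith [h1, hle]

end tensor

section main

variable {G : Type u} [Group G] [Fintype G]

/-- The coherent core with the T.I. induction property as a hypothesis. -/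
theorem core_coh_aux (K N : Subgroup G) [Fintype N] [hKn : (K.subgroupOf N).Normal]
    (hTI : ∀ g : G, g ∉ N → ∀ k ∈ K, g * k * g⁻¹ ∈ K → k = 1) (hlt : K < N)
    (hC : ∀ k ∈ K, k ≠ 1 → Subgroup.centralizer ({k} : Set G) ≤ K)
    (hind : ∀ ϑ : N → ℂ, IsClassFunction N ϑ → (∀ x : N, x ∉ K.subgroupOf N → ϑ x = 0) →
      ϑ 1 = 0 → ∀ x : N, Cfsg.indFun N ϑ x = ϑ x)
    (hlin : ∀ ζ : N → ℂ, Cfsg.IsIrrCharacter N ζ → (∀ k : N, (k : G) ∈ K → ζ k = ζ 1) → ζ 1 = 1)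
    (hInd : ∀ ζ : N → ℂ, Cfsg.IsCharacter N ζ → ζ 1 = 1 → (∀ k : N, (k : G) ∈ K → ζ k = 1) →
      ζ ≠ (fun _ => 1) → Cfsg.IsIrrCharacter G (Cfsg.indFun N ζ) ∧
        ∀ k ∈ K, k ≠ 1 → Cfsg.indFun N ζ k = 1)
    (hperm : ∃ χ₀ : G → ℂ, Cfsg.IsIrrCharacter G χ₀ ∧
      (∀ g, Cfsg.indFun N (fun _ : N => (1 : ℂ)) g = 1 + χ₀ g) ∧ ∀ k ∈ K, k ≠ 1 → χ₀ k = 0)
    (hcls : K.relIndex N ≤
      Nat.card {C : ConjClasses G // ∀ g : G, ConjClasses.mk g = C → g ∉ K})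
    (hidx : N.index = Nat.card K + 1)
    (hbig : 2 * K.relIndex N + 1 < Nat.card K)
    (hone : ∃ χ₁ : N → ℂ, Cfsg.IsIrrCharacter N χ₁ ∧ (∃ k : N, (k : G) ∈ K ∧ χ₁ k ≠ χ₁ 1) ∧
      χ₁ 1 = (K.relIndex N : ℂ))
    (star : (N → ℂ) → (G → ℂ))
    (hstar : Cfsg.IsLinearIsometryOn (Cfsg.zspan {χ : N → ℂ | Cfsg.IsIrrCharacter N χ ∧
      ∃ k : N, (k : G) ∈ K ∧ χ k ≠ χ 1}) star)
    (hext : ∀ α ∈ Cfsg.zspanOn {χ : N → ℂ | Cfsg.IsIrrCharacter N χ ∧
      ∃ k : N, (k : G) ∈ K ∧ χ k ≠ χ 1} ({1}ᶜ : Set N), star α = Cfsg.indFun N α) : False := by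
  classical
  have hle : K ≤ N := hlt.le
  have hC' := tifn_hC' K N hC
  obtain ⟨S, hSdef⟩ : ∃ S : Set (N → ℂ), S = {χ : N → ℂ | Cfsg.IsIrrCharacter N χ ∧
      ∃ k : N, (k : G) ∈ K ∧ χ k ≠ χ 1} := ⟨_, rfl⟩
  rw [← hSdef] at hstar hext
  have hS' := tifn_hS K N S hSdef
  have hcK : Nat.card (K.subgroupOf N) = Nat.card K :=
    Nat.card_congr (Subgroup.subgroupOfEquivOfLe hle).toEquiv
  haveI : Fintype (K.subgroupOf N) := Fintype.ofFinite _
  have hlin' : ∀ ζ : IrrCharacter N, K.subgroupOf N ≤ Cfsg.Agent.Helper79.irrKer ζ →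
      (ζ : N → ℂ) 1 = 1 :=
    fun ζ hζ => hlin ζ ζ.2 (fun k hk =>
      (Cfsg.Agent.Helper79.mem_irrKer ζ k).1 (hζ (Subgroup.mem_subgroupOf.2 hk)))
  have hInd' : ∀ ζ : IrrCharacter N, K.subgroupOf N ≤ Cfsg.Agent.Helper79.irrKer ζ →
      (ζ : N → ℂ) ≠ (fun _ => 1) → IsIrrCharacter G (indFun N (ζ : N → ℂ)) ∧
        ∀ k : N, k ∈ K.subgroupOf N → k ≠ 1 → indFun N (ζ : N → ℂ) k = 1 := by
    intro ζ hζ hζ1
    have hz1 := hlin' ζ hζ
    obtain ⟨h1, h2⟩ := hInd ζ (IsIrrCharacter.isCharacter ζ.2) hz1 (fun k hk => by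
      rw [(Cfsg.Agent.Helper79.mem_irrKer ζ k).1 (hζ (Subgroup.mem_subgroupOf.2 hk)), hz1]) hζ1
    exact ⟨h1, fun k hk hk1 => h2 k (Subgroup.mem_subgroupOf.1 hk)
      (fun h => hk1 (Subtype.ext h))⟩
  obtain ⟨χ₀f, hχ₀irr, hperm', hχ₀van⟩ := hperm
  have hχ₀' : ∀ k : N, k ∈ K.subgroupOf N → k ≠ 1 →
      ((⟨χ₀f, hχ₀irr⟩ : IrrCharacter G) : G → ℂ) k = 0 :=
    fun k hk hk1 => hχ₀van k (Subgroup.mem_subgroupOf.1 hk) (fun h => hk1 (Subtype.ext h))
  change 2 * (K.subgroupOf N).index + 1 < Nat.card K at hbig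
  change (K.subgroupOf N).index ≤ _ at hcls
  have he2 : 2 ≤ (K.subgroupOf N).index := by
    have h0 : (K.subgroupOf N).index ≠ 0 := Subgroup.index_ne_zero_of_finite
    have h1 : (K.subgroupOf N).index ≠ 1 := by
      intro h
      have h2 : K.relIndex N = 1 := h
      rw [Subgroup.relIndex_eq_one] at h2
      exact lt_irrefl _ (lt_of_lt_of_le hlt h2)
    omega
  -- the exceptional characters
  have hFex : ∀ χ : {χ : IrrCharacter N //
      ∃ k ∈ K.subgroupOf N, (χ : N → ℂ) k ≠ (χ : N → ℂ) 1},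
      ∃ ψ : IrrCharacter G, star (χ.1 : N → ℂ) = (ψ : G → ℂ) ∨
        star (χ.1 : N → ℂ) = -(ψ : G → ℂ) := by
    intro χ
    have hmem : (χ.1 : N → ℂ) ∈ S := rel_mem_S N (K.subgroupOf N) S hS' χ
    have h1 : classInner (star (χ.1 : N → ℂ)) (star (χ.1 : N → ℂ)) = 1 := by
      rw [hstar.2.2.1 _ (subset_zspan hmem) _ (subset_zspan hmem), irr_orthonormal χ.1.2 χ.1.2,
        if_pos rfl]
    rcases genChar_norm_one (hstar.2.2.2 _ (subset_zspan hmem)) h1 with h | h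
    · exact ⟨⟨_, h⟩, Or.inl rfl⟩
    · exact ⟨⟨_, h⟩, Or.inr (neg_neg _).symm⟩
  choose F hF using hFex
  -- the character of degree `e`
  obtain ⟨χ₁f, hχ₁irr, ⟨k1, hk1K, hk1ne⟩, hχ₁deg⟩ := hone
  obtain ⟨χ₁, hχ₁def⟩ : ∃ χ₁ : {χ : IrrCharacter N //
      ∃ k ∈ K.subgroupOf N, (χ : N → ℂ) k ≠ (χ : N → ℂ) 1}, (χ₁.1 : N → ℂ) = χ₁f :=
    ⟨⟨⟨χ₁f, hχ₁irr⟩, ⟨k1, Subgroup.mem_subgroupOf.2 hk1K, hk1ne⟩⟩, rfl⟩
  have hχ₁deg' : (χ₁.1 : N → ℂ) 1 = ((K.subgroupOf N).index : ℂ) := by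
    rw [hχ₁def]
    exact hχ₁deg
  -- a second relevant character
  have hex2 : ∃ χ₂ : {χ : IrrCharacter N //
      ∃ k ∈ K.subgroupOf N, (χ : N → ℂ) k ≠ (χ : N → ℂ) 1}, χ₂ ≠ χ₁ := by
    by_contra hall
    push Not at hall
    have h1 := sum_rel_deg_sq N (K.subgroupOf N)
    rw [Finset.sum_eq_single χ₁ (fun ξ _ hξ => absurd (hall ξ) hξ)
      (fun h => absurd (Finset.mem_univ _) h), hχ₁deg', hcK] at h1
    have h2 : (((K.subgroupOf N).index * (K.subgroupOf N).index + (K.subgroupOf N).index : ℕ) : ℂ)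
        = (((K.subgroupOf N).index * Nat.card K : ℕ) : ℂ) := by
      push_cast
      linear_combination h1
    have h3 : (K.subgroupOf N).index * (K.subgroupOf N).index + (K.subgroupOf N).index =
        (K.subgroupOf N).index * Nat.card K := by exact_mod_cast h2
    have h4 : (K.subgroupOf N).index * ((K.subgroupOf N).index + 1) =
        (K.subgroupOf N).index * Nat.card K := by rw [← h3]; ring
    have h5 := Nat.eq_of_mul_eq_mul_left (by omega) h4
    omega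
  obtain ⟨χ₂, hne⟩ := hex2
  have htwo : ∃ χ ∈ S, ∃ ξ ∈ S, χ ≠ ξ :=
    ⟨_, rel_mem_S N (K.subgroupOf N) S hS' χ₁, _, rel_mem_S N (K.subgroupOf N) S hS' χ₂,
      fun h => hne (Subtype.ext (Subtype.ext h)).symm⟩
  -- a non-identity element of `K`
  have hK1 : 1 < Nat.card (K.subgroupOf N) := by omega
  obtain ⟨k₀, hk₀, hk₀1⟩ : ∃ k₀ : N, k₀ ∈ K.subgroupOf N ∧ k₀ ≠ 1 := by
    rw [Subgroup.one_lt_card_iff_ne_bot] at hK1
    obtain ⟨⟨k, hk⟩, hk1⟩ := Subgroup.ne_bot_iff_exists_ne_one.1 hK1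
    exact ⟨k, hk, fun h => hk1 (Subtype.ext h)⟩
  have hcent : Nat.card (Subgroup.centralizer ({(k₀ : G)} : Set G)) =
      Nat.card (Subgroup.centralizer ({k₀} : Set N)) := by
    have hcle : Subgroup.centralizer ({(k₀ : G)} : Set G) ≤ N :=
      le_trans (hC (k₀ : G) (Subgroup.mem_subgroupOf.1 hk₀) (fun h => hk₀1 (Subtype.ext h))) hle
    have h1 : Subgroup.centralizer ({k₀} : Set N) =
        (Subgroup.centralizer ({(k₀ : G)} : Set G)).subgroupOf N := by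
      ext x
      rw [Subgroup.mem_subgroupOf, Subgroup.mem_centralizer_iff, Subgroup.mem_centralizer_iff]
      constructor
      · intro h y hy
        rw [Set.mem_singleton_iff] at hy
        subst hy
        exact congrArg Subtype.val (h k₀ rfl)
      · intro h y hy
        rw [Set.mem_singleton_iff] at hy
        subst hy
        exact Subtype.ext (h _ rfl)
    rw [h1]
    exact (Nat.card_congr (Subgroup.subgroupOfEquivOfLe hcle).toEquiv).symm
  have hcount : (K.subgroupOf N).index + 1 + Fintype.card {χ : IrrCharacter N //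
      ∃ k ∈ K.subgroupOf N, (χ : N → ℂ) k ≠ (χ : N → ℂ) 1} ≤
        Fintype.card (IrrCharacter G) := by
    have h1 := class_count' K _ (card_rel_le K N hle hTI hC')
    rw [← Cfsg.Agent.Helper3.card_irr_eq_card_conjClasses,
      Nat.card_eq_fintype_card (α := IrrCharacter G)] at h1
    omega
  obtain ⟨m, hm⟩ := tifn_main N (K.subgroupOf N) hC' hind S hS' star hstar hext
    ⟨_, rel_mem_S N (K.subgroupOf N) S hS' χ₁⟩
  have hm0 : m = 0 := m_zero N (K.subgroupOf N) hC' hind hlin' hInd' ⟨χ₀f, hχ₀irr⟩ hperm' S hS'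
    star hstar hext F hF htwo k₀ hk₀ hk₀1 hcent m
    (fun χ k hk hk1 => hm _ (rel_mem_S N (K.subgroupOf N) S hS' χ) k hk hk1) hcount
    (by rw [hcK]; exact hbig)
  subst hm0
  have hstar1 : ∀ k : N, k ∈ K.subgroupOf N → k ≠ 1 →
      star (χ₁.1 : N → ℂ) k = (χ₁.1 : N → ℂ) k := by
    intro k hk hk1
    have h1 := hm _ (rel_mem_S N (K.subgroupOf N) S hS' χ₁) k hk hk1
    rw [Int.cast_zero, zero_mul, zero_div] at h1
    exact sub_eq_zero.1 h1
  have hres := exc_restrict_coh N (K.subgroupOf N) hC' hlin' hInd' ⟨χ₀f, hχ₀irr⟩ hperm' hχ₀'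
    star F hF χ₁ χ₂ hne hstar1
  have hΛ1 : (F χ₁ : G → ℂ) 1 = ((K.subgroupOf N).index : ℂ) := by
    have h1 := hres 1
    rw [hχ₁deg'] at h1
    exact h1
  have hb := tensor_bound' N (K.subgroupOf N) hC' hlin' hInd' (F χ₁).2 χ₁ hres hΛ1
    (by rw [hidx, hcK])
  rw [hidx] at hb
  obtain ⟨d, hd⟩ : ∃ d, (K.subgroupOf N).index = d + 2 :=
    ⟨(K.subgroupOf N).index - 2, by omega⟩
  rw [hd] at hb hbig
  have h1 : d + 2 - 1 = d + 1 := by omega
  rw [h1] at hb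
  have h2 := Nat.mul_le_mul_left (d + 1) (show 2 * d + 7 ≤ Nat.card K + 1 by omega)
  nlinarith [h2, hb]

/-- **Feit's bound, coherent case.**  Let `K` be a T.I. subgroup of `G` whose normalizer `N` is a
Frobenius group with kernel `K` and abelian quotient, of index `|K| + 1` in `G`, with `G` doubly
transitive on the cosets of `N` and the induced linear characters irreducible. Suppose the
relevant characters of `N` are coherent and one of them has degree `|N : K|`. If `G` has at least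
`|N : K|` classes missing `K`, then `|K| ≤ 2 |N : K| + 1`. -/
theorem core_coh (K N : Subgroup G) [Fintype N]
    (hN : Subgroup.normalizer (K : Set G) = N)
    (hTI : ∀ g : G, g ∉ N → ∀ k ∈ K, g * k * g⁻¹ ∈ K → k = 1) (hlt : K < N)
    (hC : ∀ k ∈ K, k ≠ 1 → Subgroup.centralizer ({k} : Set G) ≤ K)
    (hlin : ∀ ζ : N → ℂ, Cfsg.IsIrrCharacter N ζ → (∀ k : N, (k : G) ∈ K → ζ k = ζ 1) → ζ 1 = 1)
    (hInd : ∀ ζ : N → ℂ, Cfsg.IsCharacter N ζ → ζ 1 = 1 → (∀ k : N, (k : G) ∈ K → ζ k = 1) →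
      ζ ≠ (fun _ => 1) → Cfsg.IsIrrCharacter G (Cfsg.indFun N ζ) ∧
        ∀ k ∈ K, k ≠ 1 → Cfsg.indFun N ζ k = 1)
    (hperm : ∃ χ₀ : G → ℂ, Cfsg.IsIrrCharacter G χ₀ ∧
      (∀ g, Cfsg.indFun N (fun _ : N => (1 : ℂ)) g = 1 + χ₀ g) ∧ ∀ k ∈ K, k ≠ 1 → χ₀ k = 0)
    (hcls : K.relIndex N ≤
      Nat.card {C : ConjClasses G // ∀ g : G, ConjClasses.mk g = C → g ∉ K})
    (hidx : N.index = Nat.card K + 1)
    (hbig : 2 * K.relIndex N + 1 < Nat.card K)
    (hone : ∃ χ₁ : N → ℂ, Cfsg.IsIrrCharacter N χ₁ ∧ (∃ k : N, (k : G) ∈ K ∧ χ₁ k ≠ χ₁ 1) ∧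
      χ₁ 1 = (K.relIndex N : ℂ))
    (star : (N → ℂ) → (G → ℂ))
    (hstar : Cfsg.IsLinearIsometryOn (Cfsg.zspan {χ : N → ℂ | Cfsg.IsIrrCharacter N χ ∧
      ∃ k : N, (k : G) ∈ K ∧ χ k ≠ χ 1}) star)
    (hext : ∀ α ∈ Cfsg.zspanOn {χ : N → ℂ | Cfsg.IsIrrCharacter N χ ∧
      ∃ k : N, (k : G) ∈ K ∧ χ k ≠ χ 1} ({1}ᶜ : Set N), star α = Cfsg.indFun N α) : False := by
  subst hN
  haveI : (K.subgroupOf (Subgroup.normalizer (K : Set G))).Normal :=
    Subgroup.normal_in_normalizer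
  exact core_coh_aux K (Subgroup.normalizer (K : Set G)) hTI hlt hC (tifn_hind K hTI hlt hC)
    hlin hInd hperm hcls hidx hbig hone star hstar hext

end main

end Cfsg.Agent.Helper82.ZassFeitCoh
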